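import Cfsg.Prelude.Def_Spor_HN
import Cfsg.Agent.Lib.DCoset.Closed
import Cfsg.Agent.Lib.HN.CertData

/-!
The presented group HN: its letters, the subgroups, and consequences of the relations.
-/

set_option autoImplicit false
set_option linter.style.longLine false

namespace CfsgLib.HN

open CfsgLib.CosetEnum CfsgLib.DCoset

/-- the presented group -/
abbrev G : Type := Cfsg.Spor.HN

/-- the relators -/
abbrev Rels : Set (FreeGroup Cfsg.Spor.HN.Gen) :=
  Cfsg.Spor.coxRelators Cfsg.Spor.HN.edges ∪ {r | r ∈ Cfsg.Spor.HN.extra}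

/-- generator `x` -/
def gx : G := PresentedGroup.of Cfsg.Spor.HN.Gen.x
/-- generator `y` -/
def gy : G := PresentedGroup.of Cfsg.Spor.HN.Gen.y
/-- generator `z` -/
def gz : G := PresentedGroup.of Cfsg.Spor.HN.Gen.z
/-- generator `t` -/
def gt : G := PresentedGroup.of Cfsg.Spor.HN.Gen.t

/-- the letters `x, x⁻¹, y, y⁻¹, z` -/
def gen : ℕ → G
  | 0 => gx
  | 1 => gx⁻¹
  | 2 => gy
  | 3 => gy⁻¹
  | 4 => gz
  | _ => 1

/-- the subgroup of `x, y, z` -/
def subH : Subgroup G :=
  (Subgroup.closure ({Cfsg.Spor.HN.x, Cfsg.Spor.HN.y, Cfsg.Spor.HN.z} :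
    Set (FreeGroup Cfsg.Spor.HN.Gen))).map (PresentedGroup.mk Rels)

/-- the subgroup of `y` and its conjugate by `x` -/
def subU : Subgroup G := Subgroup.closure {gy, gx⁻¹ * gy * gx}

theorem relators (r : FreeGroup Cfsg.Spor.HN.Gen) (h : r ∈ Cfsg.Spor.HN.extra) :
    PresentedGroup.mk Rels r = 1 := PresentedGroup.one_of_mem (Or.inr h)

local macro "relator" r:term : tactic =>
  `(tactic| (have h := relators $r (by simp [Cfsg.Spor.HN.extra]); simp only [map_mul, map_pow, map_inv] at h; exact h))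

open Cfsg.Spor.HN in
theorem r_y6 : gy ^ 6 = 1 := by relator (y ^ 6)

open Cfsg.Spor.HN in
theorem r_xy : gx ^ 2 * gy * gx ^ 2 * gy⁻¹ = 1 := by relator ((x ^ 2) * y * (x ^ 2) * (y⁻¹))

open Cfsg.Spor.HN in
theorem r_comm : (gx⁻¹ * gy⁻¹ * gx * gy) ^ 3 = 1 := by relator ((x⁻¹ * y⁻¹ * x * y) ^ 3)

open Cfsg.Spor.HN in
theorem r_xyy : (gx⁻¹ * gy ^ 2 * gx * gy ^ 3) ^ 3 = 1 := by
  relator (((x⁻¹) * (y ^ 2) * x * (y ^ 3)) ^ 3)

open Cfsg.Spor.HN in
theorem r_xy8 : (gx * gy) ^ 8 = 1 := by relator ((x * y) ^ 8)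

open Cfsg.Spor.HN in
theorem r_xyx : (gx * gy * gx * gy ^ 3) ^ 4 = 1 := by relator ((x * y * x * (y ^ 3)) ^ 4)

open Cfsg.Spor.HN in
theorem r_z2 : gz ^ 2 = 1 := by relator (z ^ 2)

open Cfsg.Spor.HN in
theorem r_zx : (gz * gx) ^ 2 = 1 := by relator ((z * x) ^ 2)

open Cfsg.Spor.HN in
theorem r_zw : gz⁻¹ * (gy * gx * gy * gx * gy ^ 2 * gx * gy⁻¹)⁻¹ * gz *
    (gy * gx * gy * gx * gy ^ 2 * gx * gy⁻¹) * (gx ^ 2)⁻¹ = 1 := by
  relator ((z⁻¹ * (y * x * y * x * (y ^ 2) * x * (y⁻¹))⁻¹ * z *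
    (y * x * y * x * (y ^ 2) * x * (y⁻¹))) * ((x ^ 2)⁻¹))

open Cfsg.Spor.HN in
theorem r_zv : gz * ((gy ^ 3 * gx * gy * gx * gy)⁻¹ * gz * (gy ^ 3 * gx * gy * gx * gy) * gx) ^ 3 = 1 := by
  relator (z * (((((y ^ 3) * x * y * x * y)⁻¹ * z * ((y ^ 3) * x * y * x * y)) * x) ^ 3))

open Cfsg.Spor.HN in
theorem r_t5 : gt ^ 5 = 1 := by relator (t ^ 5)

open Cfsg.Spor.HN in
theorem r_tx : gx⁻¹ * gt * gx * gt ^ 2 = 1 := by relator ((x⁻¹ * t * x) * (t ^ 2))

open Cfsg.Spor.HN in
theorem r_ty : gt⁻¹ * gy⁻¹ * gt * gy = 1 := by relator (t⁻¹ * y⁻¹ * t * y)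

open Cfsg.Spor.HN in
theorem r_zt : (gz * gt) ^ 3 = 1 := by relator ((z * t) ^ 3)

theorem gz_inv : gz⁻¹ = gz := inv_eq_of_mul_eq_one_right (by rw [← pow_two, r_z2])

theorem model : Model certU subU gen where
  gen_K := rfl
  inv_mul g := by
    have hz : gz * gz = 1 := by rw [← pow_two, r_z2]
    match g with
    | 0 => exact mul_inv_cancel gx
    | 1 => exact inv_mul_cancel gx
    | 2 => exact mul_inv_cancel gy
    | 3 => exact inv_mul_cancel gy
    | 4 => exact hz
    | n + 5 =>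
      have : certU.inv (n + 5) = n + 5 := List.getD_eq_default _ _ (by simp [certU])
      rw [this]
      exact mul_one 1
  rel r hr := by
    simp only [certU, List.mem_cons, List.not_mem_nil, or_false] at hr
    have h1 := r_y6
    have h2 := r_xy
    have h3 := r_comm
    have h4 := r_xyy
    have h5 := r_xy8
    have h6 := r_xyx
    have h7 := r_z2
    have h8 := r_zx
    have h9 := r_zw
    have h10 := r_zv
    simp only [pow_succ, pow_zero, one_mul, mul_inv_rev, gz_inv, inv_inv, mul_assoc] at h1 h2 h3 h4 h5 h6 h7 h8 h9 h10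
    rcases hr with rfl | rfl | rfl | rfl | rfl | rfl | rfl | rfl | rfl | rfl <;>
      simp only [prodW_cons, prodW_nil, gen, mul_one] <;> assumption
  sub w hw := by
    simp only [certU, List.mem_cons, List.not_mem_nil, or_false] at hw
    rcases hw with rfl | rfl
    · show gy * 1 ∈ subU
      rw [mul_one]
      exact Subgroup.subset_closure (Or.inl rfl)
    · show gx⁻¹ * (gy * (gx * 1)) ∈ subU
      rw [mul_one, ← mul_assoc]
      exact Subgroup.subset_closure (Or.inr rfl)

theorem subH_eq : subH = Subgroup.closure {y | ∃ g < certU.K, gen g = y} := by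
  rw [subH, MonoidHom.map_closure, Set.image_insert_eq, Set.image_insert_eq, Set.image_singleton]
  refine le_antisymm (Subgroup.closure_mono ?_) ((Subgroup.closure_le _).mpr ?_)
  · rintro a (rfl | rfl | rfl)
    exacts [⟨0, by decide, rfl⟩, ⟨2, by decide, rfl⟩, ⟨4, by decide, rfl⟩]
  · rintro a ⟨g, hg, rfl⟩
    have hx : gx ∈ Subgroup.closure ({gx, gy, gz} : Set G) := Subgroup.subset_closure (by simp)
    have hy : gy ∈ Subgroup.closure ({gx, gy, gz} : Set G) := Subgroup.subset_closure (by simp)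
    have hg' : g < 5 := hg
    match g, hg' with
    | 0, _ => exact hx
    | 1, _ => exact inv_mem hx
    | 2, _ => exact hy
    | 3, _ => exact inv_mem hy
    | 4, _ => exact Subgroup.subset_closure (Or.inr (Or.inr rfl))
    | n + 5, h => omega

theorem gx_mem : gx ∈ subH := by
  rw [subH_eq]; exact Subgroup.subset_closure ⟨0, by decide, rfl⟩

theorem gen_top : Subgroup.closure (insert gt (subH : Set G)) = ⊤ := by
  rw [eq_top_iff, ← PresentedGroup.closure_range_of Rels, Subgroup.closure_le]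
  rintro a ⟨g, rfl⟩
  refine Subgroup.subset_closure ?_
  cases g with
  | t => exact Or.inl rfl
  | x => exact Or.inr gx_mem
  | y =>
    refine Or.inr ?_
    rw [SetLike.mem_coe, subH_eq]; exact Subgroup.subset_closure ⟨2, by decide, rfl⟩
  | z =>
    refine Or.inr ?_
    rw [SetLike.mem_coe, subH_eq]; exact Subgroup.subset_closure ⟨4, by decide, rfl⟩

theorem t_mul_five (a : G) : gt * (gt * (gt * (gt * (gt * a)))) = a := by
  have h := r_t5
  simp only [pow_succ, pow_zero, one_mul, mul_assoc] at h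
  calc gt * (gt * (gt * (gt * (gt * a)))) = gt * (gt * (gt * (gt * gt))) * a := by simp only [mul_assoc]
    _ = a := by rw [h, one_mul]

theorem t_five : gt * (gt * (gt * (gt * gt))) = 1 := by simpa using t_mul_five 1

/-- `x⁻¹` passes `t` as a cube -/
theorem xi_t : gx⁻¹ * gt = gt * (gt * (gt * gx⁻¹)) := by
  have h := r_tx
  have h' : gx⁻¹ * gt * gx * (gt * gt) = 1 := by rwa [pow_two] at h
  have e : gx⁻¹ * gt * gx = gt * (gt * gt) := by
    rw [eq_inv_of_mul_eq_one_left h']
    refine inv_eq_of_mul_eq_one_right ?_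
    simp only [mul_assoc]
    exact t_five
  calc gx⁻¹ * gt = gx⁻¹ * gt * gx * gx⁻¹ := by group
    _ = gt * (gt * gt) * gx⁻¹ := by rw [e]
    _ = _ := by simp only [mul_assoc]

theorem xi_t' (a : G) : gx⁻¹ * (gt * a) = gt * (gt * (gt * (gx⁻¹ * a))) := by
  rw [← mul_assoc, xi_t]; simp only [mul_assoc]

theorem x_t : gx * gt = gt * (gt * gx) := by
  have h : gx⁻¹ * (gt * (gt * gx)) = gt := by
    simp only [mul_assoc, xi_t', inv_mul_cancel, mul_one, t_mul_five]
  exact ((eq_inv_mul_iff_mul_eq).mp h.symm)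

theorem x_t' (a : G) : gx * (gt * a) = gt * (gt * (gx * a)) := by
  rw [← mul_assoc, x_t]; simp only [mul_assoc]

theorem t_inv : gt⁻¹ = gt * (gt * (gt * gt)) := inv_eq_of_mul_eq_one_right t_five

theorem comm : ∀ u ∈ subU, gt * u = u * gt := by
  have hy : gt * gy = gy * gt := by
    have h : (gy * gt)⁻¹ * (gt * gy) = 1 := by
      rw [mul_inv_rev, ← r_ty]; simp only [mul_assoc]
    exact ((inv_mul_eq_one).mp h).symm
  have hy2 : gt * (gx⁻¹ * gy * gx) = gx⁻¹ * gy * gx * gt := by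
    have e : gt = gx⁻¹ * (gt * gt) * gx := by
      simp only [mul_assoc, xi_t', inv_mul_cancel, mul_one, t_mul_five]
    calc gt * (gx⁻¹ * gy * gx) = gx⁻¹ * (gt * gt * gy) * gx := by
          conv_lhs => rw [e]
          simp [mul_assoc]
      _ = gx⁻¹ * (gy * (gt * gt)) * gx := by
        rw [mul_assoc gt, hy, ← mul_assoc gt, hy]; simp only [mul_assoc]
      _ = gx⁻¹ * gy * gx * (gx⁻¹ * (gt * gt) * gx) := by group
      _ = _ := by rw [← e]
  intro u hu
  induction hu using Subgroup.closure_induction with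
  | mem a ha =>
    rcases ha with rfl | rfl
    · exact hy
    · exact hy2
  | one => simp
  | mul a b _ _ ha hb => rw [← mul_assoc, ha, mul_assoc, hb, ← mul_assoc]
  | inv a _ ha => exact (Commute.inv_right (show Commute gt a from ha)).eq

theorem normal_top (N : Subgroup G) (hN : N.Normal) (ht : gt ∈ N) : N = ⊤ := by
  have := hN
  let π : G →* G ⧸ N := QuotientGroup.mk' N
  have t1 : π gt = 1 := (QuotientGroup.eq_one_iff gt).mpr ht
  have z2 := congrArg π r_z2
  have z3 := congrArg π r_zt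
  rw [map_pow, map_mul, t1, mul_one, map_one] at z3
  rw [map_pow, map_one] at z2
  have z1 : π gz = 1 := by
    calc π gz = π gz ^ 3 * (π gz ^ 2)⁻¹ := by group
      _ = 1 := by rw [z3, z2, inv_one, mul_one]
  have hw := congrArg π r_zw
  have x2 : π gx ^ 2 = 1 := by
    simp only [map_mul, map_pow, map_inv, z1, inv_one, one_mul, mul_one, map_one, inv_mul_cancel,
      inv_eq_one] at hw
    exact hw
  have hv := congrArg π r_zv
  have x3 : π gx ^ 3 = 1 := by
    simp only [map_mul, map_pow, map_inv, z1, inv_one, one_mul, mul_one, map_one, inv_mul_cancel]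
      at hv
    exact hv
  have x1 : π gx = 1 := by
    calc π gx = π gx ^ 3 * (π gx ^ 2)⁻¹ := by group
      _ = 1 := by rw [x3, x2, inv_one, mul_one]
  have y6 := congrArg π r_y6
  have y15 := congrArg π r_xyy
  have y8 := congrArg π r_xy8
  simp only [map_pow, map_mul, map_inv, x1, inv_one, one_mul, mul_one, map_one, ← pow_add, ← pow_mul]
    at y6 y15 y8
  have y1 : π gy = 1 := by
    have d6 := orderOf_dvd_of_pow_eq_one y6
    have d15 := orderOf_dvd_of_pow_eq_one y15
    have d8 := orderOf_dvd_of_pow_eq_one y8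
    have h := Nat.dvd_gcd (Nat.dvd_gcd d6 d15) d8
    exact orderOf_eq_one_iff.mp (Nat.dvd_one.mp h)
  rw [eq_top_iff, ← PresentedGroup.closure_range_of Rels, Subgroup.closure_le]
  rintro a ⟨g, rfl⟩
  cases g with
  | x => exact (QuotientGroup.eq_one_iff _).mp x1
  | y => exact (QuotientGroup.eq_one_iff _).mp y1
  | z => exact (QuotientGroup.eq_one_iff _).mp z1
  | t => exact ht

/-- letters and `t` -/
def genT (c : ℕ) : G := if c < certU.K then gen c else gt

theorem genT_vals : genT 0 = gx ∧ genT 1 = gx⁻¹ ∧ genT 4 = gz ∧ genT 5 = gt :=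
  ⟨rfl, rfl, rfl, rfl⟩

end CfsgLib.HN
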