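import Cfsg.Agent.Lib.HN.UData

/-!
Chains of the stabilisers.
-/

set_option autoImplicit false
set_option linter.style.longLine false

namespace CfsgLib.HN
open CfsgLib.CosetEnum CfsgLib.DCoset CfsgLib.DCoset.Space
/-- first level of state 0 -/
def k0Lev : Lev :=
  { base := 0, new := [([0],[1]),([1],[0]),([2],[3]),([3],[2]),([4],[4])],
    orbit := [(0,[]),
      (3,[0,0])],
    wit := [] }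

/-- part 0 of `k1Lev0Orb` -/
def k1Lev0OrbP0 : List (ℕ × List ℕ) := [
  (4,[]),
  (31,[0]),
  (6,[0,1]),
  (14,[0,4]),
  (101,[0,2]),
  (190,[0,3]),
  (195,[0,5]),
  (284,[0,0]),
  (15,[0,5,3]),
  (24,[0,1,5]),
  (26,[0,1,2]),
  (27,[0,4,3]),
  (30,[0,0,3]),
  (32,[0,4,0]),
  (37,[0,5,4]),
  (38,[0,0,2]),
  (39,[0,3,3]),
  (40,[0,3,5]),
  (59,[0,2,4]),
  (60,[0,1,4]),
  (66,[0,0,0]),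
  (67,[0,5,1]),
  (78,[0,0,4]),
  (122,[0,3,2]),
  (137,[0,2,2]),
  (194,[0,2,3]),
  (204,[0,3,0]),
  (206,[0,2,0]),
  (391,[0,1,0]),
  (392,[0,4,1]),
  (399,[0,0,5]),
  (408,[0,0,1]),
  (409,[0,3,1]),
  (410,[0,1,1]),
  (16,[0,5,3,0]),
  (25,[0,0,5,0]),
  (33,[0,2,0,3]),
  (58,[0,0,4,0]),
  (65,[0,0,1,2]),
  (191,[0,0,4,5]),
  (192,[0,3,0,1]),
  (193,[0,0,3,3]),
  (205,[0,3,0,2]),
  (212,[0,0,0,4]),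
  (285,[0,3,1,4]),
  (411,[0,3,3,0]),
  (454,[0,1,1,0]),
  (464,[0,1,0,2]),
  (592,[0,3,1,0]),
  (593,[0,0,2,5])]

/-- certificate data -/
def k1Lev0Orb : List (ℕ × List ℕ) :=
  [k1Lev0OrbP0].flatten

/-- part 0 of `k1Lev0Wit` -/
def k1Lev0WitP0 : List (ℕ × List ℕ) := [
  (1,[0,0,0,0,0]),
  (0,[1,0,0,0,0]),
  (0,[0,1,0,0,0]),
  (0,[0,0,1,0,0]),
  (0,[0,0,0,1,0]),
  (0,[0,0,0,0,1]),
  (7,[0,0,0,0,0]),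
  (2,[0,0,0,0,0]),
  (4,[0,0,0,0,0]),
  (5,[0,0,0,0,0]),
  (3,[0,0,0,0,0]),
  (6,[0,0,0,0,0]),
  (28,[0,0,0,0,0]),
  (33,[0,0,0,0,0]),
  (10,[0,0,0,0,0]),
  (7,[5,0,4,3,0]),
  (19,[0,0,0,0,0]),
  (9,[0,0,0,0,0]),
  (13,[0,0,0,0,0]),
  (29,[0,0,0,0,0]),
  (9,[4,0,3,1,1]),
  (11,[0,0,0,0,0]),
  (5,[2,2,2,2,2]),
  (24,[2,4,2,0,1]),
  (27,[0,0,0,0,0]),
  (28,[1,4,3,2,2]),
  (24,[0,0,0,0,0]),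
  (25,[0,0,0,0,0]),
  (18,[0,0,0,0,0]),
  (10,[6,5,2,1,0]),
  (26,[0,0,0,0,0]),
  (32,[0,0,0,0,0]),
  (23,[0,0,0,0,0]),
  (16,[0,0,0,0,0]),
  (1,[2,2,2,2,2]),
  (17,[0,0,0,0,0]),
  (6,[2,3,1,3,1]),
  (21,[0,0,0,0,0]),
  (22,[4,3,2,1,1]),
  (8,[0,0,0,0,0]),
  (14,[0,0,0,0,0]),
  (12,[1,1,2,2,2]),
  (20,[0,0,0,0,0]),
  (31,[0,0,0,0,0]),
  (15,[0,0,0,0,0]),
  (12,[0,0,0,0,0]),
  (22,[0,0,0,0,0]),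
  (30,[0,0,0,0,0]),
  (34,[0,0,0,0,0]),
  (23,[2,1,2,3,1]),
  (8,[6,3,1,0,2]),
  (9,[2,5,4,1,0]),
  (12,[6,5,4,3,1]),
  (14,[2,2,2,2,2]),
  (41,[1,0,0,1,1]),
  (8,[4,4,2,2,2]),
  (14,[5,2,0,1,0]),
  (39,[5,3,4,0,0]),
  (20,[0,0,1,2,2]),
  (37,[6,2,1,3,2])]

/-- part 1 of `k1Lev0Wit` -/
def k1Lev0WitP1 : List (ℕ × List ℕ) := [
  (0,[6,5,4,3,0]),
  (25,[6,3,4,3,2]),
  (30,[5,2,1,2,1]),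
  (1,[5,4,3,1,0]),
  (23,[5,0,2,3,1]),
  (38,[4,5,4,0,0]),
  (4,[0,0,3,2,1]),
  (20,[0,3,4,0,1]),
  (7,[1,4,2,3,0]),
  (24,[6,4,3,3,0]),
  (10,[5,4,3,1,0]),
  (18,[6,3,1,0,2]),
  (38,[0,4,4,1,0]),
  (11,[1,4,2,2,0]),
  (5,[1,4,4,1,2]),
  (41,[0,0,0,0,0]),
  (17,[1,4,0,1,1]),
  (1,[1,4,1,1,0]),
  (32,[5,3,1,0,2]),
  (43,[5,3,0,3,2]),
  (18,[5,1,2,3,2]),
  (32,[3,0,3,1,1]),
  (31,[4,1,2,1,0]),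
  (32,[3,4,0,3,1]),
  (2,[5,2,3,2,0]),
  (38,[5,5,0,2,2]),
  (27,[0,2,2,3,2]),
  (4,[3,0,1,0,0]),
  (41,[6,5,4,3,1]),
  (36,[2,4,3,2,2]),
  (8,[5,2,3,1,2]),
  (17,[1,4,2,2,1]),
  (43,[3,4,2,0,0]),
  (13,[3,0,4,2,2]),
  (13,[3,0,1,0,1]),
  (49,[0,0,0,0,0]),
  (45,[0,0,0,0,0]),
  (47,[1,0,2,1,2]),
  (13,[2,0,0,2,1]),
  (43,[4,2,2,0,0]),
  (30,[6,5,4,3,1]),
  (22,[6,5,4,3,1]),
  (25,[6,4,4,3,2]),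
  (5,[2,3,1,1,1]),
  (41,[3,0,1,1,2]),
  (27,[2,4,3,2,2]),
  (8,[0,0,0,0,0]),
  (25,[3,0,1,0,0]),
  (11,[5,0,1,0,2]),
  (37,[1,1,2,0,1]),
  (17,[6,4,3,3,0]),
  (6,[3,0,1,0,0]),
  (37,[5,1,4,0,1]),
  (20,[5,1,0,2,0]),
  (22,[5,3,3,1,2]),
  (39,[2,2,3,3,2]),
  (20,[0,3,2,2,0]),
  (2,[0,4,4,3,0]),
  (38,[4,1,2,2,2]),
  (23,[5,3,3,1,1])]

/-- part 2 of `k1Lev0Wit` -/
def k1Lev0WitP2 : List (ℕ × List ℕ) := [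
  (30,[5,2,1,3,0]),
  (19,[2,5,3,0,0]),
  (1,[5,2,3,0,1]),
  (17,[5,2,3,2,2]),
  (43,[0,0,0,0,0]),
  (11,[5,2,3,2,2]),
  (15,[6,5,4,3,0]),
  (9,[4,4,2,2,2]),
  (35,[5,3,3,3,0]),
  (28,[6,0,2,0,1]),
  (21,[5,0,2,3,1]),
  (21,[3,4,0,2,1]),
  (37,[0,0,0,0,0]),
  (7,[0,0,2,3,1]),
  (49,[0,0,3,3,2]),
  (38,[0,0,4,1,1]),
  (27,[3,5,4,2,0]),
  (39,[0,0,0,0,0]),
  (44,[6,1,0,3,1]),
  (49,[1,2,3,3,2]),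
  (39,[1,4,2,3,0]),
  (20,[6,1,0,3,0]),
  (11,[4,5,1,0,2]),
  (43,[2,3,0,1,0]),
  (39,[1,2,1,1,0]),
  (15,[3,4,4,0,1]),
  (19,[5,3,3,1,1]),
  (37,[2,3,1,3,0]),
  (36,[6,3,4,3,0]),
  (41,[3,2,1,1,0]),
  (24,[1,5,4,1,0]),
  (36,[4,5,1,3,1]),
  (11,[0,1,1,2,1]),
  (22,[4,1,1,3,1]),
  (24,[4,4,1,3,1]),
  (5,[3,0,1,0,0]),
  (49,[2,2,0,2,2]),
  (40,[0,0,0,0,0]),
  (42,[0,0,0,0,0]),
  (46,[6,4,4,0,2]),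
  (40,[2,1,1,2,0]),
  (42,[3,4,3,0,2]),
  (12,[0,3,3,2,2]),
  (14,[2,1,1,3,1]),
  (32,[2,5,1,3,0]),
  (36,[0,0,0,0,0]),
  (7,[4,5,0,2,0]),
  (7,[4,5,2,1,2]),
  (17,[4,2,3,1,0]),
  (24,[3,0,1,0,2]),
  (47,[0,0,0,0,0]),
  (33,[3,3,1,2,0]),
  (47,[4,1,2,2,0]),
  (29,[4,4,1,3,0]),
  (21,[0,1,1,1,0]),
  (12,[6,5,2,3,1]),
  (29,[3,3,0,1,1]),
  (47,[6,1,3,1,0]),
  (28,[3,4,4,3,2]),
  (33,[3,1,0,3,2])]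

/-- part 3 of `k1Lev0Wit` -/
def k1Lev0WitP3 : List (ℕ × List ℕ) := [
  (35,[0,0,0,0,0]),
  (1,[1,4,4,2,2]),
  (31,[0,0,3,2,0]),
  (3,[1,4,1,1,0]),
  (39,[0,0,1,2,1]),
  (27,[3,5,2,2,0]),
  (33,[2,1,3,0,1]),
  (30,[0,0,4,3,1]),
  (38,[0,0,0,0,0]),
  (31,[0,0,2,1,0]),
  (15,[0,0,1,3,2]),
  (15,[0,0,4,2,1]),
  (48,[0,0,0,0,0]),
  (4,[2,3,1,1,1]),
  (3,[3,0,3,3,0]),
  (49,[1,1,1,3,1]),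
  (44,[0,0,0,0,0]),
  (44,[0,5,3,2,1]),
  (46,[0,0,0,0,0]),
  (22,[3,0,4,0,0]),
  (21,[3,0,3,3,0]),
  (29,[0,1,1,2,1]),
  (33,[2,3,3,2,1]),
  (28,[5,4,4,2,1]),
  (16,[2,3,0,0,2]),
  (48,[3,5,4,0,0]),
  (34,[3,4,4,0,2]),
  (34,[5,2,3,0,1]),
  (34,[1,1,1,3,2]),
  (34,[0,3,2,3,0]),
  (10,[4,3,4,2,1]),
  (13,[6,0,2,0,1]),
  (28,[4,3,4,2,0]),
  (35,[6,4,2,0,1]),
  (35,[4,2,2,2,1]),
  (35,[1,4,3,2,0]),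
  (42,[1,2,4,0,0]),
  (18,[2,4,1,1,2]),
  (37,[4,3,1,0,2]),
  (23,[2,3,2,2,2]),
  (25,[0,2,2,3,2]),
  (8,[3,4,1,1,0]),
  (31,[5,0,0,3,1]),
  (16,[1,5,3,2,0]),
  (6,[1,2,4,2,1]),
  (30,[0,1,3,1,0]),
  (4,[1,0,4,1,0]),
  (2,[1,5,3,2,0]),
  (47,[3,1,4,1,0]),
  (44,[1,4,1,3,1]),
  (2,[1,4,4,3,1]),
  (14,[1,4,4,1,0]),
  (2,[1,4,1,0,0]),
  (4,[1,4,2,3,1]),
  (14,[4,2,3,1,1]),
  (3,[1,4,4,3,1]),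
  (44,[1,4,0,1,0]),
  (18,[1,4,3,0,0]),
  (16,[1,4,1,1,0]),
  (16,[1,4,0,1,1])]

/-- part 4 of `k1Lev0Wit` -/
def k1Lev0WitP4 : List (ℕ × List ℕ) := [
  (9,[2,2,2,3,2]),
  (46,[4,3,1,2,1]),
  (46,[2,2,4,2,0]),
  (26,[5,4,1,2,2]),
  (46,[1,5,0,0,0]),
  (46,[1,5,1,1,0]),
  (3,[6,3,0,1,2]),
  (6,[1,4,2,0,0]),
  (16,[1,4,3,1,2]),
  (19,[1,4,3,0,2]),
  (6,[1,4,0,1,1]),
  (3,[1,4,0,1,1]),
  (23,[6,0,3,1,1]),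
  (26,[0,2,4,0,2]),
  (40,[4,5,3,3,2]),
  (42,[5,5,0,1,0]),
  (45,[1,3,0,0,1]),
  (45,[2,0,0,1,2]),
  (19,[5,4,3,1,2]),
  (27,[6,2,3,1,2]),
  (25,[5,1,3,1,1]),
  (10,[0,0,3,3,0]),
  (9,[0,0,3,2,0]),
  (19,[0,0,3,2,0]),
  (5,[4,2,4,2,2]),
  (35,[1,5,0,3,1]),
  (12,[4,1,2,2,2]),
  (15,[4,3,3,0,2]),
  (49,[2,5,1,1,2]),
  (13,[2,0,2,2,1]),
  (29,[0,0,3,3,0]),
  (42,[6,5,0,0,1]),
  (45,[0,1,0,2,1]),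
  (48,[5,0,0,2,0]),
  (48,[5,5,1,1,2]),
  (26,[6,5,1,2,1]),
  (43,[4,5,2,0,1]),
  (34,[4,3,3,0,2]),
  (48,[5,5,1,3,0]),
  (45,[0,1,4,3,1]),
  (26,[6,3,2,1,2]),
  (48,[5,4,4,2,0]),
  (18,[3,0,3,3,1]),
  (10,[5,1,2,0,0]),
  (33,[4,3,0,2,2]),
  (21,[4,3,0,2,2]),
  (29,[6,0,1,2,2]),
  (47,[1,2,2,3,1]),
  (40,[2,3,3,1,2]),
  (45,[2,5,1,0,1]),
  (26,[3,1,3,2,1]),
  (40,[1,2,1,3,2]),
  (42,[5,0,2,0,1]),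
  (40,[4,3,4,3,0]),
  (36,[0,2,3,1,2]),
  (41,[0,0,1,2,0]),
  (36,[3,5,4,0,2]),
  (44,[1,4,0,2,2]),
  (32,[1,4,3,3,1]),
  (31,[0,0,1,2,0])]

/-- certificate data -/
def k1Lev0Wit : List (ℕ × List ℕ) :=
  [k1Lev0WitP0, k1Lev0WitP1, k1Lev0WitP2, k1Lev0WitP3, k1Lev0WitP4].flatten

/-- a level -/
def k1Lev0 : Lev :=
  { base := 4, new := [([197,11,7,37],[38,8,12,198])], orbit := k1Lev0Orb, wit := k1Lev0Wit }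

/-- part 0 of `k1Lev1Orb` -/
def k1Lev1OrbP0 : List (ℕ × List ℕ) := [
  (9,[]),
  (482,[0]),
  (72,[0,2]),
  (114,[0,1]),
  (119,[0,3]),
  (412,[0,0]),
  (368,[0,1,2])]

/-- certificate data -/
def k1Lev1Orb : List (ℕ × List ℕ) :=
  [k1Lev1OrbP0].flatten

/-- part 0 of `k1Lev1Wit` -/
def k1Lev1WitP0 : List (ℕ × List ℕ) := [
  (1,[0,0,0,0]),
  (0,[1,0,0,0]),
  (0,[0,1,0,0]),
  (0,[0,0,1,0]),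
  (0,[0,0,0,1]),
  (5,[0,0,0,0]),
  (3,[0,0,0,0]),
  (2,[0,0,0,0]),
  (4,[0,0,0,0]),
  (2,[0,1,2,2]),
  (6,[5,4,1,1]),
  (6,[4,1,1,1]),
  (3,[3,0,0,1]),
  (6,[3,2,1,2]),
  (6,[3,2,0,0]),
  (2,[1,2,3,2]),
  (4,[2,4,0,2]),
  (6,[0,0,0,0]),
  (2,[1,4,3,1]),
  (4,[5,2,0,1]),
  (3,[4,0,2,2]),
  (2,[3,4,2,2]),
  (4,[0,4,0,1]),
  (5,[1,0,1,1]),
  (5,[1,4,0,2]),
  (4,[3,4,3,1]),
  (5,[4,2,1,1]),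
  (1,[4,2,3,2]),
  (1,[5,1,1,1]),
  (3,[1,3,2,2]),
  (0,[5,2,3,0]),
  (1,[3,3,0,0]),
  (5,[5,4,2,1]),
  (3,[5,3,0,2]),
  (1,[2,1,1,1])]

/-- certificate data -/
def k1Lev1Wit : List (ℕ × List ℕ) :=
  [k1Lev1WitP0].flatten

/-- a level -/
def k1Lev1 : Lev :=
  { base := 9, new := [([21,11,173],[174,12,22])], orbit := k1Lev1Orb, wit := k1Lev1Wit }

/-- part 0 of `k1Lev2Orb` -/
def k1Lev2OrbP0 : List (ℕ × List ℕ) := [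
  (25,[]),
  (391,[0]),
  (392,[0,3]),
  (410,[0,1]),
  (464,[0,0]),
  (67,[0,0,1])]

/-- certificate data -/
def k1Lev2Orb : List (ℕ × List ℕ) :=
  [k1Lev2OrbP0].flatten

/-- part 0 of `k1Lev2Wit` -/
def k1Lev2WitP0 : List (ℕ × List ℕ) := [
  (1,[0,0,0]),
  (0,[1,0,0]),
  (0,[0,1,0]),
  (0,[0,0,1]),
  (4,[0,0,0]),
  (3,[0,0,0]),
  (4,[3,0,0]),
  (2,[0,0,0]),
  (2,[2,3,1]),
  (4,[3,0,2]),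
  (1,[0,2,0]),
  (3,[0,0,1]),
  (5,[2,3,2]),
  (2,[0,2,1]),
  (3,[0,3,2]),
  (1,[0,0,2]),
  (3,[4,0,0]),
  (5,[0,0,0]),
  (2,[1,2,2]),
  (4,[4,1,0]),
  (0,[0,0,1]),
  (1,[4,1,1]),
  (5,[0,1,0]),
  (5,[2,3,0])]

/-- certificate data -/
def k1Lev2Wit : List (ℕ × List ℕ) :=
  [k1Lev2WitP0].flatten

/-- a level -/
def k1Lev2 : Lev :=
  { base := 25, new := [([195,149],[150,196])], orbit := k1Lev2Orb, wit := k1Lev2Wit }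

/-- part 0 of `k1Lev3Orb` -/
def k1Lev3OrbP0 : List (ℕ × List ℕ) := [
  (43,[]),
  (545,[0]),
  (369,[0,1]),
  (380,[0,0]),
  (544,[0,2])]

/-- certificate data -/
def k1Lev3Orb : List (ℕ × List ℕ) :=
  [k1Lev3OrbP0].flatten

/-- part 0 of `k1Lev3Wit` -/
def k1Lev3WitP0 : List (ℕ × List ℕ) := [
  (1,[0,0]),
  (0,[1,0]),
  (0,[0,1]),
  (3,[0,0]),
  (2,[0,0]),
  (4,[0,0]),
  (0,[2,0]),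
  (4,[0,2]),
  (2,[0,2]),
  (4,[3,1]),
  (3,[3,0]),
  (1,[3,2]),
  (2,[3,2]),
  (1,[0,1]),
  (3,[1,1])]

/-- certificate data -/
def k1Lev3Wit : List (ℕ × List ℕ) :=
  [k1Lev3WitP0].flatten

/-- a level -/
def k1Lev3 : Lev :=
  { base := 43, new := [([199,131],[132,200])], orbit := k1Lev3Orb, wit := k1Lev3Wit }

/-- part 0 of `k1Lev4Orb` -/
def k1Lev4OrbP0 : List (ℕ × List ℕ) := [
  (103,[]),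
  (662,[0]),
  (165,[0,0]),
  (468,[0,1])]

/-- certificate data -/
def k1Lev4Orb : List (ℕ × List ℕ) :=
  [k1Lev4OrbP0].flatten

/-- part 0 of `k1Lev4Wit` -/
def k1Lev4WitP0 : List (ℕ × List ℕ) := [
  (1,[0]),
  (0,[1]),
  (2,[0]),
  (3,[0]),
  (0,[0]),
  (1,[2]),
  (3,[1]),
  (2,[1])]

/-- certificate data -/
def k1Lev4Wit : List (ℕ × List ℕ) :=
  [k1Lev4WitP0].flatten

/-- a level -/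
def k1Lev4 : Lev :=
  { base := 103, new := [([19,195,129],[130,196,20])], orbit := k1Lev4Orb, wit := k1Lev4Wit }

/-- part 0 of `k1Lev5Orb` -/
def k1Lev5OrbP0 : List (ℕ × List ℕ) := [
  (6,[]),
  (24,[0]),
  (58,[0,0])]

/-- certificate data -/
def k1Lev5Orb : List (ℕ × List ℕ) :=
  [k1Lev5OrbP0].flatten

/-- part 0 of `k1Lev5Wit` -/
def k1Lev5WitP0 : List (ℕ × List ℕ) := [
  (1,[]),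
  (2,[]),
  (0,[])]

/-- certificate data -/
def k1Lev5Wit : List (ℕ × List ℕ) :=
  [k1Lev5WitP0].flatten

/-- a level -/
def k1Lev5 : Lev :=
  { base := 6, new := [([201,195,143],[144,196,202])], orbit := k1Lev5Orb, wit := k1Lev5Wit }

/-- chain of state 1 -/
def k1 : List Lev := [k1Lev0,k1Lev1,k1Lev2,k1Lev3,k1Lev4,k1Lev5]

/-- part 0 of `k2Lev0Orb` -/
def k2Lev0OrbP0 : List (ℕ × List ℕ) := [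
  (0,[]),
  (18,[0])]

/-- certificate data -/
def k2Lev0Orb : List (ℕ × List ℕ) :=
  [k2Lev0OrbP0].flatten

/-- part 0 of `k2Lev0Wit` -/
def k2Lev0WitP0 : List (ℕ × List ℕ) := [
  (1,[0,0,0,0,0]),
  (0,[1,0,0,0,0]),
  (0,[0,1,0,0,0]),
  (0,[0,0,1,0,0]),
  (0,[0,0,0,1,0]),
  (0,[0,0,0,0,1]),
  (0,[0,4,4,0,1]),
  (1,[4,5,2,3,1]),
  (1,[0,1,4,3,0]),
  (1,[0,2,1,3,1]),
  (1,[0,0,4,1,0]),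
  (1,[0,2,3,2,0])]

/-- certificate data -/
def k2Lev0Wit : List (ℕ × List ℕ) :=
  [k2Lev0WitP0].flatten

/-- a level -/
def k2Lev0 : Lev :=
  { base := 0, new := [([21,201,11,183,207],[208,184,12,202,22])], orbit := k2Lev0Orb, wit := k2Lev0Wit }

/-- part 0 of `k2Lev1Orb` -/
def k2Lev1OrbP0 : List (ℕ × List ℕ) := [
  (9,[]),
  (368,[0]),
  (72,[0,4]),
  (114,[0,3]),
  (482,[0,0]),
  (119,[0,3,3]),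
  (412,[0,0,1])]

/-- certificate data -/
def k2Lev1Orb : List (ℕ × List ℕ) :=
  [k2Lev1OrbP0].flatten

/-- part 0 of `k2Lev1Wit` -/
def k2Lev1WitP0 : List (ℕ × List ℕ) := [
  (1,[0,0,0,0]),
  (0,[1,0,0,0]),
  (0,[0,1,0,0]),
  (0,[0,0,1,0]),
  (0,[0,0,0,1]),
  (4,[0,0,0,0]),
  (4,[3,0,1,2]),
  (1,[3,0,1,0]),
  (3,[0,0,0,0]),
  (2,[0,0,0,0]),
  (3,[2,4,2,0]),
  (2,[5,1,0,1]),
  (6,[0,4,1,0]),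
  (6,[0,4,0,2]),
  (4,[3,1,1,2]),
  (0,[4,3,1,1]),
  (3,[5,2,3,0]),
  (4,[5,3,2,2]),
  (5,[0,0,0,0]),
  (6,[1,0,3,0]),
  (2,[5,3,0,2]),
  (6,[0,0,0,0]),
  (2,[5,2,0,0]),
  (2,[5,0,3,1]),
  (1,[5,1,2,1]),
  (5,[3,4,3,0]),
  (5,[1,1,0,2]),
  (3,[2,3,1,0]),
  (1,[0,0,0,0]),
  (3,[4,4,2,0]),
  (6,[1,2,3,1]),
  (1,[4,4,3,0]),
  (5,[2,1,1,1]),
  (4,[1,3,0,2]),
  (5,[0,4,0,2])]

/-- certificate data -/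
def k2Lev1Wit : List (ℕ × List ℕ) :=
  [k2Lev1WitP0].flatten

/-- a level -/
def k2Lev1 : Lev :=
  { base := 9, new := [([17,11,139],[140,12,18])], orbit := k2Lev1Orb, wit := k2Lev1Wit }

/-- part 0 of `k2Lev2Orb` -/
def k2Lev2OrbP0 : List (ℕ × List ℕ) := [
  (25,[]),
  (464,[0]),
  (391,[0,2]),
  (392,[0,1]),
  (410,[0,0]),
  (67,[0,1,0])]

/-- certificate data -/
def k2Lev2Orb : List (ℕ × List ℕ) :=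
  [k2Lev2OrbP0].flatten

/-- part 0 of `k2Lev2Wit` -/
def k2Lev2WitP0 : List (ℕ × List ℕ) := [
  (1,[0,0,0]),
  (0,[1,0,0]),
  (0,[0,1,0]),
  (0,[0,0,1]),
  (4,[0,0,0]),
  (3,[0,0,0]),
  (2,[0,0,0]),
  (1,[2,0,2]),
  (3,[1,0,0]),
  (5,[1,3,2]),
  (4,[1,0,0]),
  (4,[0,2,2]),
  (5,[0,0,0]),
  (2,[0,1,2]),
  (3,[0,1,2]),
  (2,[3,2,1]),
  (0,[0,0,0]),
  (1,[0,2,0]),
  (1,[4,0,1]),
  (3,[4,0,2]),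
  (2,[4,0,1]),
  (4,[4,0,1]),
  (5,[2,1,1]),
  (5,[2,0,2])]

/-- certificate data -/
def k2Lev2Wit : List (ℕ × List ℕ) :=
  [k2Lev2WitP0].flatten

/-- a level -/
def k2Lev2 : Lev :=
  { base := 25, new := [([21,193,149],[150,194,22])], orbit := k2Lev2Orb, wit := k2Lev2Wit }

/-- part 0 of `k2Lev3Orb` -/
def k2Lev3OrbP0 : List (ℕ × List ℕ) := [
  (43,[]),
  (380,[0]),
  (369,[0,0]),
  (544,[0,2]),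
  (545,[0,0,1])]

/-- certificate data -/
def k2Lev3Orb : List (ℕ × List ℕ) :=
  [k2Lev3OrbP0].flatten

/-- part 0 of `k2Lev3Wit` -/
def k2Lev3WitP0 : List (ℕ × List ℕ) := [
  (1,[0,0]),
  (0,[1,0]),
  (0,[0,1]),
  (2,[0,0]),
  (2,[2,2]),
  (3,[0,0]),
  (3,[1,0]),
  (4,[0,0]),
  (2,[1,0]),
  (4,[3,0]),
  (3,[3,2]),
  (4,[0,2]),
  (0,[0,2]),
  (1,[2,2]),
  (1,[0,1])]

/-- certificate data -/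
def k2Lev3Wit : List (ℕ × List ℕ) :=
  [k2Lev3WitP0].flatten

/-- a level -/
def k2Lev3 : Lev :=
  { base := 43, new := [([201,193,171],[172,194,202])], orbit := k2Lev3Orb, wit := k2Lev3Wit }

/-- part 0 of `k2Lev4Orb` -/
def k2Lev4OrbP0 : List (ℕ × List ℕ) := [
  (103,[]),
  (165,[0]),
  (468,[0,0]),
  (662,[0,0,1])]

/-- certificate data -/
def k2Lev4Orb : List (ℕ × List ℕ) :=
  [k2Lev4OrbP0].flatten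

/-- part 0 of `k2Lev4Wit` -/
def k2Lev4WitP0 : List (ℕ × List ℕ) := [
  (1,[0]),
  (0,[1]),
  (2,[0]),
  (2,[2]),
  (0,[0]),
  (3,[0]),
  (3,[2]),
  (1,[1])]

/-- certificate data -/
def k2Lev4Wit : List (ℕ × List ℕ) :=
  [k2Lev4WitP0].flatten

/-- a level -/
def k2Lev4 : Lev :=
  { base := 103, new := [([17,193,157],[158,194,18])], orbit := k2Lev4Orb, wit := k2Lev4Wit }

/-- part 0 of `k2Lev5Orb` -/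
def k2Lev5OrbP0 : List (ℕ × List ℕ) := [
  (6,[]),
  (58,[0]),
  (24,[0,0])]

/-- certificate data -/
def k2Lev5Orb : List (ℕ × List ℕ) :=
  [k2Lev5OrbP0].flatten

/-- part 0 of `k2Lev5Wit` -/
def k2Lev5WitP0 : List (ℕ × List ℕ) := [
  (1,[]),
  (2,[]),
  (0,[])]

/-- certificate data -/
def k2Lev5Wit : List (ℕ × List ℕ) :=
  [k2Lev5WitP0].flatten

/-- a level -/
def k2Lev5 : Lev :=
  { base := 6, new := [([21,201,193,125],[126,194,202,22])], orbit := k2Lev5Orb, wit := k2Lev5Wit }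

/-- chain of state 2 -/
def k2 : List Lev := [k2Lev0,k2Lev1,k2Lev2,k2Lev3,k2Lev4,k2Lev5]

/-- part 0 of `k3Lev0Orb` -/
def k3Lev0OrbP0 : List (ℕ × List ℕ) := [
  (0,[]),
  (368,[1]),
  (396,[0]),
  (72,[1,5]),
  (95,[0,1]),
  (119,[1,3]),
  (125,[0,3]),
  (156,[0,0]),
  (221,[0,4]),
  (271,[1,1]),
  (365,[1,0]),
  (412,[1,4]),
  (482,[1,6]),
  (549,[0,2]),
  (658,[0,5]),
  (3,[0,0,0]),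
  (4,[0,3,1]),
  (9,[1,6,2]),
  (13,[1,1,1]),
  (21,[0,5,1]),
  (114,[0,1,0]),
  (138,[0,5,2]),
  (148,[1,6,1]),
  (157,[0,4,1]),
  (267,[0,1,2]),
  (300,[0,0,3]),
  (302,[0,2,4]),
  (375,[1,1,5]),
  (389,[0,0,5]),
  (455,[0,1,4]),
  (801,[0,0,4]),
  (1032,[1,0,2])]

/-- certificate data -/
def k3Lev0Orb : List (ℕ × List ℕ) :=
  [k3Lev0OrbP0].flatten

/-- part 0 of `k3Lev0Wit` -/
def k3Lev0WitP0 : List (ℕ × List ℕ) := [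
  (2,[0,0,0,0,0]),
  (1,[0,0,0,0,0]),
  (0,[1,0,0,0,0]),
  (0,[0,1,0,0,0]),
  (0,[0,0,1,0,0]),
  (0,[0,0,0,1,0]),
  (0,[0,0,0,0,1]),
  (10,[0,0,0,0,0]),
  (9,[0,0,0,0,0]),
  (1,[5,3,2,0,2]),
  (5,[0,0,0,0,0]),
  (11,[0,0,0,0,0]),
  (3,[0,0,0,0,0]),
  (12,[0,0,0,0,0]),
  (7,[0,0,0,0,0]),
  (4,[0,0,0,0,0]),
  (13,[0,0,0,0,0]),
  (6,[0,0,0,0,0]),
  (8,[0,0,0,0,0]),
  (14,[0,0,0,0,0]),
  (6,[0,2,1,0,1]),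
  (16,[0,5,2,0,1]),
  (7,[6,0,1,1,0]),
  (11,[1,3,3,1,2]),
  (1,[0,3,4,3,1]),
  (12,[3,3,3,3,1]),
  (20,[3,4,4,0,1]),
  (1,[6,4,3,2,2]),
  (20,[0,0,0,0,0]),
  (2,[0,4,3,3,0]),
  (24,[0,0,0,0,0]),
  (4,[6,5,3,0,1]),
  (29,[0,0,0,0,0]),
  (29,[1,1,1,2,1]),
  (24,[4,5,0,3,0]),
  (23,[5,0,3,0,0]),
  (28,[4,4,4,2,1]),
  (20,[1,5,3,2,0]),
  (11,[6,1,3,3,2]),
  (3,[2,4,1,1,0]),
  (12,[3,2,3,0,0]),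
  (11,[6,3,4,3,2]),
  (30,[0,5,0,3,1]),
  (16,[0,0,0,0,0]),
  (14,[5,0,4,1,1]),
  (14,[0,1,1,0,0]),
  (13,[4,0,2,2,2]),
  (2,[0,5,4,3,2]),
  (13,[4,1,2,1,0]),
  (15,[0,0,0,0,0]),
  (3,[2,1,1,3,1]),
  (9,[1,0,1,0,2]),
  (25,[0,0,0,0,0]),
  (30,[0,0,0,0,0]),
  (28,[0,0,0,0,0]),
  (25,[0,3,2,2,1]),
  (0,[0,3,1,3,1]),
  (23,[0,0,0,0,0]),
  (6,[4,4,3,3,1]),
  (26,[4,0,0,3,0])]

/-- part 1 of `k3Lev0Wit` -/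
def k3Lev0WitP1 : List (ℕ × List ℕ) := [
  (14,[0,1,1,1,1]),
  (13,[4,4,4,0,1]),
  (26,[4,3,3,1,2]),
  (14,[0,5,0,3,0]),
  (18,[0,0,0,0,0]),
  (30,[1,1,2,2,2]),
  (30,[0,0,1,3,2]),
  (28,[0,2,0,1,2]),
  (27,[0,0,0,0,0]),
  (28,[0,1,4,0,0]),
  (12,[2,3,2,2,1]),
  (15,[4,1,3,1,1]),
  (31,[0,0,0,0,0]),
  (31,[6,5,2,1,1]),
  (4,[5,4,0,3,0]),
  (24,[4,2,1,1,1]),
  (4,[0,3,0,0,2]),
  (31,[5,5,0,2,1]),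
  (0,[2,5,4,1,1]),
  (12,[3,3,0,3,2]),
  (12,[2,4,1,1,0]),
  (20,[2,0,1,0,2]),
  (5,[3,5,2,3,2]),
  (20,[1,4,1,0,0]),
  (29,[3,2,2,1,2]),
  (22,[0,0,0,0,0]),
  (17,[0,0,0,0,0]),
  (3,[6,5,2,1,0]),
  (5,[3,5,2,3,2]),
  (11,[3,4,1,0,0]),
  (3,[6,4,3,2,2]),
  (28,[6,4,3,2,1]),
  (24,[4,1,2,1,0]),
  (2,[3,2,1,2,1]),
  (13,[5,1,2,2,0]),
  (26,[0,0,0,0,0]),
  (26,[6,1,4,2,2]),
  (2,[5,3,1,1,2]),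
  (25,[0,2,1,1,0]),
  (19,[0,0,0,0,0]),
  (21,[0,0,0,0,0]),
  (8,[0,5,2,2,2]),
  (2,[0,3,4,2,1]),
  (6,[0,3,2,2,1]),
  (8,[0,4,0,2,2]),
  (27,[0,1,0,1,1]),
  (29,[6,0,2,3,1]),
  (15,[1,0,0,0,0]),
  (15,[0,1,0,0,0]),
  (15,[0,0,1,0,0]),
  (15,[0,0,0,1,0]),
  (15,[0,0,0,0,1]),
  (5,[1,5,1,2,1]),
  (26,[4,0,1,2,2]),
  (16,[3,1,4,0,2]),
  (16,[4,2,1,0,2]),
  (16,[2,2,4,1,0]),
  (16,[6,3,4,1,0]),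
  (16,[4,4,0,1,1]),
  (19,[0,3,0,2,1])]

/-- part 2 of `k3Lev0Wit` -/
def k3Lev0WitP2 : List (ℕ × List ℕ) := [
  (30,[6,2,4,1,0]),
  (3,[2,0,0,0,0]),
  (17,[2,1,4,2,0]),
  (17,[6,4,2,3,0]),
  (17,[3,1,2,3,1]),
  (17,[6,2,0,0,0]),
  (24,[1,1,3,0,0]),
  (25,[0,4,2,1,0]),
  (18,[5,5,2,1,1]),
  (18,[1,3,0,0,2]),
  (18,[2,3,0,2,2]),
  (18,[4,2,0,1,0]),
  (18,[1,2,0,0,2]),
  (17,[1,1,4,1,0]),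
  (14,[0,4,1,2,2]),
  (23,[6,0,3,2,2]),
  (19,[5,2,0,2,0]),
  (19,[6,4,4,2,0]),
  (19,[2,4,2,2,0]),
  (19,[5,5,0,1,0]),
  (4,[5,5,0,1,0]),
  (27,[5,2,1,3,2]),
  (5,[1,1,1,3,1]),
  (20,[3,4,4,3,0]),
  (1,[3,0,2,1,2]),
  (1,[1,1,4,2,0]),
  (5,[3,1,4,2,2]),
  (22,[2,3,0,1,1]),
  (31,[5,0,4,1,2]),
  (8,[5,1,2,0,1]),
  (21,[2,3,0,0,2]),
  (21,[4,2,3,1,1]),
  (21,[3,3,2,3,2]),
  (21,[2,4,1,0,1]),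
  (21,[1,2,3,0,2]),
  (12,[0,4,1,2,2]),
  (7,[5,2,3,0,1]),
  (22,[4,3,2,1,0]),
  (22,[5,0,0,3,2]),
  (22,[6,5,3,3,0]),
  (22,[4,0,1,0,2]),
  (18,[3,1,0,2,1]),
  (8,[0,2,4,3,1]),
  (10,[5,5,0,1,0]),
  (29,[2,1,4,2,1]),
  (31,[6,1,1,2,0]),
  (4,[5,0,0,3,2]),
  (29,[2,4,0,3,1]),
  (3,[5,1,3,3,0]),
  (13,[3,3,4,1,2]),
  (4,[6,5,0,3,1]),
  (10,[5,2,0,3,0]),
  (23,[6,4,1,1,0]),
  (31,[3,4,4,3,0]),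
  (10,[5,3,3,0,0]),
  (6,[0,1,2,3,0]),
  (11,[1,4,3,1,2]),
  (25,[3,3,3,3,0]),
  (27,[0,2,0,2,1]),
  (9,[0,4,1,1,2])]

/-- part 3 of `k3Lev0Wit` -/
def k3Lev0WitP3 : List (ℕ × List ℕ) := [
  (7,[0,5,4,1,2]),
  (30,[0,5,2,2,0]),
  (9,[4,0,3,1,2]),
  (10,[5,0,4,1,2]),
  (26,[4,4,0,0,1]),
  (2,[6,3,2,2,2]),
  (6,[5,2,1,0,2]),
  (8,[5,3,1,1,2]),
  (14,[5,1,2,0,1]),
  (8,[0,0,2,1,2]),
  (20,[5,0,1,0,2]),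
  (28,[4,2,0,1,2]),
  (9,[0,1,0,1,0]),
  (7,[0,2,0,2,0]),
  (30,[0,4,4,1,1]),
  (9,[0,0,0,2,2]),
  (13,[4,0,4,2,2]),
  (5,[3,5,1,0,0]),
  (27,[4,4,2,3,0]),
  (28,[0,0,4,2,1]),
  (25,[0,3,3,2,2]),
  (25,[0,2,1,2,0]),
  (27,[0,2,4,2,0]),
  (11,[2,1,1,2,2]),
  (6,[2,2,1,0,0]),
  (29,[5,4,2,3,0]),
  (24,[6,2,1,3,2]),
  (10,[2,3,0,3,2]),
  (23,[0,3,0,3,0]),
  (31,[2,0,1,2,0]),
  (26,[4,3,2,0,0]),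
  (17,[2,0,2,0,1]),
  (22,[0,2,4,1,0]),
  (7,[0,5,3,0,0]),
  (27,[0,5,1,2,1]),
  (9,[0,3,0,2,1]),
  (7,[0,3,3,3,1]),
  (1,[3,1,1,1,0]),
  (21,[5,0,0,0,0]),
  (19,[1,4,4,3,0]),
  (23,[3,5,4,3,2]),
  (24,[6,1,0,2,1]),
  (10,[2,2,0,3,0]),
  (23,[0,5,1,1,2])]

/-- certificate data -/
def k3Lev0Wit : List (ℕ × List ℕ) :=
  [k3Lev0WitP0, k3Lev0WitP1, k3Lev0WitP2, k3Lev0WitP3].flatten

/-- a level -/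
def k3Lev0 : Lev :=
  { base := 0, new := [([21,17,187,2,887],[888,3,188,18,22]),([21,199,13,2,543],[544,3,14,200,22])], orbit := k3Lev0Orb, wit := k3Lev0Wit }

/-- part 0 of `k3Lev1Orb` -/
def k3Lev1OrbP0 : List (ℕ × List ℕ) := [
  (9,[]),
  (72,[0]),
  (114,[0,3]),
  (368,[0,1]),
  (412,[0,0]),
  (482,[0,2]),
  (119,[0,0,3])]

/-- certificate data -/
def k3Lev1Orb : List (ℕ × List ℕ) :=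
  [k3Lev1OrbP0].flatten

/-- part 0 of `k3Lev1Wit` -/
def k3Lev1WitP0 : List (ℕ × List ℕ) := [
  (1,[0,0,0,0]),
  (0,[1,0,0,0]),
  (0,[0,1,0,0]),
  (0,[0,0,1,0]),
  (0,[0,0,0,1]),
  (4,[0,0,0,0]),
  (3,[0,0,0,0]),
  (5,[0,0,0,0]),
  (2,[0,0,0,0]),
  (3,[5,1,1,0]),
  (6,[0,0,0,2]),
  (2,[1,2,1,1]),
  (3,[3,2,1,2]),
  (3,[2,0,1,2]),
  (6,[4,2,0,0]),
  (3,[4,0,0,1]),
  (6,[5,3,1,2]),
  (4,[0,1,0,2]),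
  (1,[3,3,3,0]),
  (5,[0,1,1,2]),
  (5,[3,4,3,0]),
  (5,[5,4,2,1]),
  (2,[2,3,3,0]),
  (6,[0,0,0,0]),
  (2,[0,0,2,0]),
  (0,[2,0,1,0]),
  (1,[4,0,0,2]),
  (6,[0,4,1,1]),
  (4,[2,1,1,1]),
  (1,[3,2,0,1]),
  (2,[4,2,0,1]),
  (4,[5,0,3,0]),
  (1,[0,3,3,2]),
  (5,[3,4,2,0]),
  (4,[4,2,2,0])]

/-- certificate data -/
def k3Lev1Wit : List (ℕ × List ℕ) :=
  [k3Lev1WitP0].flatten

/-- a level -/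
def k3Lev1 : Lev :=
  { base := 9, new := [([21,193,171],[172,194,22])], orbit := k3Lev1Orb, wit := k3Lev1Wit }

/-- part 0 of `k3Lev2Orb` -/
def k3Lev2OrbP0 : List (ℕ × List ℕ) := [
  (25,[]),
  (410,[0]),
  (391,[0,3]),
  (464,[0,0]),
  (67,[0,0,0]),
  (392,[0,3,2])]

/-- certificate data -/
def k3Lev2Orb : List (ℕ × List ℕ) :=
  [k3Lev2OrbP0].flatten

/-- part 0 of `k3Lev2Wit` -/
def k3Lev2WitP0 : List (ℕ × List ℕ) := [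
  (1,[0,0,0]),
  (0,[1,0,0]),
  (0,[0,1,0]),
  (0,[0,0,1]),
  (3,[0,0,0]),
  (3,[2,1,2]),
  (1,[4,1,2]),
  (2,[0,0,0]),
  (0,[4,3,1]),
  (2,[0,2,1]),
  (5,[0,0,0]),
  (5,[4,1,2]),
  (4,[0,0,0]),
  (4,[2,0,0]),
  (2,[3,0,0]),
  (3,[0,2,0]),
  (2,[1,2,2]),
  (1,[1,1,2]),
  (4,[0,0,2]),
  (4,[1,3,2]),
  (5,[2,0,1]),
  (5,[2,2,1]),
  (3,[2,0,2]),
  (1,[1,3,2])]

/-- certificate data -/
def k3Lev2Wit : List (ℕ × List ℕ) :=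
  [k3Lev2WitP0].flatten

/-- a level -/
def k3Lev2 : Lev :=
  { base := 25, new := [([21,17,15,135],[136,16,18,22])], orbit := k3Lev2Orb, wit := k3Lev2Wit }

/-- part 0 of `k3Lev3Orb` -/
def k3Lev3OrbP0 : List (ℕ × List ℕ) := [
  (43,[]),
  (380,[0]),
  (369,[0,0]),
  (545,[0,2]),
  (544,[0,2,1])]

/-- certificate data -/
def k3Lev3Orb : List (ℕ × List ℕ) :=
  [k3Lev3OrbP0].flatten

/-- part 0 of `k3Lev3Wit` -/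
def k3Lev3WitP0 : List (ℕ × List ℕ) := [
  (1,[0,0]),
  (0,[1,0]),
  (0,[0,1]),
  (2,[0,0]),
  (1,[0,1]),
  (3,[0,0]),
  (0,[0,0]),
  (3,[2,1]),
  (2,[1,0]),
  (3,[2,1]),
  (4,[0,0]),
  (4,[0,1]),
  (4,[2,0]),
  (2,[3,2]),
  (1,[0,2])]

/-- certificate data -/
def k3Lev3Wit : List (ℕ × List ℕ) :=
  [k3Lev3WitP0].flatten

/-- a level -/
def k3Lev3 : Lev :=
  { base := 43, new := [([21,201,193,131],[132,194,202,22])], orbit := k3Lev3Orb, wit := k3Lev3Wit }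

/-- part 0 of `k3Lev4Orb` -/
def k3Lev4OrbP0 : List (ℕ × List ℕ) := [
  (103,[]),
  (165,[0]),
  (662,[0,0]),
  (468,[0,0,1])]

/-- certificate data -/
def k3Lev4Orb : List (ℕ × List ℕ) :=
  [k3Lev4OrbP0].flatten

/-- part 0 of `k3Lev4Wit` -/
def k3Lev4WitP0 : List (ℕ × List ℕ) := [
  (1,[0]),
  (0,[1]),
  (2,[0]),
  (2,[2]),
  (0,[0]),
  (3,[0]),
  (3,[2]),
  (1,[1])]

/-- certificate data -/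
def k3Lev4Wit : List (ℕ × List ℕ) :=
  [k3Lev4WitP0].flatten

/-- a level -/
def k3Lev4 : Lev :=
  { base := 103, new := [([199,175],[176,200])], orbit := k3Lev4Orb, wit := k3Lev4Wit }

/-- part 0 of `k3Lev5Orb` -/
def k3Lev5OrbP0 : List (ℕ × List ℕ) := [
  (6,[]),
  (24,[0]),
  (58,[0,0])]

/-- certificate data -/
def k3Lev5Orb : List (ℕ × List ℕ) :=
  [k3Lev5OrbP0].flatten

/-- part 0 of `k3Lev5Wit` -/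
def k3Lev5WitP0 : List (ℕ × List ℕ) := [
  (1,[]),
  (2,[]),
  (0,[])]

/-- certificate data -/
def k3Lev5Wit : List (ℕ × List ℕ) :=
  [k3Lev5WitP0].flatten

/-- a level -/
def k3Lev5 : Lev :=
  { base := 6, new := [([201,195,143],[144,196,202])], orbit := k3Lev5Orb, wit := k3Lev5Wit }

/-- chain of state 3 -/
def k3 : List Lev := [k3Lev0,k3Lev1,k3Lev2,k3Lev3,k3Lev4,k3Lev5]

/-- part 0 of `k4Lev0Orb` -/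
def k4Lev0OrbP0 : List (ℕ × List ℕ) := [
  (0,[]),
  (28,[0]),
  (270,[1]),
  (366,[0,1])]

/-- certificate data -/
def k4Lev0Orb : List (ℕ × List ℕ) :=
  [k4Lev0OrbP0].flatten

/-- part 0 of `k4Lev0Wit` -/
def k4Lev0WitP0 : List (ℕ × List ℕ) := [
  (1,[0,0,0,0]),
  (2,[0,0,0,0]),
  (0,[1,0,0,0]),
  (0,[0,1,0,0]),
  (0,[0,0,1,0]),
  (0,[0,0,0,1]),
  (0,[4,1,3,1]),
  (3,[0,0,0,0]),
  (1,[4,3,0,2]),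
  (1,[4,2,1,2]),
  (1,[2,1,0,1]),
  (1,[0,3,2,0]),
  (3,[2,0,1,1]),
  (0,[0,0,2,1]),
  (2,[3,0,0,2]),
  (2,[0,2,3,2]),
  (2,[0,0,1,1]),
  (2,[0,0,2,0]),
  (2,[0,2,1,2]),
  (1,[4,2,0,2]),
  (3,[4,4,0,1]),
  (3,[1,3,1,1]),
  (3,[2,2,0,2]),
  (3,[4,1,0,1])]

/-- certificate data -/
def k4Lev0Wit : List (ℕ × List ℕ) :=
  [k4Lev0WitP0].flatten

/-- a level -/
def k4Lev0 : Lev :=
  { base := 0, new := [([21,201,195,9,107,295],[296,108,10,196,202,22]),([21,201,11,145,343],[344,146,12,202,22])], orbit := k4Lev0Orb, wit := k4Lev0Wit }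

/-- part 0 of `k4Lev1Orb` -/
def k4Lev1OrbP0 : List (ℕ × List ℕ) := [
  (4,[]),
  (38,[0]),
  (194,[0,0]),
  (284,[0,2]),
  (15,[0,2,0]),
  (212,[0,0,3])]

/-- certificate data -/
def k4Lev1Orb : List (ℕ × List ℕ) :=
  [k4Lev1OrbP0].flatten

/-- part 0 of `k4Lev1Wit` -/
def k4Lev1WitP0 : List (ℕ × List ℕ) := [
  (1,[0,0,0]),
  (0,[1,0,0]),
  (0,[0,1,0]),
  (0,[0,0,1]),
  (2,[0,0,0]),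
  (2,[1,0,0]),
  (3,[0,0,0]),
  (1,[1,3,2]),
  (0,[0,0,0]),
  (1,[1,0,0]),
  (2,[3,2,0]),
  (5,[0,0,0]),
  (4,[0,0,0]),
  (3,[2,3,2]),
  (5,[3,3,0]),
  (2,[4,2,1]),
  (5,[2,0,1]),
  (5,[4,0,2]),
  (4,[0,0,1]),
  (4,[3,2,2]),
  (3,[4,1,1]),
  (4,[4,0,2]),
  (1,[2,0,2]),
  (3,[1,0,1])]

/-- certificate data -/
def k4Lev1Wit : List (ℕ × List ℕ) :=
  [k4Lev1WitP0].flatten

/-- a level -/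
def k4Lev1 : Lev :=
  { base := 4, new := [([21,197,15,181,73],[74,182,16,198,22])], orbit := k4Lev1Orb, wit := k4Lev1Wit }

/-- part 0 of `k4Lev2Orb` -/
def k4Lev2OrbP0 : List (ℕ × List ℕ) := [
  (8,[]),
  (135,[0]),
  (233,[0,1]),
  (282,[0,2]),
  (99,[0,1,0])]

/-- certificate data -/
def k4Lev2Orb : List (ℕ × List ℕ) :=
  [k4Lev2OrbP0].flatten

/-- part 0 of `k4Lev2Wit` -/
def k4Lev2WitP0 : List (ℕ × List ℕ) := [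
  (1,[0,0]),
  (0,[1,0]),
  (0,[0,1]),
  (0,[0,0]),
  (2,[0,0]),
  (3,[0,0]),
  (4,[0,0]),
  (3,[1,1]),
  (2,[1,1]),
  (3,[3,1]),
  (1,[2,2]),
  (4,[2,1]),
  (2,[0,0]),
  (4,[2,0]),
  (1,[2,1])]

/-- certificate data -/
def k4Lev2Wit : List (ℕ × List ℕ) :=
  [k4Lev2WitP0].flatten

/-- a level -/
def k4Lev2 : Lev :=
  { base := 8, new := [([199,193,133],[134,194,200])], orbit := k4Lev2Orb, wit := k4Lev2Wit }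

/-- part 0 of `k4Lev3Orb` -/
def k4Lev3OrbP0 : List (ℕ × List ℕ) := [
  (38,[]),
  (284,[0]),
  (194,[0,1]),
  (212,[0,0])]

/-- certificate data -/
def k4Lev3Orb : List (ℕ × List ℕ) :=
  [k4Lev3OrbP0].flatten

/-- part 0 of `k4Lev3Wit` -/
def k4Lev3WitP0 : List (ℕ × List ℕ) := [
  (1,[0]),
  (0,[1]),
  (3,[0]),
  (2,[0]),
  (2,[1]),
  (3,[1]),
  (0,[0]),
  (1,[2])]

/-- certificate data -/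
def k4Lev3Wit : List (ℕ × List ℕ) :=
  [k4Lev3WitP0].flatten

/-- a level -/
def k4Lev3 : Lev :=
  { base := 38, new := [([21,19,193,149],[150,194,20,22])], orbit := k4Lev3Orb, wit := k4Lev3Wit }

/-- part 0 of `k4Lev4Orb` -/
def k4Lev4OrbP0 : List (ℕ × List ℕ) := [
  (6,[]),
  (392,[0]),
  (65,[0,0])]

/-- certificate data -/
def k4Lev4Orb : List (ℕ × List ℕ) :=
  [k4Lev4OrbP0].flatten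

/-- part 0 of `k4Lev4Wit` -/
def k4Lev4WitP0 : List (ℕ × List ℕ) := [
  (1,[]),
  (2,[]),
  (0,[])]

/-- certificate data -/
def k4Lev4Wit : List (ℕ × List ℕ) :=
  [k4Lev4WitP0].flatten

/-- a level -/
def k4Lev4 : Lev :=
  { base := 6, new := [([21,15,177],[178,16,22])], orbit := k4Lev4Orb, wit := k4Lev4Wit }

/-- chain of state 4 -/
def k4 : List Lev := [k4Lev0,k4Lev1,k4Lev2,k4Lev3,k4Lev4]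

/-- part 0 of `k5Lev0Orb` -/
def k5Lev0OrbP0 : List (ℕ × List ℕ) := [
  (0,[]),
  (1168,[0])]

/-- certificate data -/
def k5Lev0Orb : List (ℕ × List ℕ) :=
  [k5Lev0OrbP0].flatten

/-- part 0 of `k5Lev0Wit` -/
def k5Lev0WitP0 : List (ℕ × List ℕ) := [
  (1,[0,0,0]),
  (0,[1,0,0]),
  (0,[0,1,0]),
  (0,[0,0,1]),
  (0,[0,0,0]),
  (1,[24,3,0]),
  (1,[3,0,1]),
  (1,[4,0,1])]

/-- certificate data -/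
def k5Lev0Wit : List (ℕ × List ℕ) :=
  [k5Lev0WitP0].flatten

/-- a level -/
def k5Lev0 : Lev :=
  { base := 0, new := [([201,15,171,103,449],[450,104,172,16,202])], orbit := k5Lev0Orb, wit := k5Lev0Wit }

/-- part 0 of `k5Lev1Orb` -/
def k5Lev1OrbP0 : List (ℕ × List ℕ) := [
  (4,[]),
  (6,[0]),
  (101,[0,0]),
  (399,[0,2]),
  (593,[0,1]),
  (14,[0,1,2]),
  (16,[0,2,0]),
  (31,[0,1,1]),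
  (58,[0,2,1]),
  (59,[0,0,1]),
  (60,[0,0,2]),
  (194,[0,1,0]),
  (285,[0,0,0]),
  (38,[0,2,1,1]),
  (40,[0,0,1,0]),
  (65,[0,0,2,1]),
  (66,[0,1,1,2]),
  (191,[0,0,1,1]),
  (206,[0,2,0,0]),
  (212,[0,1,1,1]),
  (284,[0,1,0,2]),
  (408,[0,1,0,1]),
  (410,[0,2,1,0]),
  (26,[0,2,1,1,0]),
  (592,[0,1,1,2,0])]

/-- certificate data -/
def k5Lev1Orb : List (ℕ × List ℕ) :=
  [k5Lev1OrbP0].flatten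

/-- part 0 of `k5Lev1Wit` -/
def k5Lev1WitP0 : List (ℕ × List ℕ) := [
  (1,[0,0]),
  (0,[1,0]),
  (0,[0,1]),
  (2,[0,0]),
  (4,[0,0]),
  (3,[0,0]),
  (12,[0,0]),
  (9,[0,0]),
  (10,[0,0]),
  (6,[0,0]),
  (8,[0,0]),
  (1,[0,0]),
  (11,[0,0]),
  (7,[0,0]),
  (5,[0,0]),
  (0,[3,0]),
  (3,[0,0]),
  (4,[0,0]),
  (18,[0,0]),
  (6,[3,1]),
  (6,[0,1]),
  (9,[1,0]),
  (19,[0,0]),
  (16,[0,0]),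
  (22,[0,0]),
  (13,[0,0]),
  (18,[1,1]),
  (14,[0,0]),
  (17,[0,0]),
  (12,[3,0]),
  (8,[1,0]),
  (15,[0,0]),
  (2,[0,0]),
  (15,[0,1]),
  (21,[0,0]),
  (20,[0,0]),
  (5,[3,0]),
  (10,[3,0]),
  (9,[3,0]),
  (23,[0,0]),
  (16,[0,0]),
  (19,[0,0]),
  (13,[1,1]),
  (12,[2,0]),
  (17,[2,1]),
  (16,[2,0]),
  (20,[2,0]),
  (21,[2,0]),
  (24,[0,0]),
  (5,[0,0]),
  (7,[0,0]),
  (20,[2,1]),
  (11,[2,0]),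
  (14,[2,1]),
  (17,[4,1]),
  (1,[1,1]),
  (8,[1,1]),
  (21,[1,0]),
  (18,[1,1]),
  (13,[0,0])]

/-- part 1 of `k5Lev1Wit` -/
def k5Lev1WitP1 : List (ℕ × List ℕ) := [
  (3,[1,0]),
  (14,[3,0]),
  (11,[0,0]),
  (10,[4,1]),
  (2,[4,0]),
  (15,[4,0]),
  (19,[4,1]),
  (22,[3,1]),
  (22,[2,1]),
  (7,[0,1]),
  (23,[3,1]),
  (23,[3,0]),
  (4,[2,1]),
  (24,[3,1]),
  (24,[1,1])]

/-- certificate data -/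
def k5Lev1Wit : List (ℕ × List ℕ) :=
  [k5Lev1WitP0, k5Lev1WitP1].flatten

/-- a level -/
def k5Lev1 : Lev :=
  { base := 4, new := [([21,17,15,165,2],[3,166,16,18,22])], orbit := k5Lev1Orb, wit := k5Lev1Wit }

/-- part 0 of `k5Lev2Orb` -/
def k5Lev2OrbP0 : List (ℕ × List ℕ) := [
  (8,[]),
  (79,[0]),
  (234,[0,0]),
  (352,[0,1]),
  (70,[0,0,0])]

/-- certificate data -/
def k5Lev2Orb : List (ℕ × List ℕ) :=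
  [k5Lev2OrbP0].flatten

/-- part 0 of `k5Lev2Wit` -/
def k5Lev2WitP0 : List (ℕ × List ℕ) := [
  (1,[0]),
  (0,[1]),
  (2,[0]),
  (3,[0]),
  (4,[0]),
  (4,[1]),
  (0,[1]),
  (1,[0]),
  (3,[1]),
  (2,[1])]

/-- certificate data -/
def k5Lev2Wit : List (ℕ × List ℕ) :=
  [k5Lev2WitP0].flatten

/-- a level -/
def k5Lev2 : Lev :=
  { base := 8, new := [([19,193,183],[184,194,20])], orbit := k5Lev2Orb, wit := k5Lev2Wit }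

/-- part 0 of `k5Lev3Orb` -/
def k5Lev3OrbP0 : List (ℕ × List ℕ) := [
  (6,[]),
  (399,[0])]

/-- certificate data -/
def k5Lev3Orb : List (ℕ × List ℕ) :=
  [k5Lev3OrbP0].flatten

/-- part 0 of `k5Lev3Wit` -/
def k5Lev3WitP0 : List (ℕ × List ℕ) := [
  (1,[]),
  (0,[])]

/-- certificate data -/
def k5Lev3Wit : List (ℕ × List ℕ) :=
  [k5Lev3WitP0].flatten

/-- a level -/
def k5Lev3 : Lev :=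
  { base := 6, new := [([193,185],[186,194])], orbit := k5Lev3Orb, wit := k5Lev3Wit }

/-- chain of state 5 -/
def k5 : List Lev := [k5Lev0,k5Lev1,k5Lev2,k5Lev3]

/-- part 0 of `k6Lev0Orb` -/
def k6Lev0OrbP0 : List (ℕ × List ℕ) := [
  (4,[]),
  (125,[0])]

/-- certificate data -/
def k6Lev0Orb : List (ℕ × List ℕ) :=
  [k6Lev0OrbP0].flatten

/-- part 0 of `k6Lev0Wit` -/
def k6Lev0WitP0 : List (ℕ × List ℕ) := [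
  (1,[0,0,0,0]),
  (0,[1,0,0,0]),
  (0,[0,1,0,0]),
  (0,[0,0,1,0]),
  (0,[0,0,0,1]),
  (0,[0,1,2,0]),
  (1,[1,0,3,1]),
  (1,[0,4,1,1]),
  (1,[0,1,3,0]),
  (1,[0,2,3,1])]

/-- certificate data -/
def k6Lev0Wit : List (ℕ × List ℕ) :=
  [k6Lev0WitP0].flatten

/-- a level -/
def k6Lev0 : Lev :=
  { base := 4, new := [([21,19,15,117,2,211],[212,3,118,16,20,22])], orbit := k6Lev0Orb, wit := k6Lev0Wit }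

/-- part 0 of `k6Lev1Orb` -/
def k6Lev1OrbP0 : List (ℕ × List ℕ) := [
  (0,[]),
  (270,[0])]

/-- certificate data -/
def k6Lev1Orb : List (ℕ × List ℕ) :=
  [k6Lev1OrbP0].flatten

/-- part 0 of `k6Lev1Wit` -/
def k6Lev1WitP0 : List (ℕ × List ℕ) := [
  (1,[0,0,0]),
  (0,[1,0,0]),
  (0,[0,1,0]),
  (0,[0,0,1]),
  (0,[3,0,2]),
  (1,[4,2,2]),
  (1,[0,2,2]),
  (1,[1,2,1])]

/-- certificate data -/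
def k6Lev1Wit : List (ℕ × List ℕ) :=
  [k6Lev1WitP0].flatten

/-- a level -/
def k6Lev1 : Lev :=
  { base := 0, new := [([197,195,175,343],[344,176,196,198])], orbit := k6Lev1Orb, wit := k6Lev1Wit }

/-- part 0 of `k6Lev2Orb` -/
def k6Lev2OrbP0 : List (ℕ × List ℕ) := [
  (8,[]),
  (233,[0]),
  (99,[0,0]),
  (135,[0,1]),
  (282,[0,0,0])]

/-- certificate data -/
def k6Lev2Orb : List (ℕ × List ℕ) :=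
  [k6Lev2OrbP0].flatten

/-- part 0 of `k6Lev2Wit` -/
def k6Lev2WitP0 : List (ℕ × List ℕ) := [
  (1,[0,0]),
  (0,[1,0]),
  (0,[0,1]),
  (2,[0,0]),
  (3,[0,0]),
  (1,[3,0]),
  (4,[0,0]),
  (1,[2,1]),
  (3,[3,2]),
  (0,[2,0]),
  (2,[2,1]),
  (4,[3,1]),
  (3,[1,0]),
  (4,[1,1]),
  (2,[0,2])]

/-- certificate data -/
def k6Lev2Wit : List (ℕ × List ℕ) :=
  [k6Lev2WitP0].flatten

/-- a level -/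
def k6Lev2 : Lev :=
  { base := 8, new := [([21,19,15,147],[148,16,20,22])], orbit := k6Lev2Orb, wit := k6Lev2Wit }

/-- part 0 of `k6Lev3Orb` -/
def k6Lev3OrbP0 : List (ℕ × List ℕ) := [
  (38,[]),
  (212,[0]),
  (194,[0,0]),
  (284,[0,1])]

/-- certificate data -/
def k6Lev3Orb : List (ℕ × List ℕ) :=
  [k6Lev3OrbP0].flatten

/-- part 0 of `k6Lev3Wit` -/
def k6Lev3WitP0 : List (ℕ × List ℕ) := [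
  (1,[0]),
  (0,[1]),
  (2,[0]),
  (3,[0]),
  (0,[0]),
  (1,[2]),
  (3,[1]),
  (2,[1])]

/-- certificate data -/
def k6Lev3Wit : List (ℕ × List ℕ) :=
  [k6Lev3WitP0].flatten

/-- a level -/
def k6Lev3 : Lev :=
  { base := 38, new := [([15,177],[178,16])], orbit := k6Lev3Orb, wit := k6Lev3Wit }

/-- part 0 of `k6Lev4Orb` -/
def k6Lev4OrbP0 : List (ℕ × List ℕ) := [
  (6,[]),
  (392,[0]),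
  (65,[0,0])]

/-- certificate data -/
def k6Lev4Orb : List (ℕ × List ℕ) :=
  [k6Lev4OrbP0].flatten

/-- part 0 of `k6Lev4Wit` -/
def k6Lev4WitP0 : List (ℕ × List ℕ) := [
  (1,[]),
  (2,[]),
  (0,[])]

/-- certificate data -/
def k6Lev4Wit : List (ℕ × List ℕ) :=
  [k6Lev4WitP0].flatten

/-- a level -/
def k6Lev4 : Lev :=
  { base := 6, new := [([21,15,177],[178,16,22])], orbit := k6Lev4Orb, wit := k6Lev4Wit }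

/-- chain of state 6 -/
def k6 : List Lev := [k6Lev0,k6Lev1,k6Lev2,k6Lev3,k6Lev4]

/-- part 0 of `k7Lev0Orb` -/
def k7Lev0OrbP0 : List (ℕ × List ℕ) := [
  (32,[]),
  (670,[1]),
  (853,[0]),
  (79,[0,0]),
  (355,[0,1]),
  (425,[0,2]),
  (584,[1,0]),
  (832,[1,2]),
  (1169,[1,1]),
  (151,[1,1,0]),
  (294,[0,2,1]),
  (315,[0,1,2]),
  (417,[0,0,0]),
  (521,[1,0,2]),
  (527,[1,0,1]),
  (560,[0,1,1]),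
  (615,[0,2,2]),
  (685,[1,2,1]),
  (816,[0,2,0]),
  (948,[0,0,1]),
  (1016,[1,2,0]),
  (1069,[0,1,0]),
  (1158,[1,0,0]),
  (1247,[0,0,2]),
  (1394,[1,1,1]),
  (1401,[1,2,2]),
  (1405,[1,1,2]),
  (121,[0,1,0,2]),
  (181,[0,1,0,1]),
  (216,[0,1,2,1]),
  (360,[0,2,1,1]),
  (392,[0,2,1,0]),
  (406,[1,2,2,0]),
  (429,[0,0,2,0]),
  (430,[0,1,1,1]),
  (478,[0,0,2,2]),
  (538,[1,2,0,2]),
  (547,[0,0,1,0]),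
  (566,[0,0,0,1]),
  (623,[1,1,2,0]),
  (657,[0,1,0,0]),
  (663,[1,0,0,0]),
  (671,[1,1,1,1]),
  (715,[0,0,0,0]),
  (725,[1,1,1,0]),
  (729,[1,2,1,2]),
  (760,[1,1,2,2]),
  (818,[1,2,0,0]),
  (826,[0,1,2,2]),
  (857,[1,0,1,1]),
  (875,[0,2,1,2]),
  (879,[0,0,0,2]),
  (890,[0,1,1,2]),
  (891,[0,2,0,0]),
  (898,[1,0,1,2]),
  (955,[0,2,2,1]),
  (958,[0,2,2,2]),
  (959,[1,0,0,2]),
  (1075,[0,2,0,1]),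
  (1082,[0,0,1,2])]

/-- part 1 of `k7Lev0Orb` -/
def k7Lev0OrbP1 : List (ℕ × List ℕ) := [
  (1088,[1,2,0,1]),
  (1094,[0,1,2,0]),
  (1164,[1,1,0,0]),
  (1175,[0,0,1,1]),
  (1209,[1,1,1,2]),
  (1316,[0,0,2,1]),
  (1355,[1,2,2,1]),
  (1407,[0,2,0,2]),
  (33,[0,2,1,2,0]),
  (37,[0,0,2,0,0]),
  (56,[1,1,1,1,1]),
  (57,[1,2,2,1,2]),
  (61,[0,0,0,1,0]),
  (183,[0,2,1,0,1]),
  (255,[0,0,1,2,0]),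
  (277,[1,0,1,1,1]),
  (337,[0,1,1,1,1]),
  (345,[0,0,0,2,1]),
  (381,[0,0,1,1,1]),
  (387,[0,0,0,1,1]),
  (418,[0,1,1,1,2]),
  (428,[0,0,0,1,2]),
  (443,[0,1,2,0,0]),
  (450,[0,1,0,0,1]),
  (502,[1,0,1,2,2]),
  (534,[0,2,1,2,1]),
  (544,[1,1,1,2,1]),
  (557,[0,2,0,2,0]),
  (565,[0,1,1,2,1]),
  (624,[0,2,2,2,2]),
  (629,[0,2,0,1,0]),
  (711,[0,0,2,2,2]),
  (748,[1,0,0,2,0]),
  (752,[0,1,0,0,2]),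
  (831,[0,2,0,0,0]),
  (886,[0,2,1,1,2]),
  (895,[0,0,1,0,1]),
  (918,[1,2,0,2,1]),
  (919,[0,2,1,0,2]),
  (1006,[0,1,2,2,0]),
  (1044,[1,2,0,0,1]),
  (1127,[1,2,2,0,2]),
  (1133,[1,1,0,0,2]),
  (1159,[0,2,0,2,2]),
  (1187,[1,1,1,0,0]),
  (1191,[0,1,2,0,2]),
  (1285,[0,0,1,0,0]),
  (1308,[0,0,0,0,2]),
  (1309,[0,2,0,2,1]),
  (1354,[0,0,0,0,1]),
  (1371,[0,2,2,1,0]),
  (1385,[1,0,1,2,0]),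
  (1387,[0,0,2,1,1]),
  (1395,[0,1,1,2,0]),
  (1404,[1,2,0,0,2]),
  (77,[0,2,0,2,2,1]),
  (111,[0,1,0,0,2,0]),
  (142,[0,2,0,2,0,1]),
  (346,[0,1,1,2,1,2]),
  (468,[0,0,1,2,0,1])]

/-- part 2 of `k7Lev0Orb` -/
def k7Lev0OrbP2 : List (ℕ × List ℕ) := [
  (614,[0,0,1,0,1,2]),
  (682,[0,1,1,1,2,2]),
  (696,[1,2,0,2,1,2]),
  (771,[0,0,0,1,2,0]),
  (1035,[0,0,0,2,1,2]),
  (1042,[0,0,2,2,2,0]),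
  (1068,[0,0,2,0,0,2]),
  (1186,[0,2,1,0,1,2])]

/-- certificate data -/
def k7Lev0Orb : List (ℕ × List ℕ) :=
  [k7Lev0OrbP0, k7Lev0OrbP1, k7Lev0OrbP2].flatten

/-- part 0 of `k7Lev0Wit` -/
def k7Lev0WitP0 : List (ℕ × List ℕ) := [
  (2,[0]),
  (1,[0]),
  (0,[1]),
  (6,[0]),
  (8,[0]),
  (7,[0]),
  (3,[0]),
  (4,[0]),
  (5,[0]),
  (12,[0]),
  (19,[0]),
  (23,[0]),
  (21,[0]),
  (15,[0]),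
  (11,[0]),
  (18,[0]),
  (10,[0]),
  (16,[0]),
  (22,[0]),
  (14,[0]),
  (13,[0]),
  (20,[0]),
  (17,[0]),
  (25,[0]),
  (9,[0]),
  (24,[0]),
  (26,[0]),
  (62,[0]),
  (6,[4]),
  (9,[1]),
  (31,[0]),
  (30,[0]),
  (50,[0]),
  (61,[0]),
  (29,[0]),
  (48,[0]),
  (43,[0]),
  (38,[0]),
  (51,[0]),
  (65,[0]),
  (2,[0]),
  (4,[2]),
  (28,[0]),
  (49,[0]),
  (54,[0]),
  (8,[1]),
  (34,[0]),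
  (52,[0]),
  (0,[3]),
  (55,[0]),
  (56,[0]),
  (52,[0]),
  (25,[3]),
  (45,[0]),
  (53,[0]),
  (58,[0]),
  (67,[0]),
  (37,[0]),
  (63,[0]),
  (59,[0])]

/-- part 1 of `k7Lev0Wit` -/
def k7Lev0WitP1 : List (ℕ × List ℕ) := [
  (47,[0]),
  (60,[0]),
  (36,[0]),
  (40,[0]),
  (28,[0]),
  (27,[0]),
  (41,[0]),
  (43,[3]),
  (57,[0]),
  (33,[0]),
  (65,[0]),
  (35,[0]),
  (44,[0]),
  (42,[0]),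
  (64,[0]),
  (32,[0]),
  (66,[0]),
  (21,[2]),
  (39,[0]),
  (21,[4]),
  (46,[0]),
  (77,[0]),
  (3,[0]),
  (1,[3]),
  (96,[0]),
  (22,[4]),
  (28,[1]),
  (17,[1]),
  (41,[4]),
  (29,[1]),
  (26,[1]),
  (48,[3]),
  (95,[0]),
  (49,[3]),
  (73,[0]),
  (98,[0]),
  (64,[3]),
  (9,[2]),
  (101,[0]),
  (69,[0]),
  (13,[1]),
  (15,[4]),
  (27,[3]),
  (76,[0]),
  (80,[0]),
  (56,[0]),
  (27,[1]),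
  (91,[0]),
  (109,[1]),
  (97,[0]),
  (34,[4]),
  (106,[0]),
  (96,[0]),
  (44,[3]),
  (72,[0]),
  (79,[0]),
  (81,[0]),
  (42,[3]),
  (80,[0]),
  (87,[3])]

/-- part 2 of `k7Lev0Wit` -/
def k7Lev0WitP2 : List (ℕ × List ℕ) := [
  (78,[2]),
  (83,[0]),
  (93,[0]),
  (1,[2]),
  (16,[3]),
  (37,[1]),
  (84,[2]),
  (70,[0]),
  (73,[3]),
  (29,[2]),
  (109,[0]),
  (107,[0]),
  (104,[0]),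
  (12,[2]),
  (32,[3]),
  (79,[1]),
  (61,[4]),
  (43,[0]),
  (83,[1]),
  (31,[4]),
  (62,[2]),
  (48,[0]),
  (100,[0]),
  (114,[0]),
  (99,[0]),
  (51,[4]),
  (6,[3]),
  (25,[3]),
  (75,[0]),
  (40,[4]),
  (68,[0]),
  (85,[0]),
  (88,[3]),
  (66,[2]),
  (77,[0]),
  (60,[3]),
  (113,[0]),
  (88,[0]),
  (53,[4]),
  (94,[0]),
  (20,[1]),
  (83,[3]),
  (111,[0]),
  (11,[4]),
  (84,[0]),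
  (110,[0]),
  (87,[3]),
  (10,[2]),
  (67,[1]),
  (32,[1]),
  (89,[0]),
  (92,[0]),
  (62,[1]),
  (110,[0]),
  (90,[0]),
  (67,[3]),
  (19,[2]),
  (74,[0]),
  (107,[3]),
  (24,[4])]

/-- part 3 of `k7Lev0Wit` -/
def k7Lev0WitP3 : List (ℕ × List ℕ) := [
  (91,[2]),
  (92,[3]),
  (30,[1]),
  (82,[0]),
  (35,[3]),
  (105,[0]),
  (51,[3]),
  (110,[2]),
  (102,[0]),
  (30,[0]),
  (78,[0]),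
  (17,[1]),
  (36,[3]),
  (86,[0]),
  (58,[4]),
  (38,[1]),
  (112,[0]),
  (78,[3]),
  (16,[4]),
  (98,[3]),
  (71,[0]),
  (87,[0]),
  (108,[0]),
  (103,[0]),
  (80,[3]),
  (102,[1]),
  (65,[2]),
  (5,[2]),
  (68,[0]),
  (126,[0]),
  (50,[1]),
  (126,[3]),
  (70,[1]),
  (15,[3]),
  (99,[4]),
  (112,[2]),
  (88,[2]),
  (71,[4]),
  (22,[2]),
  (120,[0]),
  (116,[3]),
  (127,[0]),
  (58,[1]),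
  (119,[0]),
  (74,[1]),
  (63,[4]),
  (74,[1]),
  (97,[3]),
  (23,[2]),
  (93,[1]),
  (39,[4]),
  (7,[2]),
  (89,[2]),
  (124,[0]),
  (55,[3]),
  (69,[1]),
  (47,[4]),
  (112,[0]),
  (50,[3]),
  (85,[0])]

/-- part 4 of `k7Lev0Wit` -/
def k7Lev0WitP4 : List (ℕ × List ℕ) := [
  (59,[4]),
  (95,[3]),
  (121,[0]),
  (123,[0]),
  (33,[4]),
  (90,[1]),
  (24,[4]),
  (125,[2]),
  (38,[2]),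
  (107,[3]),
  (101,[2]),
  (33,[4]),
  (35,[4]),
  (36,[4]),
  (96,[2]),
  (103,[3]),
  (81,[4]),
  (75,[4]),
  (54,[4]),
  (72,[2]),
  (94,[2]),
  (46,[3]),
  (117,[0]),
  (125,[0]),
  (57,[4]),
  (84,[3]),
  (118,[0]),
  (86,[1]),
  (82,[2]),
  (2,[0]),
  (114,[0]),
  (120,[0]),
  (92,[1]),
  (125,[0]),
  (57,[2]),
  (113,[4]),
  (98,[0]),
  (53,[4]),
  (82,[1]),
  (116,[0]),
  (39,[1]),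
  (77,[1]),
  (97,[2]),
  (7,[2]),
  (66,[3]),
  (73,[1]),
  (37,[0]),
  (12,[1]),
  (71,[4]),
  (44,[1]),
  (120,[0]),
  (45,[1]),
  (121,[0]),
  (122,[0]),
  (101,[0]),
  (18,[0]),
  (108,[1]),
  (13,[2]),
  (46,[1]),
  (123,[1])]

/-- part 5 of `k7Lev0Wit` -/
def k7Lev0WitP5 : List (ℕ × List ℕ) := [
  (60,[1]),
  (105,[3]),
  (111,[1]),
  (19,[3]),
  (52,[2]),
  (41,[3]),
  (76,[3]),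
  (64,[1]),
  (8,[3]),
  (89,[0]),
  (115,[0]),
  (69,[2]),
  (10,[4]),
  (0,[4]),
  (72,[4]),
  (121,[2]),
  (111,[1]),
  (99,[1]),
  (34,[3]),
  (23,[4]),
  (31,[1]),
  (85,[2]),
  (104,[3]),
  (63,[4]),
  (118,[2]),
  (91,[3]),
  (116,[1]),
  (4,[2]),
  (103,[2]),
  (61,[1]),
  (11,[2]),
  (113,[1]),
  (104,[4]),
  (75,[3]),
  (114,[3]),
  (42,[4]),
  (95,[0]),
  (106,[4]),
  (86,[3]),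
  (14,[2]),
  (47,[4]),
  (3,[1]),
  (124,[0]),
  (94,[4]),
  (68,[1]),
  (93,[2]),
  (127,[1]),
  (115,[1]),
  (81,[1]),
  (45,[1]),
  (106,[2]),
  (105,[1]),
  (122,[0]),
  (117,[1]),
  (70,[4]),
  (54,[0]),
  (55,[0]),
  (126,[3]),
  (118,[0]),
  (76,[4])]

/-- part 6 of `k7Lev0Wit` -/
def k7Lev0WitP6 : List (ℕ × List ℕ) := [
  (100,[1]),
  (40,[0]),
  (14,[3]),
  (108,[4]),
  (5,[4]),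
  (20,[1]),
  (127,[1]),
  (124,[4]),
  (79,[3]),
  (117,[0]),
  (26,[2]),
  (109,[2]),
  (115,[0]),
  (56,[4]),
  (49,[0]),
  (102,[4]),
  (90,[2]),
  (119,[4]),
  (122,[2]),
  (123,[1]),
  (18,[3]),
  (119,[1]),
  (59,[0]),
  (100,[2])]

/-- certificate data -/
def k7Lev0Wit : List (ℕ × List ℕ) :=
  [k7Lev0WitP0, k7Lev0WitP1, k7Lev0WitP2, k7Lev0WitP3, k7Lev0WitP4, k7Lev0WitP5, k7Lev0WitP6].flatten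

/-- a level -/
def k7Lev0 : Lev :=
  { base := 32, new := [([17,193,125,2,891],[892,3,126,194,18]),([201,193,131,49,895],[896,50,132,194,202])], orbit := k7Lev0Orb, wit := k7Lev0Wit }

/-- part 0 of `k7Lev1Orb` -/
def k7Lev1OrbP0 : List (ℕ × List ℕ) := [
  (0,[]),
  (621,[0]),
  (797,[0,0]),
  (293,[0,0,0]),
  (524,[0,0,0,0])]

/-- certificate data -/
def k7Lev1Orb : List (ℕ × List ℕ) :=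
  [k7Lev1OrbP0].flatten

/-- part 0 of `k7Lev1Wit` -/
def k7Lev1WitP0 : List (ℕ × List ℕ) := [
  (1,[]),
  (2,[]),
  (3,[]),
  (4,[]),
  (0,[])]

/-- certificate data -/
def k7Lev1Wit : List (ℕ × List ℕ) :=
  [k7Lev1WitP0].flatten

/-- a level -/
def k7Lev1 : Lev :=
  { base := 0, new := [([21,19,195,121,51,899],[900,52,122,196,20,22])], orbit := k7Lev1Orb, wit := k7Lev1Wit }

/-- chain of state 7 -/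
def k7 : List Lev := [k7Lev0,k7Lev1]

/-- part 0 of `k8Lev0Orb` -/
def k8Lev0OrbP0 : List (ℕ × List ℕ) := [
  (39,[]),
  (533,[0]),
  (519,[0,3]),
  (609,[0,4]),
  (741,[0,2]),
  (789,[0,1]),
  (1336,[0,0]),
  (234,[0,2,0]),
  (285,[0,0,1]),
  (354,[0,3,1]),
  (359,[0,0,0]),
  (433,[0,4,1]),
  (568,[0,3,4]),
  (651,[0,1,3]),
  (666,[0,0,2]),
  (712,[0,1,0]),
  (856,[0,1,4]),
  (893,[0,2,4]),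
  (1012,[0,2,1]),
  (1030,[0,1,1]),
  (1036,[0,2,3]),
  (1060,[0,0,3]),
  (1089,[0,3,2]),
  (1208,[0,0,4]),
  (1228,[0,1,2]),
  (1298,[0,4,0]),
  (1326,[0,3,0]),
  (63,[0,1,1,0]),
  (101,[0,0,3,1]),
  (136,[0,1,4,0]),
  (195,[0,0,1,3]),
  (280,[0,0,4,0]),
  (334,[0,2,1,1]),
  (684,[0,0,2,1]),
  (692,[0,0,0,3]),
  (695,[0,1,2,3]),
  (750,[0,1,1,1]),
  (759,[0,4,0,3]),
  (783,[0,0,1,0]),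
  (800,[0,0,3,0]),
  (851,[0,2,1,2]),
  (872,[0,4,0,4]),
  (897,[0,2,3,4]),
  (906,[0,0,0,2]),
  (934,[0,0,0,1]),
  (965,[0,1,2,4]),
  (1011,[0,3,0,0]),
  (1107,[0,1,1,3]),
  (1111,[0,1,2,0]),
  (1126,[0,0,3,2]),
  (1174,[0,3,0,3]),
  (1201,[0,2,3,0]),
  (1234,[0,1,0,4]),
  (1239,[0,3,0,4]),
  (1244,[0,1,0,1]),
  (1249,[0,3,2,0]),
  (1254,[0,3,1,0]),
  (1263,[0,0,2,4]),
  (1268,[0,4,1,0]),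
  (1269,[0,2,4,0])]

/-- part 1 of `k8Lev0Orb` -/
def k8Lev0OrbP1 : List (ℕ × List ℕ) := [
  (1295,[0,3,4,0]),
  (1297,[0,3,0,1]),
  (1306,[0,1,0,2]),
  (1353,[0,0,3,4]),
  (1369,[0,1,0,3]),
  (1376,[0,2,1,0]),
  (1391,[0,4,0,1]),
  (1392,[0,0,4,1]),
  (1403,[0,0,0,0]),
  (83,[0,0,3,2,1]),
  (100,[0,1,4,0,2]),
  (163,[0,0,0,1,0]),
  (185,[0,1,2,3,0]),
  (196,[0,1,2,4,0]),
  (283,[0,0,4,0,0]),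
  (306,[0,4,0,1,0]),
  (309,[0,0,2,4,0]),
  (318,[0,3,0,3,0]),
  (321,[0,3,4,0,1]),
  (328,[0,0,3,0,1]),
  (349,[0,3,2,0,0]),
  (384,[0,4,1,0,1]),
  (401,[0,0,3,1,0]),
  (402,[0,0,1,0,1]),
  (444,[0,0,1,0,2]),
  (449,[0,3,4,0,0]),
  (495,[0,0,0,2,1]),
  (498,[0,0,3,0,4]),
  (510,[0,0,0,0,0]),
  (530,[0,0,4,0,3]),
  (579,[0,0,4,0,1]),
  (622,[0,4,0,4,0]),
  (627,[0,3,0,1,0]),
  (636,[0,3,0,4,0]),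
  (701,[0,0,0,2,3]),
  (736,[0,0,3,0,2]),
  (745,[0,0,0,1,4]),
  (746,[0,2,3,0,0]),
  (784,[0,2,4,0,0]),
  (819,[0,1,1,3,0]),
  (863,[0,1,2,0,4]),
  (888,[0,0,1,0,3]),
  (1053,[0,3,2,0,3]),
  (1067,[0,3,0,1,3]),
  (1074,[0,0,3,0,0]),
  (1093,[0,0,0,0,2]),
  (1120,[0,2,3,0,4]),
  (1157,[0,0,0,0,4]),
  (1163,[0,1,0,1,4]),
  (1185,[0,3,0,1,4]),
  (1198,[0,0,2,1,0]),
  (1275,[0,0,2,4,1]),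
  (1283,[0,2,3,0,1]),
  (1291,[0,1,0,3,2]),
  (1314,[0,2,3,0,2]),
  (1361,[0,2,3,0,3]),
  (1362,[0,3,0,1,1]),
  (262,[0,1,2,4,0,2]),
  (279,[0,0,3,2,1,0]),
  (287,[0,0,1,0,2,1])]

/-- part 2 of `k8Lev0Orb` -/
def k8Lev0OrbP2 : List (ℕ × List ℕ) := [
  (317,[0,0,0,1,4,1]),
  (618,[0,0,1,0,1,3]),
  (754,[0,0,3,0,2,3]),
  (973,[0,0,1,0,2,3]),
  (998,[0,0,2,1,0,1]),
  (1087,[0,0,2,1,0,4]),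
  (1141,[0,0,3,0,2,4]),
  (1190,[0,0,0,1,4,0])]

/-- certificate data -/
def k8Lev0Orb : List (ℕ × List ℕ) :=
  [k8Lev0OrbP0, k8Lev0OrbP1, k8Lev0OrbP2].flatten

/-- part 0 of `k8Lev0Wit` -/
def k8Lev0WitP0 : List (ℕ × List ℕ) := [
  (1,[0,0,0,0,0]),
  (0,[1,0,0,0,0]),
  (0,[0,1,0,0,0]),
  (0,[0,0,1,0,0]),
  (0,[0,0,0,1,0]),
  (0,[0,0,0,0,1]),
  (6,[0,0,0,0,0]),
  (5,[0,0,0,0,0]),
  (4,[0,0,0,0,0]),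
  (2,[0,0,0,0,0]),
  (3,[0,0,0,0,0]),
  (3,[0,0,0,1,1]),
  (26,[0,0,0,0,0]),
  (9,[0,0,0,0,0]),
  (22,[0,0,0,0,0]),
  (1,[0,0,0,0,0]),
  (12,[0,0,0,0,0]),
  (12,[0,0,0,1,1]),
  (25,[0,0,0,0,0]),
  (11,[0,0,0,0,0]),
  (17,[0,0,0,1,1]),
  (12,[0,0,0,1,1]),
  (1,[0,0,0,0,0]),
  (1,[0,0,0,1,1]),
  (7,[0,0,0,0,0]),
  (18,[0,0,0,0,0]),
  (1,[0,0,0,1,1]),
  (20,[0,0,0,0,0]),
  (17,[0,0,0,0,0]),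
  (17,[0,0,0,1,1]),
  (15,[0,0,0,0,0]),
  (19,[0,0,0,0,0]),
  (24,[0,0,0,0,0]),
  (13,[0,0,0,0,0]),
  (16,[0,0,0,0,0]),
  (16,[0,0,0,1,1]),
  (10,[0,0,0,0,0]),
  (8,[0,0,0,0,0]),
  (14,[0,0,0,0,0]),
  (21,[0,0,0,0,0]),
  (23,[0,0,0,0,0]),
  (23,[0,0,0,1,1]),
  (9,[0,0,0,1,0]),
  (7,[7,2,1,1,0]),
  (7,[9,2,0,0,1]),
  (7,[1,2,0,1,1]),
  (7,[3,0,1,0,0]),
  (7,[3,0,1,1,1]),
  (38,[0,0,0,0,0]),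
  (14,[8,2,1,0,1]),
  (8,[8,2,1,1,0]),
  (30,[0,0,0,0,0]),
  (8,[0,1,0,0,1]),
  (8,[0,1,0,1,0]),
  (56,[0,0,0,0,0]),
  (20,[8,0,0,0,1]),
  (35,[0,0,0,1,1]),
  (32,[2,2,0,1,0]),
  (40,[7,1,1,1,1]),
  (40,[7,1,1,0,0])]

/-- part 1 of `k8Lev0Wit` -/
def k8Lev0WitP1 : List (ℕ × List ℕ) := [
  (68,[0,0,0,0,0]),
  (44,[0,0,0,0,0]),
  (43,[0,0,0,0,0]),
  (34,[0,0,0,0,0]),
  (43,[3,0,1,0,0]),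
  (43,[3,0,1,1,1]),
  (58,[0,0,0,0,0]),
  (47,[0,0,0,1,1]),
  (13,[8,0,0,0,1]),
  (40,[6,2,1,1,0]),
  (32,[7,1,1,0,0]),
  (32,[7,1,1,1,1]),
  (60,[0,0,0,0,0]),
  (24,[8,0,0,1,0]),
  (19,[8,0,0,0,1]),
  (3,[0,0,0,1,1]),
  (2,[0,0,0,0,0]),
  (2,[0,0,0,1,1]),
  (0,[3,1,1,1,1]),
  (17,[6,2,1,0,1]),
  (11,[6,2,1,0,1]),
  (5,[0,0,0,0,0]),
  (36,[2,2,0,0,1]),
  (36,[2,2,0,1,0]),
  (2,[3,2,0,1,1]),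
  (33,[0,0,0,0,0]),
  (6,[0,0,0,1,1]),
  (68,[7,1,0,0,0]),
  (57,[0,0,0,0,0]),
  (57,[0,0,0,1,1]),
  (44,[1,0,1,1,0]),
  (54,[0,0,0,0,0]),
  (62,[0,0,0,0,0]),
  (64,[0,0,0,0,0]),
  (52,[0,0,0,0,0]),
  (52,[0,0,0,1,1]),
  (29,[0,0,0,0,0]),
  (16,[6,2,1,1,0]),
  (45,[0,0,0,1,1]),
  (36,[2,2,0,1,0]),
  (5,[0,0,0,0,0]),
  (5,[0,0,0,1,1]),
  (59,[0,0,0,0,0]),
  (2,[7,1,1,0,0]),
  (3,[0,0,0,0,0]),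
  (42,[0,0,0,1,1]),
  (4,[0,0,0,0,0]),
  (4,[0,0,0,1,1]),
  (65,[0,0,0,0,0]),
  (32,[0,0,0,0,0]),
  (40,[0,0,0,0,0]),
  (45,[2,2,0,1,0]),
  (35,[2,2,0,0,1]),
  (35,[2,2,0,1,0]),
  (27,[0,0,0,0,0]),
  (36,[0,0,0,0,0]),
  (12,[6,2,1,0,1]),
  (47,[0,0,0,0,0]),
  (22,[6,2,1,0,1]),
  (22,[6,2,1,1,0])]

/-- part 2 of `k8Lev0Wit` -/
def k8Lev0WitP2 : List (ℕ × List ℕ) := [
  (51,[0,0,0,0,0]),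
  (13,[2,2,0,0,1]),
  (47,[8,0,0,0,1]),
  (4,[0,0,0,0,0]),
  (42,[0,0,0,0,0]),
  (42,[0,0,0,1,1]),
  (39,[0,0,0,0,0]),
  (28,[0,0,0,0,0]),
  (49,[0,0,0,0,0]),
  (6,[0,0,0,0,0]),
  (63,[0,0,0,0,0]),
  (63,[0,0,0,1,1]),
  (55,[0,0,0,0,0]),
  (3,[2,2,0,0,1]),
  (2,[0,0,0,1,1]),
  (46,[9,0,0,1,0]),
  (19,[8,0,0,1,0]),
  (19,[8,0,0,0,1]),
  (31,[0,0,0,0,0]),
  (67,[0,0,0,0,0]),
  (57,[0,0,0,1,1]),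
  (63,[0,0,0,1,1]),
  (6,[0,0,0,0,0]),
  (6,[0,0,0,1,1]),
  (48,[0,0,0,0,0]),
  (4,[0,0,0,0,0]),
  (5,[0,0,0,1,1]),
  (35,[0,0,0,0,0]),
  (45,[0,0,0,0,0]),
  (45,[0,0,0,1,1]),
  (42,[7,1,1,0,1]),
  (66,[0,0,0,0,0]),
  (26,[3,1,0,1,1]),
  (37,[0,0,0,0,0]),
  (41,[0,0,0,0,0]),
  (41,[0,0,0,1,1]),
  (46,[0,0,0,0,0]),
  (61,[0,0,0,0,0]),
  (25,[1,0,0,1,1]),
  (50,[0,0,0,0,0]),
  (53,[0,0,0,0,0]),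
  (53,[0,0,0,1,1]),
  (11,[6,1,1,0,1]),
  (27,[2,0,1,0,1]),
  (27,[3,0,0,0,0]),
  (27,[1,2,0,0,0]),
  (27,[3,0,1,1,1]),
  (27,[3,0,1,0,0]),
  (82,[0,0,0,0,0]),
  (48,[7,2,1,0,0]),
  (30,[8,2,1,0,1]),
  (28,[8,1,1,0,1]),
  (28,[0,1,0,1,0]),
  (28,[0,1,0,0,1]),
  (79,[1,0,1,0,1]),
  (99,[9,0,1,0,1]),
  (70,[0,0,0,0,0]),
  (29,[8,1,1,1,0]),
  (29,[0,1,0,0,1]),
  (29,[0,1,0,1,0])]

/-- part 3 of `k8Lev0Wit` -/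
def k8Lev0WitP3 : List (ℕ × List ℕ) := [
  (17,[2,2,0,0,1]),
  (49,[8,2,1,1,0]),
  (28,[8,2,1,0,1]),
  (8,[0,0,0,0,0]),
  (30,[0,1,0,1,0]),
  (30,[0,1,0,0,1]),
  (74,[0,0,0,0,0]),
  (90,[0,0,0,0,0]),
  (31,[7,0,1,0,0]),
  (89,[0,0,0,0,0]),
  (31,[1,2,0,0,0]),
  (31,[1,2,0,1,1]),
  (67,[5,0,0,0,0]),
  (12,[6,2,1,1,0]),
  (36,[0,0,0,0,0]),
  (9,[7,1,1,1,1]),
  (11,[2,2,0,0,1]),
  (11,[2,2,0,1,0]),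
  (110,[0,0,0,0,0]),
  (52,[1,0,1,1,1]),
  (52,[4,2,0,1,0]),
  (33,[0,1,0,0,1]),
  (62,[4,2,0,1,0]),
  (62,[4,2,0,0,1]),
  (50,[1,2,0,1,1]),
  (43,[6,0,1,1,0]),
  (44,[6,0,1,0,1]),
  (10,[0,0,0,0,0]),
  (94,[3,0,1,1,1]),
  (94,[3,0,1,0,0]),
  (72,[0,0,0,0,0]),
  (22,[0,0,0,1,1]),
  (9,[0,0,0,0,0]),
  (24,[0,0,0,0,0]),
  (18,[7,1,1,0,0]),
  (18,[7,1,1,1,1]),
  (113,[5,0,1,1,0]),
  (40,[0,0,0,0,0]),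
  (32,[0,0,0,1,1]),
  (16,[7,1,1,1,1]),
  (13,[7,1,1,0,0]),
  (13,[7,1,1,1,1]),
  (86,[9,0,0,0,0]),
  (26,[3,2,0,1,1]),
  (66,[0,2,1,0,1]),
  (25,[0,0,0,0,0]),
  (58,[6,0,0,1,0]),
  (58,[6,0,0,0,1]),
  (49,[1,2,0,1,1]),
  (83,[0,0,0,0,0]),
  (84,[0,0,0,0,0]),
  (101,[0,0,0,0,0]),
  (84,[0,0,0,1,0]),
  (84,[0,0,0,0,1]),
  (104,[0,0,0,0,0]),
  (79,[0,0,0,0,0]),
  (95,[0,0,0,0,0]),
  (39,[1,2,0,1,1]),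
  (87,[0,0,0,0,0]),
  (87,[0,0,0,1,1])]

/-- part 4 of `k8Lev0Wit` -/
def k8Lev0WitP4 : List (ℕ × List ℕ) := [
  (63,[7,0,1,0,0]),
  (1,[0,0,0,1,1]),
  (18,[0,0,0,1,1]),
  (11,[8,0,0,0,1]),
  (9,[2,2,0,1,0]),
  (9,[2,2,0,0,1]),
  (91,[0,0,0,0,0]),
  (73,[9,2,0,0,0]),
  (53,[3,1,0,0,0]),
  (58,[6,0,0,0,1]),
  (25,[0,0,0,0,0]),
  (25,[0,0,0,1,1]),
  (69,[9,0,1,0,0]),
  (42,[7,1,1,1,1]),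
  (46,[9,0,0,0,1]),
  (17,[0,0,0,1,1]),
  (20,[0,0,0,0,0]),
  (20,[0,0,0,1,1]),
  (41,[7,0,1,1,1]),
  (86,[0,0,0,0,0]),
  (10,[0,0,0,1,1]),
  (94,[0,0,0,0,0]),
  (10,[3,0,1,0,0]),
  (10,[3,0,1,1,1]),
  (71,[0,0,0,0,0]),
  (34,[6,0,0,1,1]),
  (34,[6,0,1,1,0]),
  (44,[0,0,0,0,1]),
  (96,[0,0,0,0,0]),
  (96,[0,0,0,1,1]),
  (73,[0,0,0,0,0]),
  (45,[8,0,0,0,1]),
  (16,[0,0,0,0,0]),
  (18,[7,1,1,1,1]),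
  (24,[0,0,0,0,0]),
  (24,[0,0,0,1,1]),
  (28,[1,0,0,0,0]),
  (46,[2,2,1,1,1]),
  (42,[2,2,1,0,1]),
  (22,[2,2,1,0,1]),
  (47,[7,1,0,0,0]),
  (47,[7,1,0,1,1]),
  (99,[0,0,0,0,0]),
  (35,[7,1,1,1,1]),
  (20,[6,2,1,0,1]),
  (19,[0,0,0,0,0]),
  (46,[2,2,0,0,0]),
  (46,[2,2,0,1,1]),
  (87,[0,1,0,0,0]),
  (62,[8,0,1,1,1]),
  (54,[8,0,1,0,0]),
  (111,[2,2,0,1,0]),
  (100,[0,0,0,0,0]),
  (100,[0,0,0,1,1]),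
  (96,[5,2,1,0,1]),
  (69,[0,0,0,0,0]),
  (21,[0,0,0,1,1]),
  (60,[9,0,0,1,1]),
  (67,[0,1,0,1,0]),
  (67,[0,1,0,0,1])]

/-- part 5 of `k8Lev0Wit` -/
def k8Lev0WitP5 : List (ℕ × List ℕ) := [
  (77,[0,0,0,0,0]),
  (25,[5,0,0,0,0]),
  (61,[6,0,1,0,1]),
  (26,[0,0,0,0,0]),
  (56,[0,2,1,1,1]),
  (56,[0,2,1,0,0]),
  (97,[0,0,0,0,0]),
  (112,[0,0,0,0,0]),
  (114,[0,0,0,0,0]),
  (115,[0,0,0,0,0]),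
  (106,[0,0,0,0,0]),
  (106,[0,0,0,1,1]),
  (95,[0,0,0,1,1]),
  (6,[5,2,1,1,1]),
  (33,[5,2,1,1,1]),
  (113,[6,0,1,1,0]),
  (15,[0,0,0,0,0]),
  (15,[0,0,0,1,1]),
  (93,[0,0,0,0,0]),
  (29,[5,2,1,0,0]),
  (41,[1,0,0,0,0]),
  (56,[0,2,1,0,0]),
  (26,[0,0,0,0,0]),
  (26,[0,0,0,1,1]),
  (20,[7,1,0,0,0]),
  (30,[5,2,1,0,0]),
  (48,[3,1,1,0,1]),
  (54,[0,0,1,0,0]),
  (108,[0,0,0,0,0]),
  (108,[0,0,0,1,1]),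
  (80,[0,0,0,0,0]),
  (50,[5,0,1,1,0]),
  (116,[7,0,1,0,0]),
  (102,[0,0,0,0,0]),
  (116,[9,2,1,1,0]),
  (116,[9,2,1,0,1]),
  (90,[1,0,1,0,1]),
  (74,[1,2,1,0,0]),
  (109,[6,1,1,0,1]),
  (53,[0,2,1,1,1]),
  (50,[0,2,1,0,0]),
  (50,[0,2,1,1,1]),
  (76,[0,0,0,0,0]),
  (111,[0,0,0,0,0]),
  (23,[0,0,0,0,0]),
  (107,[7,1,0,1,1]),
  (14,[0,0,0,0,0]),
  (14,[0,0,0,1,1]),
  (84,[8,0,0,1,1]),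
  (81,[0,0,0,0,0]),
  (103,[9,1,0,1,0]),
  (41,[6,0,0,1,0]),
  (37,[6,0,0,0,1]),
  (37,[6,0,0,1,0]),
  (98,[0,0,0,0,0]),
  (37,[3,2,1,1,0]),
  (115,[9,2,1,0,1]),
  (106,[7,0,1,1,1]),
  (115,[7,0,1,0,0]),
  (115,[7,0,1,1,1])]

/-- part 6 of `k8Lev0Wit` -/
def k8Lev0WitP6 : List (ℕ × List ℕ) := [
  (85,[0,0,0,0,0]),
  (78,[0,0,0,0,0]),
  (107,[0,1,1,1,1]),
  (49,[2,0,0,0,0]),
  (105,[0,1,1,1,1]),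
  (105,[0,1,1,0,0]),
  (92,[0,0,0,0,0]),
  (116,[0,0,0,0,0]),
  (50,[6,0,1,1,0]),
  (103,[0,0,0,0,0]),
  (109,[0,0,0,0,0]),
  (109,[0,0,0,1,1]),
  (47,[3,2,0,0,0]),
  (71,[6,2,0,1,1]),
  (15,[0,0,0,1,1]),
  (62,[6,0,1,0,1]),
  (33,[5,2,1,0,0]),
  (33,[5,2,1,1,1]),
  (45,[0,1,0,0,1]),
  (57,[0,1,0,0,1]),
  (67,[0,1,0,0,1]),
  (23,[0,0,0,1,1]),
  (21,[0,0,0,0,0]),
  (21,[0,0,0,1,1]),
  (13,[5,0,1,0,0]),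
  (65,[1,1,1,1,1]),
  (113,[0,0,0,0,0]),
  (15,[0,0,0,0,0]),
  (113,[6,0,1,0,1]),
  (113,[6,0,1,1,0]),
  (89,[7,2,0,0,0]),
  (23,[8,0,1,0,1]),
  (111,[8,0,1,1,0]),
  (100,[7,0,1,1,1]),
  (111,[0,2,1,0,0]),
  (111,[0,2,1,1,1]),
  (75,[0,0,0,0,0]),
  (115,[2,2,0,1,1]),
  (37,[0,2,1,1,0]),
  (109,[3,2,0,0,1]),
  (103,[3,2,0,1,0]),
  (103,[3,2,0,0,1]),
  (16,[5,1,1,1,1]),
  (68,[3,0,0,0,1]),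
  (63,[0,1,0,1,0]),
  (105,[7,0,0,1,0]),
  (49,[0,1,0,1,0]),
  (49,[0,1,0,0,1]),
  (88,[0,0,0,0,0]),
  (64,[7,0,0,1,1]),
  (105,[0,0,0,0,0]),
  (14,[2,2,0,0,0]),
  (107,[0,0,0,0,0]),
  (107,[0,0,0,1,1]),
  (118,[0,0,0,0,0]),
  (15,[1,0,1,1,1]),
  (71,[0,0,0,1,0]),
  (69,[0,1,0,1,0]),
  (69,[8,1,1,0,1]),
  (69,[8,1,1,1,0])]

/-- part 7 of `k8Lev0Wit` -/
def k8Lev0WitP7 : List (ℕ × List ℕ) := [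
  (18,[1,1,1,1,1]),
  (41,[7,2,0,1,0]),
  (29,[0,0,0,1,1]),
  (74,[2,0,1,1,1]),
  (70,[0,1,0,1,0]),
  (70,[0,1,0,0,1]),
  (22,[1,2,0,1,1]),
  (21,[0,0,0,0,1]),
  (69,[0,0,0,0,1]),
  (78,[4,0,0,0,0]),
  (71,[4,2,1,1,1]),
  (71,[4,2,1,0,0]),
  (12,[0,2,0,1,1]),
  (72,[1,1,1,0,1]),
  (72,[1,1,0,0,0]),
  (72,[0,0,0,1,0]),
  (72,[0,2,1,1,0]),
  (72,[0,2,1,0,1]),
  (120,[5,2,0,1,1]),
  (51,[3,1,0,1,1]),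
  (117,[0,0,0,0,0]),
  (73,[0,2,1,0,1]),
  (73,[0,0,0,0,1]),
  (73,[0,0,0,1,0]),
  (43,[5,0,1,1,0]),
  (109,[3,2,0,0,0]),
  (74,[0,2,1,0,0]),
  (70,[7,1,1,0,1]),
  (74,[0,0,0,1,0]),
  (74,[0,0,0,0,1]),
  (115,[3,2,1,0,1]),
  (89,[0,0,0,0,1]),
  (89,[3,0,0,1,0]),
  (75,[6,0,1,1,0]),
  (75,[8,1,1,1,0]),
  (75,[8,1,1,0,1]),
  (111,[1,0,0,0,0]),
  (80,[6,2,0,1,1]),
  (80,[5,2,0,1,1]),
  (76,[5,2,0,0,1]),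
  (76,[0,2,1,0,1]),
  (76,[0,2,1,1,0]),
  (78,[9,0,0,1,1]),
  (85,[2,2,1,0,0]),
  (77,[0,2,1,1,1]),
  (80,[9,1,0,1,1]),
  (77,[0,0,0,1,0]),
  (77,[0,0,0,0,1]),
  (124,[4,2,0,1,1]),
  (107,[2,2,0,0,0]),
  (78,[7,0,1,0,0]),
  (71,[3,1,1,1,1]),
  (78,[3,0,1,0,0]),
  (78,[3,0,1,1,1]),
  (52,[4,2,0,0,0]),
  (95,[5,1,0,1,0]),
  (79,[5,1,0,0,1]),
  (79,[0,0,0,0,1]),
  (79,[0,2,1,0,1]),
  (79,[0,2,1,1,0])]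

/-- part 8 of `k8Lev0Wit` -/
def k8Lev0WitP8 : List (ℕ × List ℕ) := [
  (114,[9,0,1,1,0]),
  (39,[9,2,0,0,1]),
  (76,[1,2,0,1,0]),
  (77,[9,1,0,0,0]),
  (80,[0,2,1,1,0]),
  (80,[0,2,1,0,1]),
  (122,[9,1,1,1,1]),
  (103,[5,2,1,0,0]),
  (81,[7,0,1,0,0]),
  (117,[3,1,0,1,0]),
  (81,[1,2,0,1,1]),
  (81,[1,2,0,0,0]),
  (102,[3,2,1,1,0]),
  (125,[5,0,0,0,1]),
  (82,[0,0,1,1,0]),
  (82,[3,0,1,0,0]),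
  (82,[0,0,1,0,0]),
  (82,[0,0,1,1,1]),
  (81,[4,2,0,1,0]),
  (84,[5,1,0,1,0]),
  (83,[5,1,0,0,1]),
  (121,[0,0,0,0,0]),
  (83,[5,2,0,0,1]),
  (83,[5,2,0,1,0]),
  (61,[1,0,1,1,1]),
  (119,[0,0,0,0,0]),
  (38,[0,0,0,1,1]),
  (123,[0,0,0,0,0]),
  (38,[0,0,0,1,0]),
  (38,[0,0,0,0,1]),
  (57,[6,0,0,0,0]),
  (87,[9,2,0,1,0]),
  (122,[9,0,0,0,0]),
  (126,[9,1,0,1,0]),
  (122,[9,1,0,0,1]),
  (122,[9,1,0,1,0]),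
  (8,[3,1,0,1,1]),
  (10,[0,0,1,1,0]),
  (86,[0,0,1,1,0]),
  (98,[3,0,0,1,1]),
  (86,[0,0,0,0,1]),
  (86,[0,0,0,1,0]),
  (30,[2,0,1,1,1]),
  (126,[1,1,0,1,1]),
  (126,[0,0,0,1,1]),
  (87,[1,2,0,0,0]),
  (39,[0,0,0,0,0]),
  (39,[0,0,0,1,1]),
  (64,[9,1,1,1,1]),
  (98,[8,1,0,1,1]),
  (98,[5,0,1,1,0]),
  (88,[4,2,1,1,1]),
  (88,[5,2,0,1,0]),
  (88,[5,2,0,0,1]),
  (62,[5,1,1,1,1]),
  (91,[7,0,1,1,1]),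
  (75,[6,0,0,0,0]),
  (31,[0,0,0,0,0]),
  (89,[1,2,0,1,1]),
  (89,[1,2,0,0,0])]

/-- part 9 of `k8Lev0Wit` -/
def k8Lev0WitP9 : List (ℕ × List ℕ) := [
  (66,[4,0,1,1,1]),
  (97,[4,2,1,1,0]),
  (124,[3,1,0,0,1]),
  (110,[3,1,1,0,1]),
  (124,[7,1,0,0,1]),
  (124,[7,1,0,1,0]),
  (108,[4,2,0,0,1]),
  (82,[4,1,1,1,0]),
  (125,[2,1,0,1,0]),
  (91,[0,0,1,1,1]),
  (97,[3,1,1,1,0]),
  (97,[3,1,1,0,1]),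
  (116,[4,1,0,1,0]),
  (121,[0,0,0,0,0]),
  (121,[0,2,1,0,0]),
  (92,[0,2,1,1,0]),
  (92,[1,2,0,0,0]),
  (92,[1,2,0,1,1]),
  (33,[2,0,0,1,1]),
  (118,[0,2,1,0,1]),
  (101,[0,0,1,1,1]),
  (93,[0,0,0,0,1]),
  (119,[1,2,1,0,1]),
  (119,[1,2,1,1,0]),
  (103,[0,2,1,0,1]),
  (88,[1,2,0,0,0]),
  (96,[3,0,1,1,0]),
  (43,[0,0,0,0,0]),
  (34,[3,0,1,1,1]),
  (34,[3,0,1,0,0]),
  (109,[4,2,0,0,1]),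
  (76,[9,0,0,0,0]),
  (39,[0,0,0,1,1]),
  (122,[0,0,0,0,0]),
  (126,[0,0,0,0,0]),
  (126,[0,0,0,1,1]),
  (127,[0,0,0,0,0]),
  (120,[0,0,0,0,0]),
  (94,[6,0,1,1,1]),
  (96,[0,0,0,1,0]),
  (44,[0,0,0,0,0]),
  (44,[0,0,0,1,1]),
  (117,[7,2,0,1,1]),
  (110,[1,2,0,0,0]),
  (110,[5,1,0,0,0]),
  (97,[5,2,0,1,0]),
  (91,[8,0,1,0,0]),
  (91,[8,0,1,1,1]),
  (112,[4,2,0,1,1]),
  (96,[0,0,0,0,0]),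
  (88,[6,2,0,0,1]),
  (86,[3,0,0,0,0]),
  (98,[6,0,1,1,0]),
  (98,[6,0,1,0,1]),
  (119,[2,0,1,1,1]),
  (114,[7,0,0,1,0]),
  (112,[7,0,0,0,1]),
  (116,[5,0,1,0,1]),
  (102,[2,1,0,1,1]),
  (102,[2,1,0,0,0])]

/-- part 10 of `k8Lev0Wit` -/
def k8Lev0WitP10 : List (ℕ × List ℕ) := [
  (94,[7,2,0,0,0]),
  (60,[3,1,0,0,1]),
  (108,[8,0,1,1,1]),
  (65,[7,0,1,0,0]),
  (48,[0,0,0,0,0]),
  (48,[0,0,0,1,1]),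
  (107,[7,2,1,1,0]),
  (92,[1,2,0,1,0]),
  (93,[0,0,1,0,0]),
  (38,[0,0,0,0,0]),
  (123,[0,0,0,0,1]),
  (123,[0,0,0,1,0]),
  (125,[0,1,1,0,0]),
  (58,[1,1,1,0,0]),
  (104,[5,0,1,0,1]),
  (55,[0,0,0,0,0]),
  (99,[2,1,0,0,0]),
  (99,[2,1,0,1,1]),
  (40,[0,0,0,1,1]),
  (104,[6,0,1,0,1]),
  (58,[9,2,0,1,1]),
  (61,[0,0,0,0,0]),
  (66,[5,0,1,0,0]),
  (66,[5,0,1,1,1]),
  (34,[4,2,0,0,0]),
  (102,[7,0,0,0,0]),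
  (102,[6,2,0,1,0]),
  (104,[0,0,1,0,0]),
  (112,[4,1,0,1,1]),
  (112,[4,1,0,0,0]),
  (83,[0,1,0,1,1]),
  (63,[1,0,0,1,1]),
  (68,[0,0,0,1,1]),
  (67,[9,1,1,0,1]),
  (60,[0,2,0,0,0]),
  (60,[0,2,0,1,1]),
  (101,[5,1,1,0,1]),
  (56,[5,2,1,1,1]),
  (127,[3,2,1,0,1]),
  (59,[7,0,1,0,0]),
  (51,[0,0,0,0,0]),
  (51,[0,0,0,1,1]),
  (3,[5,2,0,0,0]),
  (108,[5,0,0,0,1]),
  (60,[0,2,0,1,1]),
  (57,[2,2,0,1,1]),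
  (68,[0,0,0,0,0]),
  (68,[0,0,0,1,1]),
  (123,[4,0,0,1,0]),
  (100,[9,1,1,1,0]),
  (100,[3,1,1,1,0]),
  (108,[0,0,1,1,1]),
  (54,[0,0,0,0,0]),
  (54,[0,0,0,1,1]),
  (32,[9,1,1,1,0]),
  (127,[9,2,1,1,0]),
  (56,[8,0,1,1,0]),
  (66,[5,0,1,1,1]),
  (61,[0,0,0,0,0]),
  (61,[0,0,0,1,1])]

/-- part 11 of `k8Lev0Wit` -/
def k8Lev0WitP11 : List (ℕ × List ℕ) := [
  (105,[7,2,0,0,0]),
  (124,[0,0,0,0,0]),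
  (97,[1,1,0,1,0]),
  (90,[8,0,1,1,1]),
  (125,[0,0,0,0,0]),
  (125,[0,0,0,1,1]),
  (35,[5,1,0,1,0]),
  (113,[1,2,0,1,0]),
  (65,[6,1,1,0,1]),
  (48,[7,1,1,1,1]),
  (65,[0,2,1,1,1]),
  (65,[0,2,1,0,0]),
  (24,[6,0,1,0,1]),
  (70,[0,2,1,0,0]),
  (99,[9,1,1,0,1]),
  (112,[6,0,1,0,1]),
  (104,[1,1,1,0,0]),
  (104,[1,1,1,1,1]),
  (121,[1,2,1,1,1]),
  (105,[9,2,1,0,1]),
  (64,[0,0,0,1,1]),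
  (52,[6,0,1,1,0]),
  (64,[6,0,1,0,1]),
  (64,[6,0,1,1,0]),
  (5,[9,1,0,0,1]),
  (117,[1,0,0,0,0]),
  (51,[0,0,0,1,1]),
  (114,[0,0,1,1,1]),
  (127,[3,2,1,1,0]),
  (127,[3,2,1,0,1]),
  (4,[5,2,0,0,0]),
  (55,[9,1,0,0,1]),
  (59,[7,0,0,0,0]),
  (51,[0,0,0,0,0]),
  (59,[7,0,1,1,1]),
  (59,[7,0,1,0,0]),
  (19,[1,0,1,1,1]),
  (59,[9,1,1,1,0]),
  (55,[7,0,1,0,0]),
  (99,[6,2,0,0,1]),
  (55,[7,0,0,0,0]),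
  (55,[7,0,0,1,1]),
  (36,[4,2,0,0,1]),
  (53,[2,1,0,0,1]),
  (73,[0,0,0,1,1]),
  (81,[5,0,0,1,1]),
  (117,[0,0,0,1,0]),
  (117,[0,0,0,0,1]),
  (106,[9,2,1,1,0]),
  (101,[1,0,1,1,0]),
  (118,[6,0,0,0,1]),
  (118,[3,0,1,1,1]),
  (118,[0,0,1,1,1]),
  (118,[0,0,1,0,0]),
  (70,[0,2,0,1,1]),
  (123,[5,1,0,1,1]),
  (123,[1,2,0,1,1]),
  (119,[5,2,0,0,1]),
  (93,[8,1,0,0,0]),
  (93,[8,1,0,1,1])]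

/-- part 12 of `k8Lev0Wit` -/
def k8Lev0WitP12 : List (ℕ × List ℕ) := [
  (100,[2,1,0,1,1]),
  (94,[0,0,1,0,1]),
  (120,[3,0,0,0,0]),
  (120,[6,0,1,0,1]),
  (120,[0,0,1,1,1]),
  (120,[0,0,1,0,0]),
  (54,[4,2,0,1,0]),
  (93,[8,2,0,0,1]),
  (92,[0,2,1,0,0]),
  (83,[0,0,0,0,0]),
  (121,[5,2,0,1,0]),
  (121,[5,2,0,0,1]),
  (53,[6,1,1,0,0]),
  (77,[0,0,0,0,0]),
  (85,[2,0,0,0,0]),
  (95,[0,0,0,0,0]),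
  (85,[9,2,0,1,1]),
  (85,[9,2,0,0,0]),
  (23,[3,2,1,0,0]),
  (38,[1,2,0,0,0]),
  (119,[1,2,0,0,0]),
  (84,[0,0,0,0,0]),
  (101,[0,0,0,0,1]),
  (101,[0,0,0,1,0]),
  (21,[3,0,0,0,1]),
  (31,[5,2,1,1,1]),
  (90,[5,0,0,1,1]),
  (125,[1,2,0,0,1]),
  (90,[2,0,1,1,0]),
  (90,[2,0,1,0,1]),
  (14,[3,2,0,0,0]),
  (75,[1,2,1,1,1]),
  (91,[2,1,1,0,0]),
  (124,[5,2,0,1,1]),
  (110,[0,0,0,0,0]),
  (110,[0,0,0,1,1]),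
  (37,[6,1,1,1,1]),
  (122,[1,2,0,0,1]),
  (87,[0,0,0,0,0]),
  (85,[9,2,0,0,0]),
  (95,[0,0,0,0,0]),
  (95,[0,0,0,1,1]),
  (126,[4,1,0,1,1]),
  (106,[7,0,1,0,1]),
  (106,[8,0,0,1,1]),
  (127,[8,1,1,0,1]),
  (114,[8,0,0,1,1]),
  (114,[8,0,0,0,0])]

/-- certificate data -/
def k8Lev0Wit : List (ℕ × List ℕ) :=
  [k8Lev0WitP0, k8Lev0WitP1, k8Lev0WitP2, k8Lev0WitP3, k8Lev0WitP4, k8Lev0WitP5, k8Lev0WitP6, k8Lev0WitP7, k8Lev0WitP8, k8Lev0WitP9, k8Lev0WitP10, k8Lev0WitP11, k8Lev0WitP12].flatten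

/-- a level -/
def k8Lev0 : Lev :=
  { base := 39, new := [([21,197,129,31,663],[664,32,130,198,22])], orbit := k8Lev0Orb, wit := k8Lev0Wit }

/-- part 0 of `k8Lev1Orb` -/
def k8Lev1OrbP0 : List (ℕ × List ℕ) := [
  (279,[]),
  (888,[0]),
  (627,[0,0]),
  (636,[0,1]),
  (783,[0,2]),
  (973,[0,3]),
  (287,[0,1,3]),
  (402,[0,2,0]),
  (444,[0,2,1]),
  (618,[0,0,0])]

/-- certificate data -/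
def k8Lev1Orb : List (ℕ × List ℕ) :=
  [k8Lev1OrbP0].flatten

/-- part 0 of `k8Lev1Wit` -/
def k8Lev1WitP0 : List (ℕ × List ℕ) := [
  (1,[0,0,0,0]),
  (0,[1,0,0,0]),
  (0,[0,1,0,0]),
  (0,[0,0,1,0]),
  (0,[0,0,0,1]),
  (2,[0,0,0,0]),
  (3,[0,0,0,0]),
  (4,[0,0,0,0]),
  (5,[0,0,0,0]),
  (5,[0,0,1,1]),
  (9,[0,0,0,0]),
  (9,[1,0,1,1]),
  (2,[0,0,0,1]),
  (2,[2,1,1,0]),
  (2,[2,1,0,1]),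
  (0,[1,0,0,0]),
  (1,[0,0,1,1]),
  (3,[0,1,1,1]),
  (6,[0,0,0,0]),
  (6,[0,0,1,1]),
  (7,[0,0,0,0]),
  (8,[0,0,0,0]),
  (1,[0,0,0,0]),
  (8,[0,1,1,1]),
  (8,[0,1,0,0]),
  (4,[1,1,1,0]),
  (6,[0,0,1,1]),
  (8,[0,1,0,0]),
  (1,[0,0,0,0]),
  (1,[0,0,1,1]),
  (5,[0,1,1,0]),
  (5,[0,0,0,0]),
  (6,[0,1,0,0]),
  (3,[0,0,0,0]),
  (3,[0,0,1,1]),
  (8,[2,1,0,0]),
  (7,[2,1,1,1]),
  (9,[2,0,1,0]),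
  (7,[2,1,0,1]),
  (7,[2,1,1,0]),
  (6,[2,0,1,0]),
  (4,[0,0,1,1]),
  (5,[0,1,0,0]),
  (4,[0,1,1,1]),
  (4,[0,1,0,0]),
  (3,[1,0,0,0]),
  (2,[1,0,1,1]),
  (7,[1,1,0,1]),
  (9,[0,1,1,1]),
  (9,[0,1,0,0])]

/-- certificate data -/
def k8Lev1Wit : List (ℕ × List ℕ) :=
  [k8Lev1WitP0].flatten

/-- a level -/
def k8Lev1 : Lev :=
  { base := 279, new := [([21,17,15,147,111,901],[902,112,148,16,18,22])], orbit := k8Lev1Orb, wit := k8Lev1Wit }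

/-- part 0 of `k8Lev2Orb` -/
def k8Lev2OrbP0 : List (ℕ × List ℕ) := [
  (83,[]),
  (163,[0]),
  (321,[0,1])]

/-- certificate data -/
def k8Lev2Orb : List (ℕ × List ℕ) :=
  [k8Lev2OrbP0].flatten

/-- part 0 of `k8Lev2Wit` -/
def k8Lev2WitP0 : List (ℕ × List ℕ) := [
  (1,[0,0,0]),
  (0,[1,0,0]),
  (0,[0,1,0]),
  (0,[0,0,1]),
  (0,[0,1,1]),
  (2,[0,0,0]),
  (1,[0,0,1]),
  (1,[0,1,0]),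
  (2,[1,0,1]),
  (1,[0,0,0]),
  (2,[0,1,0]),
  (2,[0,0,1])]

/-- certificate data -/
def k8Lev2Wit : List (ℕ × List ℕ) :=
  [k8Lev2WitP0].flatten

/-- a level -/
def k8Lev2 : Lev :=
  { base := 83, new := [([201,189,57,593],[594,58,190,202])], orbit := k8Lev2Orb, wit := k8Lev2Wit }

/-- part 0 of `k8Lev3Orb` -/
def k8Lev3OrbP0 : List (ℕ × List ℕ) := [
  (100,[]),
  (283,[0])]

/-- certificate data -/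
def k8Lev3Orb : List (ℕ × List ℕ) :=
  [k8Lev3OrbP0].flatten

/-- part 0 of `k8Lev3Wit` -/
def k8Lev3WitP0 : List (ℕ × List ℕ) := [
  (1,[0,0]),
  (0,[1,0]),
  (0,[0,1]),
  (0,[0,0]),
  (1,[0,1]),
  (1,[1,0])]

/-- certificate data -/
def k8Lev3Wit : List (ℕ × List ℕ) :=
  [k8Lev3WitP0].flatten

/-- a level -/
def k8Lev3 : Lev :=
  { base := 100, new := [([21,19,15,119,239],[240,120,16,20,22])], orbit := k8Lev3Orb, wit := k8Lev3Wit }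

/-- part 0 of `k8Lev4Orb` -/
def k8Lev4OrbP0 : List (ℕ × List ℕ) := [
  (89,[]),
  (520,[0])]

/-- certificate data -/
def k8Lev4Orb : List (ℕ × List ℕ) :=
  [k8Lev4OrbP0].flatten

/-- part 0 of `k8Lev4Wit` -/
def k8Lev4WitP0 : List (ℕ × List ℕ) := [
  (1,[0]),
  (0,[1]),
  (0,[0]),
  (1,[1])]

/-- certificate data -/
def k8Lev4Wit : List (ℕ × List ℕ) :=
  [k8Lev4WitP0].flatten

/-- a level -/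
def k8Lev4 : Lev :=
  { base := 89, new := [([7,59,593],[594,60,8])], orbit := k8Lev4Orb, wit := k8Lev4Wit }

/-- part 0 of `k8Lev5Orb` -/
def k8Lev5OrbP0 : List (ℕ × List ℕ) := [
  (0,[]),
  (302,[0])]

/-- certificate data -/
def k8Lev5Orb : List (ℕ × List ℕ) :=
  [k8Lev5OrbP0].flatten

/-- part 0 of `k8Lev5Wit` -/
def k8Lev5WitP0 : List (ℕ × List ℕ) := [
  (1,[]),
  (0,[])]

/-- certificate data -/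
def k8Lev5Wit : List (ℕ × List ℕ) :=
  [k8Lev5WitP0].flatten

/-- a level -/
def k8Lev5 : Lev :=
  { base := 0, new := [([137,2,345],[346,3,138])], orbit := k8Lev5Orb, wit := k8Lev5Wit }

/-- chain of state 8 -/
def k8 : List Lev := [k8Lev0,k8Lev1,k8Lev2,k8Lev3,k8Lev4,k8Lev5]

/-- levels of state 0 -/
def k0 : List Lev := k0Lev :: uChain

end CfsgLib.HN
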