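import Cfsg.Agent.Lib.DCoset.Orbits
import Cfsg.Agent.Lib.HN.ChainData

/-!
State 1.
-/

set_option autoImplicit false
set_option linter.style.longLine false

namespace CfsgLib.HN
open CfsgLib.CosetEnum CfsgLib.DCoset CfsgLib.DCoset.Space
/-- part 0 of `tree1` -/
def tree1P0 : List (Bool × ℕ × ℕ) := [
  (true,0,0),
  (true,1,0),
  (true,2,0),
  (true,3,0),
  (true,4,0),
  (false,0,5),
  (false,0,55),
  (false,1,55),
  (false,2,55),
  (false,3,55),
  (false,4,55),
  (false,5,55),
  (false,0,383),
  (false,1,383),
  (false,2,383),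
  (false,3,383),
  (false,4,383),
  (false,5,383),
  (false,0,12),
  (false,1,12),
  (false,2,12),
  (false,4,12),
  (false,5,12),
  (false,0,196),
  (false,2,196),
  (false,3,196),
  (false,4,196),
  (false,0,235),
  (false,1,235),
  (false,2,235),
  (false,3,235),
  (false,5,235),
  (false,0,22),
  (false,1,22),
  (false,3,22),
  (false,1,262),
  (false,3,262),
  (false,4,262),
  (false,4,188),
  (false,2,340),
  (false,5,62),
  (false,3,54),
  (false,0,171),
  (false,5,171),
  (false,0,479),
  (false,2,550),
  (false,0,364),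
  (false,3,268),
  (false,1,95),
  (false,2,95),
  (false,0,341),
  (false,4,341),
  (false,0,63),
  (false,0,23),
  (true,5,0),
  (false,0,10),
  (false,1,10),
  (false,0,185),
  (false,1,185),
  (false,2,185),
  (false,3,185),
  (false,4,185),
  (false,5,185),
  (false,0,481),
  (false,2,481),
  (false,4,481),
  (false,0,366),
  (false,0,378),
  (false,1,378),
  (false,2,378),
  (false,3,378),
  (false,0,181),
  (false,4,181),
  (false,0,82),
  (false,1,82),
  (false,2,82),
  (false,4,82),
  (false,0,434),
  (false,1,434),
  (false,3,434),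
  (false,4,434),
  (false,0,222),
  (false,1,222),
  (false,2,222),
  (false,3,222),
  (false,1,48),
  (false,0,246),
  (false,1,381),
  (false,4,381),
  (false,0,69),
  (false,2,69),
  (false,3,69),
  (false,5,69),
  (false,0,98),
  (false,0,116),
  (false,1,385),
  (false,4,385),
  (false,3,232),
  (false,1,247),
  (false,3,247)]

/-- part 1 of `tree1` -/
def tree1P1 : List (Bool × ℕ × ℕ) := [
  (false,0,162),
  (false,5,162),
  (false,0,74),
  (false,1,74),
  (true,6,0),
  (false,0,4),
  (false,0,31),
  (false,1,31),
  (false,2,31),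
  (false,3,31),
  (false,4,31),
  (false,5,31),
  (false,0,284),
  (false,1,284),
  (false,2,284),
  (false,3,284),
  (false,4,284),
  (false,5,284),
  (false,0,6),
  (false,1,6),
  (false,2,6),
  (false,4,6),
  (false,5,6),
  (false,0,101),
  (false,2,101),
  (false,3,101),
  (false,4,101),
  (false,0,190),
  (false,1,190),
  (false,2,190),
  (false,3,190),
  (false,5,190),
  (false,0,14),
  (false,1,14),
  (false,3,14),
  (false,1,195),
  (false,3,195),
  (false,4,195),
  (false,4,66),
  (false,2,408),
  (false,5,38),
  (false,3,30),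
  (false,0,78),
  (false,5,78),
  (false,0,399),
  (false,2,391),
  (false,0,410),
  (false,3,206),
  (false,1,204),
  (false,2,204),
  (false,0,409),
  (false,4,409),
  (false,0,39),
  (false,0,15),
  (true,7,0),
  (false,0,7),
  (false,1,7),
  (false,2,7),
  (false,3,7),
  (false,4,7),
  (false,5,7),
  (false,0,77),
  (false,1,77),
  (false,2,77),
  (false,4,77),
  (false,0,544),
  (false,1,544),
  (false,3,544),
  (false,4,544),
  (false,5,544),
  (false,0,29),
  (false,1,29),
  (false,2,29),
  (false,3,29),
  (false,4,29),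
  (false,5,29),
  (false,0,28),
  (false,2,28),
  (false,4,28),
  (false,0,70),
  (false,2,70),
  (false,3,70),
  (false,4,70),
  (false,5,70),
  (false,1,80),
  (false,2,80),
  (false,4,80),
  (false,0,352),
  (false,3,352),
  (false,4,352),
  (false,1,135),
  (false,2,135),
  (false,3,35),
  (false,1,351),
  (false,2,351),
  (false,2,43),
  (false,0,380),
  (false,1,380),
  (false,0,8),
  (false,0,121)]

/-- part 2 of `tree1` -/
def tree1P2 : List (Bool × ℕ × ℕ) := [
  (false,0,113),
  (false,1,114),
  (false,2,114),
  (false,0,234),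
  (true,8,0),
  (false,0,85),
  (false,1,85),
  (false,2,85),
  (false,3,85),
  (false,4,85),
  (false,5,85),
  (false,0,965),
  (false,1,965),
  (false,2,965),
  (false,3,965),
  (false,4,965),
  (false,0,297),
  (false,1,297),
  (false,3,297),
  (false,4,297),
  (false,5,297),
  (false,0,310),
  (false,1,310),
  (false,2,310),
  (false,3,310),
  (false,4,310),
  (false,5,310),
  (false,0,208),
  (false,2,208),
  (false,4,208),
  (false,5,208),
  (false,0,539),
  (false,1,539),
  (false,2,539),
  (false,3,539),
  (false,4,539),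
  (false,5,539),
  (false,1,294),
  (false,2,294),
  (false,4,294),
  (false,0,901),
  (false,1,901),
  (false,2,901),
  (false,3,901),
  (false,4,901),
  (false,5,901),
  (false,0,879),
  (false,1,879),
  (false,2,879),
  (false,3,879),
  (false,4,879),
  (false,5,879),
  (false,0,905),
  (false,1,905),
  (false,2,905),
  (false,3,905),
  (false,4,905),
  (false,5,905),
  (false,0,108),
  (false,1,108),
  (false,2,108),
  (false,3,108),
  (false,0,466),
  (false,1,466),
  (false,2,466),
  (false,3,466),
  (false,4,466),
  (false,5,466),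
  (false,1,765),
  (false,2,765),
  (false,3,765),
  (false,4,765),
  (false,5,765),
  (false,0,273),
  (false,0,252),
  (false,3,252),
  (false,0,128),
  (false,0,696),
  (false,1,696),
  (false,0,570),
  (false,1,570),
  (false,0,123),
  (false,0,546),
  (false,2,546),
  (false,3,546),
  (false,0,585),
  (false,2,585),
  (false,0,93),
  (false,4,93),
  (false,3,353),
  (false,5,353),
  (false,0,1035),
  (false,1,1035),
  (false,2,1035),
  (false,3,1035),
  (false,4,1035),
  (false,5,1035),
  (false,0,281),
  (false,1,281),
  (false,0,572)]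

/-- part 3 of `tree1` -/
def tree1P3 : List (Bool × ℕ × ℕ) := [
  (false,1,572),
  (false,0,370),
  (false,0,355),
  (false,1,355),
  (false,2,355),
  (false,3,355),
  (false,4,355),
  (false,5,355),
  (false,0,421),
  (false,3,421),
  (false,0,328),
  (false,2,328),
  (false,0,292),
  (false,0,417),
  (false,0,329),
  (false,0,339),
  (false,0,203),
  (false,0,1063),
  (false,1,1063),
  (false,3,1063),
  (false,4,1063),
  (false,5,1063),
  (false,1,806),
  (false,2,806),
  (false,3,806),
  (false,5,806),
  (false,0,219),
  (false,1,219),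
  (false,2,219),
  (false,3,219),
  (false,4,219),
  (false,5,219),
  (false,0,656),
  (false,1,656),
  (false,2,656),
  (false,3,656),
  (false,0,578),
  (false,1,578),
  (false,2,578),
  (false,3,578),
  (false,5,578),
  (false,0,929),
  (false,1,929),
  (false,2,929),
  (false,4,929),
  (false,0,372),
  (false,1,372),
  (false,3,372),
  (false,4,372),
  (false,5,372),
  (false,1,639),
  (false,2,639),
  (false,3,639),
  (false,4,639),
  (false,5,639),
  (false,2,630),
  (false,0,287),
  (false,2,287),
  (false,3,287),
  (false,4,287),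
  (false,5,287),
  (false,0,395),
  (false,1,395),
  (false,2,395),
  (false,3,395),
  (false,4,395),
  (false,5,395),
  (false,0,826),
  (false,1,826),
  (false,2,826),
  (false,3,826),
  (false,4,826),
  (false,5,826),
  (false,2,286),
  (false,3,286),
  (false,5,286),
  (false,1,877),
  (false,2,877),
  (false,5,877),
  (false,0,553),
  (false,1,553),
  (false,2,553),
  (false,3,553),
  (false,4,553),
  (false,1,874),
  (false,3,874),
  (false,4,874),
  (false,1,858),
  (false,2,858),
  (false,4,858),
  (false,1,536),
  (false,4,536),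
  (false,0,802),
  (false,1,802),
  (false,2,802),
  (false,3,802),
  (false,4,802),
  (false,1,1004),
  (false,3,1004),
  (false,4,1004)]

/-- part 4 of `tree1` -/
def tree1P4 : List (Bool × ℕ × ℕ) := [
  (false,5,1004),
  (false,0,166),
  (false,1,166),
  (false,2,166),
  (false,4,166),
  (false,5,166),
  (false,0,512),
  (false,1,512),
  (false,3,512),
  (false,4,512),
  (false,5,512),
  (false,0,404),
  (false,1,404),
  (false,4,404),
  (false,0,296),
  (false,2,296),
  (false,0,720),
  (false,2,720),
  (false,3,720),
  (false,0,422),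
  (false,1,422),
  (false,2,422),
  (false,3,422),
  (false,4,422),
  (false,0,487),
  (false,1,487),
  (false,3,487),
  (false,2,973),
  (false,0,238),
  (false,2,238),
  (false,3,238),
  (false,5,238),
  (false,0,288),
  (false,2,288),
  (false,3,288),
  (false,4,288),
  (false,2,347),
  (false,3,347),
  (false,4,347),
  (false,0,601),
  (false,4,601),
  (false,5,601),
  (false,3,335),
  (false,2,1199),
  (false,3,1199),
  (false,2,705),
  (false,3,705),
  (false,1,317),
  (false,2,317),
  (false,4,317),
  (false,0,787),
  (false,1,787),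
  (false,2,787),
  (false,3,787),
  (false,0,662),
  (false,1,662),
  (false,4,662),
  (false,5,662),
  (false,3,796),
  (false,0,562),
  (false,5,451),
  (false,1,324),
  (false,0,350),
  (false,0,230),
  (false,2,230),
  (false,4,230),
  (false,0,87),
  (false,2,87),
  (false,4,87),
  (false,1,227),
  (false,0,529),
  (false,2,529),
  (false,3,529),
  (false,2,564),
  (false,3,564),
  (false,0,177),
  (false,2,177),
  (false,3,177),
  (false,4,177),
  (false,5,177),
  (false,4,556),
  (false,0,700),
  (false,0,147),
  (false,3,147),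
  (false,1,571),
  (false,5,571),
  (false,4,526),
  (false,0,587),
  (false,1,587),
  (false,3,587),
  (false,1,170),
  (false,4,170),
  (false,5,170),
  (false,0,402),
  (false,1,402),
  (false,3,402),
  (false,1,559),
  (false,2,492),
  (false,4,492),
  (false,0,725)]

/-- part 5 of `tree1` -/
def tree1P5 : List (Bool × ℕ × ℕ) := [
  (false,3,1034),
  (false,0,167),
  (false,1,167),
  (false,4,167),
  (false,4,723),
  (false,0,889),
  (false,4,889),
  (false,5,445),
  (false,0,403),
  (false,3,298),
  (false,5,298),
  (false,0,896),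
  (false,3,896),
  (false,0,574),
  (false,2,574),
  (false,3,574),
  (false,1,547),
  (false,4,547),
  (false,5,547),
  (false,4,573),
  (false,3,930),
  (false,0,788),
  (false,0,508),
  (false,5,558),
  (false,4,703),
  (false,3,590),
  (false,2,938),
  (false,0,694),
  (false,5,490),
  (false,3,503),
  (false,4,851),
  (false,4,146),
  (false,0,488),
  (false,3,488),
  (false,2,790),
  (false,3,595),
  (false,4,776),
  (false,0,141),
  (false,4,944),
  (false,2,886),
  (false,3,886),
  (false,4,583),
  (false,0,565),
  (false,2,565),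
  (false,4,737),
  (false,0,334),
  (false,0,931),
  (false,0,255),
  (false,3,786),
  (false,2,622),
  (false,5,223),
  (false,0,264),
  (false,5,450),
  (false,1,301),
  (true,9,0),
  (false,0,84),
  (false,1,84),
  (false,2,84),
  (false,3,84),
  (false,4,84),
  (false,5,84),
  (false,0,528),
  (false,1,528),
  (false,2,528),
  (false,3,528),
  (false,4,528),
  (false,5,528),
  (false,0,663),
  (false,1,663),
  (false,2,663),
  (false,3,663),
  (false,5,663),
  (false,0,293),
  (false,1,293),
  (false,2,293),
  (false,3,293),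
  (false,4,293),
  (false,5,293),
  (false,0,496),
  (false,1,496),
  (false,2,496),
  (false,3,496),
  (false,0,523),
  (false,1,523),
  (false,2,523),
  (false,0,272),
  (false,1,272),
  (false,2,272),
  (false,5,272),
  (false,0,736),
  (false,1,736),
  (false,2,736),
  (false,3,736),
  (false,4,736),
  (false,5,736),
  (false,0,265),
  (false,1,265),
  (false,2,265),
  (false,3,265),
  (false,4,265)]

/-- part 6 of `tree1` -/
def tree1P6 : List (Bool × ℕ × ℕ) := [
  (false,5,265),
  (false,0,348),
  (false,1,348),
  (false,2,348),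
  (false,3,348),
  (false,4,348),
  (false,5,348),
  (false,0,90),
  (false,1,90),
  (false,2,90),
  (false,3,90),
  (false,4,90),
  (false,5,90),
  (false,0,224),
  (false,1,224),
  (false,2,224),
  (false,3,224),
  (false,4,224),
  (false,5,224),
  (false,1,514),
  (false,3,514),
  (false,0,279),
  (false,1,279),
  (false,2,279),
  (false,3,279),
  (false,4,279),
  (false,5,279),
  (false,2,525),
  (false,4,525),
  (false,0,144),
  (false,2,144),
  (false,0,505),
  (false,3,505),
  (false,0,211),
  (false,1,211),
  (false,0,221),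
  (false,1,221),
  (false,3,221),
  (false,0,785),
  (false,1,785),
  (false,2,785),
  (false,5,785),
  (false,0,175),
  (false,3,175),
  (false,0,330),
  (false,2,330),
  (false,5,330),
  (false,0,517),
  (false,1,561),
  (false,0,314),
  (false,1,314),
  (false,2,314),
  (false,3,314),
  (false,4,314),
  (false,5,314),
  (false,0,400),
  (false,1,400),
  (false,3,400),
  (false,1,620),
  (false,2,620),
  (false,3,620),
  (false,4,620),
  (false,5,620),
  (false,0,781),
  (false,3,781),
  (false,4,781),
  (false,0,180),
  (false,0,471),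
  (false,0,207),
  (false,0,393),
  (false,0,532),
  (false,0,855),
  (false,2,855),
  (false,3,855),
  (false,0,1030),
  (false,1,1030),
  (false,2,1030),
  (false,3,1030),
  (false,4,1030),
  (false,0,430),
  (false,1,430),
  (false,2,430),
  (false,3,430),
  (false,4,430),
  (false,5,430),
  (false,0,374),
  (false,1,374),
  (false,2,374),
  (false,4,374),
  (false,2,484),
  (false,3,484),
  (false,4,484),
  (false,5,484),
  (false,0,893),
  (false,1,893),
  (false,2,893),
  (false,3,893),
  (false,4,893),
  (false,5,893),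
  (false,0,928)]

/-- part 7 of `tree1` -/
def tree1P7 : List (Bool × ℕ × ℕ) := [
  (false,2,928),
  (false,4,928),
  (false,1,882),
  (false,2,882),
  (false,3,882),
  (false,4,882),
  (false,1,638),
  (false,2,638),
  (false,2,753),
  (false,4,753),
  (false,5,753),
  (false,0,974),
  (false,1,974),
  (false,2,974),
  (false,3,974),
  (false,5,974),
  (false,0,486),
  (false,1,486),
  (false,2,486),
  (false,4,486),
  (false,5,754),
  (false,0,498),
  (false,1,498),
  (false,2,498),
  (false,3,498),
  (false,4,498),
  (false,5,498),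
  (false,0,200),
  (false,2,200),
  (false,5,200),
  (false,0,289),
  (false,1,289),
  (false,4,289),
  (false,1,176),
  (false,4,176),
  (false,5,176),
  (false,1,327),
  (false,5,327),
  (false,0,300),
  (false,1,300),
  (false,2,300),
  (false,3,300),
  (false,4,300),
  (false,0,1061),
  (false,1,1061),
  (false,2,1061),
  (false,3,1061),
  (false,4,1061),
  (false,5,1061),
  (false,0,313),
  (false,1,313),
  (false,2,313),
  (false,3,313),
  (false,2,745),
  (false,5,745),
  (false,0,660),
  (false,0,535),
  (false,1,535),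
  (false,0,216),
  (false,2,216),
  (false,5,216),
  (false,0,1107),
  (false,1,803),
  (false,2,803),
  (false,1,405),
  (false,1,308),
  (false,2,465),
  (false,3,465),
  (false,0,299),
  (false,1,299),
  (false,0,531),
  (false,1,198),
  (false,2,198),
  (false,3,198),
  (false,0,807),
  (false,2,807),
  (false,4,807),
  (false,1,619),
  (false,2,619),
  (false,4,619),
  (false,5,619),
  (false,0,240),
  (false,1,240),
  (false,3,240),
  (false,4,240),
  (false,0,613),
  (false,1,613),
  (false,2,613),
  (false,3,613),
  (false,4,623),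
  (false,0,680),
  (false,2,1162),
  (false,3,1162),
  (false,4,1162),
  (false,5,1162),
  (false,1,996),
  (false,2,996),
  (false,0,129),
  (false,1,676),
  (false,2,676)]

/-- part 8 of `tree1` -/
def tree1P8 : List (Bool × ℕ × ℕ) := [
  (false,3,676),
  (false,2,387),
  (false,0,302),
  (false,2,302),
  (false,3,302),
  (false,0,549),
  (false,0,241),
  (false,1,241),
  (false,3,241),
  (false,4,241),
  (false,5,241),
  (false,0,266),
  (false,0,270),
  (false,4,274),
  (false,1,475),
  (false,3,644),
  (false,0,494),
  (false,2,494),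
  (false,3,494),
  (false,5,494),
  (false,1,452),
  (false,2,452),
  (false,3,452),
  (false,4,452),
  (false,5,452),
  (false,0,800),
  (false,1,800),
  (false,5,800),
  (false,1,413),
  (false,5,413),
  (false,1,126),
  (false,1,738),
  (false,4,738),
  (false,5,738),
  (false,2,698),
  (false,4,698),
  (false,1,448),
  (false,3,448),
  (false,5,448),
  (false,4,791),
  (false,2,809),
  (false,2,373),
  (false,3,373),
  (false,2,513),
  (false,1,884),
  (false,4,884),
  (false,0,799),
  (false,1,799),
  (false,4,799),
  (false,5,659),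
  (false,2,747),
  (false,3,747),
  (false,4,747),
  (false,5,747),
  (false,0,295),
  (false,2,609),
  (false,4,386),
  (false,5,386),
  (false,5,721),
  (false,3,793),
  (false,0,1155),
  (false,2,1155),
  (false,3,1155),
  (false,1,969),
  (false,0,105),
  (false,3,828),
  (false,3,701),
  (false,3,966),
  (false,3,150),
  (false,5,150),
  (false,3,201),
  (false,1,253),
  (false,2,460),
  (false,0,388),
  (false,5,748),
  (false,4,344),
  (false,5,344),
  (false,2,933),
  (false,1,645),
  (false,3,645),
  (false,5,588),
  (false,4,875),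
  (false,3,332),
  (false,3,646),
  (false,0,145),
  (false,3,145),
  (false,5,953),
  (false,0,245),
  (false,3,245),
  (false,4,522),
  (false,0,797),
  (false,0,675),
  (false,2,309),
  (false,3,449),
  (false,4,591),
  (false,3,801),
  (false,4,801),
  (false,1,519),
  (false,1,741),
  (false,0,718)]

/-- part 9 of `tree1` -/
def tree1P9 : List (Bool × ℕ × ℕ) := [
  (false,1,718),
  (false,3,318),
  (false,0,740),
  (false,1,740),
  (true,10,0),
  (false,0,664),
  (false,1,664),
  (false,2,664),
  (false,3,664),
  (false,4,664),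
  (false,5,664),
  (false,0,813),
  (false,1,813),
  (false,2,813),
  (false,3,813),
  (false,4,813),
  (false,5,813),
  (false,0,947),
  (false,1,947),
  (false,2,947),
  (false,3,947),
  (false,4,947),
  (false,5,947),
  (false,0,1374),
  (false,1,1374),
  (false,2,1374),
  (false,3,1374),
  (false,4,1374),
  (false,5,1374),
  (false,0,1283),
  (false,1,1283),
  (false,2,1283),
  (false,3,1283),
  (false,4,1283),
  (false,0,1293),
  (false,1,1293),
  (false,3,1293),
  (false,4,1293),
  (false,5,1293),
  (false,1,1082),
  (false,2,1082),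
  (false,3,1082),
  (false,5,1082),
  (false,0,1372),
  (false,1,1372),
  (false,2,1372),
  (false,3,1372),
  (false,4,1372),
  (false,5,1372),
  (false,0,979),
  (false,1,979),
  (false,2,979),
  (false,3,979),
  (false,4,979),
  (false,5,979),
  (false,0,983),
  (false,1,983),
  (false,2,983),
  (false,3,983),
  (false,4,983),
  (false,5,983),
  (false,0,1389),
  (false,1,1389),
  (false,2,1389),
  (false,3,1389),
  (false,4,1389),
  (false,5,1389),
  (false,0,1322),
  (false,1,1322),
  (false,2,1322),
  (false,4,1322),
  (false,5,1322),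
  (false,0,861),
  (false,1,861),
  (false,2,861),
  (false,3,861),
  (false,4,861),
  (false,5,861),
  (false,0,1288),
  (false,1,1288),
  (false,3,1288),
  (false,4,1288),
  (false,0,1319),
  (false,1,1319),
  (false,2,1319),
  (false,3,1319),
  (false,4,1319),
  (false,5,1319),
  (false,0,833),
  (false,1,833),
  (false,2,833),
  (false,3,833),
  (false,4,833),
  (false,5,833),
  (false,0,1258),
  (false,1,1258),
  (false,2,1258),
  (false,3,1258),
  (false,4,1258),
  (false,5,1258)]

/-- part 10 of `tree1` -/
def tree1P10 : List (Bool × ℕ × ℕ) := [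
  (false,0,1267),
  (false,2,1267),
  (false,3,1267),
  (false,4,1267),
  (false,5,1267),
  (false,0,1093),
  (false,1,1093),
  (false,2,1093),
  (false,3,1093),
  (false,4,1093),
  (false,5,1093),
  (false,0,1316),
  (false,1,1316),
  (false,3,1316),
  (false,0,685),
  (false,1,685),
  (false,2,685),
  (false,4,685),
  (false,5,685),
  (false,1,1206),
  (false,2,1206),
  (false,4,1206),
  (false,1,1219),
  (false,2,1219),
  (false,3,1219),
  (false,5,1219),
  (false,0,1144),
  (false,1,1144),
  (false,3,1144),
  (false,1,714),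
  (false,3,714),
  (false,5,714),
  (false,0,1113),
  (false,1,1113),
  (false,2,1113),
  (false,3,1113),
  (false,4,1113),
  (false,5,1113),
  (false,0,1039),
  (false,2,1039),
  (false,3,1039),
  (false,4,1039),
  (false,5,1039),
  (false,0,1355),
  (false,1,1355),
  (false,2,1355),
  (false,3,1355),
  (false,4,1355),
  (false,5,1355),
  (false,1,1377),
  (false,1,1310),
  (false,5,1310),
  (false,1,729),
  (false,2,729),
  (false,4,729),
  (false,5,729),
  (false,0,871),
  (false,3,871),
  (false,4,871),
  (false,1,981),
  (false,0,1184),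
  (false,1,1184),
  (false,0,818),
  (false,2,1371),
  (false,3,1371),
  (false,4,1371),
  (false,5,1371),
  (false,1,914),
  (false,1,1344),
  (false,0,1005),
  (false,1,1005),
  (false,0,1044),
  (false,1,1044),
  (false,2,1044),
  (false,3,1044),
  (false,5,1044),
  (false,0,1376),
  (false,1,1376),
  (false,2,1376),
  (false,3,1376),
  (false,5,1376),
  (false,1,1059),
  (false,2,1059),
  (false,3,1059),
  (false,4,1059),
  (false,0,1197),
  (false,2,1197),
  (false,3,1197),
  (false,4,1197),
  (false,5,1197),
  (false,0,1166),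
  (false,1,1166),
  (false,2,1166),
  (false,3,1166),
  (false,4,1166),
  (false,5,1166),
  (false,2,1151),
  (false,4,1151),
  (false,5,1151),
  (false,1,1049)]

/-- part 11 of `tree1` -/
def tree1P11 : List (Bool × ℕ × ℕ) := [
  (false,2,1049),
  (false,3,1049),
  (false,4,1049),
  (false,0,1339),
  (false,1,1339),
  (false,2,1339),
  (false,5,1339),
  (false,1,1356),
  (false,4,1356),
  (false,5,1356),
  (false,1,1326),
  (false,2,1326),
  (false,3,1326),
  (false,4,1326),
  (false,5,1326),
  (false,0,1220),
  (false,1,1220),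
  (false,3,1220),
  (false,4,1220),
  (false,5,1220),
  (false,0,962),
  (false,1,962),
  (false,2,962),
  (false,3,962),
  (false,4,962),
  (false,0,1308),
  (false,3,1308),
  (false,4,1308),
  (false,0,1028),
  (false,2,1028),
  (false,4,1028),
  (false,0,1194),
  (false,1,1194),
  (false,3,1194),
  (false,5,1194),
  (false,0,1405),
  (false,2,1405),
  (false,4,1405),
  (false,5,1405),
  (false,0,1396),
  (false,2,1396),
  (false,3,1396),
  (false,4,1396),
  (false,5,1396),
  (false,2,1188),
  (false,3,1188),
  (false,5,1188),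
  (false,2,1110),
  (false,3,1110),
  (false,4,1110),
  (false,5,1110),
  (false,0,1315),
  (false,2,1315),
  (false,4,1315),
  (false,0,1373),
  (false,1,1373),
  (false,5,1373),
  (false,2,1248),
  (false,3,1248),
  (false,4,1248),
  (false,5,1248),
  (false,0,1095),
  (false,4,1095),
  (false,1,762),
  (false,2,762),
  (false,3,762),
  (false,1,1208),
  (false,5,1208),
  (false,0,1098),
  (false,1,1098),
  (false,3,1098),
  (false,4,1098),
  (false,5,1098),
  (false,1,951),
  (false,2,951),
  (false,0,1143),
  (false,5,1143),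
  (false,1,1192),
  (false,4,1192),
  (false,5,1192),
  (false,1,1259),
  (false,2,1259),
  (false,3,1259),
  (false,5,1259),
  (false,0,920),
  (false,2,920),
  (false,3,920),
  (false,5,920),
  (false,0,1346),
  (false,3,1346),
  (false,4,1346),
  (false,0,1260),
  (false,0,989),
  (false,1,989),
  (false,2,993),
  (false,3,993),
  (false,5,993),
  (false,2,815),
  (false,3,815),
  (false,4,815)]

/-- part 12 of `tree1` -/
def tree1P12 : List (Bool × ℕ × ℕ) := [
  (false,1,1325),
  (false,0,957),
  (false,1,957),
  (false,0,835),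
  (false,2,835),
  (false,3,835),
  (false,4,835),
  (false,5,835),
  (false,2,1077),
  (false,3,1077),
  (false,4,1077),
  (false,5,1077),
  (false,1,1205),
  (false,5,1205),
  (false,3,844),
  (false,4,844),
  (false,0,1133),
  (false,2,1133),
  (false,4,1133),
  (false,5,1133),
  (false,0,1152),
  (false,1,1152),
  (false,2,1152),
  (false,3,1152),
  (false,2,1375),
  (false,0,1354),
  (false,1,1354),
  (false,2,1354),
  (false,4,1354),
  (false,5,1354),
  (false,0,1337),
  (false,2,1337),
  (false,3,1337),
  (false,0,1109),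
  (false,2,862),
  (false,5,862),
  (false,4,1323),
  (false,5,1323),
  (false,1,1324),
  (false,3,1324),
  (false,4,1324),
  (false,3,908),
  (false,1,1279),
  (false,3,1279),
  (false,0,1112),
  (false,1,1112),
  (false,3,1112),
  (false,4,1112),
  (false,5,1112),
  (false,0,732),
  (false,0,838),
  (false,3,838),
  (false,0,731),
  (false,1,731),
  (false,3,731),
  (false,5,731),
  (false,0,713),
  (false,1,713),
  (false,0,1342),
  (false,1,1342),
  (false,4,1342),
  (false,5,1342),
  (false,5,1069),
  (false,3,1329),
  (false,4,1329),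
  (false,5,1186),
  (false,1,1340),
  (false,2,1340),
  (false,3,1172),
  (false,4,1172),
  (false,3,925),
  (false,0,1175),
  (false,2,1175),
  (false,5,1175),
  (false,3,726),
  (false,0,1402),
  (false,1,1402),
  (false,3,1402),
  (false,4,1402),
  (false,0,728),
  (false,1,728),
  (false,3,728),
  (false,0,1179),
  (false,1,1179),
  (false,1,1058),
  (false,2,1058),
  (false,1,1292),
  (false,2,1066),
  (false,0,910),
  (false,2,859),
  (false,1,1381),
  (false,2,1381),
  (false,1,1353),
  (false,1,1360),
  (false,2,1360),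
  (false,3,1360),
  (false,4,1360),
  (false,1,830),
  (false,0,949),
  (false,1,949)]

/-- part 13 of `tree1` -/
def tree1P13 : List (Bool × ℕ × ℕ) := [
  (false,2,949),
  (false,3,949),
  (false,2,771),
  (false,4,771),
  (false,0,1403),
  (false,2,1403),
  (false,5,1318),
  (false,0,1227),
  (false,1,1227),
  (false,1,666),
  (false,2,666),
  (false,1,1261),
  (false,1,1101),
  (false,3,1101),
  (false,0,1213),
  (false,0,1157),
  (false,3,1157),
  (false,1,683),
  (false,0,1327),
  (false,5,1327),
  (false,1,923),
  (false,1,1147),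
  (false,1,1237),
  (false,4,1237),
  (false,1,1123),
  (false,4,1123),
  (false,0,1306),
  (false,4,1096),
  (false,2,1181),
  (false,4,1181),
  (false,0,1026),
  (false,2,1026),
  (false,1,708),
  (false,2,1290),
  (false,1,1336),
  (false,3,1201),
  (false,2,1265),
  (false,5,1265),
  (false,0,1105),
  (false,1,1105),
  (false,2,1105),
  (false,3,1105),
  (false,4,1180),
  (false,0,1289),
  (false,3,1171),
  (false,4,1171),
  (false,1,977),
  (false,3,977),
  (false,0,869),
  (false,3,1055),
  (false,1,1221),
  (false,3,1221),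
  (false,5,1221),
  (false,0,1177),
  (false,1,1177),
  (false,4,1177),
  (false,1,1370),
  (false,2,1370),
  (false,0,1204),
  (false,1,1204),
  (false,2,1204),
  (false,3,1204),
  (false,1,1285),
  (false,3,1358),
  (false,3,1076),
  (false,4,1076),
  (false,1,1378),
  (false,1,864),
  (false,1,763),
  (false,3,1250),
  (false,1,1210),
  (false,5,1052),
  (false,1,1065),
  (false,3,1065),
  (false,4,1065),
  (false,2,1350),
  (false,1,1138),
  (false,5,982),
  (false,4,1150),
  (false,1,1156),
  (false,0,671),
  (false,1,1280),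
  (false,4,727),
  (false,3,670),
  (false,1,1301),
  (false,2,1301),
  (false,0,1006),
  (false,2,1225),
  (false,1,1369),
  (false,1,1092),
  (false,3,1092),
  (false,2,1390),
  (false,3,1291),
  (false,3,1159),
  (false,5,991),
  (false,1,1149),
  (false,2,1234),
  (false,3,730),
  (false,3,1136),
  (false,5,1298)]

/-- part 14 of `tree1` -/
def tree1P14 : List (Bool × ℕ × ℕ) := [
  (false,0,837),
  (false,4,1286),
  (false,1,1229),
  (false,1,1366),
  (false,1,1189),
  (false,2,1056),
  (false,2,950),
  (false,4,1331)]

/-- certificate data -/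
def tree1 : List (Bool × ℕ × ℕ) :=
  [tree1P0, tree1P1, tree1P2, tree1P3, tree1P4, tree1P5, tree1P6, tree1P7, tree1P8, tree1P9, tree1P10, tree1P11, tree1P12, tree1P13, tree1P14].flatten

/-- chain of a point stabiliser -/
def stb1_0 : List Lev := [
  { base := 6, new := [([197,15,157,75],[76,158,16,198])],
    orbit := [(6,[]),
      (60,[0]),
      (25,[0,3]),
      (26,[0,1]),
      (65,[0,2]),
      (137,[0,0]),
      (190,[0,4]),
      (14,[0,1,0]),
      (16,[0,0,1]),
      (24,[0,4,0]),
      (31,[0,4,2]),
      (38,[0,0,2]),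
      (40,[0,3,3]),
      (59,[0,0,3]),
      (66,[0,1,1]),
      (67,[0,2,2]),
      (78,[0,3,4]),
      (191,[0,3,0]),
      (205,[0,0,0]),
      (212,[0,1,2]),
      (284,[0,2,1]),
      (392,[0,1,4]),
      (399,[0,1,3]),
      (408,[0,2,4]),
      (410,[0,0,4]),
      (4,[0,0,3,0]),
      (27,[0,0,1,1]),
      (32,[0,1,3,1]),
      (33,[0,3,3,1]),
      (37,[0,0,3,4]),
      (39,[0,2,1,1]),
      (58,[0,0,0,1]),
      (101,[0,0,2,0]),
      (122,[0,0,4,3]),
      (192,[0,0,0,3]),
      (193,[0,4,0,0]),
      (194,[0,0,2,4]),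
      (195,[0,1,1,1]),
      (204,[0,0,1,2]),
      (206,[0,1,4,0]),
      (285,[0,3,3,0]),
      (391,[0,0,3,3]),
      (409,[0,1,1,4]),
      (464,[0,1,2,0]),
      (592,[0,0,0,2]),
      (15,[0,0,4,3,0]),
      (30,[0,1,2,0,4]),
      (411,[0,0,0,2,2]),
      (454,[0,2,1,1,0]),
      (593,[0,0,0,3,0])],
    wit := [] },
  { base := 4, new := [([197,119,69],[70,120,198])],
    orbit := [(4,[]),
      (137,[0]),
      (16,[0,0]),
      (38,[0,1]),
      (59,[0,2]),
      (410,[0,3]),
      (14,[0,3,0]),
      (27,[0,0,0]),
      (37,[0,2,3]),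
      (58,[0,2,1]),
      (122,[0,3,2]),
      (190,[0,3,1]),
      (194,[0,1,3]),
      (204,[0,0,1]),
      (205,[0,0,2]),
      (391,[0,2,2]),
      (408,[0,1,0]),
      (592,[0,0,3]),
      (24,[0,2,2,3]),
      (25,[0,2,1,0]),
      (26,[0,3,2,1]),
      (31,[0,3,1,1]),
      (33,[0,1,3,1]),
      (60,[0,3,1,3]),
      (65,[0,1,0,2]),
      (66,[0,0,0,1]),
      (67,[0,3,1,2]),
      (78,[0,3,1,0]),
      (101,[0,3,0,2]),
      (191,[0,2,3,1]),
      (192,[0,0,1,1]),
      (212,[0,1,3,2]),
      (392,[0,0,3,0]),
      (399,[0,2,2,1]),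
      (411,[0,0,3,1]),
      (32,[0,1,3,1,1]),
      (39,[0,3,0,2,3]),
      (40,[0,2,1,0,2]),
      (195,[0,0,0,1,0]),
      (284,[0,1,0,2,0]),
      (285,[0,0,1,1,0]),
      (409,[0,0,0,1,3])],
    wit := [] },
  { base := 8, new := [([199],[200])],
    orbit := [(8,[]),
      (120,[0]),
      (73,[0,1]),
      (75,[0,0]),
      (369,[0,0,2]),
      (483,[0,0,1])],
    wit := [] },
  { base := 7, new := [([15],[16])],
    orbit := [(7,[]),
      (136,[0]),
      (100,[0,0]),
      (234,[0,1]),
      (283,[0,0,0])],
    wit := [] },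
  { base := 9, new := [([21],[22])],
    orbit := [(9,[]),
      (482,[0])],
    wit := [] }]

/-- an orbit -/
def root1_0 : Root :=
  ⟨[203], [204], 0, [203,204], [203,204], stb1_0,
    [[(5,false),(5,false),(4,false),(3,false),(5,false),(2,false),(3,false),(1,false),(1,false),(0,false),(0,false),(4,false)],
      [(5,false),(3,false),(5,false),(2,false),(3,false),(1,false),(2,false),(3,false),(0,false),(2,false),(2,false)],
      [(4,false),(4,false),(3,false),(1,false),(2,false)],
      [(5,false),(5,false),(4,false),(4,false),(3,false),(3,false),(2,false),(5,false),(1,false),(4,false)],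
      [(2,false),(3,false),(1,false)]],
    [[0,17,25,2,5,0],[0,3,27,2,0,1],[0,0,0,0,2,1],[0,0,0,2,0,1],[0,0,0,0,0,1]]⟩

/-- chain of a point stabiliser -/
def stb1_1 : List Lev := [
  { base := 4, new := [([199,15,159,93],[94,160,16,200])],
    orbit := [(4,[]),
      (212,[0]),
      (31,[0,1]),
      (78,[0,3]),
      (190,[0,2]),
      (192,[0,0]),
      (284,[0,4]),
      (25,[0,3,4]),
      (26,[0,4,3]),
      (33,[0,1,4]),
      (58,[0,2,0]),
      (60,[0,2,4]),
      (65,[0,1,0]),
      (66,[0,2,2]),
      (67,[0,2,3]),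
      (137,[0,3,2]),
      (194,[0,1,3]),
      (205,[0,0,4]),
      (391,[0,0,0]),
      (392,[0,4,0]),
      (399,[0,4,2]),
      (411,[0,0,1]),
      (464,[0,3,1]),
      (593,[0,2,1]),
      (6,[0,2,2,1]),
      (14,[0,2,0,0]),
      (16,[0,0,4,2]),
      (24,[0,0,0,4]),
      (27,[0,1,0,2]),
      (30,[0,3,1,4]),
      (32,[0,2,3,4]),
      (37,[0,2,4,1]),
      (38,[0,1,0,3]),
      (40,[0,2,3,1]),
      (59,[0,1,0,0]),
      (101,[0,2,3,0]),
      (122,[0,0,0,1]),
      (191,[0,0,0,2]),
      (193,[0,0,0,0]),
      (204,[0,0,1,2]),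
      (206,[0,2,1,2]),
      (285,[0,1,4,1]),
      (408,[0,1,0,4]),
      (409,[0,2,2,4]),
      (410,[0,2,4,3]),
      (454,[0,0,4,1]),
      (592,[0,0,1,3]),
      (15,[0,0,0,0,1]),
      (39,[0,1,4,1,3]),
      (195,[0,0,0,1,1])],
    wit := [] },
  { base := 6, new := [([15,149],[150,16])],
    orbit := [(6,[]),
      (26,[0]),
      (25,[0,0]),
      (78,[0,1]),
      (191,[0,2]),
      (392,[0,3]),
      (27,[0,2,0]),
      (31,[0,3,1]),
      (38,[0,2,1]),
      (40,[0,0,2]),
      (58,[0,1,2]),
      (66,[0,0,0]),
      (122,[0,3,2]),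
      (137,[0,1,1]),
      (206,[0,3,0]),
      (284,[0,2,2]),
      (409,[0,0,1]),
      (464,[0,1,0]),
      (24,[0,1,1,1]),
      (30,[0,1,0,3]),
      (32,[0,2,1,2]),
      (33,[0,1,0,0]),
      (37,[0,0,2,2]),
      (39,[0,3,0,0]),
      (59,[0,3,2,2]),
      (60,[0,2,1,1]),
      (65,[0,2,2,0]),
      (67,[0,1,1,0]),
      (101,[0,0,2,0]),
      (193,[0,1,0,1]),
      (194,[0,0,1,1]),
      (195,[0,3,2,0]),
      (212,[0,1,2,2]),
      (391,[0,3,2,1]),
      (399,[0,0,0,2]),
      (410,[0,0,2,1]),
      (593,[0,3,0,2]),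
      (15,[0,1,0,1,0]),
      (190,[0,1,0,0,2]),
      (285,[0,0,2,0,2]),
      (408,[0,0,2,1,0]),
      (14,[0,0,2,0,2,1])],
    wit := [] },
  { base := 7, new := [([17,15],[16,18])],
    orbit := [(7,[]),
      (136,[0]),
      (234,[0,0]),
      (283,[0,1]),
      (100,[0,0,0])],
    wit := [] },
  { base := 8, new := [([17],[18])],
    orbit := [(8,[]),
      (75,[0]),
      (73,[0,0]),
      (369,[0,1]),
      (120,[0,0,1]),
      (483,[0,0,1,0])],
    wit := [] },
  { base := 9, new := [([21],[22])],
    orbit := [(9,[]),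
      (482,[0])],
    wit := [] }]

/-- an orbit -/
def root1_1 : Root :=
  ⟨[201,15,167,105,0], [1,106,168,16,202], 1, [21,197,15,149,43,203,1,106,168,16,202], [201,15,167,105,0,204,44,150,16,198,22], stb1_1,
    [[(5,false),(5,false),(4,false),(5,false),(3,false),(3,false),(2,false),(2,false),(3,false),(1,false),(1,false),(0,false),(0,false),(0,false),(4,false)],
      [(5,false),(5,false),(4,false),(3,false),(2,false),(2,false),(3,false),(1,false),(4,false)],
      [(4,false),(5,false),(3,false),(1,false),(3,false)],
      [(5,false),(4,false),(3,false),(4,false),(2,false),(5,false),(1,false),(4,false)],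
      [(2,false),(3,false),(1,false)]],
    [[25,6,4,4,2,0],[0,2,3,2,1,1],[0,4,1,2,0,0],[0,2,1,2,1,0],[0,1,3,0,0,0]]⟩

/-- chain of a point stabiliser -/
def stb1_2 : List Lev := [
  { base := 4, new := [([201,11,9,81],[82,10,12,202])],
    orbit := [(4,[]),
      (284,[0]),
      (39,[0,0]),
      (191,[0,3]),
      (212,[0,4]),
      (285,[0,1]),
      (408,[0,2]),
      (6,[0,4,1]),
      (25,[0,1,1]),
      (26,[0,1,0]),
      (27,[0,3,1]),
      (40,[0,2,1]),
      (58,[0,4,3]),
      (65,[0,2,4]),
      (66,[0,4,2]),
      (101,[0,0,4]),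
      (137,[0,2,0]),
      (194,[0,3,2]),
      (195,[0,1,2]),
      (392,[0,0,1]),
      (399,[0,4,0]),
      (409,[0,2,2]),
      (410,[0,2,3]),
      (593,[0,0,0]),
      (14,[0,1,2,2]),
      (16,[0,3,1,0]),
      (24,[0,2,2,3]),
      (30,[0,0,0,2]),
      (31,[0,1,0,1]),
      (32,[0,1,1,1]),
      (33,[0,3,2,2]),
      (37,[0,0,1,0]),
      (38,[0,2,4,1]),
      (59,[0,0,1,3]),
      (60,[0,1,1,2]),
      (67,[0,1,0,2]),
      (78,[0,1,1,4]),
      (122,[0,3,1,2]),
      (205,[0,4,1,0]),
      (206,[0,0,0,3]),
      (391,[0,4,2,3]),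
      (464,[0,1,2,1]),
      (592,[0,1,1,0]),
      (15,[0,0,0,2,3]),
      (190,[0,1,0,2,3]),
      (192,[0,1,1,0,1]),
      (193,[0,0,0,3,2]),
      (204,[0,1,0,1,0]),
      (411,[0,1,1,0,3]),
      (454,[0,3,2,2,0])],
    wit := [] },
  { base := 6, new := [([201,13],[14,202])],
    orbit := [(6,[]),
      (67,[0]),
      (32,[0,3]),
      (59,[0,1]),
      (137,[0,0]),
      (190,[0,2]),
      (26,[0,1,1]),
      (33,[0,2,2]),
      (37,[0,1,3]),
      (38,[0,3,2]),
      (60,[0,1,0]),
      (78,[0,2,1]),
      (122,[0,1,2]),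
      (193,[0,3,0]),
      (194,[0,0,2]),
      (392,[0,3,1]),
      (409,[0,0,0]),
      (410,[0,0,1]),
      (593,[0,2,0]),
      (15,[0,3,0,1]),
      (24,[0,0,0,2]),
      (25,[0,2,1,3]),
      (30,[0,2,0,1]),
      (31,[0,0,2,2]),
      (40,[0,1,3,2]),
      (58,[0,1,2,1]),
      (65,[0,3,2,2]),
      (66,[0,0,0,3]),
      (101,[0,3,2,0]),
      (191,[0,2,2,1]),
      (195,[0,0,2,0]),
      (206,[0,2,0,2]),
      (212,[0,0,0,0]),
      (284,[0,0,0,1]),
      (391,[0,2,1,1]),
      (399,[0,0,1,1]),
      (408,[0,1,0,2]),
      (14,[0,0,2,0,1]),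
      (27,[0,0,0,2,2]),
      (39,[0,3,0,1,0]),
      (285,[0,0,0,1,0]),
      (464,[0,0,2,0,0])],
    wit := [] },
  { base := 7, new := [([201,195],[196,202])],
    orbit := [(7,[]),
      (283,[0]),
      (100,[0,0]),
      (136,[0,1]),
      (234,[0,1,1])],
    wit := [] },
  { base := 8, new := [([197],[198])],
    orbit := [(8,[]),
      (73,[0]),
      (75,[0,0]),
      (120,[0,1]),
      (369,[0,0,1]),
      (483,[0,0,1,0])],
    wit := [] },
  { base := 9, new := [([21],[22])],
    orbit := [(9,[]),
      (482,[0])],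
    wit := [] }]

/-- an orbit -/
def root1_2 : Root :=
  ⟨[21,197,15,149,43], [44,150,16,198,22], 1, [201,15,167,105,1,44,150,16,198,22], [21,197,15,149,43,0,106,168,16,202], stb1_2,
    [[(5,false),(4,false),(4,false),(3,false),(4,false),(1,false),(0,false),(0,false)],
      [(5,false),(5,false),(4,false),(4,false),(3,false),(1,false)],
      [(5,false),(2,false),(1,false),(2,false)],
      [(5,false),(5,false),(3,false),(2,false),(2,false),(3,false),(1,false),(2,false)],
      [(2,false),(3,false),(1,false)]],
    [[15,4,4,3,0,1],[0,1,4,1,1,1],[0,3,2,3,1,0],[0,3,0,1,2,0],[0,1,3,0,0,0]]⟩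

/-- chain of a point stabiliser -/
def stb1_3 : List Lev := [
  { base := 4, new := [([197,11,141,103],[104,142,12,198])],
    orbit := [(4,[]),
      (59,[0]),
      (32,[0,1]),
      (37,[0,4]),
      (58,[0,2]),
      (65,[0,0]),
      (392,[0,3]),
      (14,[0,4,0]),
      (24,[0,0,0]),
      (25,[0,4,3]),
      (26,[0,1,0]),
      (27,[0,2,1]),
      (31,[0,4,2]),
      (38,[0,0,3]),
      (40,[0,1,2]),
      (60,[0,3,0]),
      (67,[0,1,4]),
      (122,[0,2,4]),
      (205,[0,2,0]),
      (206,[0,1,1]),
      (212,[0,2,3]),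
      (284,[0,0,1]),
      (391,[0,2,2]),
      (408,[0,0,4]),
      (6,[0,0,1,0]),
      (15,[0,4,2,1]),
      (16,[0,2,0,1]),
      (30,[0,3,0,0]),
      (33,[0,1,4,3]),
      (39,[0,2,1,1]),
      (66,[0,0,3,0]),
      (78,[0,1,4,2]),
      (101,[0,4,0,0]),
      (137,[0,2,0,0]),
      (190,[0,3,0,4]),
      (191,[0,1,0,3]),
      (192,[0,2,0,4]),
      (193,[0,1,1,4]),
      (194,[0,0,1,2]),
      (195,[0,0,1,1]),
      (204,[0,2,0,2]),
      (285,[0,0,4,0]),
      (399,[0,0,4,2]),
      (409,[0,0,0,3]),
      (410,[0,2,3,0]),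
      (454,[0,0,0,0]),
      (464,[0,1,1,1]),
      (592,[0,1,2,0]),
      (593,[0,1,1,2]),
      (411,[0,0,1,0,0])],
    wit := [] },
  { base := 6, new := [([21,197,15,127],[128,16,198,22])],
    orbit := [(6,[]),
      (190,[0]),
      (30,[0,0]),
      (60,[0,3]),
      (67,[0,2]),
      (191,[0,1]),
      (32,[0,2,3]),
      (33,[0,2,2]),
      (38,[0,1,0]),
      (40,[0,1,3]),
      (58,[0,2,0]),
      (66,[0,0,0]),
      (78,[0,2,1]),
      (193,[0,0,2]),
      (206,[0,0,1]),
      (284,[0,1,2]),
      (409,[0,3,1]),
      (410,[0,3,2]),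
      (464,[0,0,3]),
      (14,[0,1,0,0]),
      (15,[0,0,2,2]),
      (24,[0,3,2,1]),
      (25,[0,2,1,3]),
      (26,[0,1,2,2]),
      (27,[0,2,0,0]),
      (31,[0,2,2,3]),
      (37,[0,1,3,2]),
      (59,[0,2,2,1]),
      (65,[0,2,3,2]),
      (122,[0,2,0,3]),
      (137,[0,3,2,3]),
      (194,[0,1,0,3]),
      (195,[0,1,2,0]),
      (212,[0,0,2,0]),
      (391,[0,0,0,0]),
      (399,[0,0,0,2]),
      (408,[0,3,2,2]),
      (593,[0,0,1,1]),
      (39,[0,2,0,0,0]),
      (101,[0,1,0,3,0]),
      (285,[0,0,2,2,0]),
      (392,[0,1,2,2,3])],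
    wit := [] },
  { base := 7, new := [([21,199,195],[196,200,22])],
    orbit := [(7,[]),
      (283,[0]),
      (100,[0,2]),
      (136,[0,0]),
      (234,[0,1])],
    wit := [] },
  { base := 8, new := [([17],[18])],
    orbit := [(8,[]),
      (75,[0]),
      (73,[0,0]),
      (369,[0,1]),
      (120,[0,0,1]),
      (483,[0,0,1,0])],
    wit := [] },
  { base := 9, new := [([21],[22])],
    orbit := [(9,[]),
      (482,[0])],
    wit := [] }]

/-- an orbit -/
def root1_3 : Root :=
  ⟨[21,17,15,7,89,1], [0,90,8,16,18,22], 1, [21,17,15,7,89,0,0,90,8,16,18,22], [21,17,15,7,89,1,1,90,8,16,18,22], stb1_3,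
    [[(5,false),(4,false),(3,false),(1,false),(0,false),(2,false),(4,false)],
      [(5,false),(5,false),(3,false),(1,false),(3,false)],
      [(5,false),(4,false),(4,false),(3,false),(3,false),(1,false)],
      [(5,false),(4,false),(3,false),(4,false),(2,false),(5,false),(1,false),(4,false)],
      [(2,false),(3,false),(1,false)]],
    [[18,1,0,1,1,1],[0,2,0,1,0,2],[0,1,0,3,2,1],[0,4,2,2,1,1],[0,1,3,0,0,0]]⟩

/-- chain of a point stabiliser -/
def stb1_4 : List Lev := [
  { base := 6, new := [([19,11,129],[130,12,20])],
    orbit := [(6,[]),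
      (60,[0]),
      (122,[0,1]),
      (190,[0,3]),
      (212,[0,0]),
      (408,[0,2]),
      (25,[0,2,1]),
      (26,[0,2,0]),
      (27,[0,3,0]),
      (33,[0,3,2]),
      (58,[0,0,2]),
      (65,[0,2,3]),
      (66,[0,3,1]),
      (78,[0,1,0]),
      (191,[0,0,0]),
      (284,[0,0,3]),
      (391,[0,1,1]),
      (392,[0,1,2]),
      (410,[0,2,2]),
      (14,[0,2,0,0]),
      (24,[0,1,1,3]),
      (31,[0,0,3,0]),
      (32,[0,2,3,2]),
      (37,[0,2,1,2]),
      (38,[0,0,0,1]),
      (40,[0,0,0,3]),
      (59,[0,1,2,2]),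
      (67,[0,3,2,1]),
      (137,[0,1,0,1]),
      (193,[0,3,0,0]),
      (206,[0,1,2,0]),
      (285,[0,1,0,0]),
      (399,[0,0,3,1]),
      (409,[0,2,1,1]),
      (464,[0,0,2,0]),
      (15,[0,1,2,2,0]),
      (30,[0,0,2,0,3]),
      (39,[0,1,1,3,0]),
      (101,[0,1,0,0,2]),
      (194,[0,0,0,1,3]),
      (195,[0,1,0,0,3]),
      (593,[0,0,2,0,2])],
    wit := [] },
  { base := 7, new := [([17,15],[16,18])],
    orbit := [(7,[]),
      (136,[0]),
      (234,[0,0]),
      (100,[0,0,0]),
      (283,[0,0,1])],
    wit := [] },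
  { base := 8, new := [([197],[198])],
    orbit := [(8,[]),
      (73,[0]),
      (75,[0,0]),
      (120,[0,1]),
      (369,[0,0,1]),
      (483,[0,0,1,0])],
    wit := [] },
  { base := 9, new := [([21],[22])],
    orbit := [(9,[]),
      (482,[0])],
    wit := [] }]

/-- an orbit -/
def root1_4 : Root :=
  ⟨[205], [206], 2, [206], [205], stb1_4,
    [[(4,false),(5,false),(3,false),(2,false),(1,false),(4,false)],
      [(4,false),(5,false),(3,false),(1,false),(3,false)],
      [(5,false),(5,false),(3,false),(2,false),(2,false),(3,false),(1,false),(2,false)],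
      [(2,false),(3,false),(1,false)]],
    [[0,2,4,1,1,1],[0,5,4,0,1,2],[0,3,1,0,3,2],[0,4,4,2,1,1]]⟩

/-- chain of a point stabiliser -/
def stb1_5 : List Lev := [
  { base := 4, new := [([199,195,139,31],[32,140,196,200])],
    orbit := [(4,[]),
      (67,[0]),
      (25,[0,0]),
      (410,[0,3]),
      (391,[0,3,1]),
      (392,[0,0,1]),
      (464,[0,3,2])],
    wit := [] },
  { base := 7, new := [([21,199,195,185],[186,196,200,22])],
    orbit := [(7,[]),
      (121,[0]),
      (34,[0,1]),
      (135,[0,0]),
      (282,[0,2]),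
      (35,[0,0,2]),
      (73,[0,0,0]),
      (75,[0,0,1]),
      (77,[0,2,1]),
      (118,[0,1,2]),
      (120,[0,1,1]),
      (234,[0,1,0]),
      (352,[0,2,0]),
      (28,[0,0,2,0]),
      (36,[0,2,1,1]),
      (41,[0,0,2,1]),
      (42,[0,2,0,1]),
      (80,[0,2,1,2]),
      (100,[0,1,0,2]),
      (134,[0,0,1,0]),
      (136,[0,2,0,0]),
      (233,[0,1,1,1]),
      (237,[0,1,2,0]),
      (283,[0,1,0,1]),
      (483,[0,1,0,0]),
      (8,[0,1,0,0,0]),
      (19,[0,1,0,2,1]),
      (29,[0,0,2,0,1]),
      (70,[0,2,0,0,0]),
      (71,[0,0,1,0,2]),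
      (76,[0,1,0,0,1]),
      (79,[0,0,2,1,1]),
      (99,[0,0,1,0,1]),
      (113,[0,1,2,0,2]),
      (351,[0,1,2,0,0]),
      (569,[0,0,2,0,2])],
    wit := [] },
  { base := 6, new := [([201,15,191],[192,16,202])],
    orbit := [(6,[]),
      (39,[0]),
      (195,[0,1]),
      (285,[0,0]),
      (101,[0,0,0])],
    wit := [] },
  { base := 8, new := [([201],[202])],
    orbit := [(8,[]),
      (483,[0])],
    wit := [] }]

/-- an orbit -/
def root1_5 : Root :=
  ⟨[21,197,195,185,113,209], [210,114,186,196,198,22], 2, [21,123,209,210,114,186,196,198,22], [21,197,195,185,113,209,210,124,22], stb1_5,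
    [[(4,false),(5,false),(2,false),(3,false),(1,false),(0,false),(5,false),(1,false)],
      [(5,false),(4,false),(5,false),(2,false),(5,false)],
      [(4,false),(5,false),(2,false),(5,false)],
      [(4,false),(4,false),(3,false),(5,false),(2,false),(5,false)]],
    [[0,2,2,3,2,1],[0,0,4,3,1,0],[0,0,3,1,1,0],[0,0,3,4,1,2]]⟩

/-- chain of a point stabiliser -/
def stb1_6 : List Lev := [
  { base := 6, new := [([17,15,7],[8,16,18])],
    orbit := [(6,[]),
      (33,[0]),
      (31,[0,3]),
      (194,[0,1]),
      (391,[0,2]),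
      (464,[0,0]),
      (24,[0,2,3]),
      (27,[0,1,2]),
      (30,[0,0,3]),
      (32,[0,1,1]),
      (38,[0,1,3]),
      (59,[0,2,2]),
      (60,[0,1,0]),
      (122,[0,3,2]),
      (137,[0,3,0]),
      (190,[0,3,1]),
      (193,[0,0,1]),
      (284,[0,0,0]),
      (409,[0,2,1]),
      (593,[0,0,2]),
      (14,[0,3,0,0]),
      (25,[0,2,2,1]),
      (26,[0,0,1,0]),
      (37,[0,1,3,0]),
      (39,[0,1,1,0]),
      (40,[0,2,1,2]),
      (58,[0,0,2,0]),
      (66,[0,2,1,3]),
      (67,[0,1,0,1]),
      (78,[0,0,0,1]),
      (101,[0,0,3,0]),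
      (191,[0,1,0,0]),
      (206,[0,0,1,2]),
      (212,[0,0,0,2]),
      (285,[0,2,3,0]),
      (392,[0,3,2,0]),
      (399,[0,1,2,0]),
      (408,[0,3,0,1]),
      (410,[0,3,0,3]),
      (15,[0,0,1,2,1]),
      (65,[0,0,1,0,2]),
      (195,[0,0,0,1,0])],
    wit := [] },
  { base := 8, new := [([21,17],[18,22])],
    orbit := [(8,[]),
      (75,[0]),
      (73,[0,1]),
      (120,[0,0]),
      (369,[0,2]),
      (483,[0,1,0])],
    wit := [] },
  { base := 7, new := [([197,11],[12,198])],
    orbit := [(7,[]),
      (234,[0]),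
      (136,[0,1]),
      (283,[0,0]),
      (100,[0,0,0])],
    wit := [] },
  { base := 9, new := [([21],[22])],
    orbit := [(9,[]),
      (482,[0])],
    wit := [] }]

/-- an orbit -/
def root1_6 : Root :=
  ⟨[21,11,155,4], [4,156,12,22], 1, [21,11,155,209,4,156,12,22], [21,11,155,4,210,156,12,22], stb1_6,
    [[(2,false),(1,false),(1,false)],
      [(4,false),(3,false),(4,false),(2,false),(1,false),(3,false)],
      [(4,false),(3,false),(5,false),(2,false),(1,false),(2,false)],
      [(2,false),(3,false),(1,false)]],
    [[0,5,1,0,0,0],[0,2,1,2,1,0],[0,3,1,4,1,0],[0,1,3,0,0,0]]⟩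

/-- chain of a point stabiliser -/
def stb1_7 : List Lev := [
  { base := 4, new := [([17,11,147,73],[74,148,12,18])],
    orbit := [(4,[]),
      (38,[0]),
      (31,[0,2]),
      (190,[0,1]),
      (194,[0,3]),
      (212,[0,0]),
      (16,[0,1,0]),
      (25,[0,2,1]),
      (33,[0,2,3]),
      (59,[0,3,1]),
      (60,[0,1,3]),
      (65,[0,3,2]),
      (67,[0,2,2]),
      (78,[0,1,1]),
      (191,[0,0,2]),
      (204,[0,2,0]),
      (284,[0,0,3]),
      (408,[0,1,2]),
      (593,[0,0,1]),
      (6,[0,2,3,0]),
      (15,[0,0,3,0]),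
      (26,[0,2,2,0]),
      (30,[0,1,3,1]),
      (32,[0,0,1,1]),
      (37,[0,1,1,2]),
      (39,[0,1,0,0]),
      (40,[0,0,2,3]),
      (58,[0,0,3,2]),
      (101,[0,3,2,0]),
      (122,[0,1,2,0]),
      (137,[0,2,3,2]),
      (193,[0,1,1,1]),
      (205,[0,2,0,2]),
      (206,[0,0,1,2]),
      (285,[0,3,1,0]),
      (410,[0,0,2,0]),
      (411,[0,1,0,1]),
      (592,[0,1,0,3]),
      (192,[0,0,1,1,0]),
      (195,[0,1,3,1,0]),
      (392,[0,0,3,2,2]),
      (464,[0,0,3,2,1])],
    wit := [] },
  { base := 6, new := [([21,199,171],[172,200,22])],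
    orbit := [(6,[]),
      (101,[0]),
      (39,[0,0]),
      (285,[0,1]),
      (195,[0,1,0])],
    wit := [] },
  { base := 8, new := [([21,197],[198,22])],
    orbit := [(8,[]),
      (73,[0]),
      (120,[0,1]),
      (369,[0,0]),
      (75,[0,0,1]),
      (483,[0,0,1,0])],
    wit := [] },
  { base := 9, new := [([21],[22])],
    orbit := [(9,[]),
      (482,[0])],
    wit := [] }]

/-- an orbit -/
def root1_7 : Root :=
  ⟨[21,171,57,207], [208,58,172,22], 3, [208,58,172,22], [21,171,57,207], stb1_7,
    [[(3,false),(4,false),(2,false),(2,false),(1,false),(3,false),(0,false),(0,false),(2,false)],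
      [(5,false),(5,false),(4,false),(5,false),(3,false),(3,false),(1,false),(1,false)],
      [(5,false),(5,false),(3,false),(1,false),(1,false)],
      [(2,false),(3,false),(1,false)]],
    [[0,0,0,2,1,2],[0,5,1,2,2,0],[0,6,2,0,0,0],[0,0,2,1,3,2]]⟩

/-- chain of a point stabiliser -/
def stb1_8 : List Lev := [
  { base := 4, new := [([19,11,165,43],[44,166,12,20])],
    orbit := [(4,[]),
      (101,[0]),
      (6,[0,0]),
      (39,[0,1]),
      (285,[0,2]),
      (195,[0,0,0])],
    wit := [] },
  { base := 6, new := [([21,11,179],[180,12,22])],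
    orbit := [(6,[]),
      (285,[0]),
      (39,[0,1]),
      (101,[0,0]),
      (195,[0,2])],
    wit := [] },
  { base := 8, new := [([17],[18])],
    orbit := [(8,[]),
      (75,[0]),
      (73,[0,0]),
      (369,[0,1]),
      (120,[0,0,1]),
      (483,[0,0,1,0])],
    wit := [] },
  { base := 9, new := [([21],[22])],
    orbit := [(9,[]),
      (482,[0])],
    wit := [] }]

/-- an orbit -/
def root1_8 : Root :=
  ⟨[293], [294], 4, [294], [293], stb1_8,
    [[(4,false),(4,false),(2,false),(2,false),(1,false),(3,false),(0,false),(2,false)],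
      [(3,false),(4,false),(2,false),(2,false),(3,false),(1,false),(3,false)],
      [(5,false),(4,false),(3,false),(4,false),(2,false),(5,false),(1,false),(4,false)],
      [(2,false),(3,false),(1,false)]],
    [[0,2,3,3,2],[0,0,2,0,0],[0,0,0,1,1],[0,0,0,3,1]]⟩

/-- chain of a point stabiliser -/
def stb1_9 : List Lev := [
  { base := 4, new := [([199,11,119,105],[106,120,12,200])],
    orbit := [(4,[]),
      (195,[0]),
      (14,[0,1]),
      (39,[0,0]),
      (285,[0,3]),
      (101,[0,0,3])],
    wit := [] },
  { base := 7, new := [([21,199,15],[16,200,22])],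
    orbit := [(7,[]),
      (136,[0]),
      (234,[0,2]),
      (283,[0,0]),
      (100,[0,0,1])],
    wit := [] },
  { base := 8, new := [([21,17],[18,22])],
    orbit := [(8,[]),
      (75,[0]),
      (120,[0,0]),
      (369,[0,1]),
      (73,[0,0,1]),
      (483,[0,0,1,0])],
    wit := [] },
  { base := 9, new := [([21],[22])],
    orbit := [(9,[]),
      (482,[0])],
    wit := [] }]

/-- an orbit -/
def root1_9 : Root :=
  ⟨[197,15,143,69,389], [390,70,144,16,198], 2, [199,11,69,395,390,70,144,16,198], [197,15,143,69,389,396,70,12,200], stb1_9,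
    [[(4,false),(3,false),(3,false),(2,false),(2,false),(3,false),(1,false),(3,false),(0,false),(5,false)],
      [(5,false),(5,false),(4,false),(5,false),(2,false),(1,false),(1,false)],
      [(4,false),(3,false),(4,false),(2,false),(1,false),(3,false)],
      [(2,false),(3,false),(1,false)]],
    [[0,1,0,4,0,2],[0,0,3,0,2,0],[0,4,1,3,3,0],[0,1,3,0,2,0]]⟩

/-- chain of a point stabiliser -/
def stb1_10 : List Lev := [
  { base := 4, new := [([21,199,195,73],[74,196,200,22])],
    orbit := [(4,[]),
      (38,[0]),
      (27,[0,0]),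
      (60,[0,2]),
      (195,[0,1]),
      (15,[0,0,0]),
      (24,[0,2,0]),
      (39,[0,1,2]),
      (66,[0,2,1]),
      (285,[0,0,1]),
      (399,[0,0,2]),
      (592,[0,1,0]),
      (33,[0,0,2,1]),
      (101,[0,0,0,1]),
      (191,[0,1,2,0]),
      (193,[0,2,0,0]),
      (206,[0,0,2,0]),
      (212,[0,0,0,0]),
      (409,[0,2,1,2]),
      (593,[0,0,0,2]),
      (16,[0,0,2,0,0]),
      (59,[0,0,0,0,2]),
      (65,[0,0,0,2,0]),
      (122,[0,0,0,1,0]),
      (464,[0,2,1,2,0])],
    wit := [] },
  { base := 6, new := [([21,15,153],[154,16,22])],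
    orbit := [(6,[]),
      (194,[0]),
      (190,[0,1]),
      (40,[0,1,0]),
      (58,[0,1,0,1])],
    wit := [] },
  { base := 8, new := [([201],[202])],
    orbit := [(8,[]),
      (483,[0])],
    wit := [] }]

/-- an orbit -/
def root1_10 : Root :=
  ⟨[449], [450], 5, [450], [449], stb1_10,
    [[(5,false),(4,false),(5,false),(3,false),(3,false),(2,false),(3,false),(1,false),(3,false),(0,false),(0,false),(2,false)],
      [(5,false),(4,false),(4,false),(3,false),(3,false),(2,false),(3,false)],
      [(4,false),(4,false),(3,false),(5,false),(2,false),(5,false)]],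
    [[0,6,2,1],[0,11,3,0],[0,0,0,1]]⟩

/-- state 1 -/
def st1 : St :=
  ⟨k1, 126000, 0xa00a00a00a00a00a00a00a00a00a00a00a00a00a00a00a00a00a00a00a00a00a00a00a00a00a00a00a00a00a00a00a00a00a00a00a00a00a00a00a00a00a00a00a00a00a00a00a00a00a00a00a00a00a00a00a00a00a00a00a00a00a00a00a00a00a00a00a00a00a00a00a00a00a00a00a00a00a00a00a00a00a00a00a00a00a00a00a00a00a00a00a00a00a00a00a00a00a00a00a00a00a00a00a00a00a00a00a00a00a00a00a00a00a00a00a00a00a00a00a00a00a00a00a00a00a00a00a00a00a00a00a00a00a00a00a00a00a00a00a00a00a00a00a00a00a00a00a00a00a00a00a00a00a00a00a00a00a00a00a00a00a00a00a00a00a00a00a00a00a00a00a00a00a00a00a00a00a00a00800a00a00a00a00a00a00a00a00a00900a00a00a00a00a00a00a00a00a00a00a00a00a00a00a00a00a00a00800800a00a00a00a00a00a00a00a00a00a00a00a00a00a00a00a00a00a00a00a00a00a00a00a00a00a00a00a00a00a00a00a00a00a00a00900a00a00a00a00a00a00900a00a00a00a00a00a00a00a00a00a00a00a00a00900800800a00a00a00900a00a00a00a00a00a00a00800a00a00a00a00a00a00a00a00a00a00a00a00a00a00a00a00a00a00a00900900a00a00a00a00a00a00900a00a00a00a00a00a00a00a00a00900800800a00a00900a00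a00a00a00a00a00a00a00a00a00800900a00a00a00a00a00a00a00800800900900a00a00a00a00a00a00a00a00a00a00a00a00900a00a00a00a00a00900800a00a00a00800900800800800400400900a00a00a00a00a00a00a00a00a00a00a00a00800900800800800800900800a00a00a00a00a00800a00a00a00a00a00800800900900800a00a00a00a00a00a00a00a00800800a00a00a00a00a00a00a00900900900800900900800900900900900800900a00a00a00a00a00900a00a00800900900800a00a00a00a00a00a00a00800800800900900800800800900900900900800800800800900900a00a00a00a00a00a00a00a00900800800a00a00a00a00a00a00a00a00900900800800900900800800900900900800800800900900800800800800900800800900900900900900800900800900900800800a00a00a00a00a00a00800a00a00a00a00a00a00a00800800800900900800800800900800800800a00a00a00a00a00a00800a00a00a00a00a00a00a00a00a00a00900900800800900900800900a00a00a00a00a00a00a00a00a00a00900900900900900800900900900800900900900900900800900900900800900800800800800800900900800900900800900900800800a00a00a00a00a00a00a00a00900800800a00a00a00a00a00a00a00a00a00900900900900900800800900900800900800800800900900900900800900800a00a00a00a00a00a00a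00a00a00800900800800900800800900900a00a00a00a00a00a00a00a00a00a00800800900800900900800900900900800800800900900a00a00a00a00a00a00a00a00a00900800900800800800900900800a00a00a00a00a00a00a00a00a00a0090080080090090090080080080080080080080090080090080090090090080080080080080090090080080080080080080080090090080080090090090080080090090080080090090090090090090090090090090090090090090080080090090080090090080090060060090080090090080090080090080080090080080080080090090080080080080080070090080090080080090080090080080080080080080090080080090040090080080080070070080090080080080090080080090090090090090080080090090080090080090090080080090080090080080090090080080090090080080090090090080090080080080090090090090090080080080080090080080090080090070070050050040040080080090090080080090080090080080080090060090080090090080090080040040060090090080080090090090080080080090090090090090090090090050050080090090090080090080080090090080080080090080090080080090090090070060060060060080090090080080080090090060080090090080090090060060080090090090090050040040050050070050050090080090090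09008009008007007005005004004009009008008009009009008008008008007007008009009008008008009008009004004008008009009008008008009008009008008009008008008009009005005009009008008009009009008009008009009008008008009008009008009009008008008009008009008008009009008008008006006007007008008009009008008008009008009009009008004004009009008009004004008008009009008008008009008008008008009005005009009008008009009009008007004004007007005008008009009008008008009008005009009008008009009009008008006009009008008009006006006008008009009008009008004006006006006006006004004004005005005005004005009009008008009009009008009004008008009008008008008005005004004005004004009009008008009009009008009008008009009008008008009008009006007007007005007005009009008008009009009008006007007007007005005005007007005005009009008008009009009008009006007007005005005004004008008009009008008008009008009005005005007007006007007007005007007007007005005006006006004004004004006006006004004004004004004004004005005005005004004007007007006006006006007007007006006006006007007006006006006004004004005007007005006006006005004005005007007007006004006000003001002,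 tree1, [root1_0,root1_1,root1_2,root1_3,root1_4,root1_5,root1_6,root1_7,root1_8,root1_9,root1_10]⟩

end CfsgLib.HN
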