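import Cfsg.Agent.Lib.DCoset.Orbits
import Cfsg.Agent.Lib.HN.ChainData

/-!
State 2.
-/

set_option autoImplicit false
set_option linter.style.longLine false

namespace CfsgLib.HN
open CfsgLib.CosetEnum CfsgLib.DCoset CfsgLib.DCoset.Space
/-- part 0 of `tree2` -/
def tree2P0 : List (Bool × ℕ × ℕ) := [
  (true,0,0),
  (false,0,3),
  (true,1,0),
  (false,0,4),
  (true,2,0),
  (false,0,0),
  (true,3,0),
  (false,0,2),
  (true,4,0),
  (false,0,390),
  (false,1,390),
  (false,3,390),
  (false,4,390),
  (false,5,390),
  (false,2,365),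
  (false,3,365),
  (false,4,365),
  (false,0,139),
  (false,1,139),
  (false,1,840),
  (false,0,541),
  (false,4,455),
  (true,5,0),
  (false,0,10),
  (false,1,10),
  (false,1,138),
  (false,0,367),
  (false,1,367),
  (false,4,367),
  (false,5,367),
  (false,1,302),
  (false,5,302),
  (false,0,549),
  (false,4,549),
  (false,5,549),
  (false,4,115),
  (true,6,0),
  (false,0,16),
  (false,1,16),
  (false,1,148),
  (false,0,454),
  (false,1,454),
  (false,4,454),
  (false,5,454),
  (false,1,300),
  (false,5,300),
  (false,0,389),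
  (false,4,389),
  (false,5,389),
  (false,4,204),
  (true,7,0),
  (false,0,15),
  (false,1,15),
  (false,2,15),
  (false,3,15),
  (false,4,15),
  (false,0,889),
  (false,1,889),
  (false,3,889),
  (false,4,889),
  (false,5,889),
  (false,0,38),
  (false,1,38),
  (false,2,38),
  (false,3,38),
  (false,4,38),
  (false,2,39),
  (false,3,39),
  (false,4,39),
  (false,5,39),
  (false,0,33),
  (false,2,33),
  (false,5,33),
  (false,0,137),
  (false,1,137),
  (false,2,137),
  (false,3,137),
  (false,5,137),
  (false,0,409),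
  (false,2,409),
  (false,2,470),
  (false,3,470),
  (false,4,470),
  (false,1,491),
  (false,2,491),
  (false,4,491),
  (false,5,491),
  (false,1,164),
  (false,2,164),
  (false,3,164),
  (false,4,164),
  (false,5,164),
  (false,1,848),
  (false,2,848),
  (false,5,848),
  (false,0,231),
  (false,2,231),
  (false,1,27),
  (false,2,27),
  (false,3,27)]

/-- part 1 of `tree2` -/
def tree2P1 : List (Bool × ℕ × ℕ) := [
  (false,4,27),
  (false,2,6),
  (false,3,6),
  (false,4,6),
  (false,0,408),
  (false,3,408),
  (false,2,32),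
  (false,0,30),
  (false,1,195),
  (false,4,195),
  (false,1,399),
  (false,4,399),
  (false,0,191),
  (false,3,823),
  (false,4,823),
  (false,0,66),
  (false,0,37),
  (false,1,37),
  (false,1,618),
  (false,2,618),
  (false,3,284),
  (false,1,355),
  (false,0,402),
  (false,5,402),
  (false,0,103),
  (false,2,103),
  (false,3,103),
  (false,5,477),
  (false,1,511),
  (false,0,218),
  (false,1,226),
  (false,4,416),
  (false,1,59),
  (false,1,593),
  (true,8,0),
  (false,0,12),
  (false,1,12),
  (false,2,12),
  (false,3,12),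
  (false,4,12),
  (false,5,12),
  (false,0,240),
  (false,1,240),
  (false,2,240),
  (false,3,240),
  (false,4,240),
  (false,5,240),
  (false,0,54),
  (false,1,54),
  (false,2,54),
  (false,4,54),
  (false,5,54),
  (false,0,52),
  (false,2,52),
  (false,0,196),
  (false,2,196),
  (false,3,196),
  (false,4,196),
  (false,5,196),
  (false,0,45),
  (false,1,45),
  (false,4,45),
  (false,5,45),
  (false,0,44),
  (false,1,44),
  (false,4,44),
  (false,5,44),
  (false,3,261),
  (false,5,261),
  (false,2,152),
  (false,1,363),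
  (false,2,363),
  (false,4,363),
  (false,5,363),
  (false,0,440),
  (false,1,440),
  (false,2,440),
  (false,5,440),
  (false,2,420),
  (false,4,420),
  (false,1,130),
  (false,2,130),
  (false,5,130),
  (false,0,236),
  (false,1,236),
  (false,4,236),
  (false,2,23),
  (false,3,23),
  (false,4,23),
  (false,2,158),
  (false,0,262),
  (false,2,262),
  (false,5,262),
  (false,5,318),
  (false,0,62),
  (false,3,62),
  (false,1,386),
  (false,4,386),
  (false,5,386),
  (false,0,171)]

/-- part 2 of `tree2` -/
def tree2P2 : List (Bool × ℕ × ℕ) := [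
  (false,4,22),
  (false,1,182),
  (false,2,182),
  (false,0,187),
  (false,1,619),
  (false,3,478),
  (false,0,53),
  (false,1,613),
  (false,4,613),
  (false,3,161),
  (false,4,198),
  (false,0,799),
  (false,2,799),
  (false,3,607),
  (false,4,110),
  (false,1,624),
  (false,1,235),
  (false,0,584),
  (true,9,0),
  (false,0,209),
  (false,2,209),
  (false,3,209),
  (false,4,209),
  (false,0,119),
  (false,3,119),
  (false,4,119),
  (false,4,303),
  (false,0,552),
  (false,0,260),
  (false,1,114),
  (false,5,114),
  (false,1,786),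
  (true,10,0),
  (false,0,578),
  (false,1,578),
  (false,2,578),
  (false,3,578),
  (false,4,578),
  (false,5,578),
  (false,0,1238),
  (false,1,1238),
  (false,2,1238),
  (false,3,1238),
  (false,4,1238),
  (false,5,1238),
  (false,0,361),
  (false,1,361),
  (false,2,361),
  (false,3,361),
  (false,4,361),
  (false,5,361),
  (false,0,547),
  (false,1,547),
  (false,2,547),
  (false,3,547),
  (false,4,547),
  (false,5,547),
  (false,0,703),
  (false,1,703),
  (false,2,703),
  (false,3,703),
  (false,4,703),
  (false,5,703),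
  (false,0,503),
  (false,1,503),
  (false,2,503),
  (false,3,503),
  (false,4,503),
  (false,5,503),
  (false,0,108),
  (false,1,108),
  (false,2,108),
  (false,3,108),
  (false,5,108),
  (false,0,141),
  (false,1,141),
  (false,2,141),
  (false,3,141),
  (false,5,141),
  (false,0,1283),
  (false,1,1283),
  (false,2,1283),
  (false,3,1283),
  (false,4,1283),
  (false,5,1283),
  (false,0,833),
  (false,1,833),
  (false,2,833),
  (false,3,833),
  (false,4,833),
  (false,5,833),
  (false,0,1233),
  (false,1,1233),
  (false,2,1233),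
  (false,3,1233),
  (false,4,1233),
  (false,5,1233),
  (false,0,1342),
  (false,1,1342),
  (false,2,1342)]

/-- part 3 of `tree2` -/
def tree2P3 : List (Bool × ℕ × ℕ) := [
  (false,3,1342),
  (false,4,1342),
  (false,5,1342),
  (false,0,1007),
  (false,1,1007),
  (false,2,1007),
  (false,3,1007),
  (false,4,1007),
  (false,5,1007),
  (false,0,1281),
  (false,1,1281),
  (false,2,1281),
  (false,3,1281),
  (false,4,1281),
  (false,5,1281),
  (false,0,558),
  (false,1,558),
  (false,2,558),
  (false,3,558),
  (false,5,558),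
  (false,0,571),
  (false,1,571),
  (false,2,571),
  (false,3,571),
  (false,4,571),
  (false,5,571),
  (false,0,521),
  (false,1,521),
  (false,2,521),
  (false,3,521),
  (false,4,521),
  (false,5,521),
  (false,1,766),
  (false,2,766),
  (false,3,766),
  (false,5,766),
  (false,0,149),
  (false,1,149),
  (false,2,149),
  (false,3,149),
  (false,4,149),
  (false,5,149),
  (false,1,1401),
  (false,2,1401),
  (false,3,1401),
  (false,4,1401),
  (false,5,1401),
  (false,0,446),
  (false,1,446),
  (false,2,446),
  (false,3,446),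
  (false,5,446),
  (false,0,376),
  (false,1,376),
  (false,3,376),
  (false,5,376),
  (false,1,852),
  (false,2,852),
  (false,3,852),
  (false,4,852),
  (false,5,852),
  (false,0,398),
  (false,1,398),
  (false,2,398),
  (false,3,398),
  (false,4,398),
  (false,5,398),
  (false,0,548),
  (false,1,548),
  (false,2,548),
  (false,3,548),
  (false,5,548),
  (false,1,1173),
  (false,3,1173),
  (false,4,1173),
  (false,5,1173),
  (false,0,395),
  (false,1,395),
  (false,4,395),
  (false,5,395),
  (false,0,485),
  (false,4,485),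
  (false,5,485),
  (false,0,929),
  (false,4,929),
  (false,0,1064),
  (false,1,1064),
  (false,2,1064),
  (false,3,1064),
  (false,4,1064),
  (false,5,1064),
  (false,1,790),
  (false,3,790),
  (false,5,790),
  (false,0,1379),
  (false,1,1379),
  (false,3,1379),
  (false,0,347),
  (false,1,347),
  (false,2,347)]

/-- part 4 of `tree2` -/
def tree2P4 : List (Bool × ℕ × ℕ) := [
  (false,3,347),
  (false,4,347),
  (false,5,347),
  (false,0,694),
  (false,2,694),
  (false,3,694),
  (false,5,694),
  (false,0,792),
  (false,4,792),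
  (false,0,466),
  (false,3,466),
  (false,1,487),
  (false,3,487),
  (false,0,1406),
  (false,1,1406),
  (false,2,1406),
  (false,3,1406),
  (false,4,1406),
  (false,5,1406),
  (false,1,345),
  (false,4,345),
  (false,5,345),
  (false,0,1198),
  (false,2,1198),
  (false,3,1198),
  (false,0,973),
  (false,3,973),
  (false,4,973),
  (false,0,853),
  (false,1,1201),
  (false,3,1201),
  (false,4,1201),
  (false,5,1201),
  (false,0,856),
  (false,3,856),
  (false,4,856),
  (false,5,856),
  (false,0,681),
  (false,1,705),
  (false,2,705),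
  (false,4,705),
  (false,5,705),
  (false,0,429),
  (false,1,429),
  (false,0,173),
  (false,2,173),
  (false,3,173),
  (false,5,173),
  (false,0,865),
  (false,1,865),
  (false,2,865),
  (false,3,865),
  (false,4,865),
  (false,5,865),
  (false,0,1146),
  (false,2,1146),
  (false,5,1146),
  (false,0,818),
  (false,1,818),
  (false,2,818),
  (false,3,818),
  (false,4,818),
  (false,5,818),
  (false,0,1292),
  (false,1,1292),
  (false,2,1292),
  (false,3,1292),
  (false,1,770),
  (false,2,770),
  (false,3,770),
  (false,2,1012),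
  (false,3,1012),
  (false,0,1269),
  (false,1,1269),
  (false,2,1269),
  (false,3,1269),
  (false,4,1269),
  (false,1,1121),
  (false,3,1121),
  (false,4,1121),
  (false,5,1121),
  (false,1,1147),
  (false,3,1147),
  (false,4,1147),
  (false,2,1231),
  (false,3,1231),
  (false,4,1231),
  (false,0,1295),
  (false,2,1295),
  (false,5,1295),
  (false,3,787),
  (false,4,787),
  (false,1,713),
  (false,2,713),
  (false,3,713),
  (false,5,713),
  (false,1,1160),
  (false,5,1160),
  (false,1,1086),
  (false,3,1086)]

/-- part 5 of `tree2` -/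
def tree2P5 : List (Bool × ℕ × ℕ) := [
  (false,1,1189),
  (false,2,1189),
  (false,3,1189),
  (false,5,1189),
  (false,1,1348),
  (false,3,1348),
  (false,4,1348),
  (false,0,518),
  (false,1,518),
  (false,2,518),
  (false,1,758),
  (false,0,1256),
  (false,2,1256),
  (false,3,1256),
  (false,1,1226),
  (false,4,1226),
  (false,1,980),
  (false,5,980),
  (false,0,1274),
  (false,5,1274),
  (false,0,426),
  (false,1,426),
  (false,3,426),
  (false,0,1060),
  (false,5,1060),
  (false,0,1272),
  (false,1,1272),
  (false,0,1068),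
  (false,3,1068),
  (false,1,1362),
  (false,3,1362),
  (false,2,1394),
  (false,4,1394),
  (false,0,577),
  (false,3,577),
  (false,4,577),
  (false,5,577),
  (false,1,1133),
  (false,2,1133),
  (false,1,815),
  (false,2,815),
  (false,4,815),
  (false,2,1212),
  (false,3,1212),
  (false,4,1212),
  (false,0,1096),
  (false,1,1096),
  (false,1,1347),
  (false,3,1347),
  (false,5,1347),
  (false,0,1101),
  (false,2,1101),
  (false,3,1101),
  (false,5,1101),
  (false,1,749),
  (false,0,243),
  (false,1,243),
  (false,2,243),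
  (false,3,243),
  (false,5,243),
  (false,1,529),
  (false,2,529),
  (false,3,529),
  (false,4,529),
  (false,5,529),
  (false,0,227),
  (false,2,227),
  (false,3,227),
  (false,4,227),
  (false,5,227),
  (false,1,1337),
  (false,0,1033),
  (false,3,1033),
  (false,4,1033),
  (false,5,1033),
  (false,1,719),
  (false,4,719),
  (false,2,642),
  (false,4,642),
  (false,1,598),
  (false,3,598),
  (false,4,598),
  (false,5,598),
  (false,0,737),
  (false,3,737),
  (false,4,737),
  (false,2,1371),
  (false,0,356),
  (false,1,356),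
  (false,3,356),
  (false,0,462),
  (false,5,462),
  (false,3,649),
  (false,5,649),
  (false,0,938),
  (false,1,938),
  (false,5,938),
  (false,0,706),
  (false,5,706),
  (false,2,944)]

/-- part 6 of `tree2` -/
def tree2P6 : List (Bool × ℕ × ℕ) := [
  (false,5,944),
  (false,0,1127),
  (false,2,689),
  (false,2,574),
  (false,3,783),
  (false,0,1157),
  (false,5,1157),
  (false,0,1317),
  (false,2,838),
  (false,1,688),
  (false,2,688),
  (false,4,688),
  (false,1,1179),
  (false,2,1179),
  (false,2,1367),
  (false,3,1367),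
  (false,4,1367),
  (false,0,932),
  (false,1,932),
  (false,2,932),
  (false,2,873),
  (false,2,788),
  (false,3,1051),
  (false,5,1051),
  (false,2,970),
  (false,3,553),
  (false,0,333),
  (false,5,333),
  (false,0,905),
  (false,1,905),
  (false,1,916),
  (false,3,879),
  (false,5,879),
  (false,0,255),
  (false,2,255),
  (false,3,255),
  (false,4,255),
  (false,3,849),
  (false,5,1253),
  (false,0,776),
  (false,4,776),
  (false,0,286),
  (false,5,286),
  (false,0,806),
  (false,3,806),
  (false,0,1206),
  (false,3,1206),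
  (false,5,1206),
  (false,1,871),
  (false,2,871),
  (false,1,986),
  (false,5,1027),
  (false,5,652),
  (false,3,334),
  (false,1,720),
  (false,4,945),
  (false,0,277),
  (false,3,277),
  (false,1,930),
  (false,0,1073),
  (false,3,1073),
  (false,0,324),
  (false,1,917),
  (false,5,1010),
  (false,2,1329),
  (false,1,714),
  (false,4,714),
  (false,0,1004),
  (false,1,346),
  (false,3,346),
  (false,0,92),
  (false,2,92),
  (false,3,92),
  (false,5,92),
  (false,2,242),
  (false,3,937),
  (false,1,923),
  (false,0,451),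
  (false,1,451),
  (false,1,512),
  (false,1,1140),
  (false,3,1258),
  (false,1,1196),
  (false,1,926),
  (false,3,312),
  (false,2,582),
  (false,0,543),
  (false,1,1279),
  (false,4,1259),
  (false,5,1165),
  (false,2,107),
  (false,1,622),
  (false,2,622),
  (false,0,683),
  (false,3,683),
  (false,4,683),
  (false,5,683),
  (false,1,1058),
  (false,1,1384),
  (false,2,1384)]

/-- part 7 of `tree2` -/
def tree2P7 : List (Bool × ℕ × ℕ) := [
  (false,5,87),
  (false,5,1168),
  (false,3,981),
  (false,5,981),
  (false,3,1293),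
  (false,2,1243),
  (false,0,1263),
  (false,3,1144),
  (false,1,1005),
  (false,1,1148),
  (false,1,1167),
  (false,0,1131),
  (false,1,1323),
  (false,4,641),
  (false,2,1302),
  (false,4,1091),
  (false,5,1091),
  (false,1,947),
  (false,1,565),
  (false,3,771),
  (false,4,771),
  (false,1,1139),
  (false,1,1247),
  (false,1,1108),
  (false,0,756),
  (false,5,993),
  (false,5,1216),
  (false,3,768),
  (false,5,1079),
  (false,0,305),
  (false,2,450),
  (false,3,450),
  (false,5,520),
  (false,4,634),
  (false,3,556),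
  (false,3,225),
  (true,11,0),
  (false,0,7),
  (false,1,7),
  (false,2,7),
  (false,3,7),
  (false,4,7),
  (false,5,7),
  (false,0,453),
  (false,1,453),
  (false,2,453),
  (false,3,453),
  (false,4,453),
  (false,5,453),
  (false,0,77),
  (false,1,77),
  (false,2,77),
  (false,5,77),
  (false,0,80),
  (false,1,80),
  (false,2,80),
  (false,3,80),
  (false,0,234),
  (false,2,234),
  (false,3,234),
  (false,4,234),
  (false,5,234),
  (false,0,121),
  (false,1,121),
  (false,2,121),
  (false,3,121),
  (false,4,121),
  (false,5,121),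
  (false,0,73),
  (false,1,73),
  (false,0,135),
  (false,2,135),
  (false,3,135),
  (false,4,135),
  (false,5,135),
  (false,1,505),
  (false,2,505),
  (false,3,505),
  (false,0,523),
  (false,2,523),
  (false,3,523),
  (false,4,523),
  (false,5,523),
  (false,0,525),
  (false,1,525),
  (false,3,525),
  (false,4,525),
  (false,1,517),
  (false,4,517),
  (false,0,270),
  (false,2,270),
  (false,3,270),
  (false,4,270),
  (false,1,510),
  (false,3,510),
  (false,0,352),
  (false,2,352),
  (false,3,352),
  (false,0,99),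
  (false,3,99)]

/-- part 8 of `tree2` -/
def tree2P8 : List (Bool × ℕ × ℕ) := [
  (false,5,784),
  (false,1,76),
  (false,4,282),
  (false,1,458),
  (false,2,458),
  (false,5,458),
  (false,0,100),
  (false,4,100),
  (false,1,569),
  (false,0,380),
  (false,3,380),
  (false,5,380),
  (false,0,483),
  (false,1,483),
  (false,3,8),
  (false,1,342),
  (false,1,36),
  (false,0,120),
  (false,3,144),
  (false,5,175),
  (true,12,0),
  (false,0,11),
  (false,1,11),
  (false,2,11),
  (false,3,11),
  (false,4,11),
  (false,5,11),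
  (false,0,370),
  (false,1,370),
  (false,2,370),
  (false,3,370),
  (false,4,370),
  (false,5,370),
  (false,0,181),
  (false,1,181),
  (false,2,181),
  (false,5,181),
  (false,0,112),
  (false,1,112),
  (false,2,112),
  (false,3,112),
  (false,0,185),
  (false,2,185),
  (false,3,185),
  (false,4,185),
  (false,5,185),
  (false,0,183),
  (false,1,183),
  (false,2,183),
  (false,3,183),
  (false,4,183),
  (false,5,183),
  (false,0,49),
  (false,1,49),
  (false,0,82),
  (false,2,82),
  (false,3,82),
  (false,4,82),
  (false,5,82),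
  (false,1,297),
  (false,2,297),
  (false,3,297),
  (false,0,339),
  (false,2,339),
  (false,3,339),
  (false,4,339),
  (false,5,339),
  (false,0,343),
  (false,1,343),
  (false,3,343),
  (false,4,343),
  (false,1,331),
  (false,4,331),
  (false,0,208),
  (false,2,208),
  (false,3,208),
  (false,4,208),
  (false,1,306),
  (false,3,306),
  (false,0,385),
  (false,2,385),
  (false,3,385),
  (false,0,162),
  (false,3,162),
  (false,5,530),
  (false,1,133),
  (false,4,320),
  (false,1,539),
  (false,2,539),
  (false,5,539),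
  (false,0,163),
  (false,4,163),
  (false,1,434),
  (false,0,435),
  (false,3,435),
  (false,5,435),
  (false,0,480),
  (false,1,480),
  (false,3,20),
  (false,1,427)]

/-- part 9 of `tree2` -/
def tree2P9 : List (Bool × ℕ × ℕ) := [
  (false,1,232),
  (false,0,247),
  (false,3,153),
  (false,5,88),
  (true,13,0),
  (false,0,86),
  (false,1,86),
  (false,2,86),
  (false,3,86),
  (false,4,86),
  (false,5,86),
  (false,0,1356),
  (false,1,1356),
  (false,2,1356),
  (false,3,1356),
  (false,4,1356),
  (false,5,1356),
  (false,0,155),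
  (false,1,155),
  (false,2,155),
  (false,3,155),
  (false,4,155),
  (false,5,155),
  (false,0,126),
  (false,1,126),
  (false,2,126),
  (false,3,126),
  (false,5,126),
  (false,0,800),
  (false,1,800),
  (false,2,800),
  (false,3,800),
  (false,4,800),
  (false,5,800),
  (false,1,315),
  (false,3,315),
  (false,5,315),
  (false,1,438),
  (false,3,438),
  (false,4,438),
  (false,5,438),
  (false,0,808),
  (false,1,808),
  (false,2,808),
  (false,3,808),
  (false,4,808),
  (false,5,808),
  (false,0,1372),
  (false,1,1372),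
  (false,2,1372),
  (false,3,1372),
  (false,4,1372),
  (false,5,1372),
  (false,0,1156),
  (false,1,1156),
  (false,2,1156),
  (false,4,1156),
  (false,0,1220),
  (false,1,1220),
  (false,2,1220),
  (false,3,1220),
  (false,4,1220),
  (false,5,1220),
  (false,1,1241),
  (false,2,1241),
  (false,4,1241),
  (false,1,1306),
  (false,2,1306),
  (false,3,1306),
  (false,5,1306),
  (false,0,762),
  (false,1,762),
  (false,2,762),
  (false,3,762),
  (false,4,762),
  (false,5,762),
  (false,0,452),
  (false,1,452),
  (false,2,452),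
  (false,3,452),
  (false,4,452),
  (false,1,201),
  (false,2,201),
  (false,3,201),
  (false,5,201),
  (false,0,967),
  (false,1,967),
  (false,2,967),
  (false,3,967),
  (false,4,967),
  (false,5,967),
  (false,0,1218),
  (false,3,1218),
  (false,4,1218),
  (false,5,1218),
  (false,0,747),
  (false,1,747),
  (false,2,747),
  (false,3,747),
  (false,4,747)]

/-- part 10 of `tree2` -/
def tree2P10 : List (Bool × ℕ × ℕ) := [
  (false,5,747),
  (false,1,1284),
  (false,2,1284),
  (false,3,1284),
  (false,4,1284),
  (false,0,1135),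
  (false,1,1135),
  (false,2,1135),
  (false,3,1135),
  (false,4,1135),
  (false,5,1135),
  (false,0,474),
  (false,1,474),
  (false,5,474),
  (false,2,413),
  (false,3,413),
  (false,1,314),
  (false,2,314),
  (false,1,1080),
  (false,2,1080),
  (false,3,1080),
  (false,5,1080),
  (false,0,693),
  (false,1,693),
  (false,3,693),
  (false,4,693),
  (false,5,693),
  (false,0,432),
  (false,1,432),
  (false,5,432),
  (false,0,616),
  (false,0,106),
  (false,1,106),
  (false,2,106),
  (false,0,239),
  (false,1,239),
  (false,4,239),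
  (false,5,239),
  (false,0,748),
  (false,1,748),
  (false,2,748),
  (false,4,748),
  (false,5,748),
  (false,1,359),
  (false,1,228),
  (false,2,228),
  (false,0,388),
  (false,1,388),
  (false,4,388),
  (false,5,388),
  (false,0,615),
  (false,1,615),
  (false,0,605),
  (false,1,605),
  (false,1,509),
  (false,1,1330),
  (false,0,299),
  (false,1,299),
  (false,4,299),
  (false,5,299),
  (false,1,1036),
  (false,1,241),
  (false,1,625),
  (false,3,625),
  (false,1,804),
  (false,0,892),
  (false,2,892),
  (false,4,892),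
  (false,1,1390),
  (false,2,1390),
  (false,3,1390),
  (false,4,1390),
  (false,5,1390),
  (false,1,1318),
  (false,2,1318),
  (false,3,1318),
  (false,4,1318),
  (false,5,1318),
  (false,1,949),
  (false,4,949),
  (false,5,949),
  (false,0,690),
  (false,2,690),
  (false,3,690),
  (false,4,690),
  (false,5,690),
  (false,0,1132),
  (false,2,1132),
  (false,3,1132),
  (false,4,1132),
  (false,5,1132),
  (false,0,915),
  (false,1,915),
  (false,2,915),
  (false,4,915),
  (false,1,1043),
  (false,4,1043),
  (false,0,979),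
  (false,1,979),
  (false,3,979)]

/-- part 11 of `tree2` -/
def tree2P11 : List (Bool × ℕ × ℕ) := [
  (false,1,600),
  (false,4,600),
  (false,0,1273),
  (false,3,1273),
  (false,5,1273),
  (false,1,1180),
  (false,1,1357),
  (false,1,1264),
  (false,0,1309),
  (false,1,1309),
  (false,2,1309),
  (false,4,1309),
  (false,5,1309),
  (false,1,1307),
  (false,1,1172),
  (false,0,1055),
  (false,5,1055),
  (false,1,982),
  (false,1,711),
  (false,5,711),
  (false,0,953),
  (false,3,953),
  (false,5,953),
  (false,1,1100),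
  (false,0,1153),
  (false,2,1153),
  (false,3,1153),
  (false,4,1153),
  (false,5,1153),
  (false,0,859),
  (false,1,859),
  (false,2,859),
  (false,3,859),
  (false,5,859),
  (false,1,1255),
  (false,2,1255),
  (false,0,1389),
  (false,1,1389),
  (false,2,1389),
  (false,3,1389),
  (false,4,1389),
  (false,0,909),
  (false,2,909),
  (false,3,909),
  (false,4,909),
  (false,5,909),
  (false,1,803),
  (false,2,803),
  (false,3,803),
  (false,4,803),
  (false,5,803),
  (false,0,504),
  (false,1,504),
  (false,3,504),
  (false,4,504),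
  (false,5,504),
  (false,1,465),
  (false,3,465),
  (false,4,465),
  (false,2,566),
  (false,3,566),
  (false,0,425),
  (false,1,425),
  (false,2,425),
  (false,5,425),
  (false,0,692),
  (false,1,692),
  (false,3,692),
  (false,4,692),
  (false,5,692),
  (false,1,1141),
  (false,2,1141),
  (false,3,1141),
  (false,4,1141),
  (false,5,1141),
  (false,0,875),
  (false,3,875),
  (false,4,875),
  (false,5,875),
  (false,4,1366),
  (false,5,1366),
  (false,2,151),
  (false,3,151),
  (false,0,854),
  (false,1,854),
  (false,4,854),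
  (false,0,145),
  (false,1,145),
  (false,4,145),
  (false,2,362),
  (false,4,362),
  (false,5,362),
  (false,0,588),
  (false,1,588),
  (false,3,588),
  (false,4,588),
  (false,5,588),
  (false,0,1103),
  (false,1,1103),
  (false,2,1103)]

/-- part 12 of `tree2` -/
def tree2P12 : List (Bool × ℕ × ℕ) := [
  (false,4,1103),
  (false,4,290),
  (false,1,611),
  (false,0,441),
  (false,2,441),
  (false,2,1339),
  (false,3,1339),
  (false,4,1339),
  (false,5,1339),
  (false,0,323),
  (false,5,323),
  (false,0,738),
  (false,2,738),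
  (false,3,738),
  (false,4,738),
  (false,1,554),
  (false,4,554),
  (false,0,940),
  (false,3,940),
  (false,1,884),
  (false,2,884),
  (false,3,884),
  (false,4,884),
  (false,2,1018),
  (false,1,1289),
  (false,2,1166),
  (false,3,1166),
  (false,4,1166),
  (false,1,752),
  (false,4,752),
  (false,5,752),
  (false,0,374),
  (false,1,374),
  (false,2,374),
  (false,4,374),
  (false,2,822),
  (false,3,822),
  (false,2,964),
  (false,3,964),
  (false,4,964),
  (false,1,1326),
  (false,0,594),
  (false,1,594),
  (false,4,594),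
  (false,1,91),
  (false,1,637),
  (false,1,604),
  (false,3,676),
  (false,4,676),
  (false,0,668),
  (false,3,668),
  (false,5,668),
  (false,1,1115),
  (false,0,991),
  (false,0,176),
  (false,4,176),
  (false,0,1062),
  (false,1,1062),
  (false,0,603),
  (false,4,603),
  (false,0,542),
  (false,1,542),
  (false,4,542),
  (false,1,740),
  (false,2,740),
  (false,4,740),
  (false,5,740),
  (false,1,1297),
  (false,3,646),
  (false,0,922),
  (false,4,922),
  (false,5,922),
  (false,0,484),
  (false,0,1072),
  (false,0,954),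
  (false,5,954),
  (false,2,1038),
  (false,5,1038),
  (false,4,576),
  (false,5,968),
  (false,0,648),
  (false,2,648),
  (false,4,648),
  (false,1,1105),
  (false,0,527),
  (false,1,527),
  (false,0,907),
  (false,1,907),
  (false,5,1282),
  (false,0,1388),
  (false,2,1388),
  (false,3,1388),
  (false,4,1388),
  (false,5,1388),
  (false,0,424),
  (false,4,424),
  (false,0,308),
  (false,2,308),
  (false,3,308),
  (false,4,308)]

/-- part 13 of `tree2` -/
def tree2P13 : List (Bool × ℕ × ℕ) := [
  (false,2,718),
  (false,4,718),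
  (false,0,969),
  (false,0,898),
  (false,1,494),
  (false,0,253),
  (false,4,253),
  (false,5,832),
  (false,0,899),
  (false,4,899),
  (false,5,899),
  (false,1,357),
  (false,2,357),
  (false,1,1285),
  (false,2,1285),
  (false,3,1285),
  (false,5,1285),
  (false,1,1171),
  (false,3,1171),
  (false,2,1234),
  (false,3,1188),
  (false,4,1188),
  (false,5,1188),
  (false,2,1110),
  (false,5,1110),
  (false,0,1081),
  (false,5,1081),
  (false,1,1405),
  (false,2,1405),
  (false,4,1405),
  (false,5,1405),
  (false,1,1237),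
  (false,4,1237),
  (false,4,959),
  (false,5,959),
  (false,0,867),
  (false,5,867),
  (false,5,216),
  (false,4,820),
  (false,3,1185),
  (false,4,1185),
  (false,0,1045),
  (false,1,1045),
  (false,1,1369),
  (false,4,1369),
  (false,1,1191),
  (false,4,1191),
  (false,0,1300),
  (false,2,1300),
  (false,4,506),
  (false,2,1280),
  (false,3,1280),
  (false,2,839),
  (false,5,839),
  (false,0,956),
  (false,1,1235),
  (false,4,514),
  (false,3,1065),
  (false,4,1065),
  (false,2,1286),
  (false,3,1286),
  (false,4,1286),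
  (false,5,1286),
  (false,4,1042),
  (false,1,1265),
  (false,2,1265),
  (false,1,258),
  (false,2,258),
  (false,2,1099),
  (false,2,727),
  (false,5,629),
  (false,4,760),
  (false,3,671),
  (false,4,1345),
  (false,5,1345),
  (false,2,987),
  (false,1,701),
  (false,0,1328),
  (false,3,1328),
  (false,5,1328),
  (false,4,702),
  (false,4,1400),
  (false,4,870),
  (false,3,1276),
  (false,0,1084),
  (false,4,1084),
  (false,5,1084),
  (false,0,406),
  (false,0,449),
  (false,0,538),
  (false,3,538),
  (false,3,581),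
  (false,5,791),
  (false,0,971),
  (false,0,274),
  (false,0,897),
  (false,3,489),
  (false,1,731),
  (false,3,675),
  (false,2,609)]

/-- part 14 of `tree2` -/
def tree2P14 : List (Bool × ℕ × ℕ) := [
  (false,1,977),
  (false,0,591),
  (false,0,597),
  (false,5,1383),
  (false,2,757),
  (false,0,1217),
  (false,2,414),
  (false,1,1225)]

/-- certificate data -/
def tree2 : List (Bool × ℕ × ℕ) :=
  [tree2P0, tree2P1, tree2P2, tree2P3, tree2P4, tree2P5, tree2P6, tree2P7, tree2P8, tree2P9, tree2P10, tree2P11, tree2P12, tree2P13, tree2P14].flatten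

/-- chain of a point stabiliser -/
def stb2_0 : List Lev := [
  { base := 6, new := [([21,19,195,145],[146,196,20,22])],
    orbit := [(6,[]),
      (391,[0]),
      (24,[0,3]),
      (33,[0,2]),
      (60,[0,0]),
      (399,[0,1]),
      (25,[0,0,2]),
      (27,[0,3,1]),
      (31,[0,2,3]),
      (32,[0,2,1]),
      (37,[0,3,2]),
      (58,[0,2,2]),
      (65,[0,0,1]),
      (66,[0,1,0]),
      (122,[0,0,0]),
      (137,[0,3,0]),
      (190,[0,0,3]),
      (284,[0,2,0]),
      (392,[0,1,2]),
      (409,[0,1,1]),
      (15,[0,1,0,0]),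
      (26,[0,0,0,1]),
      (38,[0,0,0,0]),
      (40,[0,0,2,2]),
      (59,[0,0,2,1]),
      (67,[0,0,1,1]),
      (78,[0,0,2,3]),
      (101,[0,3,1,0]),
      (191,[0,1,0,2]),
      (193,[0,2,2,0]),
      (194,[0,2,1,1]),
      (206,[0,3,2,0]),
      (212,[0,2,0,3]),
      (285,[0,2,0,0]),
      (408,[0,0,1,3]),
      (410,[0,2,3,1]),
      (593,[0,0,2,0]),
      (14,[0,1,0,0,0]),
      (30,[0,2,2,0,2]),
      (39,[0,2,0,0,1]),
      (195,[0,2,0,0,3]),
      (464,[0,0,2,0,2])],
    wit := [] },
  { base := 8, new := [([199],[200])],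
    orbit := [(8,[]),
      (120,[0]),
      (73,[0,1]),
      (75,[0,0]),
      (369,[0,0,2]),
      (483,[0,0,1])],
    wit := [] },
  { base := 7, new := [([15],[16])],
    orbit := [(7,[]),
      (136,[0]),
      (100,[0,0]),
      (234,[0,1]),
      (283,[0,0,0])],
    wit := [] },
  { base := 9, new := [([21],[22])],
    orbit := [(9,[]),
      (482,[0])],
    wit := [] }]

/-- an orbit -/
def root2_0 : Root :=
  ⟨[203], [204], 1, [207,204], [203,208], stb2_0,
    [[(5,false),(5,false),(4,false),(3,false),(3,false),(2,false),(3,false),(2,false),(1,false),(4,false)],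
      [(5,false),(5,false),(4,false),(4,false),(5,false),(2,false),(1,false),(4,false)],
      [(4,false),(4,false),(3,false),(3,false),(4,false),(1,false),(4,false),(4,false)],
      [(5,false),(4,false),(3,false),(3,false),(2,false),(2,false),(1,false),(1,false)]],
    [[0,3,0,2,0,1],[0,3,5,1,0,2],[0,2,2,4,1,0],[0,1,3,0,0,0]]⟩

/-- chain of a point stabiliser -/
def stb2_1 : List Lev := [
  { base := 6, new := [([201,11,177],[178,12,202])],
    orbit := [(6,[]),
      (392,[0]),
      (24,[0,0]),
      (26,[0,3]),
      (37,[0,2]),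
      (212,[0,1]),
      (27,[0,0,2]),
      (59,[0,2,3]),
      (65,[0,1,0]),
      (66,[0,1,1]),
      (122,[0,1,2]),
      (137,[0,3,1]),
      (191,[0,2,2]),
      (206,[0,0,0]),
      (284,[0,1,3]),
      (391,[0,0,3]),
      (410,[0,2,1]),
      (15,[0,0,0,0]),
      (25,[0,2,3,1]),
      (30,[0,0,0,2]),
      (31,[0,1,1,1]),
      (32,[0,3,1,1]),
      (33,[0,1,3,1]),
      (38,[0,0,3,1]),
      (40,[0,0,2,1]),
      (58,[0,1,2,3]),
      (60,[0,2,2,1]),
      (67,[0,1,0,2]),
      (78,[0,0,3,0]),
      (190,[0,2,1,2]),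
      (193,[0,0,0,1]),
      (195,[0,2,3,0]),
      (399,[0,0,3,2]),
      (408,[0,1,0,3]),
      (409,[0,1,1,3]),
      (593,[0,1,0,0]),
      (14,[0,2,2,1,0]),
      (39,[0,0,3,2,0]),
      (101,[0,1,0,0,0]),
      (194,[0,0,3,1,3]),
      (285,[0,2,1,2,0]),
      (464,[0,0,0,1,2])],
    wit := [] },
  { base := 7, new := [([21,17,11],[12,18,22])],
    orbit := [(7,[]),
      (234,[0]),
      (100,[0,1]),
      (136,[0,2]),
      (283,[0,0])],
    wit := [] },
  { base := 8, new := [([199],[200])],
    orbit := [(8,[]),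
      (120,[0]),
      (73,[0,1]),
      (75,[0,0]),
      (369,[0,0,1]),
      (483,[0,0,1,0])],
    wit := [] },
  { base := 9, new := [([21],[22])],
    orbit := [(9,[]),
      (482,[0])],
    wit := [] }]

/-- an orbit -/
def root2_1 : Root :=
  ⟨[21,123,4], [4,124,22], 1, [21,197,195,185,113,4,4,124,22], [21,123,4,4,114,186,196,198,22], stb2_1,
    [[(4,false),(4,false),(3,false),(3,false),(4,false),(1,false),(1,false)],
      [(4,false),(4,false),(3,false),(5,false),(1,false),(1,false),(2,false)],
      [(5,false),(5,false),(4,false),(4,false),(5,false),(2,false),(1,false),(4,false)],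
      [(5,false),(4,false),(3,false),(3,false),(2,false),(2,false),(1,false),(1,false)]],
    [[29,1,2,0,1,2],[28,2,3,3,3,0],[35,3,5,3,1,1],[29,1,0,1,0,0]]⟩

/-- chain of a point stabiliser -/
def stb2_2 : List Lev := [
  { base := 6, new := [([21,17,15,123],[124,16,18,22])],
    orbit := [(6,[]),
      (78,[0]),
      (25,[0,1]),
      (26,[0,3]),
      (58,[0,2]),
      (409,[0,0]),
      (27,[0,0,2]),
      (31,[0,3,0]),
      (33,[0,1,1]),
      (40,[0,1,2]),
      (66,[0,0,3]),
      (101,[0,1,0]),
      (137,[0,2,1]),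
      (191,[0,3,2]),
      (212,[0,2,2]),
      (392,[0,0,0]),
      (410,[0,2,0]),
      (14,[0,1,0,1]),
      (24,[0,0,2,2]),
      (30,[0,1,0,0]),
      (32,[0,2,1,3]),
      (37,[0,1,2,2]),
      (38,[0,0,3,1]),
      (39,[0,2,0,0]),
      (59,[0,0,2,0]),
      (65,[0,1,1,3]),
      (67,[0,2,0,3]),
      (122,[0,0,0,2]),
      (190,[0,1,1,2]),
      (193,[0,2,1,0]),
      (194,[0,3,0,2]),
      (206,[0,0,3,0]),
      (284,[0,3,2,2]),
      (285,[0,1,0,2]),
      (391,[0,3,2,0]),
      (399,[0,0,2,3]),
      (408,[0,1,2,0]),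
      (464,[0,3,0,0]),
      (15,[0,0,3,0,1]),
      (60,[0,0,2,0,1]),
      (195,[0,2,0,0,1]),
      (593,[0,0,3,0,2])],
    wit := [] },
  { base := 7, new := [([21,11],[12,22])],
    orbit := [(7,[]),
      (234,[0]),
      (100,[0,0]),
      (136,[0,1]),
      (283,[0,0,0])],
    wit := [] },
  { base := 9, new := [([17],[18])],
    orbit := [(9,[]),
      (119,[0]),
      (72,[0,1]),
      (114,[0,0]),
      (412,[0,0,1]),
      (482,[0,0,1,0])],
    wit := [] },
  { base := 8, new := [([201],[202])],
    orbit := [(8,[]),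
      (483,[0])],
    wit := [] }]

/-- an orbit -/
def root2_2 : Root :=
  ⟨[17,195,127,57], [58,128,196,18], 2, [131,213,58,128,196,18], [17,195,127,57,214,132], stb2_2,
    [[(5,false),(4,false),(3,false),(2,false),(4,false),(1,false)],
      [(5,false),(5,false),(4,false),(4,false),(5,false),(3,false),(3,false),(4,false),(2,false),(2,false),(1,false),(4,false),(4,false)],
      [(5,false),(5,false),(3,false),(1,false),(4,false),(4,false)],
      [(4,false),(4,false),(3,false),(5,false),(2,false),(3,false)]],
    [[0,4,2,3,3,2],[0,1,2,1,2,0],[0,1,2,3,1,0],[0,0,0,2,3,0]]⟩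

/-- chain of a point stabiliser -/
def stb2_3 : List Lev := [
  { base := 6, new := [([21,17,11,181],[182,12,18,22])],
    orbit := [(6,[]),
      (408,[0]),
      (14,[0,0]),
      (65,[0,3]),
      (191,[0,1]),
      (410,[0,2]),
      (26,[0,1,2]),
      (27,[0,1,1]),
      (32,[0,3,2]),
      (37,[0,3,0]),
      (38,[0,3,1]),
      (40,[0,0,0]),
      (60,[0,2,2]),
      (137,[0,2,3]),
      (193,[0,2,0]),
      (285,[0,0,1]),
      (392,[0,2,1]),
      (399,[0,1,0]),
      (15,[0,2,0,1]),
      (25,[0,0,0,2]),
      (30,[0,2,0,2]),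
      (31,[0,2,1,0]),
      (33,[0,2,2,1]),
      (39,[0,0,1,1]),
      (58,[0,0,0,1]),
      (59,[0,2,0,0]),
      (66,[0,1,0,2]),
      (67,[0,3,2,3]),
      (78,[0,3,1,1]),
      (101,[0,0,0,0]),
      (122,[0,1,0,1]),
      (190,[0,2,2,3]),
      (194,[0,2,3,2]),
      (195,[0,0,1,3]),
      (206,[0,0,1,0]),
      (212,[0,2,3,0]),
      (284,[0,1,2,0]),
      (391,[0,2,1,1]),
      (409,[0,1,1,2]),
      (464,[0,1,0,0]),
      (24,[0,1,1,2,2]),
      (593,[0,1,0,0,2])],
    wit := [] },
  { base := 7, new := [([21,195],[196,22])],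
    orbit := [(7,[]),
      (283,[0]),
      (100,[0,2]),
      (136,[0,1]),
      (234,[0,0])],
    wit := [] },
  { base := 8, new := [([197],[198])],
    orbit := [(8,[]),
      (73,[0]),
      (75,[0,0]),
      (120,[0,1]),
      (369,[0,0,1]),
      (483,[0,0,1,0])],
    wit := [] },
  { base := 9, new := [([21],[22])],
    orbit := [(9,[]),
      (482,[0])],
    wit := [] }]

/-- an orbit -/
def root2_3 : Root :=
  ⟨[21,19,195,181,23,1], [0,24,182,196,20,22], 3, [21,19,195,181,23,0,0,24,182,196,20,22], [21,19,195,181,23,1,1,24,182,196,20,22], stb2_3,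
    [[(5,false),(5,false),(4,false),(4,false),(5,false),(3,false),(2,false),(3,false),(2,false),(1,false),(5,false)],
      [(4,false),(3,false),(3,false),(2,false),(3,false),(2,false)],
      [(5,false),(4,false),(3,false),(1,false),(4,false)],
      [(5,false),(4,false),(3,false),(3,false),(2,false),(2,false),(1,false),(1,false)]],
    [[0,1,1,3,2,2],[0,0,4,0,1,1],[0,2,5,1,2,0],[0,5,0,1,0,1]]⟩

/-- chain of a point stabiliser -/
def stb2_4 : List Lev := [
  { base := 6, new := [([197,15,139],[140,16,198])],
    orbit := [(6,[]),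
      (30,[0]),
      (191,[0,0]),
      (193,[0,1]),
      (464,[0,2]),
      (15,[0,2,1]),
      (32,[0,0,1]),
      (40,[0,0,2]),
      (122,[0,1,0]),
      (206,[0,1,2]),
      (391,[0,2,0]),
      (408,[0,0,0]),
      (24,[0,2,0,2]),
      (27,[0,1,0,0]),
      (31,[0,0,1,0]),
      (38,[0,1,2,0]),
      (58,[0,1,0,2]),
      (65,[0,0,0,2]),
      (66,[0,1,0,1]),
      (67,[0,0,1,2]),
      (212,[0,0,2,0]),
      (284,[0,2,0,1]),
      (25,[0,0,1,2,0]),
      (26,[0,1,0,2,1]),
      (33,[0,0,1,0,2]),
      (39,[0,0,2,0,0]),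
      (78,[0,0,1,0,1]),
      (101,[0,1,2,0,0]),
      (194,[0,1,0,1,0]),
      (195,[0,1,0,0,0]),
      (285,[0,2,0,1,0]),
      (409,[0,1,0,1,2]),
      (410,[0,1,2,0,1]),
      (14,[0,1,0,1,0,0]),
      (137,[0,1,0,1,2,1]),
      (392,[0,0,1,2,0,0])],
    wit := [] },
  { base := 7, new := [([17,195],[196,18])],
    orbit := [(7,[]),
      (283,[0]),
      (100,[0,1]),
      (234,[0,1,0]),
      (136,[0,1,0,1])],
    wit := [] },
  { base := 9, new := [([21],[22])],
    orbit := [(9,[]),
      (482,[0])],
    wit := [] }]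

/-- an orbit -/
def root2_4 : Root :=
  ⟨[21,19,193,143,311], [312,144,194,20,22], 4, [21,201,15,151,101,209,312,144,194,20,22], [21,19,193,143,311,210,102,152,16,202,22], stb2_4,
    [[(5,false),(5,false),(4,false),(4,false),(5,false),(3,false),(2,false),(3,false)],
      [(5,false),(4,false),(3,false),(3,false),(2,false),(3,false),(2,false),(1,false),(1,false),(2,false)],
      [(5,false),(4,false),(3,false),(3,false),(2,false),(2,false),(1,false),(1,false)]],
    [[0,0,4,1,2],[0,5,4,3,1],[0,1,2,0,0]]⟩

/-- chain of a point stabiliser -/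
def stb2_5 : List Lev := [
  { base := 6, new := [([19,11,167],[168,12,20])],
    orbit := [(6,[]),
      (137,[0]),
      (32,[0,2]),
      (59,[0,1]),
      (193,[0,0]),
      (15,[0,0,1]),
      (206,[0,0,0]),
      (212,[0,1,2]),
      (399,[0,2,1]),
      (408,[0,1,1]),
      (409,[0,2,0]),
      (14,[0,2,1,0]),
      (27,[0,0,1,0]),
      (30,[0,0,1,1]),
      (31,[0,1,1,2]),
      (66,[0,2,0,2]),
      (122,[0,2,1,1]),
      (191,[0,1,1,1]),
      (194,[0,1,2,0]),
      (284,[0,2,0,1]),
      (593,[0,0,1,2]),
      (24,[0,1,2,0,1]),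
      (26,[0,2,0,1,1]),
      (33,[0,1,1,1,0]),
      (37,[0,2,0,1,2]),
      (58,[0,0,1,1,0]),
      (65,[0,2,0,2,1]),
      (190,[0,1,2,0,2]),
      (285,[0,0,1,2,0]),
      (38,[0,2,0,2,1,1]),
      (39,[0,0,1,2,0,1]),
      (40,[0,0,1,1,0,2]),
      (60,[0,2,0,1,1,1]),
      (78,[0,2,0,1,1,2]),
      (101,[0,0,1,2,0,2]),
      (195,[0,0,1,2,0,1,1])],
    wit := [] },
  { base := 7, new := [([21,195],[196,22])],
    orbit := [(7,[]),
      (283,[0]),
      (136,[0,1]),
      (234,[0,0]),
      (100,[0,0,0])],
    wit := [] },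
  { base := 8, new := [([201],[202])],
    orbit := [(8,[]),
      (483,[0])],
    wit := [] }]

/-- an orbit -/
def root2_5 : Root :=
  ⟨[21,197,195,145,5,351], [352,6,146,196,198,22], 4, [21,17,191,43,205,352,6,146,196,198,22], [21,197,195,145,5,351,206,44,192,18,22], stb2_5,
    [[(5,false),(4,false),(4,false),(3,false),(3,false),(4,false)],
      [(4,false),(3,false),(3,false),(2,false),(3,false),(2,false)],
      [(4,false),(4,false),(3,false),(5,false),(2,false),(3,false)]],
    [[0,1,4,0,1],[0,0,1,3,0],[0,0,0,3,1]]⟩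

/-- chain of a point stabiliser -/
def stb2_6 : List Lev := [
  { base := 6, new := [([201,193,187],[188,194,202])],
    orbit := [(6,[]),
      (191,[0]),
      (40,[0,0]),
      (122,[0,2]),
      (408,[0,1]),
      (31,[0,1,2]),
      (58,[0,0,2]),
      (59,[0,1,1]),
      (60,[0,1,0]),
      (190,[0,0,1]),
      (399,[0,0,0]),
      (593,[0,2,0]),
      (14,[0,1,0,0]),
      (15,[0,2,0,2]),
      (24,[0,0,1,1]),
      (26,[0,1,0,1]),
      (27,[0,0,0,2]),
      (30,[0,2,0,1]),
      (32,[0,0,0,1]),
      (33,[0,1,2,0]),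
      (38,[0,1,0,2]),
      (39,[0,0,1,0]),
      (101,[0,2,0,0]),
      (137,[0,1,1,1]),
      (194,[0,0,1,2]),
      (195,[0,1,1,0]),
      (206,[0,0,2,0]),
      (212,[0,1,1,2]),
      (37,[0,1,2,0,0]),
      (65,[0,1,0,2,1]),
      (78,[0,0,1,2,0]),
      (193,[0,0,2,0,2]),
      (284,[0,0,1,1,0]),
      (285,[0,0,1,0,1]),
      (409,[0,1,1,0,0]),
      (66,[0,1,0,2,1,1])],
    wit := [] },
  { base := 7, new := [([199,15],[16,200])],
    orbit := [(7,[]),
      (136,[0]),
      (100,[0,0]),
      (283,[0,1]),
      (234,[0,0,0])],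
    wit := [] },
  { base := 8, new := [([201],[202])],
    orbit := [(8,[]),
      (483,[0])],
    wit := [] }]

/-- an orbit -/
def root2_6 : Root :=
  ⟨[21,195,7,113,301], [302,114,8,196,22], 2, [199,11,175,5,359,302,114,8,196,22], [21,195,7,113,301,360,6,176,12,200], stb2_6,
    [[(5,false),(4,false),(4,false),(5,false),(3,false),(3,false),(2,false),(3,false)],
      [(5,false),(5,false),(4,false),(4,false),(3,false),(2,false),(4,false)],
      [(4,false),(4,false),(3,false),(5,false),(2,false),(3,false)]],
    [[0,1,5,0,2,0],[0,0,4,4,1,2],[0,0,3,0,0,2]]⟩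

/-- chain of a point stabiliser -/
def stb2_7 : List Lev := [
  { base := 7, new := [([199,15,185],[186,16,200])],
    orbit := [(7,[]),
      (36,[0]),
      (70,[0,1]),
      (369,[0,0]),
      (75,[0,0,1]),
      (545,[0,1,0]),
      (29,[0,1,0,1]),
      (34,[0,0,1,0]),
      (100,[0,1,0,0]),
      (42,[0,0,1,0,0]),
      (134,[0,0,1,0,1]),
      (283,[0,1,0,0,1]),
      (352,[0,1,0,1,0]),
      (35,[0,1,0,0,1,0]),
      (80,[0,0,1,0,1,0]),
      (118,[0,1,0,1,0,0]),
      (71,[0,1,0,1,0,0,1]),
      (73,[0,0,1,0,1,0,0]),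
      (121,[0,1,0,0,1,0,1]),
      (380,[0,0,1,0,1,0,1]),
      (79,[0,1,0,1,0,0,1,0]),
      (120,[0,0,1,0,1,0,0,1]),
      (132,[0,1,0,0,1,0,1,0]),
      (76,[0,1,0,1,0,0,1,0,1]),
      (77,[0,0,1,0,1,0,0,1,0]),
      (234,[0,1,0,0,1,0,1,0,0]),
      (237,[0,1,0,0,1,0,1,0,1]),
      (43,[0,0,1,0,1,0,0,1,0,1]),
      (136,[0,1,0,0,1,0,1,0,0,1]),
      (483,[0,1,0,0,1,0,1,0,0,1,0])],
    wit := [] },
  { base := 9, new := [([21],[22])],
    orbit := [(9,[]),
      (482,[0])],
    wit := [] }]

/-- an orbit -/
def root2_7 : Root :=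
  ⟨[197,11,177,39,4], [4,40,178,12,198], 4, [19,15,147,33,209,4,40,178,12,198], [197,11,177,39,4,210,34,148,16,20], stb2_7,
    [[(5,false),(3,false),(3,false),(4,false),(2,false),(3,false),(1,false)],
      [(5,false),(4,false),(3,false),(3,false),(2,false),(2,false),(1,false),(1,false)]],
    [[0,5,4,1,2],[0,2,1,0,0]]⟩

/-- chain of a point stabiliser -/
def stb2_8 : List Lev := [
  { base := 7, new := [([19,15],[16,20])],
    orbit := [(7,[]),
      (136,[0]),
      (100,[0,1]),
      (234,[0,2]),
      (283,[0,0])],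
    wit := [] },
  { base := 8, new := [([21,199],[200,22])],
    orbit := [(8,[]),
      (120,[0]),
      (73,[0,1]),
      (369,[0,0]),
      (75,[0,0,1]),
      (483,[0,0,1,0])],
    wit := [] },
  { base := 9, new := [([21],[22])],
    orbit := [(9,[]),
      (482,[0])],
    wit := [] }]

/-- an orbit -/
def root2_8 : Root :=
  ⟨[21,199,15,119,29,371], [372,30,120,16,200,22], 2, [21,17,187,67,381,372,30,120,16,200,22], [21,199,15,119,29,371,382,68,188,18,22], stb2_8,
    [[(3,false),(3,false),(4,false),(2,false),(2,false),(1,false),(1,false)],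
      [(5,false),(4,false),(4,false),(3,false),(2,false),(3,false),(1,false),(1,false),(2,false)],
      [(5,false),(4,false),(3,false),(3,false),(2,false),(2,false),(1,false),(1,false)]],
    [[0,3,5,3,1,2],[0,1,0,0,3,1],[0,2,0,2,2,1]]⟩

/-- chain of a point stabiliser -/
def stb2_9 : List Lev := [
  { base := 6, new := [([21,17,151],[152,18,22])],
    orbit := [(6,[]),
      (40,[0]),
      (25,[0,1]),
      (191,[0,2]),
      (391,[0,0]),
      (24,[0,0,2]),
      (59,[0,0,1]),
      (60,[0,1,1]),
      (66,[0,2,1]),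
      (78,[0,1,2]),
      (193,[0,1,0]),
      (195,[0,2,0]),
      (409,[0,0,0]),
      (26,[0,0,1,0]),
      (30,[0,1,1,0]),
      (31,[0,0,2,1]),
      (32,[0,1,1,1]),
      (37,[0,0,1,2]),
      (39,[0,1,0,0]),
      (67,[0,2,1,0]),
      (101,[0,2,0,1]),
      (122,[0,2,0,0]),
      (137,[0,0,1,1]),
      (190,[0,1,1,2]),
      (206,[0,1,0,1]),
      (285,[0,2,0,2]),
      (399,[0,1,2,0]),
      (14,[0,2,0,1,1]),
      (33,[0,0,2,1,2]),
      (58,[0,0,1,1,1]),
      (65,[0,0,1,0,1]),
      (392,[0,0,1,0,2]),
      (408,[0,2,0,1,0]),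
      (410,[0,0,1,1,2]),
      (464,[0,1,0,1,0]),
      (593,[0,0,1,0,0])],
    wit := [] },
  { base := 7, new := [([197,11],[12,198])],
    orbit := [(7,[]),
      (234,[0]),
      (136,[0,1]),
      (283,[0,0]),
      (100,[0,0,0])],
    wit := [] },
  { base := 9, new := [([21],[22])],
    orbit := [(9,[]),
      (482,[0])],
    wit := [] }]

/-- an orbit -/
def root2_9 : Root :=
  ⟨[199,11,69,397], [398,70,12,200], 1, [197,15,143,69,403,398,70,12,200], [199,11,69,397,404,70,144,16,198], stb2_9,
    [[(5,false),(5,false),(3,false),(3,false),(1,false),(5,false)],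
      [(4,false),(4,false),(5,false),(2,false),(4,false),(1,false),(4,false)],
      [(5,false),(4,false),(3,false),(3,false),(2,false),(2,false),(1,false),(1,false)]],
    [[3,3,0,0,2,0],[16,5,4,4,2,0],[16,3,4,4,1,2]]⟩

/-- chain of a point stabiliser -/
def stb2_10 : List Lev := [
  { base := 6, new := [([21,11,161],[162,12,22])],
    orbit := [(6,[]),
      (195,[0]),
      (39,[0,1]),
      (101,[0,0]),
      (14,[0,0,0])],
    wit := [] },
  { base := 7, new := [([21,15],[16,22])],
    orbit := [(7,[]),
      (136,[0])],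
    wit := [] }]

/-- an orbit -/
def root2_10 : Root :=
  ⟨[21,17,11,151,95,245], [246,96,152,12,18,22], 5, [21,201,135,95,209,246,96,152,12,18,22], [21,17,11,151,95,245,210,96,136,202,22], stb2_10,
    [[(4,false),(4,false),(3,false),(3,false),(4,false),(2,false),(1,false),(4,false),(4,false)],
      [(5,false),(3,false),(5,false),(2,false),(2,false),(1,false),(4,false)]],
    [[0,23,1,1],[0,18,4,0]]⟩

/-- chain of a point stabiliser -/
def stb2_11 : List Lev := [
  { base := 8, new := [([17,171],[172,18])],
    orbit := [(8,[]),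
      (544,[0]),
      (36,[0,0]),
      (113,[0,1]),
      (70,[0,0,1]),
      (80,[0,1,0]),
      (118,[0,0,0]),
      (41,[0,0,0,0]),
      (71,[0,0,0,1]),
      (75,[0,1,0,0]),
      (120,[0,0,1,0]),
      (380,[0,1,0,1]),
      (35,[0,1,0,1,0]),
      (73,[0,0,1,0,1]),
      (77,[0,1,0,0,0]),
      (135,[0,0,0,1,0]),
      (351,[0,0,0,0,1]),
      (369,[0,1,0,0,1]),
      (43,[0,0,0,1,0,0]),
      (76,[0,0,0,0,1,0]),
      (99,[0,0,1,0,1,0]),
      (121,[0,1,0,0,1,0]),
      (134,[0,1,0,1,0,0]),
      (237,[0,1,0,0,0,0]),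
      (282,[0,0,0,1,0,1]),
      (34,[0,1,0,1,0,0,1]),
      (79,[0,0,0,0,1,0,1]),
      (132,[0,1,0,0,0,0,1]),
      (233,[0,0,1,0,1,0,1]),
      (483,[0,1,0,0,0,0,1,0])],
    wit := [] },
  { base := 9, new := [([21],[22])],
    orbit := [(9,[]),
      (482,[0])],
    wit := [] }]

/-- an orbit -/
def root2_11 : Root :=
  ⟨[21,171,57,207], [208,58,172,22], 6, [208,58,172,22], [21,171,57,207], stb2_11,
    [[(4,false),(4,false),(3,false),(3,false),(2,false),(3,false),(2,false),(1,false),(4,false)],
      [(5,false),(4,false),(3,false),(3,false),(2,false),(2,false),(1,false),(1,false)]],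
    [[0,0,2,3,2],[0,0,0,1,2]]⟩

/-- chain of a point stabiliser -/
def stb2_12 : List Lev := [
  { base := 6, new := [([21,15,191],[192,16,22])],
    orbit := [(6,[]),
      (39,[0]),
      (101,[0,0]),
      (195,[0,1]),
      (285,[0,1,2])],
    wit := [] },
  { base := 8, new := [([21,19],[20,22])],
    orbit := [(8,[]),
      (369,[0]),
      (75,[0,1]),
      (120,[0,0]),
      (73,[0,0,1]),
      (483,[0,0,1,0])],
    wit := [] },
  { base := 9, new := [([21],[22])],
    orbit := [(9,[]),
      (482,[0])],
    wit := [] }]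

/-- an orbit -/
def root2_12 : Root :=
  ⟨[199,133,55,285], [286,56,134,200], 6, [199,195,187,115,0,286,56,134,200], [199,133,55,285,1,116,188,196,200], stb2_12,
    [[(5,false),(5,false),(4,false),(3,false),(3,false),(2,false),(2,false),(1,false),(4,false)],
      [(3,false),(5,false),(2,false),(1,false),(4,false),(4,false)],
      [(5,false),(4,false),(3,false),(3,false),(2,false),(2,false),(1,false),(1,false)]],
    [[0,0,0,2,0],[0,0,0,1,1],[0,0,4,0,1]]⟩

/-- chain of a point stabiliser -/
def stb2_13 : List Lev := [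
  { base := 6, new := [([21,201,15,153],[154,16,202,22])],
    orbit := [(6,[]),
      (194,[0]),
      (40,[0,0]),
      (190,[0,1]),
      (58,[0,0,0])],
    wit := [] },
  { base := 8, new := [([201],[202])],
    orbit := [(8,[]),
      (483,[0])],
    wit := [] }]

/-- an orbit -/
def root2_13 : Root :=
  ⟨[201,193,135,71,575], [576,72,136,194,202], 6, [21,201,11,147,67,205,576,72,136,194,202], [201,193,135,71,575,206,68,148,12,202,22], stb2_13,
    [[(5,false),(4,false),(4,false),(3,false),(2,false),(3,false)],
      [(4,false),(4,false),(3,false),(5,false),(2,false),(3,false)]],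
    [[0,0,2,2,1],[0,0,4,0,1]]⟩

/-- state 2 -/
def st2 : St :=
  ⟨k2, 5040, 0xd00a00d00d00a00a00a00d00a00d00d00d00a00a00d00a00d00d00d00d00a00a00d00a00d00d00a00a00a00d00a00d00d00a00d00d00a00d00d00a00a00d00a00a00d00a00a00a00d00d00d00d00a00a00a00d00a00d00d00a00a00d00d00a00a00a00d00a00d00d00a00a00d00d00d00a00d00d00a00d00a00d00a00d00a00d00a00a00a00d00a00d00d00a00d00a00a00a00d00d00d00d00a00a00d00a00d00d00a00d00d00a00a00a00a00a00d00a00d00a00a00d00d00d00a00d00a00d00a00a00d00d00d00a00d00a00a00a00a00d00a00a00d00d00a00a00a00d00a00a00d00a00d00d00a00d00d00d00a00d00a00a00d00d00a00d00d00a00d00a00d00a00d00d00a00d00a00a00d00a00a00a00d00d00a00d00d00d00a00d00d00a00d00d00a00a00a00d00a00a00d00a00a00d00d00d00a00d00a00a00d00a00d00d00a00d00d00a00a00d00a00a00d00a00d00a00a00d00a00d00d00a00d00d00a00d00d00a00d00a00a00d00a00a00d00d00d00a00d00d00a00d00d00d00d00a00d00a00d00a00a00a00d00a00d00a00d00a00a00d00a00d00d00d00a00d00a00d00d00a00a00a00d00a00a00d00a00a00d00a00d00a00d00d00a00a00d00d00a00a00d00d00d00a00d00d00a00d00d00d00a00a00d00a00a00d00a00d00d00a00a00a00a0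0d00d00a00d00d00a00d00a00d00d00a00a00d00a00d00a00a00d00a00d00a00700d00d00a00d00a00d00a00d00a00a00d00a00d00a00d00a00a00d00a00d00d00a00d00a00d00a00d00a00700a00400800d00d00d00a00a00a00a00d00d00a00a00a00d00a00d00a00a00a00a00d00a00a00d00a00d00a00a00d00a00d00a00a00a00700d00d00a00a00a00d00a00d00a00d00a00a00a00d00d00a00a00d00a00d00d00d00d00a00d00d00a00d00d00d00d00a00d00a00d00a00d00d00d00a00d00a00d00d00a00d00a00d00d00a00d00a00a00a00a00d00d00a00a00a00d00d00d00d00a00a00a00a00d00d00a00d00a00a00d00a00d00a00d00a00a00d00a00d00d00a00a00d00a00d00d00a00a00d00d00a00a00d00d00d00a00a00a00d00d00a00a00700a00d00a00a00d00d00d00d00800a00d00a00d00d00a00a00d00a00d00d00a00d00a00a00d00d00a00d00a00d00a00a00a00d00d00a00a00a00d00a00700a00d00a00a00d00d00a00400d00a00d00d00a00d00a00d00d00a00d00d00a00a00d00d00700d00d00d00a00a00d00a00a00d00d00a00d00800d00d00800a00d00d00d00900600d00800d00d00a00d00d00d00a00d00a00a00a00a00900b00b00a00d00b00a00b00d00a00a00a00d00a00d00a00a00d00a00d00a00a00a00d00d00a00d00d00a00d00a00d00d00d00d00d00a00a00d00d00a00d00a00a00a00d00d00d00d00a00d0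0a00d00d00a00d00a00a00a00d00d00c00d00a00a00d00a00a00d00d00a00d00a00a00d00d00d00a00a00d00a00a00d00a00d00d00c00d00d00d00c00a00a00d00d00a00d00a00a00d00a00a00d00a00d00a00b00a00a00a00d00d00a00d00a00d00d00a00d00d00a00d00a00b00700a00d00d00500700a00a00a00a00a00a00d00a00d00a00d00d00d00a00a00a00a00a00d00d00a00a00a00c00700a00a00d00800700a00d00800b00a00a00d00800700a00d00d00d00800800d00d00d00d00800800d00d00d00a00a00d00800a00d00d00a00d00700600d00a00d00d00700800c00800a00a00d00a00a00a00a00d00800a00a00c00a00c00b00d00a00d00a00a00d00c00b00700700a00a00a00700d00a00900d00800500a00a00c00b00b00a00d00400a00c00d00a00a00d00800d00b00b00c00a00d00d00a00b00700b00d00a00a00d00a00b00700a00d00d00a00700b00d00a00a00d00b00d00a00b00700a00a00d00d00b00b00d00a00700700a00d00a00a00d00a00d00b00900500c00800800700a00d00d00a00a00b00700800700a00a00d00700d00a00d00d00a00b00700800400600b00d00a00a00d00d00d00a00700a00d00d00d00800d00d00d00800c00c00a00d00800d00a00800c00a00d00d00a00a00c00800c00b00c00700b00d00d00900600700700700a00d00d00a00700700b00b00700a00d00500a00d00b00700700400600d00d0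0800c00800800c00c00b00c00c00d00a00600d00d00a00800c00b00900500500400800800d00a00a00d00d00d00a00700a00c00b00b00c00800d00a00a00a00d00c00b00800800c00a00d00d00a00a00a00d00c00b00c00c00d00a00a00a00d00b00c00c00800800700a00d00d00d00a00800c00800d00a00c00a00d00900500400600d00a00c00a00d00c00b00c00a00d00d00a00a00a00700700b00b00c00c00800d00a00a00a00d00c00b00600b00700800400b00d00a00d00800800900a00d00800700a00a00d00c00a00400700800c00500800d00a00a00d00800d00a00b00800800b00b00c00700a00d00d00a00700a00d00700c00500d00a00700b00d00d00a00900700b00d00900c00b00700600600c00a00d00d00a00800c00800700700700600700700800800800c00c00c00c00800c00b00d00a00a00d00b00d00a00b00800700a00d00a00a00700700c00c00800800c00800400600d00a00c00800d00d00a00600400a00d00b00c00a00a00d00400500700b00b00b00c00b00c00800b00c00a00d00500800c00700b00b00900b00c00c00500900b00c00c00800d00a00a00d00d00800700800700b00b00c00c00c00400800c00a00d00d00a00c00a00d00c00b00c00c00c00b00b00700b00b00b00c00b00900b00b00c00c00700700700800800800800700700700800800800800800800800800c00500c00c00800800b00b00b00700700700700b00b00b00700700700700b00b00700700700700800800400c00b00200c00600700700300800c00500900b00b007000001000003001002,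 tree2, [root2_0,root2_1,root2_2,root2_3,root2_4,root2_5,root2_6,root2_7,root2_8,root2_9,root2_10,root2_11,root2_12,root2_13]⟩

end CfsgLib.HN
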