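import Cfsg.Agent.Lib.DCoset.Orbits
import Cfsg.Agent.Lib.HN.ChainData

/-!
State 3.
-/

set_option autoImplicit false
set_option linter.style.longLine false

namespace CfsgLib.HN
open CfsgLib.CosetEnum CfsgLib.DCoset CfsgLib.DCoset.Space
/-- part 0 of `tree3` -/
def tree3P0 : List (Bool × ℕ × ℕ) := [
  (true,0,0),
  (false,0,3),
  (false,1,3),
  (false,0,375),
  (false,1,375),
  (false,2,375),
  (false,3,375),
  (false,4,375),
  (false,5,375),
  (false,0,455),
  (false,1,455),
  (false,3,455),
  (false,4,455),
  (false,5,455),
  (false,6,455),
  (false,0,221),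
  (false,3,221),
  (false,4,221),
  (false,5,221),
  (false,0,114),
  (false,2,114),
  (false,4,114),
  (false,4,389),
  (false,1,271),
  (false,1,156),
  (false,1,801),
  (false,2,801),
  (false,2,412),
  (false,1,125),
  (false,5,125),
  (false,1,1032),
  (false,2,1032),
  (true,1,0),
  (false,0,2),
  (false,1,2),
  (false,0,541),
  (false,1,541),
  (false,2,541),
  (false,3,541),
  (false,4,541),
  (false,5,541),
  (false,0,367),
  (false,1,367),
  (false,3,367),
  (false,4,367),
  (false,5,367),
  (false,6,367),
  (false,0,260),
  (false,3,260),
  (false,4,260),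
  (false,5,260),
  (false,0,204),
  (false,2,204),
  (false,4,204),
  (false,4,390),
  (false,1,250),
  (false,1,147),
  (false,1,840),
  (false,2,840),
  (false,2,411),
  (false,1,209),
  (false,5,209),
  (false,1,481),
  (false,2,481),
  (true,2,0),
  (false,0,6),
  (false,1,6),
  (false,2,6),
  (false,3,6),
  (false,4,6),
  (false,5,6),
  (false,6,6),
  (false,0,1268),
  (false,1,1268),
  (false,2,1268),
  (false,3,1268),
  (false,4,1268),
  (false,5,1268),
  (false,6,1268),
  (false,0,703),
  (false,1,703),
  (false,2,703),
  (false,3,703),
  (false,4,703),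
  (false,5,703),
  (false,6,703),
  (false,0,101),
  (false,1,101),
  (false,3,101),
  (false,4,101),
  (false,5,101),
  (false,6,101),
  (false,0,206),
  (false,1,206),
  (false,2,206),
  (false,3,206),
  (false,4,206),
  (false,5,206),
  (false,0,284),
  (false,1,284)]

/-- part 1 of `tree3` -/
def tree3P1 : List (Bool × ℕ × ℕ) := [
  (false,3,284),
  (false,6,284),
  (false,0,65),
  (false,1,65),
  (false,3,65),
  (false,5,65),
  (false,0,24),
  (false,1,24),
  (false,2,24),
  (false,3,24),
  (false,0,1185),
  (false,1,1185),
  (false,2,1185),
  (false,3,1185),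
  (false,4,1185),
  (false,5,1185),
  (false,6,1185),
  (false,0,534),
  (false,1,534),
  (false,2,534),
  (false,3,534),
  (false,4,534),
  (false,6,534),
  (false,0,1095),
  (false,1,1095),
  (false,2,1095),
  (false,3,1095),
  (false,4,1095),
  (false,5,1095),
  (false,6,1095),
  (false,0,1248),
  (false,1,1248),
  (false,2,1248),
  (false,3,1248),
  (false,4,1248),
  (false,5,1248),
  (false,6,1248),
  (false,0,1174),
  (false,1,1174),
  (false,2,1174),
  (false,3,1174),
  (false,4,1174),
  (false,5,1174),
  (false,6,1174),
  (false,0,1117),
  (false,1,1117),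
  (false,2,1117),
  (false,3,1117),
  (false,5,1117),
  (false,6,1117),
  (false,0,946),
  (false,1,946),
  (false,2,946),
  (false,3,946),
  (false,6,946),
  (false,0,395),
  (false,1,395),
  (false,2,395),
  (false,3,395),
  (false,4,395),
  (false,5,395),
  (false,6,395),
  (false,0,20),
  (false,2,20),
  (false,3,20),
  (false,4,20),
  (false,5,20),
  (false,6,20),
  (false,0,874),
  (false,2,874),
  (false,3,874),
  (false,4,874),
  (false,5,874),
  (false,6,874),
  (false,0,338),
  (false,1,338),
  (false,2,338),
  (false,3,338),
  (false,4,338),
  (false,5,338),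
  (false,6,338),
  (false,0,917),
  (false,1,917),
  (false,2,917),
  (false,3,917),
  (false,4,917),
  (false,5,917),
  (false,6,917),
  (false,0,790),
  (false,1,790),
  (false,3,790),
  (false,4,790),
  (false,5,790),
  (false,1,635),
  (false,2,635),
  (false,3,635),
  (false,5,635),
  (false,0,1398),
  (false,1,1398),
  (false,2,1398)]

/-- part 2 of `tree3` -/
def tree3P2 : List (Bool × ℕ × ℕ) := [
  (false,4,1398),
  (false,5,1398),
  (false,6,1398),
  (false,0,254),
  (false,1,254),
  (false,2,254),
  (false,3,254),
  (false,4,254),
  (false,5,254),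
  (false,6,254),
  (false,0,66),
  (false,1,66),
  (false,4,66),
  (false,6,66),
  (false,0,15),
  (false,1,15),
  (false,2,15),
  (false,3,15),
  (false,3,58),
  (false,0,26),
  (false,1,26),
  (false,2,26),
  (false,0,1276),
  (false,1,1276),
  (false,2,1276),
  (false,3,1276),
  (false,4,1276),
  (false,5,1276),
  (false,6,1276),
  (false,0,1140),
  (false,2,1140),
  (false,3,1140),
  (false,4,1140),
  (false,5,1140),
  (false,6,1140),
  (false,0,37),
  (false,1,37),
  (false,3,37),
  (false,5,37),
  (false,6,37),
  (false,0,212),
  (false,1,212),
  (false,1,193),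
  (false,2,193),
  (false,6,193),
  (false,0,78),
  (false,2,78),
  (false,4,78),
  (false,0,983),
  (false,1,983),
  (false,2,983),
  (false,3,983),
  (false,4,983),
  (false,5,983),
  (false,6,983),
  (false,0,84),
  (false,2,84),
  (false,3,84),
  (false,4,84),
  (false,5,84),
  (false,6,84),
  (false,0,30),
  (false,1,30),
  (false,2,30),
  (false,3,30),
  (false,0,399),
  (false,1,399),
  (false,0,408),
  (false,1,408),
  (false,6,408),
  (false,0,578),
  (false,3,578),
  (false,4,578),
  (false,5,578),
  (false,0,60),
  (false,1,60),
  (false,1,1134),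
  (false,2,1134),
  (false,3,1134),
  (false,4,1134),
  (false,5,1134),
  (false,0,507),
  (false,2,507),
  (false,3,507),
  (false,4,507),
  (false,5,507),
  (false,6,507),
  (false,0,67),
  (false,1,67),
  (false,4,67),
  (false,1,17),
  (false,2,17),
  (false,3,17),
  (false,4,17),
  (false,5,17),
  (false,6,17),
  (false,0,655),
  (false,2,655),
  (false,4,655),
  (false,5,655)]

/-- part 3 of `tree3` -/
def tree3P3 : List (Bool × ℕ × ℕ) := [
  (false,0,831),
  (false,1,831),
  (false,2,831),
  (false,3,831),
  (false,4,831),
  (false,5,831),
  (false,2,1359),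
  (false,5,1359),
  (false,6,1359),
  (false,0,912),
  (false,1,912),
  (false,2,912),
  (false,4,912),
  (false,5,912),
  (false,6,912),
  (false,0,1153),
  (false,1,1153),
  (false,2,1153),
  (false,3,1153),
  (false,4,1153),
  (false,6,1153),
  (false,2,733),
  (false,3,733),
  (false,6,733),
  (false,2,1087),
  (false,3,1087),
  (false,6,1087),
  (false,0,1130),
  (false,1,1130),
  (false,2,1130),
  (false,3,1130),
  (false,4,1130),
  (false,6,1130),
  (false,3,110),
  (false,4,110),
  (false,5,110),
  (false,0,386),
  (false,2,386),
  (false,3,386),
  (false,4,386),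
  (false,5,386),
  (false,0,318),
  (false,3,318),
  (false,5,318),
  (false,3,586),
  (false,0,864),
  (false,1,864),
  (false,3,864),
  (false,5,864),
  (false,6,864),
  (false,3,276),
  (false,4,276),
  (false,5,276),
  (false,6,276),
  (false,0,1203),
  (false,1,1203),
  (false,3,1203),
  (false,4,1203),
  (false,6,1203),
  (false,0,759),
  (false,2,759),
  (false,5,759),
  (false,1,1192),
  (false,6,1192),
  (false,3,1389),
  (false,4,1389),
  (false,5,1389),
  (false,6,1389),
  (false,0,1346),
  (false,1,1346),
  (false,2,1346),
  (false,6,1346),
  (false,0,1040),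
  (false,1,1040),
  (false,2,1040),
  (false,3,1040),
  (false,6,1040),
  (false,0,144),
  (false,3,144),
  (false,0,726),
  (false,1,726),
  (false,2,726),
  (false,3,726),
  (false,4,726),
  (false,5,726),
  (false,6,726),
  (false,0,867),
  (false,2,867),
  (false,3,867),
  (false,5,867),
  (false,6,867),
  (false,1,687),
  (false,3,687),
  (false,4,687),
  (false,5,687),
  (false,2,1334),
  (false,3,1334),
  (false,4,1334),
  (false,1,1149),
  (false,3,1149)]

/-- part 4 of `tree3` -/
def tree3P4 : List (Bool × ℕ × ℕ) := [
  (false,3,59),
  (false,4,1010),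
  (false,6,1010),
  (false,0,1215),
  (false,1,1215),
  (false,4,1215),
  (false,1,1122),
  (false,2,1122),
  (false,3,1122),
  (false,1,1110),
  (false,2,1110),
  (false,3,1175),
  (false,1,837),
  (false,2,837),
  (false,3,837),
  (false,5,837),
  (false,6,837),
  (false,1,839),
  (false,0,1228),
  (false,2,1228),
  (false,3,1228),
  (false,5,1228),
  (false,6,1228),
  (false,1,1352),
  (false,4,1352),
  (false,5,1352),
  (false,6,1352),
  (false,1,863),
  (false,2,863),
  (false,3,863),
  (false,2,872),
  (false,3,872),
  (false,4,872),
  (false,1,673),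
  (false,6,673),
  (false,0,1363),
  (false,1,1363),
  (false,4,1363),
  (false,3,517),
  (false,4,517),
  (false,5,517),
  (false,6,517),
  (false,6,684),
  (false,3,1382),
  (false,6,1382),
  (false,0,1265),
  (false,3,1265),
  (false,1,853),
  (false,2,853),
  (false,3,853),
  (false,4,853),
  (false,5,853),
  (false,6,853),
  (false,0,378),
  (false,1,378),
  (false,2,378),
  (false,3,378),
  (false,5,378),
  (false,3,335),
  (false,4,335),
  (false,5,335),
  (false,6,335),
  (false,1,583),
  (false,2,583),
  (false,3,583),
  (false,4,583),
  (false,0,639),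
  (false,5,639),
  (false,6,639),
  (false,0,879),
  (false,2,879),
  (false,3,879),
  (false,4,879),
  (false,5,879),
  (false,0,565),
  (false,1,565),
  (false,2,565),
  (false,5,565),
  (false,1,1232),
  (false,2,1232),
  (false,5,1232),
  (false,6,1232),
  (false,1,181),
  (false,3,181),
  (false,4,181),
  (false,5,181),
  (false,6,181),
  (false,1,112),
  (false,2,112),
  (false,4,112),
  (false,1,232),
  (false,6,232),
  (false,0,186),
  (false,1,186),
  (false,2,186),
  (false,5,186),
  (false,0,183),
  (false,1,183),
  (false,5,183),
  (false,6,183)]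

/-- part 5 of `tree3` -/
def tree3P5 : List (Bool × ℕ × ℕ) := [
  (false,2,149),
  (false,3,149),
  (false,4,149),
  (false,5,149),
  (false,3,661),
  (false,4,661),
  (false,5,661),
  (false,6,661),
  (false,0,472),
  (false,2,472),
  (false,0,1012),
  (false,4,1012),
  (false,2,652),
  (false,6,652),
  (false,3,490),
  (false,6,490),
  (false,3,641),
  (false,4,641),
  (false,5,641),
  (false,3,1301),
  (false,4,1301),
  (false,6,1301),
  (false,0,932),
  (false,2,932),
  (false,4,932),
  (false,0,630),
  (false,2,630),
  (false,4,630),
  (false,5,630),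
  (false,6,630),
  (false,0,877),
  (false,2,877),
  (false,3,877),
  (false,4,877),
  (false,5,877),
  (false,1,142),
  (false,2,142),
  (false,6,894),
  (false,6,451),
  (false,1,40),
  (false,1,202),
  (false,2,202),
  (false,3,202),
  (false,2,943),
  (false,5,943),
  (false,1,656),
  (false,1,677),
  (false,2,677),
  (false,4,677),
  (false,5,526),
  (false,0,471),
  (false,6,471),
  (false,2,1078),
  (false,3,1078),
  (false,6,1078),
  (false,0,1013),
  (false,1,1013),
  (false,2,1013),
  (false,3,1013),
  (false,0,291),
  (false,1,291),
  (false,2,291),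
  (false,3,1064),
  (false,6,1064),
  (false,3,1284),
  (false,4,1284),
  (false,5,1284),
  (false,0,316),
  (false,5,316),
  (false,0,446),
  (false,3,446),
  (false,0,1073),
  (false,2,1073),
  (false,1,843),
  (false,2,843),
  (false,2,240),
  (false,3,240),
  (false,5,240),
  (false,3,1059),
  (false,5,1059),
  (false,2,1194),
  (false,4,1194),
  (false,1,991),
  (false,4,984),
  (false,1,162),
  (false,3,162),
  (false,4,162),
  (false,1,885),
  (false,5,885),
  (false,0,970),
  (false,2,970),
  (false,5,970),
  (false,3,944),
  (false,4,944),
  (false,5,944),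
  (false,2,1303),
  (false,5,994),
  (false,6,994),
  (false,1,31),
  (false,2,861)]

/-- part 6 of `tree3` -/
def tree3P6 : List (Bool × ℕ × ℕ) := [
  (false,4,495),
  (false,6,495),
  (false,2,32),
  (false,0,1018),
  (false,3,1018),
  (false,1,653),
  (false,2,68),
  (false,3,68),
  (false,6,602),
  (false,0,1028),
  (false,1,1028),
  (false,2,710),
  (false,6,710),
  (false,1,1390),
  (false,2,1390),
  (false,6,1390),
  (false,5,870),
  (false,6,870),
  (false,2,909),
  (false,5,219),
  (false,2,888),
  (false,5,888),
  (false,5,849),
  (false,0,866),
  (false,2,1163),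
  (false,6,1163),
  (false,1,784),
  (false,3,784),
  (false,6,784),
  (false,0,146),
  (false,4,146),
  (false,6,977),
  (false,4,423),
  (false,5,423),
  (false,1,1289),
  (false,4,1289),
  (false,1,989),
  (false,0,1006),
  (false,1,1006),
  (false,2,1006),
  (false,6,1006),
  (false,5,1188),
  (false,1,1017),
  (false,1,510),
  (false,4,510),
  (false,5,680),
  (false,6,496),
  (false,1,272),
  (false,3,272),
  (false,4,473),
  (false,6,473),
  (false,0,392),
  (false,1,1366),
  (false,0,719),
  (false,0,38),
  (false,1,38),
  (false,1,248),
  (false,4,248),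
  (false,4,827),
  (false,5,827),
  (false,6,640),
  (false,0,901),
  (false,2,901),
  (false,4,540),
  (false,3,1139),
  (false,4,1055),
  (false,5,1055),
  (false,2,1052),
  (false,4,347),
  (false,0,806),
  (false,6,806),
  (false,4,230),
  (false,3,579),
  (false,0,557),
  (false,0,1297),
  (false,6,548),
  (false,6,83),
  (false,1,117),
  (false,0,74),
  (false,3,663),
  (false,0,649),
  (false,2,177),
  (false,4,177),
  (false,3,275),
  (false,2,1080),
  (false,0,807),
  (false,2,807),
  (false,2,1065),
  (false,5,1065),
  (false,6,1331),
  (false,4,1202),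
  (false,2,1339),
  (false,6,601),
  (false,1,1308),
  (false,2,1328),
  (false,3,1328),
  (false,2,180),
  (false,6,180),
  (false,2,1335),
  (false,1,1210)]

/-- part 7 of `tree3` -/
def tree3P7 : List (Bool × ℕ × ℕ) := [
  (false,5,727),
  (false,2,1229),
  (false,4,1070),
  (false,3,606),
  (false,2,431),
  (false,4,431),
  (false,2,624),
  (false,3,624),
  (false,6,742),
  (false,0,371),
  (false,3,127),
  (false,1,173),
  (false,6,173),
  (false,5,459),
  (false,5,982),
  (false,0,1043),
  (false,1,1043),
  (false,3,1313),
  (false,1,133),
  (false,3,360),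
  (false,3,744),
  (false,5,211),
  (false,1,520),
  (false,6,1264),
  (false,0,1350),
  (false,5,1350),
  (false,0,774),
  (false,5,1291),
  (false,4,668),
  (false,1,834),
  (false,4,312),
  (false,5,382),
  (false,1,361),
  (false,4,1286),
  (false,2,613),
  (false,1,1373),
  (true,3,0),
  (false,0,7),
  (false,1,7),
  (false,2,7),
  (false,3,7),
  (false,4,7),
  (false,5,7),
  (false,6,7),
  (false,0,1327),
  (false,1,1327),
  (false,2,1327),
  (false,3,1327),
  (false,4,1327),
  (false,5,1327),
  (false,6,1327),
  (false,0,967),
  (false,1,967),
  (false,2,967),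
  (false,3,967),
  (false,4,967),
  (false,5,967),
  (false,6,967),
  (false,0,234),
  (false,1,234),
  (false,2,234),
  (false,3,234),
  (false,4,234),
  (false,5,234),
  (false,6,234),
  (false,0,351),
  (false,1,351),
  (false,2,351),
  (false,4,351),
  (false,5,351),
  (false,6,351),
  (false,0,135),
  (false,1,135),
  (false,2,135),
  (false,4,135),
  (false,5,135),
  (false,6,135),
  (false,0,76),
  (false,1,76),
  (false,2,76),
  (false,3,76),
  (false,5,76),
  (false,6,76),
  (false,0,80),
  (false,1,80),
  (false,2,80),
  (false,5,80),
  (false,6,80),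
  (false,0,1056),
  (false,1,1056),
  (false,2,1056),
  (false,3,1056),
  (false,6,1056),
  (false,0,457),
  (false,1,457),
  (false,2,457),
  (false,3,457),
  (false,4,457),
  (false,5,457),
  (false,6,457)]

/-- part 8 of `tree3` -/
def tree3P8 : List (Bool × ℕ × ℕ) := [
  (false,0,1274),
  (false,1,1274),
  (false,2,1274),
  (false,3,1274),
  (false,4,1274),
  (false,5,1274),
  (false,6,1274),
  (false,0,921),
  (false,1,921),
  (false,2,921),
  (false,3,921),
  (false,4,921),
  (false,6,921),
  (false,1,1196),
  (false,2,1196),
  (false,4,1196),
  (false,5,1196),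
  (false,6,1196),
  (false,1,1118),
  (false,2,1118),
  (false,3,1118),
  (false,4,1118),
  (false,5,1118),
  (false,6,1118),
  (false,0,816),
  (false,1,816),
  (false,2,816),
  (false,3,816),
  (false,5,816),
  (false,6,816),
  (false,0,394),
  (false,1,394),
  (false,2,394),
  (false,3,394),
  (false,4,394),
  (false,5,394),
  (false,6,394),
  (false,0,53),
  (false,2,53),
  (false,3,53),
  (false,4,53),
  (false,5,53),
  (false,6,53),
  (false,3,388),
  (false,4,388),
  (false,5,388),
  (false,6,388),
  (false,0,608),
  (false,2,608),
  (false,3,608),
  (false,4,608),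
  (false,5,608),
  (false,6,608),
  (false,0,504),
  (false,1,504),
  (false,2,504),
  (false,3,504),
  (false,4,504),
  (false,5,504),
  (false,6,504),
  (false,0,876),
  (false,1,876),
  (false,2,876),
  (false,4,876),
  (false,6,876),
  (false,0,782),
  (false,2,782),
  (false,3,782),
  (false,5,782),
  (false,6,782),
  (false,0,1187),
  (false,1,1187),
  (false,2,1187),
  (false,3,1187),
  (false,4,1187),
  (false,6,1187),
  (false,0,1162),
  (false,1,1162),
  (false,2,1162),
  (false,3,1162),
  (false,5,1162),
  (false,6,1162),
  (false,0,283),
  (false,1,79),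
  (false,2,79),
  (false,4,79),
  (false,6,79),
  (false,0,28),
  (false,1,28),
  (false,2,28),
  (false,0,237),
  (false,1,237),
  (false,2,237),
  (false,0,1394),
  (false,1,1394),
  (false,2,1394),
  (false,3,1394),
  (false,4,1394),
  (false,5,1394),
  (false,6,1394)]

/-- part 9 of `tree3` -/
def tree3P9 : List (Bool × ℕ × ℕ) := [
  (false,0,740),
  (false,1,740),
  (false,2,740),
  (false,3,740),
  (false,4,740),
  (false,5,740),
  (false,0,569),
  (false,1,569),
  (false,6,569),
  (false,1,352),
  (false,0,77),
  (false,1,77),
  (false,2,77),
  (false,0,233),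
  (false,1,233),
  (false,0,1074),
  (false,1,1074),
  (false,2,1074),
  (false,3,1074),
  (false,4,1074),
  (false,5,1074),
  (false,6,1074),
  (false,0,530),
  (false,1,530),
  (false,2,530),
  (false,3,530),
  (false,4,530),
  (false,5,530),
  (false,6,530),
  (false,0,29),
  (false,1,29),
  (false,2,29),
  (false,6,29),
  (false,0,35),
  (false,1,35),
  (false,0,42),
  (false,1,42),
  (false,0,36),
  (false,1,36),
  (false,5,36),
  (false,0,118),
  (false,1,118),
  (false,5,118),
  (false,0,954),
  (false,2,954),
  (false,4,954),
  (false,5,954),
  (false,0,282),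
  (false,1,282),
  (false,4,282),
  (false,0,136),
  (false,0,70),
  (false,1,100),
  (false,0,1068),
  (false,1,1068),
  (false,2,1068),
  (false,3,1068),
  (false,4,1068),
  (false,5,1068),
  (false,0,527),
  (false,1,527),
  (false,2,527),
  (false,3,527),
  (false,4,527),
  (false,5,527),
  (false,6,527),
  (false,0,380),
  (false,1,380),
  (false,0,99),
  (false,0,22),
  (false,1,22),
  (false,2,22),
  (false,3,22),
  (false,4,22),
  (false,5,22),
  (false,6,22),
  (false,2,406),
  (false,3,406),
  (false,4,406),
  (false,5,406),
  (false,0,1269),
  (false,1,1269),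
  (false,3,1269),
  (false,4,1269),
  (false,5,1269),
  (false,1,1131),
  (false,2,1131),
  (false,3,1131),
  (false,4,1131),
  (false,6,1131),
  (false,1,730),
  (false,3,730),
  (false,5,730),
  (false,6,730),
  (false,0,344),
  (false,1,344),
  (false,3,344),
  (false,4,344),
  (false,6,344),
  (false,1,986)]

/-- part 10 of `tree3` -/
def tree3P10 : List (Bool × ℕ × ℕ) := [
  (false,2,986),
  (false,3,986),
  (false,4,986),
  (false,6,986),
  (false,1,889),
  (false,2,889),
  (false,3,889),
  (false,4,889),
  (false,0,355),
  (false,2,355),
  (false,4,355),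
  (false,6,355),
  (false,0,223),
  (false,2,223),
  (false,5,223),
  (false,6,223),
  (false,0,627),
  (false,2,627),
  (false,4,627),
  (false,5,231),
  (false,6,231),
  (false,0,1279),
  (false,1,1279),
  (false,2,1279),
  (false,4,1279),
  (false,0,625),
  (false,1,625),
  (false,3,625),
  (false,4,625),
  (false,6,625),
  (false,0,1403),
  (false,1,1403),
  (false,3,1403),
  (false,4,1403),
  (false,5,1403),
  (false,6,1403),
  (false,0,988),
  (false,2,988),
  (false,4,988),
  (false,5,988),
  (false,2,732),
  (false,4,732),
  (false,5,732),
  (false,6,732),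
  (false,4,980),
  (false,5,980),
  (false,0,1342),
  (false,2,1342),
  (false,0,1348),
  (false,2,1348),
  (false,3,1348),
  (false,4,1348),
  (false,6,1348),
  (false,1,143),
  (false,2,143),
  (false,3,143),
  (false,0,1101),
  (false,1,1101),
  (false,3,1101),
  (false,4,1101),
  (false,5,1101),
  (false,6,1101),
  (false,0,1157),
  (false,2,1157),
  (false,3,1157),
  (false,6,1157),
  (false,0,1173),
  (false,4,1173),
  (false,5,1208),
  (false,1,809),
  (false,2,809),
  (false,5,809),
  (false,1,1295),
  (false,2,1295),
  (false,1,1406),
  (false,2,1406),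
  (false,3,1406),
  (false,6,1406),
  (false,1,1236),
  (false,3,1236),
  (false,4,1236),
  (false,5,1236),
  (false,0,1212),
  (false,1,1212),
  (false,2,1212),
  (false,0,274),
  (false,1,274),
  (false,2,274),
  (false,3,274),
  (false,6,274),
  (false,0,1344),
  (false,1,1344),
  (false,2,1344),
  (false,3,1344),
  (false,5,1344),
  (false,6,1344),
  (false,1,1086),
  (false,3,1086),
  (false,0,1256),
  (false,2,1256)]

/-- part 11 of `tree3` -/
def tree3P11 : List (Bool × ℕ × ℕ) := [
  (false,6,1256),
  (false,2,1266),
  (false,3,1266),
  (false,6,1150),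
  (false,2,1096),
  (false,3,203),
  (false,4,203),
  (false,5,203),
  (false,6,203),
  (false,1,1147),
  (false,6,1147),
  (false,0,1058),
  (false,1,1058),
  (false,0,686),
  (false,0,819),
  (false,1,819),
  (false,3,819),
  (false,2,883),
  (false,3,883),
  (false,4,883),
  (false,6,883),
  (false,0,189),
  (false,3,189),
  (false,4,189),
  (false,0,241),
  (false,1,241),
  (false,2,241),
  (false,3,241),
  (false,4,241),
  (false,5,241),
  (false,6,241),
  (false,1,168),
  (false,2,168),
  (false,5,168),
  (false,0,698),
  (false,4,698),
  (false,5,698),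
  (false,0,463),
  (false,3,463),
  (false,4,463),
  (false,5,463),
  (false,0,697),
  (false,2,1253),
  (false,1,52),
  (false,2,52),
  (false,4,52),
  (false,1,50),
  (false,3,50),
  (false,4,50),
  (false,1,235),
  (false,3,235),
  (false,1,160),
  (false,3,160),
  (false,0,45),
  (false,1,45),
  (false,3,45),
  (false,5,45),
  (false,6,45),
  (false,0,778),
  (false,3,778),
  (false,4,778),
  (false,6,778),
  (false,0,974),
  (false,0,484),
  (false,2,484),
  (false,4,484),
  (false,2,387),
  (false,3,387),
  (false,6,387),
  (false,4,646),
  (false,6,646),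
  (false,0,424),
  (false,2,424),
  (false,4,554),
  (false,5,554),
  (false,6,554),
  (false,2,964),
  (false,4,964),
  (false,5,964),
  (false,0,475),
  (false,1,475),
  (false,2,475),
  (false,4,475),
  (false,0,581),
  (false,2,581),
  (false,3,581),
  (false,6,581),
  (false,1,906),
  (false,2,906),
  (false,3,906),
  (false,6,906),
  (false,1,134),
  (false,1,829),
  (false,3,829),
  (false,5,829),
  (false,6,829),
  (false,2,754),
  (false,6,754),
  (false,6,892),
  (false,4,1048)]

/-- part 12 of `tree3` -/
def tree3P12 : List (Bool × ℕ × ℕ) := [
  (false,5,1048),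
  (false,0,824),
  (false,3,824),
  (false,5,824),
  (false,0,421),
  (false,4,421),
  (false,6,421),
  (false,3,1387),
  (false,0,439),
  (false,2,439),
  (false,5,439),
  (false,6,439),
  (false,0,519),
  (false,2,519),
  (false,1,253),
  (false,0,1084),
  (false,4,533),
  (false,5,533),
  (false,0,425),
  (false,2,425),
  (false,4,425),
  (false,3,150),
  (false,0,588),
  (false,1,588),
  (false,3,588),
  (false,2,1294),
  (false,3,1294),
  (false,5,1294),
  (false,2,477),
  (false,3,477),
  (false,3,1361),
  (false,5,1361),
  (false,1,1262),
  (false,4,713),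
  (false,6,992),
  (false,2,1011),
  (false,4,1011),
  (false,0,62),
  (false,1,975),
  (false,6,975),
  (false,1,498),
  (false,0,563),
  (false,4,563),
  (false,1,699),
  (false,4,1337),
  (false,6,1337),
  (false,2,907),
  (false,0,483),
  (false,0,8),
  (false,0,1267),
  (false,5,1267),
  (false,0,306),
  (false,6,306),
  (false,2,113),
  (false,3,1097),
  (false,6,1097),
  (false,1,506),
  (false,2,506),
  (false,4,506),
  (false,5,506),
  (false,6,506),
  (false,5,545),
  (false,3,187),
  (false,4,187),
  (false,0,638),
  (false,3,638),
  (false,5,638),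
  (false,1,961),
  (false,2,961),
  (false,3,961),
  (false,1,666),
  (false,2,666),
  (false,6,666),
  (false,1,1007),
  (false,2,1007),
  (false,3,1218),
  (false,6,1218),
  (false,2,773),
  (false,6,773),
  (false,3,878),
  (false,4,878),
  (false,5,1323),
  (false,0,721),
  (false,3,718),
  (false,0,369),
  (false,1,369),
  (false,1,1231),
  (false,2,1231),
  (false,4,1231),
  (false,6,328),
  (false,1,838),
  (false,4,838),
  (false,0,1302),
  (false,1,1302),
  (false,4,1302),
  (false,1,1317),
  (false,2,1317),
  (false,3,1317),
  (false,0,716),
  (false,2,682)]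

/-- part 13 of `tree3` -/
def tree3P13 : List (Bool × ℕ × ℕ) := [
  (false,6,1137),
  (false,3,85),
  (false,3,417),
  (false,4,633),
  (false,2,273),
  (false,0,950),
  (false,4,299),
  (false,6,299),
  (false,0,1270),
  (false,3,1270),
  (false,4,1270),
  (false,5,1270),
  (false,1,374),
  (false,5,374),
  (false,5,1351),
  (false,4,748),
  (false,1,1034),
  (false,3,1034),
  (false,0,215),
  (false,2,215),
  (false,3,215),
  (false,6,1061),
  (false,2,1025),
  (false,1,197),
  (false,3,197),
  (false,0,121),
  (false,1,121),
  (false,1,1343),
  (false,4,691),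
  (false,1,685),
  (false,2,685),
  (false,1,126),
  (false,0,1332),
  (false,1,1332),
  (false,2,1332),
  (false,3,1332),
  (false,0,155),
  (false,3,155),
  (false,4,155),
  (false,2,405),
  (false,6,405),
  (false,0,308),
  (false,1,90),
  (false,0,1113),
  (false,4,1113),
  (false,6,1113),
  (false,1,1026),
  (false,2,1026),
  (false,1,1329),
  (false,3,63),
  (false,6,767),
  (false,0,174),
  (false,4,174),
  (false,0,1181),
  (false,5,1181),
  (false,6,1181),
  (false,2,501),
  (false,4,501),
  (false,6,501),
  (false,0,1168),
  (false,4,1168),
  (false,4,1261),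
  (false,1,1126),
  (false,2,1126),
  (false,2,1272),
  (false,3,377),
  (false,2,825),
  (false,0,848),
  (false,3,632),
  (false,5,402),
  (false,1,657),
  (false,2,657),
  (false,4,1089),
  (false,1,492),
  (false,0,249),
  (false,5,803),
  (false,1,1238),
  (false,4,1238),
  (false,3,443),
  (false,4,443),
  (false,2,315),
  (false,4,315),
  (false,2,373),
  (false,0,775),
  (false,2,1384),
  (false,5,865),
  (false,1,1133),
  (false,1,1002),
  (false,1,44),
  (false,0,1009),
  (false,5,1009),
  (false,2,1401),
  (false,6,696),
  (false,5,957),
  (false,0,1386),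
  (false,1,990),
  (false,4,808),
  (false,5,808),
  (false,6,1377),
  (false,1,158)]

/-- part 14 of `tree3` -/
def tree3P14 : List (Bool × ℕ × ℕ) := [
  (false,5,158),
  (false,5,1223),
  (false,1,419),
  (false,1,1167),
  (false,5,550),
  (false,6,887),
  (false,2,236),
  (false,4,1051)]

/-- certificate data -/
def tree3 : List (Bool × ℕ × ℕ) :=
  [tree3P0, tree3P1, tree3P2, tree3P3, tree3P4, tree3P5, tree3P6, tree3P7, tree3P8, tree3P9, tree3P10, tree3P11, tree3P12, tree3P13, tree3P14].flatten

/-- chain of a point stabiliser -/
def stb3_0 : List Lev := [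
  { base := 6, new := [([21,201,11,117],[118,12,202,22])],
    orbit := [(6,[]),
      (31,[0]),
      (14,[0,0]),
      (25,[0,1]),
      (33,[0,3]),
      (194,[0,2]),
      (27,[0,3,1]),
      (38,[0,2,3]),
      (40,[0,1,2]),
      (65,[0,0,0]),
      (66,[0,2,1]),
      (78,[0,1,3]),
      (101,[0,0,1]),
      (137,[0,2,2]),
      (190,[0,2,0]),
      (284,[0,1,0]),
      (408,[0,3,0]),
      (24,[0,3,1,2]),
      (26,[0,1,0,2]),
      (32,[0,2,0,0]),
      (37,[0,1,2,2]),
      (39,[0,0,1,3]),
      (58,[0,1,3,2]),
      (59,[0,1,0,0]),
      (60,[0,2,0,3]),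
      (67,[0,0,0,1]),
      (122,[0,2,3,1]),
      (191,[0,0,1,0]),
      (206,[0,1,2,0]),
      (212,[0,1,0,3]),
      (285,[0,0,1,2]),
      (399,[0,2,1,2]),
      (409,[0,2,1,3]),
      (410,[0,2,2,0]),
      (464,[0,1,3,0]),
      (15,[0,1,2,0,1]),
      (30,[0,1,2,2,0]),
      (193,[0,0,1,2,0]),
      (195,[0,0,1,2,3]),
      (391,[0,0,1,0,1]),
      (392,[0,1,0,0,2]),
      (593,[0,1,2,0,2])],
    wit := [] },
  { base := 7, new := [([21,19,15],[16,20,22])],
    orbit := [(7,[]),
      (136,[0]),
      (234,[0,2]),
      (283,[0,1]),
      (100,[0,1,2])],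
    wit := [] },
  { base := 8, new := [([17],[18])],
    orbit := [(8,[]),
      (75,[0]),
      (73,[0,0]),
      (369,[0,1]),
      (120,[0,0,1]),
      (483,[0,0,1,0])],
    wit := [] },
  { base := 9, new := [([21],[22])],
    orbit := [(9,[]),
      (482,[0])],
    wit := [] }]

/-- an orbit -/
def root3_0 : Root :=
  ⟨[203], [204], 1, [21,171,57,205,204], [203,206,58,172,22], stb3_0,
    [[(6,false),(6,false),(3,false),(6,false),(2,false),(2,false)],
      [(5,false),(5,false),(6,false),(4,false),(4,false),(3,false),(6,false),(2,false)],
      [(5,false),(4,false),(6,false),(5,false),(3,false),(3,false),(2,false),(2,false),(5,false)],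
      [(6,false),(4,false),(2,false),(4,false)]],
    [[7,2,0,1,3,1],[10,4,5,1,0,2],[21,1,1,3,3,2],[0,0,2,4,2,0]]⟩

/-- chain of a point stabiliser -/
def stb3_1 : List Lev := [
  { base := 6, new := [([21,199,193,129],[130,194,200,22])],
    orbit := [(6,[]),
      (60,[0]),
      (32,[0,1]),
      (137,[0,2]),
      (190,[0,3]),
      (194,[0,0]),
      (15,[0,3,0]),
      (27,[0,0,1]),
      (33,[0,2,2]),
      (38,[0,0,3]),
      (58,[0,2,0]),
      (66,[0,0,0]),
      (67,[0,1,3]),
      (78,[0,3,1]),
      (191,[0,1,0]),
      (408,[0,1,2]),
      (409,[0,1,1]),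
      (410,[0,0,2]),
      (25,[0,3,1,3]),
      (26,[0,1,0,0]),
      (31,[0,1,3,2]),
      (37,[0,0,2,1]),
      (39,[0,1,2,0]),
      (40,[0,1,0,3]),
      (65,[0,0,2,2]),
      (122,[0,2,0,3]),
      (193,[0,3,1,0]),
      (206,[0,0,3,0]),
      (212,[0,1,0,2]),
      (284,[0,0,3,1]),
      (285,[0,2,2,0]),
      (391,[0,0,1,2]),
      (392,[0,1,2,1]),
      (399,[0,0,0,2]),
      (464,[0,3,0,2]),
      (14,[0,2,0,3,0]),
      (24,[0,0,0,2,2]),
      (30,[0,3,0,2,3]),
      (59,[0,0,1,2,1]),
      (101,[0,1,0,3,0]),
      (195,[0,0,3,0,0]),
      (593,[0,0,3,0,2])],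
    wit := [] },
  { base := 7, new := [([197,11],[12,198])],
    orbit := [(7,[]),
      (234,[0]),
      (136,[0,2]),
      (283,[0,0]),
      (100,[0,0,0])],
    wit := [] },
  { base := 8, new := [([19],[20])],
    orbit := [(8,[]),
      (369,[0]),
      (73,[0,0]),
      (75,[0,1]),
      (120,[0,0,1]),
      (483,[0,0,1,0])],
    wit := [] },
  { base := 9, new := [([21],[22])],
    orbit := [(9,[]),
      (482,[0])],
    wit := [] }]

/-- an orbit -/
def root3_1 : Root :=
  ⟨[21,19,195,181,23,1], [0,24,182,196,20,22], 2, [21,19,195,181,23,0,0,24,182,196,20,22], [21,19,195,181,23,1,1,24,182,196,20,22], stb3_1,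
    [[(5,false),(5,false),(3,false),(3,false),(3,false)],
      [(6,false),(6,false),(4,false),(3,false),(3,false),(3,false),(2,false),(5,false)],
      [(6,false),(5,false),(5,false),(4,false),(4,false),(3,false),(3,false),(2,false)],
      [(6,false),(4,false),(2,false),(4,false)]],
    [[0,0,5,2,0,1],[0,3,2,0,3,0],[0,2,3,3,3,2],[0,4,4,2,1,1]]⟩

/-- chain of a point stabiliser -/
def stb3_2 : List Lev := [
  { base := 0, new := [([21,197,11,119,2,345],[346,3,120,12,198,22])],
    orbit := [(0,[]),
      (302,[0])],
    wit := [] },
  { base := 7, new := [([21,197,195],[196,198,22])],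
    orbit := [(7,[]),
      (283,[0]),
      (100,[0,2]),
      (234,[0,0]),
      (136,[0,0,2])],
    wit := [] },
  { base := 8, new := [([21,19],[20,22])],
    orbit := [(8,[]),
      (369,[0]),
      (75,[0,1]),
      (120,[0,0]),
      (73,[0,0,1]),
      (483,[0,0,1,0])],
    wit := [] },
  { base := 9, new := [([21],[22])],
    orbit := [(9,[]),
      (482,[0])],
    wit := [] }]

/-- an orbit -/
def root3_2 : Root :=
  ⟨[201,119,31,4], [4,32,120,202], 4, [21,17,159,209,4,32,120,202], [201,119,31,4,210,160,18,22], stb3_2,
    [[(6,false),(5,false),(4,false),(4,false),(3,false),(3,false),(2,false),(3,false),(0,false),(2,false),(4,false)],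
      [(6,false),(5,false),(5,false),(4,false),(6,false),(5,false),(3,false),(3,false),(2,false),(4,false)],
      [(6,false),(5,false),(4,false),(2,false),(2,false),(5,false)],
      [(6,false),(4,false),(2,false),(4,false)]],
    [[2,0,1,2,1],[0,0,3,3,1],[0,0,0,2,0],[0,0,0,3,1]]⟩

/-- chain of a point stabiliser -/
def stb3_3 : List Lev := [
  { base := 8, new := [([201,15,191],[192,16,202]),([21,19,195,121,2,345],[346,3,122,196,20,22])],
    orbit := [(8,[]),
      (113,[0]),
      (1399,[1]),
      (34,[1,1]),
      (70,[0,0]),
      (544,[0,2]),
      (1272,[1,2]),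
      (1348,[0,1]),
      (1395,[1,0]),
      (36,[0,0,2]),
      (71,[0,0,0]),
      (73,[1,0,1]),
      (77,[1,2,1]),
      (80,[0,1,1]),
      (120,[1,1,0]),
      (134,[1,1,2]),
      (380,[0,2,0]),
      (764,[0,2,1]),
      (845,[1,0,0]),
      (1108,[0,0,1]),
      (1165,[1,1,1]),
      (1209,[1,2,0]),
      (35,[0,0,1,1]),
      (43,[1,2,1,2]),
      (79,[0,2,1,1]),
      (99,[1,1,2,0]),
      (118,[0,0,0,2]),
      (121,[0,1,1,0]),
      (233,[1,1,0,0]),
      (351,[0,0,0,0]),
      (369,[0,2,0,0]),
      (838,[1,1,1,2]),
      (865,[0,0,2,1]),
      (908,[1,1,2,1]),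
      (978,[0,2,0,1]),
      (980,[1,1,1,0]),
      (1019,[1,2,0,0]),
      (1020,[0,2,1,2]),
      (1047,[0,0,0,1]),
      (1116,[1,0,0,0]),
      (1212,[0,2,1,0]),
      (1230,[0,1,1,1]),
      (1281,[1,1,0,1]),
      (1320,[0,0,1,0]),
      (1401,[1,0,0,2]),
      (41,[0,0,0,0,2]),
      (75,[0,2,0,0,2]),
      (76,[0,2,1,1,2]),
      (132,[1,2,1,2,0]),
      (135,[0,2,1,1,0]),
      (237,[1,0,0,2,1]),
      (282,[0,0,0,2,0]),
      (483,[0,0,2,1,1]),
      (963,[0,1,1,1,2]),
      (1054,[0,1,1,1,0]),
      (1137,[0,0,0,1,0]),
      (1186,[1,1,1,2,0]),
      (1243,[0,0,0,0,1]),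
      (1279,[0,1,1,0,1]),
      (1384,[1,0,0,0,2])],
    wit := [] },
  { base := 9, new := [([21],[22])],
    orbit := [(9,[]),
      (482,[0])],
    wit := [] }]

/-- an orbit -/
def root3_3 : Root :=
  ⟨[19,195,131,37,329], [330,38,132,196,20], 6, [197,195,173,645,330,38,132,196,20], [19,195,131,37,329,646,174,196,198], stb3_3,
    [[(6,false),(5,false),(5,false),(6,false),(4,false),(6,false),(3,false),(6,false),(5,false)],
      [(6,false),(5,false),(5,false),(6,false),(4,false),(6,false),(5,false),(3,false),(3,false),(2,false),(5,false),(0,false),(2,false),(4,false)],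
      [(6,false),(4,false),(2,false),(4,false)]],
    [[0,0,3,1,1],[0,1,3,0,1],[0,0,4,0,1]]⟩

/-- state 3 -/
def st3 : St :=
  ⟨k3, 80640, 0x20030020020030030030020030020020020030030020030020020020020030030020030020020030030030020030020020030020020030020020030030020030030020030030030020020020020030030030020030020020030030020020030030030020030020020030030020020020030020020030020030020030020030020030030030020030020020030020030030030020020020020030030020030020020030020020030030030030030020030020030030020020020030020030020030030020020020030020030030030030020030030020020030030030020030030020030020020030020020020030020030030020020030020020030020030020030020020030020030030020020030030020020030020020020030030020030020020030030030020030030020030030020020020030020020020020030020020030020020030030020030030020030020030030020030020020030020020030020020030020030030020030030020030020030020020030020030020020030020030020030030030020030020030030020020020030020030020030020030020020030020030020030030020030030020030020030020020030030020020030030030030020030020020030020030020030030020030030020030020030020020030030030020030020020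030020030020020030020030030020030030020030020020030030030030020030020030020030030020030020030030030030020030020030020020030020020030020030020000030030020020030030030030020020030030030020020030020020020020030020030020030020030020020030020030030020030030030020030030020030020030020030020020020020030030020030020030030030020030030020030030030030020030030020030020020030030020020030030020020030020020030020030020020020030030020020020030030030030020020020020030030030020030030020030020030030020020020030020020030030020030030030020020030030020020030030030020020020030030020020030020030020020030030030030020020030020030030020020020030020020030020020030020020030020030020020020020030030020020020030020030020020030030020020030010020030020020030020030020020030030030020020030030030030020020030030020030030020020030030020030030020020030030030010000030020030030020030030030020030020020020020010020020020030020020020030020020030020030020030030020030030020020030020020030020020030020030030030030030030020020030030020030020020020030030030030020030020020020030020030030030020020030030020020030020020030030030020030030020020020030030020020020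030020030030030030030030030020020030030030020030030020030030020030030020020020020020030030020020030020020030020020030020030020030020030030000030020020020020020020030020030020030030030020020020020020030030020020020030030020020030020030020030020020020020030020030020030030030020020030030030030020020030030030020020030020020030030020030020010030020030030030020030020020020030020020020020030020020020030020030030030020030020020030030020030030020020020030030020010030030000020020030030030020030010020030030020020030020030020020030020030030020020030020030020020030020020030020030030020030020030020020030020030020020030020020030030020020030020030030020030020020030020030030000010020030030030020030030020020020030020030020020030020030020030030020020030030000010020030020020030030030020030020030030030020030030030020020020020030020030020020030020030030020020030020030020030030020030030000010020020020020030030020030030020020020020030000020030020020020010000030030020020030030020020030020020030020000030030020020030030000010010000030020030020020030030030020030020030030030030020030020020020030030020030030030020030030020020020030030020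03003003002002002003002002002002002003002003003003002002003002003002003002003001000001000003002003002003003002003002003003002002002002002003003003003002003002002002003003002000002003003000002003002003003003001002003002003002002003003002001003002002001002003002002003002003002003003003003003002003002003003002003002003003002000003002003002003003002001002002003001003002002001001003002003003002002003003002002002001002002003003003002002002002003002002003002002003002003002002003003002003002002003003002002003003002003000000003002003002003003002000001002003002003002002003001000002003003003002003002002002003002003000002003002003003000003002002001000003002002002003002002003003002003002002003003002002002000003003002003003002003002003003002002002002003003002003003003002003000003003002002002002002003003003003002002002003003003003003003003003002001002002003003003003003002002002002003003003002002002002003003002002002002003003000002003001002001002002000003002001000003003002001000000001001000, tree3, [root3_0,root3_1,root3_2,root3_3]⟩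

end CfsgLib.HN
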