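import Cfsg.Agent.Lib.DCoset.Orbits
import Cfsg.Agent.Lib.HN.ChainData

/-!
State 4.
-/

set_option autoImplicit false
set_option linter.style.longLine false

namespace CfsgLib.HN
open CfsgLib.CosetEnum CfsgLib.DCoset CfsgLib.DCoset.Space
/-- part 0 of `tree4` -/
def tree4P0 : List (Bool × ℕ × ℕ) := [
  (true,0,0),
  (false,0,3),
  (false,1,3),
  (false,1,53),
  (true,1,0),
  (false,0,27),
  (false,1,27),
  (false,1,1),
  (true,2,0),
  (false,0,248),
  (false,2,248),
  (false,0,261),
  (false,1,261),
  (false,2,261),
  (false,3,261),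
  (false,5,261),
  (false,1,619),
  (false,4,619),
  (false,2,383),
  (false,0,161),
  (true,3,0),
  (false,0,2),
  (false,1,2),
  (false,1,96),
  (true,4,0),
  (false,0,4),
  (false,2,4),
  (false,0,555),
  (false,1,555),
  (false,2,555),
  (false,4,555),
  (false,0,38),
  (false,1,38),
  (false,2,38),
  (false,4,38),
  (false,2,632),
  (true,5,0),
  (false,0,28),
  (false,1,28),
  (false,1,0),
  (true,6,0),
  (false,0,410),
  (false,1,410),
  (false,4,410),
  (false,0,150),
  (false,1,150),
  (false,3,150),
  (false,5,150),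
  (false,0,47),
  (false,1,47),
  (false,2,47),
  (false,4,47),
  (false,5,47),
  (false,0,191),
  (false,1,191),
  (false,4,191),
  (false,5,191),
  (false,1,40),
  (false,3,215),
  (false,5,215),
  (false,1,933),
  (false,4,933),
  (false,4,542),
  (false,0,137),
  (true,7,0),
  (false,0,66),
  (false,1,66),
  (false,2,66),
  (false,3,66),
  (false,4,66),
  (false,5,66),
  (false,0,472),
  (false,1,472),
  (false,2,472),
  (false,4,472),
  (false,5,472),
  (false,0,914),
  (false,2,914),
  (false,3,914),
  (false,4,914),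
  (false,5,914),
  (false,0,409),
  (false,2,409),
  (false,3,409),
  (false,5,409),
  (false,0,59),
  (false,1,59),
  (false,2,59),
  (false,4,59),
  (false,5,59),
  (false,1,285),
  (false,2,285),
  (false,3,285),
  (false,1,37),
  (false,4,37),
  (false,5,37),
  (false,0,122),
  (false,1,122),
  (false,2,122),
  (false,4,122)]

/-- part 1 of `tree4` -/
def tree4P1 : List (Bool × ℕ × ℕ) := [
  (false,5,122),
  (false,0,151),
  (false,1,151),
  (false,2,151),
  (false,4,151),
  (false,1,512),
  (false,2,512),
  (false,4,512),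
  (false,5,512),
  (false,1,166),
  (false,2,166),
  (false,3,166),
  (false,4,166),
  (false,5,166),
  (false,1,656),
  (false,2,656),
  (false,3,656),
  (false,0,396),
  (false,1,396),
  (false,2,396),
  (false,3,396),
  (false,4,396),
  (false,0,1406),
  (false,2,1406),
  (false,3,1406),
  (false,4,1406),
  (false,5,1406),
  (false,1,1168),
  (false,4,1168),
  (false,2,862),
  (false,0,1314),
  (false,2,1314),
  (false,5,1314),
  (false,1,888),
  (false,5,888),
  (false,0,454),
  (false,1,454),
  (false,1,58),
  (false,4,58),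
  (false,5,58),
  (false,0,195),
  (false,2,195),
  (false,3,195),
  (false,0,526),
  (false,4,526),
  (false,5,526),
  (false,2,1193),
  (false,3,1193),
  (false,5,1193),
  (false,0,592),
  (false,1,592),
  (false,4,592),
  (false,0,464),
  (false,2,464),
  (false,3,464),
  (false,5,464),
  (false,2,32),
  (false,3,32),
  (false,5,732),
  (false,3,392),
  (false,1,24),
  (false,2,24),
  (false,0,988),
  (false,3,988),
  (false,1,787),
  (false,5,787),
  (false,0,1144),
  (false,4,1144),
  (false,0,16),
  (false,1,16),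
  (false,4,16),
  (false,4,101),
  (false,0,190),
  (false,3,190),
  (false,0,1179),
  (false,5,1179),
  (false,1,1037),
  (false,1,1135),
  (false,2,1135),
  (false,4,1135),
  (false,5,1135),
  (false,3,855),
  (false,4,855),
  (false,5,855),
  (false,1,655),
  (false,5,655),
  (false,5,789),
  (false,5,896),
  (false,0,797),
  (false,1,661),
  (false,4,661),
  (false,1,202),
  (false,1,227),
  (false,1,695),
  (false,5,1240),
  (false,2,443),
  (false,1,549),
  (false,4,549),
  (false,5,549),
  (false,0,1011)]

/-- part 2 of `tree4` -/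
def tree4P2 : List (Bool × ℕ × ℕ) := [
  (false,2,1011),
  (false,0,1109),
  (false,0,1223),
  (false,2,761),
  (false,3,85),
  (false,0,1360),
  (false,3,671),
  (false,0,391),
  (true,8,0),
  (false,0,12),
  (false,1,12),
  (false,2,12),
  (false,3,12),
  (false,4,12),
  (false,5,12),
  (false,0,906),
  (false,1,906),
  (false,2,906),
  (false,3,906),
  (false,4,906),
  (false,5,906),
  (false,0,1038),
  (false,2,1038),
  (false,3,1038),
  (false,4,1038),
  (false,5,1038),
  (false,0,235),
  (false,1,235),
  (false,2,235),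
  (false,3,235),
  (false,4,235),
  (false,5,235),
  (false,0,56),
  (false,1,56),
  (false,4,56),
  (false,0,52),
  (false,1,52),
  (false,2,52),
  (false,0,478),
  (false,1,478),
  (false,2,478),
  (false,3,478),
  (false,4,478),
  (false,0,57),
  (false,1,57),
  (false,5,57),
  (false,0,826),
  (false,1,826),
  (false,2,826),
  (false,3,826),
  (false,4,826),
  (false,5,826),
  (false,1,502),
  (false,2,502),
  (false,3,502),
  (false,4,502),
  (false,4,258),
  (false,0,413),
  (false,1,413),
  (false,2,413),
  (false,3,413),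
  (false,5,413),
  (false,0,829),
  (false,1,829),
  (false,2,829),
  (false,3,829),
  (false,0,905),
  (false,1,905),
  (false,2,905),
  (false,3,905),
  (false,4,905),
  (false,5,905),
  (false,0,1149),
  (false,2,1149),
  (false,5,1149),
  (false,0,1117),
  (false,1,1117),
  (false,4,1117),
  (false,0,726),
  (false,2,1200),
  (false,3,1200),
  (false,0,781),
  (false,2,781),
  (false,2,1095),
  (false,4,1095),
  (false,0,182),
  (false,1,182),
  (false,5,182),
  (false,0,340),
  (false,5,340),
  (false,0,51),
  (false,1,51),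
  (false,2,51),
  (false,3,51),
  (false,5,51),
  (false,3,50),
  (false,0,1023),
  (false,1,1023),
  (false,2,1023),
  (false,4,1023)]

/-- part 3 of `tree4` -/
def tree4P3 : List (Bool × ℕ × ℕ) := [
  (false,0,188),
  (false,2,188),
  (false,5,188),
  (false,0,1057),
  (false,5,1057),
  (false,4,699),
  (false,4,268),
  (false,1,550),
  (false,2,187),
  (false,0,265),
  (false,3,265),
  (false,0,1352),
  (false,4,1352),
  (false,5,1352),
  (false,2,45),
  (false,0,962),
  (false,4,962),
  (false,5,962),
  (false,1,1107),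
  (false,4,1107),
  (false,5,1107),
  (false,4,149),
  (false,2,1017),
  (false,4,1017),
  (false,0,347),
  (false,4,347),
  (false,0,984),
  (false,3,984),
  (false,5,984),
  (false,2,552),
  (false,3,552),
  (false,3,975),
  (false,0,158),
  (false,1,600),
  (false,4,600),
  (false,1,21),
  (false,4,21),
  (false,3,750),
  (false,2,698),
  (false,2,907),
  (false,4,907),
  (false,4,737),
  (false,5,687),
  (false,0,1134),
  (false,4,1163),
  (false,1,729),
  (false,3,729),
  (false,2,1391),
  (false,0,718),
  (false,0,1289),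
  (false,0,1132),
  (false,3,1004),
  (true,9,0),
  (false,0,9),
  (false,1,9),
  (false,2,9),
  (false,4,9),
  (false,0,145),
  (false,1,145),
  (false,2,145),
  (false,3,145),
  (false,4,145),
  (false,5,145),
  (false,0,1086),
  (false,1,1086),
  (false,2,1086),
  (false,4,1086),
  (false,5,1086),
  (false,0,121),
  (false,1,121),
  (false,2,121),
  (false,4,121),
  (false,5,121),
  (false,0,72),
  (false,1,72),
  (false,2,72),
  (false,4,72),
  (false,5,72),
  (false,0,41),
  (false,1,41),
  (false,2,41),
  (false,4,41),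
  (false,5,41),
  (false,0,1033),
  (false,2,1033),
  (false,3,1033),
  (false,4,1033),
  (false,5,1033),
  (false,0,721),
  (false,2,721),
  (false,3,721),
  (false,5,721),
  (false,0,754),
  (false,1,754),
  (false,2,754),
  (false,4,754),
  (false,5,754),
  (false,1,927),
  (false,2,927),
  (false,3,927)]

/-- part 4 of `tree4` -/
def tree4P4 : List (Bool × ℕ × ℕ) := [
  (false,1,1036),
  (false,4,1036),
  (false,0,640),
  (false,1,640),
  (false,2,640),
  (false,3,640),
  (false,4,640),
  (false,5,640),
  (false,0,482),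
  (false,2,482),
  (false,4,482),
  (false,0,1018),
  (false,1,1018),
  (false,2,1018),
  (false,4,1018),
  (false,5,1018),
  (false,2,1044),
  (false,4,1044),
  (false,2,709),
  (false,0,263),
  (false,1,263),
  (false,2,263),
  (false,5,263),
  (false,0,690),
  (false,1,690),
  (false,2,690),
  (false,1,134),
  (false,4,134),
  (false,5,134),
  (false,0,43),
  (false,1,43),
  (false,5,43),
  (false,0,75),
  (false,1,75),
  (false,5,75),
  (false,0,465),
  (false,1,465),
  (false,3,465),
  (false,4,465),
  (false,0,1133),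
  (false,1,234),
  (false,2,234),
  (false,4,234),
  (false,5,234),
  (false,0,368),
  (false,1,637),
  (false,2,637),
  (false,0,707),
  (false,5,76),
  (false,1,569),
  (false,2,569),
  (false,3,569),
  (false,4,569),
  (false,5,569),
  (false,1,19),
  (false,3,19),
  (false,0,1187),
  (false,0,847),
  (false,3,847),
  (false,5,847),
  (false,1,167),
  (false,4,167),
  (false,2,973),
  (false,0,595),
  (false,1,36),
  (false,1,130),
  (false,1,941),
  (false,4,941),
  (false,2,936),
  (false,2,1127),
  (false,5,1127),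
  (false,1,624),
  (false,4,624),
  (false,0,278),
  (false,2,278),
  (false,5,278),
  (false,3,976),
  (false,3,970),
  (false,0,529),
  (false,2,529),
  (false,5,529),
  (false,4,776),
  (false,0,487),
  (false,0,255),
  (false,1,100),
  (false,4,1363),
  (false,3,1400),
  (false,3,1393),
  (false,4,1067),
  (false,3,731),
  (false,4,979),
  (false,0,70),
  (false,1,351),
  (false,4,795),
  (false,0,1050),
  (false,2,1139),
  (true,10,0),
  (false,0,7),
  (false,1,7),
  (false,3,7)]

/-- part 5 of `tree4` -/
def tree4P5 : List (Bool × ℕ × ℕ) := [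
  (false,5,7),
  (false,1,553),
  (false,2,553),
  (false,4,553),
  (false,0,22),
  (false,3,22),
  (false,5,22),
  (false,1,80),
  (false,4,80),
  (false,1,380),
  (false,4,380),
  (false,1,251),
  (false,4,251),
  (false,1,503),
  (false,4,503),
  (false,5,503),
  (false,1,254),
  (false,2,64),
  (false,2,118),
  (false,1,462),
  (true,11,0),
  (false,0,84),
  (false,1,84),
  (false,2,84),
  (false,3,84),
  (false,4,84),
  (false,5,84),
  (false,0,1100),
  (false,1,1100),
  (false,2,1100),
  (false,3,1100),
  (false,4,1100),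
  (false,5,1100),
  (false,0,175),
  (false,2,175),
  (false,3,175),
  (false,0,357),
  (false,1,357),
  (false,2,357),
  (false,3,357),
  (false,4,357),
  (false,5,357),
  (false,0,342),
  (false,1,342),
  (false,2,342),
  (false,4,342),
  (false,5,342),
  (false,0,293),
  (false,1,293),
  (false,2,293),
  (false,3,293),
  (false,4,293),
  (false,0,505),
  (false,2,505),
  (false,3,505),
  (false,0,934),
  (false,1,934),
  (false,2,934),
  (false,3,934),
  (false,4,934),
  (false,5,934),
  (false,1,1122),
  (false,2,1122),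
  (false,3,1122),
  (false,4,1122),
  (false,5,1122),
  (false,1,1226),
  (false,2,1226),
  (false,3,1226),
  (false,4,1226),
  (false,5,1226),
  (false,0,715),
  (false,1,715),
  (false,2,715),
  (false,4,715),
  (false,5,715),
  (false,0,1285),
  (false,1,1285),
  (false,2,1285),
  (false,3,1285),
  (false,4,1285),
  (false,5,1285),
  (false,0,925),
  (false,1,925),
  (false,2,925),
  (false,3,925),
  (false,4,925),
  (false,5,925),
  (false,0,1277),
  (false,1,1277),
  (false,2,1277),
  (false,3,1277),
  (false,4,1277),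
  (false,5,1277),
  (false,0,174),
  (false,1,174),
  (false,2,174),
  (false,3,174),
  (false,4,174),
  (false,5,174)]

/-- part 6 of `tree4` -/
def tree4P6 : List (Bool × ℕ × ℕ) := [
  (false,0,680),
  (false,1,680),
  (false,2,680),
  (false,4,680),
  (false,5,680),
  (false,0,1337),
  (false,1,1337),
  (false,2,1337),
  (false,3,1337),
  (false,5,1337),
  (false,0,778),
  (false,2,778),
  (false,3,778),
  (false,4,778),
  (false,5,778),
  (false,0,638),
  (false,1,638),
  (false,4,638),
  (false,5,638),
  (false,4,702),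
  (false,5,702),
  (false,0,767),
  (false,1,767),
  (false,2,767),
  (false,3,767),
  (false,5,767),
  (false,0,460),
  (false,1,460),
  (false,2,460),
  (false,3,460),
  (false,4,460),
  (false,5,460),
  (false,0,1128),
  (false,1,1128),
  (false,3,1128),
  (false,4,1128),
  (false,5,1128),
  (false,0,129),
  (false,1,129),
  (false,2,129),
  (false,3,129),
  (false,4,129),
  (false,5,129),
  (false,0,876),
  (false,1,876),
  (false,0,180),
  (false,2,180),
  (false,3,180),
  (false,4,180),
  (false,5,180),
  (false,0,266),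
  (false,2,266),
  (false,0,1257),
  (false,1,1257),
  (false,2,1257),
  (false,3,1257),
  (false,4,1257),
  (false,5,1257),
  (false,0,561),
  (false,2,561),
  (false,1,968),
  (false,2,968),
  (false,3,968),
  (false,4,968),
  (false,5,968),
  (false,4,784),
  (false,0,779),
  (false,3,779),
  (false,0,1169),
  (false,1,1169),
  (false,2,1169),
  (false,3,1169),
  (false,4,1169),
  (false,1,824),
  (false,4,824),
  (false,5,824),
  (false,0,211),
  (false,1,211),
  (false,4,211),
  (false,5,211),
  (false,0,1357),
  (false,2,1357),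
  (false,3,1357),
  (false,0,388),
  (false,1,388),
  (false,0,878),
  (false,2,878),
  (false,3,878),
  (false,4,878),
  (false,5,878),
  (false,0,972),
  (false,2,972),
  (false,5,972),
  (false,3,805),
  (false,5,805),
  (false,2,650),
  (false,3,650),
  (false,4,650),
  (false,5,650),
  (false,1,912)]

/-- part 7 of `tree4` -/
def tree4P7 : List (Bool × ℕ × ℕ) := [
  (false,2,912),
  (false,4,912),
  (false,5,912),
  (false,1,949),
  (false,2,949),
  (false,4,949),
  (false,1,1232),
  (false,2,1232),
  (false,4,1232),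
  (false,5,1232),
  (false,0,1180),
  (false,2,1180),
  (false,0,1065),
  (false,3,1065),
  (false,5,1065),
  (false,0,1336),
  (false,2,1336),
  (false,3,1336),
  (false,4,1336),
  (false,1,1290),
  (false,5,1290),
  (false,0,1327),
  (false,4,1327),
  (false,0,1104),
  (false,2,1104),
  (false,0,448),
  (false,1,448),
  (false,3,448),
  (false,2,1172),
  (false,3,1172),
  (false,4,961),
  (false,2,1375),
  (false,4,1375),
  (false,5,1375),
  (false,3,1280),
  (false,4,1280),
  (false,0,881),
  (false,1,881),
  (false,2,881),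
  (false,5,881),
  (false,2,1303),
  (false,5,908),
  (false,0,1276),
  (false,2,1331),
  (false,3,1331),
  (false,0,1345),
  (false,2,1345),
  (false,5,1345),
  (false,1,799),
  (false,2,799),
  (false,3,799),
  (false,3,1255),
  (false,1,1001),
  (false,2,1001),
  (false,3,1001),
  (false,4,1001),
  (false,5,1001),
  (false,0,867),
  (false,2,867),
  (false,4,867),
  (false,0,1125),
  (false,2,1125),
  (false,0,1383),
  (false,1,155),
  (false,1,1252),
  (false,2,1252),
  (false,3,1252),
  (false,4,1252),
  (false,5,1252),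
  (false,2,1126),
  (false,5,1126),
  (false,0,1335),
  (false,1,1335),
  (false,4,1335),
  (false,5,1335),
  (false,0,665),
  (false,3,665),
  (false,4,665),
  (false,5,665),
  (false,2,672),
  (false,0,605),
  (false,4,605),
  (false,0,86),
  (false,4,86),
  (false,5,86),
  (false,4,527),
  (false,0,753),
  (false,3,753),
  (false,5,753),
  (false,0,430),
  (false,4,430),
  (false,5,430),
  (false,4,1269),
  (false,5,1269),
  (false,2,517),
  (false,0,474),
  (false,1,474),
  (false,0,401),
  (false,2,401),
  (false,3,401)]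

/-- part 8 of `tree4` -/
def tree4P8 : List (Bool × ℕ × ℕ) := [
  (false,4,401),
  (false,0,611),
  (false,4,611),
  (false,0,947),
  (false,3,1156),
  (false,2,1152),
  (false,2,833),
  (false,5,1295),
  (false,1,318),
  (false,5,318),
  (false,1,614),
  (false,2,693),
  (false,0,892),
  (false,5,892),
  (false,0,1390),
  (false,0,566),
  (false,2,566),
  (false,4,566),
  (false,3,424),
  (false,2,1062),
  (false,0,724),
  (false,2,724),
  (false,2,615),
  (false,4,615),
  (false,2,224),
  (false,5,224),
  (false,4,1264),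
  (false,1,513),
  (false,4,644),
  (false,0,522),
  (false,5,314),
  (false,2,1343),
  (false,4,1059),
  (false,1,386),
  (false,3,386),
  (false,4,386),
  (false,5,386),
  (false,0,217),
  (false,2,415),
  (false,0,1224),
  (false,3,1224),
  (false,5,1224),
  (false,0,828),
  (false,0,1040),
  (false,4,1040),
  (false,1,91),
  (false,2,91),
  (false,1,1359),
  (false,1,533),
  (false,3,533),
  (false,5,533),
  (false,2,1170),
  (false,0,1154),
  (false,0,1235),
  (false,0,327),
  (false,0,322),
  (false,1,1114),
  (false,3,358),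
  (false,3,757),
  (false,4,1090),
  (false,5,1322),
  (false,2,752),
  (false,5,589),
  (false,2,471),
  (false,3,1262),
  (false,4,1262),
  (false,4,1284),
  (false,0,883),
  (false,0,447),
  (false,2,299),
  (false,1,670),
  (false,0,1158),
  (false,2,1102),
  (false,2,1309),
  (false,3,1266),
  (false,3,373),
  (false,3,1370),
  (false,4,1071),
  (false,4,104),
  (false,5,704),
  (true,12,0),
  (false,0,10),
  (false,1,10),
  (false,2,10),
  (false,4,10),
  (false,0,154),
  (false,1,154),
  (false,2,154),
  (false,3,154),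
  (false,4,154),
  (false,5,154),
  (false,0,734),
  (false,1,734),
  (false,2,734),
  (false,4,734),
  (false,5,734),
  (false,0,183),
  (false,1,183),
  (false,2,183),
  (false,4,183)]

/-- part 9 of `tree4` -/
def tree4P9 : List (Bool × ℕ × ℕ) := [
  (false,5,183),
  (false,0,48),
  (false,1,48),
  (false,2,48),
  (false,4,48),
  (false,5,48),
  (false,0,117),
  (false,1,117),
  (false,2,117),
  (false,4,117),
  (false,5,117),
  (false,0,528),
  (false,2,528),
  (false,3,528),
  (false,4,528),
  (false,5,528),
  (false,0,735),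
  (false,2,735),
  (false,3,735),
  (false,5,735),
  (false,0,783),
  (false,1,783),
  (false,2,783),
  (false,4,783),
  (false,5,783),
  (false,1,681),
  (false,2,681),
  (false,3,681),
  (false,1,1228),
  (false,4,1228),
  (false,0,591),
  (false,1,591),
  (false,2,591),
  (false,3,591),
  (false,4,591),
  (false,5,591),
  (false,0,481),
  (false,2,481),
  (false,4,481),
  (false,0,986),
  (false,1,986),
  (false,2,986),
  (false,4,986),
  (false,5,986),
  (false,2,959),
  (false,4,959),
  (false,2,909),
  (false,0,199),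
  (false,1,199),
  (false,2,199),
  (false,5,199),
  (false,0,1196),
  (false,1,1196),
  (false,2,1196),
  (false,1,81),
  (false,4,81),
  (false,5,81),
  (false,0,116),
  (false,1,116),
  (false,5,116),
  (false,0,131),
  (false,1,131),
  (false,5,131),
  (false,0,490),
  (false,1,490),
  (false,3,490),
  (false,4,490),
  (false,0,948),
  (false,1,185),
  (false,2,185),
  (false,4,185),
  (false,5,185),
  (false,0,367),
  (false,1,744),
  (false,2,744),
  (false,0,910),
  (false,5,133),
  (false,1,434),
  (false,2,434),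
  (false,3,434),
  (false,4,434),
  (false,5,434),
  (false,1,17),
  (false,3,17),
  (false,0,1159),
  (false,0,551),
  (false,3,551),
  (false,5,551),
  (false,1,210),
  (false,4,210),
  (false,2,692),
  (false,0,486),
  (false,1,232),
  (false,1,223),
  (false,1,858),
  (false,4,858),
  (false,2,634),
  (false,2,918),
  (false,5,918),
  (false,1,657)]

/-- part 10 of `tree4` -/
def tree4P10 : List (Bool × ℕ × ℕ) := [
  (false,4,657),
  (false,0,316),
  (false,2,316),
  (false,5,316),
  (false,3,792),
  (false,3,645),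
  (false,0,348),
  (false,2,348),
  (false,5,348),
  (false,4,974),
  (false,0,995),
  (false,0,216),
  (false,1,163),
  (false,4,1274),
  (false,3,1384),
  (false,3,1299),
  (false,4,666),
  (false,3,1020),
  (false,4,1021),
  (false,0,46),
  (false,1,379),
  (false,4,806),
  (false,0,1231),
  (false,2,971),
  (true,13,0),
  (false,0,13),
  (false,2,13),
  (false,0,329),
  (false,1,329),
  (false,2,329),
  (false,4,329),
  (false,0,184),
  (false,1,184),
  (false,2,184),
  (false,4,184),
  (false,2,633),
  (true,14,0),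
  (false,0,8),
  (false,2,8),
  (false,0,785),
  (false,1,785),
  (false,2,785),
  (false,3,785),
  (false,5,785),
  (false,1,135),
  (false,4,135),
  (false,2,496),
  (false,0,531),
  (true,15,0),
  (false,0,87),
  (false,1,87),
  (false,2,87),
  (false,3,87),
  (false,4,87),
  (false,5,87),
  (false,0,1188),
  (false,1,1188),
  (false,2,1188),
  (false,3,1188),
  (false,4,1188),
  (false,5,1188),
  (false,0,564),
  (false,2,564),
  (false,3,564),
  (false,4,564),
  (false,5,564),
  (false,0,238),
  (false,1,238),
  (false,2,238),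
  (false,3,238),
  (false,4,238),
  (false,5,238),
  (false,0,346),
  (false,1,346),
  (false,2,346),
  (false,4,346),
  (false,5,346),
  (false,0,877),
  (false,1,877),
  (false,2,877),
  (false,3,877),
  (false,4,877),
  (false,5,877),
  (false,0,886),
  (false,1,886),
  (false,2,886),
  (false,3,886),
  (false,4,886),
  (false,5,886),
  (false,0,891),
  (false,1,891),
  (false,2,891),
  (false,3,891),
  (false,4,891),
  (false,5,891),
  (false,0,1043),
  (false,1,1043),
  (false,2,1043),
  (false,3,1043),
  (false,0,1131)]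

/-- part 11 of `tree4` -/
def tree4P11 : List (Bool × ℕ × ℕ) := [
  (false,1,1131),
  (false,2,1131),
  (false,3,1131),
  (false,4,1131),
  (false,5,1131),
  (false,0,1234),
  (false,1,1234),
  (false,2,1234),
  (false,4,1234),
  (false,5,1234),
  (false,2,946),
  (false,3,946),
  (false,5,946),
  (false,0,710),
  (false,2,710),
  (false,3,710),
  (false,0,836),
  (false,1,836),
  (false,2,836),
  (false,3,836),
  (false,4,836),
  (false,5,836),
  (false,1,492),
  (false,2,492),
  (false,3,492),
  (false,4,492),
  (false,5,492),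
  (false,0,556),
  (false,1,556),
  (false,2,556),
  (false,4,556),
  (false,5,556),
  (false,0,626),
  (false,2,626),
  (false,0,291),
  (false,2,291),
  (false,3,291),
  (false,5,291),
  (false,0,1236),
  (false,1,1236),
  (false,2,1236),
  (false,3,1236),
  (false,5,1236),
  (false,0,451),
  (false,2,451),
  (false,3,451),
  (false,4,451),
  (false,5,451),
  (false,0,88),
  (false,1,88),
  (false,5,88),
  (false,0,653),
  (false,1,653),
  (false,0,777),
  (false,2,777),
  (false,3,777),
  (false,0,1010),
  (false,2,1010),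
  (false,0,686),
  (false,1,686),
  (false,3,686),
  (false,4,686),
  (false,5,686),
  (false,0,325),
  (false,1,325),
  (false,2,325),
  (false,3,325),
  (false,0,562),
  (false,4,562),
  (false,5,562),
  (false,0,334),
  (false,2,334),
  (false,4,334),
  (false,5,334),
  (false,0,557),
  (false,2,557),
  (false,3,557),
  (false,0,1024),
  (false,2,1024),
  (false,3,1024),
  (false,4,1024),
  (false,5,1024),
  (false,2,742),
  (false,4,742),
  (false,0,901),
  (false,2,901),
  (false,5,901),
  (false,5,749),
  (false,0,994),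
  (false,2,994),
  (false,3,994),
  (false,1,1361),
  (false,2,1361),
  (false,3,1361),
  (false,4,1361),
  (false,0,536),
  (false,0,264),
  (false,1,264),
  (false,2,264),
  (false,3,264)]

/-- part 12 of `tree4` -/
def tree4P12 : List (Bool × ℕ × ℕ) := [
  (false,4,264),
  (false,5,264),
  (false,0,446),
  (false,1,446),
  (false,4,446),
  (false,5,446),
  (false,0,694),
  (false,2,694),
  (false,3,694),
  (false,0,1088),
  (false,0,1147),
  (false,1,1147),
  (false,3,1147),
  (false,5,1147),
  (false,1,230),
  (false,4,230),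
  (false,5,230),
  (false,0,331),
  (false,1,331),
  (false,2,331),
  (false,3,331),
  (false,4,331),
  (false,5,331),
  (false,0,338),
  (false,2,338),
  (false,4,338),
  (false,5,338),
  (false,1,335),
  (false,2,335),
  (false,3,335),
  (false,4,335),
  (false,0,225),
  (false,1,225),
  (false,2,225),
  (false,3,225),
  (false,4,225),
  (false,5,225),
  (false,5,178),
  (false,2,1378),
  (false,1,1227),
  (false,2,1227),
  (false,3,1227),
  (false,4,1227),
  (false,1,1105),
  (false,2,1105),
  (false,4,1105),
  (false,5,1105),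
  (false,0,297),
  (false,1,297),
  (false,3,297),
  (false,2,1256),
  (false,4,1256),
  (false,5,1256),
  (false,1,664),
  (false,5,664),
  (false,0,1238),
  (false,3,1238),
  (false,1,1399),
  (false,2,1399),
  (false,5,1399),
  (false,0,353),
  (false,3,353),
  (false,2,1153),
  (false,3,1153),
  (false,4,1153),
  (false,1,1355),
  (false,4,1355),
  (false,5,1355),
  (false,2,922),
  (false,3,922),
  (false,4,922),
  (false,5,922),
  (false,3,1282),
  (false,5,1213),
  (false,0,1215),
  (false,4,1215),
  (false,5,1215),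
  (false,0,1003),
  (false,2,1003),
  (false,1,305),
  (false,3,305),
  (false,2,1312),
  (false,3,1312),
  (false,2,1324),
  (false,2,639),
  (false,5,639),
  (false,1,1291),
  (false,2,1291),
  (false,4,1291),
  (false,5,1291),
  (false,2,1371),
  (false,5,1371),
  (false,1,1268),
  (false,4,1268),
  (false,5,1268),
  (false,1,1217),
  (false,3,1217),
  (false,3,1239),
  (false,4,1239),
  (false,5,1239)]

/-- part 13 of `tree4` -/
def tree4P13 : List (Bool × ℕ × ℕ) := [
  (false,0,317),
  (false,3,317),
  (false,0,565),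
  (false,5,565),
  (false,1,402),
  (false,3,416),
  (false,5,416),
  (false,1,889),
  (false,3,889),
  (false,4,889),
  (false,5,889),
  (false,4,1219),
  (false,1,635),
  (false,2,635),
  (false,0,578),
  (false,2,578),
  (false,3,578),
  (false,1,488),
  (false,4,488),
  (false,5,488),
  (false,1,1118),
  (false,2,1118),
  (false,3,1118),
  (false,4,1118),
  (false,1,457),
  (false,2,457),
  (false,0,960),
  (false,1,960),
  (false,0,146),
  (false,1,146),
  (false,2,146),
  (false,4,146),
  (false,3,165),
  (false,4,165),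
  (false,5,844),
  (false,1,978),
  (false,2,978),
  (false,4,978),
  (false,5,1051),
  (false,0,1288),
  (false,3,1288),
  (false,0,931),
  (false,1,931),
  (false,3,931),
  (false,0,92),
  (false,2,92),
  (false,0,849),
  (false,0,1279),
  (false,2,1279),
  (false,3,1279),
  (false,0,197),
  (false,3,197),
  (false,0,572),
  (false,3,1212),
  (false,4,1212),
  (false,5,1212),
  (false,0,288),
  (false,2,280),
  (false,3,280),
  (false,0,1389),
  (false,1,1389),
  (false,3,1389),
  (false,4,1389),
  (false,1,218),
  (false,4,218),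
  (false,5,218),
  (false,1,1124),
  (false,2,1124),
  (false,1,1296),
  (false,1,580),
  (false,3,580),
  (false,2,339),
  (false,3,339),
  (false,4,1271),
  (false,0,1183),
  (false,4,1183),
  (false,2,714),
  (false,4,1311),
  (false,0,1019),
  (false,4,164),
  (false,0,499),
  (false,2,499),
  (false,3,730),
  (false,5,730),
  (false,4,1097),
  (false,5,1097),
  (false,0,1261),
  (false,3,1261),
  (false,4,1334),
  (false,5,1334),
  (false,0,275),
  (false,5,530),
  (false,4,1015),
  (false,3,423),
  (false,5,1209),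
  (false,1,1199),
  (false,3,1270),
  (false,0,306),
  (false,0,1392),
  (false,2,857)]

/-- part 14 of `tree4` -/
def tree4P14 : List (Bool × ℕ × ℕ) := [
  (false,3,944),
  (false,2,1070),
  (false,3,429),
  (false,1,871),
  (false,2,989),
  (false,0,756),
  (false,1,771),
  (false,1,231)]

/-- certificate data -/
def tree4 : List (Bool × ℕ × ℕ) :=
  [tree4P0, tree4P1, tree4P2, tree4P3, tree4P4, tree4P5, tree4P6, tree4P7, tree4P8, tree4P9, tree4P10, tree4P11, tree4P12, tree4P13, tree4P14].flatten

/-- chain of a point stabiliser -/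
def stb4_0 : List Lev := [
  { base := 4, new := [([21,197,193,141,99],[100,142,194,198,22])],
    orbit := [(4,[]),
      (194,[0]),
      (38,[0,0]),
      (284,[0,1]),
      (15,[0,1,0]),
      (212,[0,0,1])],
    wit := [] },
  { base := 6, new := [([19,193,141],[142,194,20])],
    orbit := [(6,[]),
      (464,[0]),
      (24,[0,0]),
      (30,[0,1]),
      (37,[0,0,0]),
      (190,[0,1,0]),
      (391,[0,0,1]),
      (26,[0,0,1,0]),
      (59,[0,0,0,1]),
      (60,[0,1,0,1]),
      (206,[0,0,0,0]),
      (408,[0,1,0,0]),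
      (33,[0,0,0,1,0]),
      (65,[0,1,0,0,1]),
      (66,[0,1,0,1,0]),
      (101,[0,1,0,0,0]),
      (193,[0,0,0,0,1]),
      (392,[0,0,1,0,1]),
      (31,[0,0,0,1,0,1]),
      (39,[0,0,0,1,0,0]),
      (58,[0,0,0,0,1,0]),
      (67,[0,1,0,0,0,0]),
      (78,[0,0,1,0,1,0]),
      (195,[0,1,0,1,0,0]),
      (409,[0,1,0,0,1,0]),
      (25,[0,0,1,0,1,0,1]),
      (32,[0,1,0,0,0,0,1]),
      (122,[0,0,0,0,1,0,1]),
      (285,[0,1,0,1,0,0,1]),
      (399,[0,1,0,0,0,0,1,0])],
    wit := [] },
  { base := 9, new := [([21],[22])],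
    orbit := [(9,[]),
      (482,[0])],
    wit := [] }]

/-- an orbit -/
def root4_0 : Root :=
  ⟨[203], [204], 1, [297,204], [203,298], stb4_0,
    [[(5,false),(5,false),(4,false),(4,false),(3,false),(4,false),(2,false),(2,false)],
      [(4,false),(4,false),(3,false),(4,false),(3,false)],
      [(5,false),(4,false),(5,false)]],
    [[4,2,4,2,2,0],[0,5,0,3,3,2],[0,0,2,4,2,0]]⟩

/-- chain of a point stabiliser -/
def stb4_1 : List Lev := [
  { base := 4, new := [([21,199,193,143,57],[58,144,194,200,22])],
    orbit := [(4,[]),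
      (15,[0]),
      (284,[0,1]),
      (194,[0,1,1]),
      (212,[0,1,0]),
      (38,[0,1,0,1])],
    wit := [] },
  { base := 6, new := [([21,19,15,9],[10,16,20,22])],
    orbit := [(6,[]),
      (193,[0]),
      (59,[0,0]),
      (206,[0,1]),
      (37,[0,0,1]),
      (66,[0,1,0]),
      (391,[0,0,0]),
      (24,[0,0,0,1]),
      (30,[0,0,0,0]),
      (392,[0,0,1,0]),
      (408,[0,1,0,0]),
      (409,[0,1,0,1]),
      (26,[0,0,1,0,1]),
      (33,[0,1,0,0,0]),
      (65,[0,1,0,0,1]),
      (101,[0,0,0,1,0]),
      (190,[0,1,0,1,0]),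
      (464,[0,0,0,0,1]),
      (25,[0,1,0,1,0,0]),
      (31,[0,0,0,1,0,0]),
      (32,[0,0,0,0,1,0]),
      (39,[0,0,0,1,0,1]),
      (60,[0,1,0,0,1,0]),
      (122,[0,1,0,0,0,0]),
      (285,[0,0,1,0,1,0]),
      (58,[0,1,0,0,0,0,1]),
      (67,[0,0,0,0,1,0,1]),
      (78,[0,1,0,1,0,0,1]),
      (195,[0,0,1,0,1,0,1]),
      (399,[0,1,0,0,0,0,1,0])],
    wit := [] },
  { base := 9, new := [([21],[22])],
    orbit := [(9,[]),
      (482,[0])],
    wit := [] }]

/-- an orbit -/
def root4_1 : Root :=
  ⟨[21,201,15,151,101,4], [4,102,152,16,202,22], 2, [21,19,193,143,305,4,102,152,16,202,22], [21,201,15,151,101,4,306,144,194,20,22], stb4_1,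
    [[(5,false),(4,false),(3,false),(4,false),(2,false),(4,false),(2,false)],
      [(5,false),(5,false),(4,false),(4,false),(3,false),(5,false)],
      [(5,false),(4,false),(5,false)]],
    [[0,2,2,4,1,2],[0,0,4,3,0,1],[0,0,3,2,3,0]]⟩

/-- chain of a point stabiliser -/
def stb4_2 : List Lev := [
  { base := 0, new := [([21,19,15,163,41,343],[344,42,164,16,20,22])],
    orbit := [(0,[]),
      (270,[0])],
    wit := [] },
  { base := 6, new := [([21,193,7,73],[74,8,194,22])],
    orbit := [(6,[]),
      (392,[0]),
      (26,[0,2]),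
      (408,[0,0]),
      (65,[0,0,0]),
      (399,[0,2,1])],
    wit := [] },
  { base := 4, new := [([21,201,195,119,81],[82,120,196,202,22])],
    orbit := [(4,[]),
      (284,[0]),
      (212,[0,1]),
      (38,[0,1,0]),
      (194,[0,1,0,1])],
    wit := [] },
  { base := 9, new := [([21],[22])],
    orbit := [(9,[]),
      (482,[0])],
    wit := [] }]

/-- an orbit -/
def root4_2 : Root :=
  ⟨[21,199,195,187,97,323], [324,98,188,196,200,22], 4, [21,201,195,161,97,327,324,98,188,196,200,22], [21,199,195,187,97,323,328,98,162,196,202,22], stb4_2,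
    [[(5,false),(5,false),(4,false),(5,false),(3,false),(5,false),(2,false),(4,false),(1,false)],
      [(5,false),(5,false),(3,false),(5,false),(2,false)],
      [(3,false),(5,false),(2,false),(4,false)],
      [(5,false),(4,false),(5,false)]],
    [[2,2,1,0,2],[0,3,3,2,1],[0,1,3,1,1],[0,0,0,2,1]]⟩

/-- chain of a point stabiliser -/
def stb4_3 : List Lev := [
  { base := 6, new := [([199,15,9,81],[82,10,16,200])],
    orbit := [(6,[]),
      (205,[0]),
      (67,[0,0]),
      (122,[0,1]),
      (192,[0,2]),
      (32,[0,0,2]),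
      (37,[0,0,0]),
      (58,[0,1,2]),
      (193,[0,2,0]),
      (285,[0,1,1]),
      (391,[0,0,1]),
      (399,[0,1,0]),
      (409,[0,2,1]),
      (24,[0,0,1,2]),
      (31,[0,0,1,0]),
      (39,[0,0,1,1]),
      (59,[0,0,0,2]),
      (60,[0,2,1,1]),
      (65,[0,1,0,1]),
      (66,[0,2,0,0]),
      (190,[0,0,2,0]),
      (195,[0,1,1,2]),
      (204,[0,1,0,0]),
      (206,[0,2,0,1]),
      (592,[0,0,0,1]),
      (16,[0,0,0,1,2]),
      (25,[0,0,1,0,1]),
      (26,[0,1,0,1,1]),
      (30,[0,2,0,1,1]),
      (33,[0,0,1,0,2]),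
      (78,[0,1,0,0,1]),
      (101,[0,0,0,1,1]),
      (392,[0,0,0,2,0]),
      (408,[0,1,0,1,2]),
      (454,[0,1,0,1,1,0]),
      (464,[0,0,1,0,1,0])],
    wit := [] },
  { base := 4, new := [([11,161,99],[100,162,12])],
    orbit := [(4,[]),
      (194,[0]),
      (38,[0,1]),
      (284,[0,0]),
      (212,[0,0,0])],
    wit := [] },
  { base := 9, new := [([21],[22])],
    orbit := [(9,[]),
      (482,[0])],
    wit := [] }]

/-- an orbit -/
def root4_3 : Root :=
  ⟨[21,197,195,127,91,1], [0,92,128,196,198,22], 4, [21,17,195,119,99,0,0,92,128,196,198,22], [21,197,195,127,91,1,1,100,120,196,18,22], stb4_3,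
    [[(3,false),(4,false),(3,false),(2,false),(4,false)],
      [(4,false),(5,false),(3,false),(2,false),(2,false)],
      [(5,false),(4,false),(5,false)]],
    [[0,3,1,3,2],[0,1,3,2,1],[0,1,3,1,2]]⟩

/-- chain of a point stabiliser -/
def stb4_4 : List Lev := [
  { base := 6, new := [([21,19,193,125,343],[344,126,194,20,22])],
    orbit := [(6,[]),
      (1179,[0]),
      (408,[0,0]),
      (950,[0,1]),
      (65,[0,0,1]),
      (67,[0,1,0]),
      (1263,[0,0,0]),
      (26,[0,0,0,0]),
      (32,[0,1,0,1]),
      (860,[0,1,0,0]),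
      (1157,[0,0,0,1]),
      (1223,[0,0,1,0]),
      (37,[0,1,0,0,0]),
      (60,[0,0,0,1,0]),
      (392,[0,0,0,0,1]),
      (761,[0,0,0,0,0]),
      (862,[0,0,1,0,1]),
      (1144,[0,1,0,0,1]),
      (1240,[0,1,0,1,0]),
      (33,[0,0,1,0,1,0]),
      (59,[0,1,0,0,0,1]),
      (190,[0,0,0,1,0,1]),
      (285,[0,1,0,1,0,0]),
      (1009,[0,0,0,1,0,0]),
      (1109,[0,1,0,0,0,0]),
      (1360,[0,0,0,0,1,0]),
      (31,[0,0,1,0,1,0,1]),
      (58,[0,0,0,1,0,0,0]),
      (195,[0,1,0,1,0,0,1]),
      (399,[0,0,0,0,1,0,0]),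
      (713,[0,1,0,1,0,0,0]),
      (732,[0,0,0,1,0,1,0]),
      (914,[0,0,1,0,1,0,0]),
      (1085,[0,1,0,0,0,1,0]),
      (1374,[0,0,0,0,1,0,1]),
      (24,[0,0,0,0,1,0,1,0]),
      (30,[0,0,1,0,1,0,0,0]),
      (66,[0,1,0,1,0,0,0,0]),
      (122,[0,0,0,1,0,0,0,1]),
      (193,[0,0,0,1,0,1,0,0]),
      (409,[0,1,0,0,0,1,0,0]),
      (758,[0,0,0,1,0,0,0,0]),
      (926,[0,0,0,0,1,0,0,0]),
      (1406,[0,0,1,0,1,0,0,1]),
      (206,[0,0,0,1,0,1,0,0,1]),
      (391,[0,0,0,0,1,0,1,0,1]),
      (464,[0,0,1,0,1,0,0,0,1]),
      (988,[0,0,0,0,1,0,1,0,0]),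
      (1074,[0,0,0,1,0,1,0,0,0]),
      (1123,[0,1,0,0,0,1,0,0,0]),
      (1168,[0,0,0,1,0,0,0,1,0]),
      (1193,[0,0,1,0,1,0,0,0,0]),
      (25,[0,0,0,1,0,1,0,0,0,0]),
      (39,[0,0,0,0,1,0,1,0,0,0]),
      (78,[0,0,0,1,0,0,0,1,0,0]),
      (1079,[0,0,0,1,0,0,0,1,0,1]),
      (1314,[0,0,0,1,0,1,0,0,0,1]),
      (1347,[0,1,0,0,0,1,0,0,0,1]),
      (101,[0,0,0,0,1,0,1,0,0,0,1]),
      (728,[0,0,0,1,0,0,0,1,0,0,0])],
    wit := [] },
  { base := 9, new := [([21],[22])],
    orbit := [(9,[]),
      (482,[0])],
    wit := [] }]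

/-- an orbit -/
def root4_4 : Root :=
  ⟨[21,17,159,4], [4,160,18,22], 3, [201,119,31,209,4,160,18,22], [21,17,159,4,210,32,120,202], stb4_4,
    [[(5,false),(3,false),(1,false)],
      [(5,false),(4,false),(5,false)]],
    [[26,2,2,3,2,0],[0,0,5,4,0,1]]⟩

/-- chain of a point stabiliser -/
def stb4_5 : List Lev := [
  { base := 4, new := [([197,193,139,93],[94,140,194,198])],
    orbit := [(4,[]),
      (212,[0]),
      (194,[0,1]),
      (284,[0,2]),
      (15,[0,1,0]),
      (38,[0,1,2])],
    wit := [] },
  { base := 6, new := [([21,135],[136,22])],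
    orbit := [(6,[]),
      (206,[0]),
      (193,[0,1]),
      (409,[0,0]),
      (37,[0,1,0]),
      (60,[0,0,0]),
      (66,[0,0,1]),
      (26,[0,1,0,0]),
      (30,[0,0,0,0]),
      (59,[0,1,0,1]),
      (65,[0,0,1,0]),
      (190,[0,0,0,1]),
      (24,[0,1,0,1,0]),
      (78,[0,0,0,1,0]),
      (195,[0,1,0,0,0]),
      (392,[0,1,0,0,1]),
      (408,[0,0,1,0,1]),
      (464,[0,0,0,0,1]),
      (25,[0,0,0,1,0,1]),
      (31,[0,0,1,0,1,0]),
      (39,[0,1,0,1,0,0]),
      (67,[0,0,0,0,1,0]),
      (122,[0,1,0,0,0,0]),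
      (285,[0,0,0,1,0,0]),
      (391,[0,1,0,0,1,0]),
      (32,[0,0,0,0,1,0,1]),
      (33,[0,0,1,0,1,0,1]),
      (58,[0,1,0,0,0,0,1]),
      (101,[0,1,0,1,0,0,1]),
      (399,[0,1,0,0,0,0,1,0])],
    wit := [] },
  { base := 9, new := [([21],[22])],
    orbit := [(9,[]),
      (482,[0])],
    wit := [] }]

/-- an orbit -/
def root4_5 : Root :=
  ⟨[21,17,191,43,207], [208,44,192,18,22], 2, [21,197,195,145,5,355,208,44,192,18,22], [21,17,191,43,207,356,6,146,196,198,22], stb4_5,
    [[(4,false),(5,false),(2,false),(2,false),(5,false)],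
      [(5,false),(4,false),(4,false),(3,false)],
      [(5,false),(4,false),(5,false)]],
    [[0,0,1,3,3,1],[0,0,4,0,2,0],[0,0,5,3,3,2]]⟩

/-- chain of a point stabiliser -/
def stb4_6 : List Lev := [
  { base := 4, new := [([21,199,15,131,57],[58,132,16,200,22])],
    orbit := [(4,[]),
      (15,[0]),
      (38,[0,0]),
      (194,[0,2]),
      (212,[0,1]),
      (284,[0,1,2])],
    wit := [] },
  { base := 6, new := [([199,193,133],[134,194,200]),([21,159],[160,22])],
    orbit := [(6,[]),
      (32,[0]),
      (409,[1]),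
      (30,[1,1]),
      (33,[0,1]),
      (58,[1,0]),
      (60,[0,1,0]),
      (101,[1,1,0]),
      (206,[1,1,1]),
      (399,[0,1,1])],
    wit := [] }]

/-- an orbit -/
def root4_6 : Root :=
  ⟨[19,15,147,33,4], [4,34,148,16,20], 2, [197,11,177,39,209,4,34,148,16,20], [19,15,147,33,4,210,40,178,12,198], stb4_6,
    [[(4,false),(3,false),(4,false),(3,false),(2,false),(4,false),(2,false)],
      [(3,false)],
      [(5,false),(5,false),(4,false),(4,false),(3,false),(4,false),(3,false)]],
    [[0,2,3,3,2,1],[0,3,1,0,2,2],[0,3,5,3,1,2]]⟩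

/-- chain of a point stabiliser -/
def stb4_7 : List Lev := [
  { base := 4, new := [([21,19,193,149,93],[94,150,194,20,22])],
    orbit := [(4,[]),
      (212,[0]),
      (15,[0,1]),
      (194,[0,0]),
      (284,[0,0,0])],
    wit := [] },
  { base := 6, new := [([161],[162])],
    orbit := [(6,[]),
      (195,[0])],
    wit := [] }]

/-- an orbit -/
def root4_7 : Root :=
  ⟨[197,193,145,85,4], [4,86,146,194,198], 5, [201,193,177,89,209,4,86,146,194,198], [197,193,145,85,4,210,90,178,194,202], stb4_7,
    [[(3,false),(4,false),(2,false),(2,false),(5,false)],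
      [(5,false),(5,false),(4,false),(5,false),(3,false)]],
    [[0,11,3,1],[0,20,3,1]]⟩

/-- chain of a point stabiliser -/
def stb4_8 : List Lev := [
  { base := 4, new := [([11,161,99],[100,162,12])],
    orbit := [(4,[]),
      (194,[0]),
      (38,[0,1]),
      (284,[0,0]),
      (212,[0,0,0])],
    wit := [] },
  { base := 9, new := [([21],[22])],
    orbit := [(9,[]),
      (482,[0])],
    wit := [] }]

/-- an orbit -/
def root4_8 : Root :=
  ⟨[17,11,119,75,253], [254,76,120,12,18], 5, [19,171,25,479,254,76,120,12,18], [17,11,119,75,253,480,26,172,20], stb4_8,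
    [[(4,false),(5,false),(3,false),(2,false),(2,false)],
      [(5,false),(4,false),(5,false)]],
    [[0,10,0,1],[0,10,3,1]]⟩

/-- chain of a point stabiliser -/
def stb4_9 : List Lev := [
  { base := 6, new := [([21,197,193,129],[130,194,198,22]),([21,171],[172,22])],
    orbit := [(6,[]),
      (60,[0]),
      (101,[1]),
      (58,[0,1]),
      (206,[0,0]),
      (399,[1,0]),
      (30,[0,0,0]),
      (32,[0,0,1]),
      (33,[1,0,0]),
      (409,[1,0,1])],
    wit := [] }]

/-- an orbit -/
def root4_9 : Root :=
  ⟨[199,195,191,67,215], [216,68,192,196,200], 4, [21,197,11,159,91,391,216,68,192,196,200], [199,195,191,67,215,392,92,160,12,198,22], stb4_9,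
    [[(5,false),(5,false),(4,false),(3,false),(5,false)],
      [(5,false),(5,false),(4,false),(5,false),(3,false),(4,false),(3,false)]],
    [[0,5,2,0,0],[0,4,2,0,1]]⟩

/-- chain of a point stabiliser -/
def stb4_10 : List Lev := [
  { base := 4, new := [([17,11,147,73],[74,148,12,18])],
    orbit := [(4,[]),
      (38,[0]),
      (194,[0,1]),
      (212,[0,0]),
      (284,[0,2]),
      (15,[0,0,1])],
    wit := [] },
  { base := 9, new := [([199,11,179],[180,12,200])],
    orbit := [(9,[]),
      (114,[0]),
      (72,[0,1]),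
      (482,[0,0]),
      (119,[0,0,0])],
    wit := [] },
  { base := 6, new := [([21,171],[172,22])],
    orbit := [(6,[]),
      (101,[0])],
    wit := [] }]

/-- an orbit -/
def root4_10 : Root :=
  ⟨[21,19,11,103,563], [564,104,12,20,22], 6, [21,197,15,175,63,203,564,104,12,20,22], [21,19,11,103,563,204,64,176,16,198,22], stb4_10,
    [[(5,false),(4,false),(4,false),(3,false),(4,false),(2,false)],
      [(5,false),(4,false),(3,false),(5,false)],
      [(5,false),(5,false),(4,false),(5,false),(3,false),(4,false),(3,false)]],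
    [[0,0,0,0,2],[0,0,1,2,0],[0,0,3,2,2]]⟩

/-- chain of a point stabiliser -/
def stb4_11 : List Lev := [
  { base := 0, new := [([21,143,343],[344,144,22])],
    orbit := [(0,[]),
      (270,[0])],
    wit := [] },
  { base := 9, new := [([21],[22])],
    orbit := [(9,[]),
      (482,[0])],
    wit := [] }]

/-- an orbit -/
def root4_11 : Root :=
  ⟨[21,199,193,147,59,323], [324,60,148,194,200,22], 6, [21,19,193,139,87,471,324,60,148,194,200,22], [21,199,193,147,59,323,472,88,140,194,20,22], stb4_11,
    [[(5,false),(5,false),(4,false),(1,false)],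
      [(5,false),(4,false),(5,false)]],
    [[0,1,0,2,1],[0,0,4,1,2]]⟩

/-- chain of a point stabiliser -/
def stb4_12 : List Lev := [
  { base := 6, new := [([193,185],[186,194]),([21,159],[160,22])],
    orbit := [(6,[]),
      (399,[0]),
      (409,[1]),
      (30,[1,1]),
      (33,[1,0]),
      (101,[0,1]),
      (32,[1,1,0]),
      (58,[0,1,1]),
      (60,[0,1,0]),
      (206,[1,1,1])],
    wit := [] }]

/-- an orbit -/
def root4_12 : Root :=
  ⟨[199,11,161,65,289], [290,66,162,12,200], 6, [21,19,11,123,103,651,290,66,162,12,200], [199,11,161,65,289,652,104,124,12,20,22], stb4_12,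
    [[(5,false),(4,false),(4,false)],
      [(5,false),(5,false),(4,false),(4,false),(3,false),(4,false),(3,false)]],
    [[0,0,0,2,1],[0,0,1,3,1]]⟩

/-- chain of a point stabiliser -/
def stb4_13 : List Lev := [
  { base := 6, new := [([197,195,131,343],[344,132,196,198])],
    orbit := [(6,[]),
      (1144,[0]),
      (59,[0,0]),
      (860,[0,1]),
      (37,[0,0,1]),
      (66,[0,1,0]),
      (1347,[0,0,0]),
      (24,[0,0,0,0]),
      (409,[0,1,0,1]),
      (713,[0,0,1,0]),
      (1009,[0,1,0,0]),
      (1123,[0,0,0,1]),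
      (25,[0,1,0,0,0]),
      (30,[0,0,1,0,0]),
      (285,[0,0,0,1,0]),
      (391,[0,0,0,0,1]),
      (758,[0,0,1,0,1]),
      (1079,[0,1,0,1,0]),
      (1109,[0,1,0,0,1]),
      (1223,[0,0,0,0,0]),
      (33,[0,1,0,1,0,0]),
      (78,[0,1,0,0,0,1]),
      (101,[0,0,1,0,1,0]),
      (195,[0,0,0,1,0,1]),
      (464,[0,0,1,0,0,1]),
      (862,[0,0,0,0,0,1]),
      (988,[0,1,0,0,0,0]),
      (1074,[0,0,1,0,0,0]),
      (1168,[0,1,0,1,0,1]),
      (1240,[0,0,0,0,1,0]),
      (1263,[0,0,0,1,0,0]),
      (31,[0,0,0,0,1,0,0]),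
      (32,[0,0,0,0,0,1,0]),
      (39,[0,0,1,0,0,0,0]),
      (58,[0,1,0,0,0,0,0]),
      (60,[0,1,0,1,0,1,0]),
      (399,[0,0,0,1,0,0,0]),
      (728,[0,0,1,0,0,1,0]),
      (761,[0,0,0,0,1,0,1]),
      (926,[0,1,0,1,0,0,0]),
      (1157,[0,0,0,1,0,0,1]),
      (1193,[0,1,0,0,0,0,1]),
      (1314,[0,0,1,0,0,0,1]),
      (1374,[0,0,0,1,0,1,0]),
      (65,[0,0,0,0,1,0,1,0]),
      (67,[0,0,0,0,0,1,0,1]),
      (122,[0,1,0,0,0,0,0,1]),
      (190,[0,0,0,1,0,1,0,0]),
      (193,[0,0,1,0,0,1,0,0]),
      (206,[0,0,0,1,0,0,1,0]),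
      (392,[0,1,0,1,0,0,0,0]),
      (732,[0,1,0,1,0,0,0,1]),
      (914,[0,0,1,0,0,0,0,0]),
      (950,[0,0,0,0,0,1,0,0]),
      (1179,[0,1,0,1,0,1,0,0]),
      (1360,[0,0,0,1,0,1,0,1]),
      (26,[0,1,0,1,0,0,0,0,1]),
      (408,[0,0,0,0,1,0,1,0,1]),
      (1085,[0,1,0,0,0,0,0,1,0]),
      (1406,[0,0,0,0,1,0,1,0,0])],
    wit := [] },
  { base := 9, new := [([21],[22])],
    orbit := [(9,[]),
      (482,[0])],
    wit := [] }]

/-- an orbit -/
def root4_13 : Root :=
  ⟨[17,193,121,663], [664,122,194,18], 6, [201,195,159,669,664,122,194,18], [17,193,121,663,670,160,196,202], stb4_13,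
    [[(5,false),(5,false),(3,false),(4,false),(3,false),(1,false)],
      [(5,false),(4,false),(5,false)]],
    [[0,1,1,2,0],[0,0,3,2,2]]⟩

/-- chain of a point stabiliser -/
def stb4_14 : List Lev := [
  { base := 6, new := [([201,193,169,41,343],[344,42,170,194,202])],
    orbit := [(6,[]),
      (1168,[0]),
      (65,[0,0]),
      (1079,[0,2]),
      (1123,[0,1]),
      (26,[0,0,1]),
      (408,[0,0,2]),
      (728,[0,1,1]),
      (1347,[0,1,2]),
      (392,[0,0,1,1]),
      (399,[0,0,2,1]),
      (1085,[0,0,2,0])],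
    wit := [] },
  { base := 4, new := [([11,161,99],[100,162,12])],
    orbit := [(4,[]),
      (194,[0]),
      (38,[0,1]),
      (284,[0,0]),
      (212,[0,0,0])],
    wit := [] },
  { base := 9, new := [([21],[22])],
    orbit := [(9,[]),
      (482,[0])],
    wit := [] }]

/-- an orbit -/
def root4_14 : Root :=
  ⟨[21,201,145,57,707], [708,58,146,202,22], 6, [201,195,119,271,708,58,146,202,22], [21,201,145,57,707,272,120,196,202], stb4_14,
    [[(5,false),(5,false),(4,false),(4,false),(3,false),(5,false),(2,false),(4,false),(1,false)],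
      [(4,false),(5,false),(3,false),(2,false),(2,false)],
      [(5,false),(4,false),(5,false)]],
    [[0,1,0,2,2],[0,0,3,2,1],[0,0,4,0,1]]⟩

/-- chain of a point stabiliser -/
def stb4_15 : List Lev := [
  { base := 0, new := [([21,197,195,175,343],[344,176,196,198,22])],
    orbit := [(0,[]),
      (270,[0])],
    wit := [] },
  { base := 4, new := [([21,17,195,121,99],[100,122,196,18,22])],
    orbit := [(4,[]),
      (194,[0])],
    wit := [] }]

/-- an orbit -/
def root4_15 : Root :=
  ⟨[21,171,57,297], [298,58,172,22], 7, [298,58,172,22], [21,171,57,297], stb4_15,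
    [[(4,false),(5,false),(3,false),(4,false),(3,false),(1,false)],
      [(5,false),(4,false),(5,false),(2,false),(2,false)]],
    [[31,1],[69,2]]⟩

/-- state 4 -/
def st4 : St :=
  ⟨k4, 1440, 0xb00700b00b00c00b00f00900f00f00b00f00f00f00900f00800b00f00b00f00f00b00c00b00800f00f00b00f00f00f00b00700f00800f00b00b00f00b00b00f00b00900f00f00700b00b00b00b00f00f00f00800c00b00b00f00700900b00f00b00f00b00f00b00800b00b00b00f00f00b00b00f00b00f00b00b00f00f00f00b00b00f00b00f00b00b00b00700f00f00f00f00b00b00b00800f00f00b00f00b00f00c00b00900f00b00f00f00b00f00b00800f00f00900b00b00c00f00b00b00f00f00b00b00b00c00b00f00f00f00b00f00f00b00b00b00700b00f00f00f00f00b00f00b00f00f00b00b00f00b00f00f00c00b00900b00f00b00700f00f00b00f00b00f00c00b00c00f00800c00f00b00f00b00700800f00900f00700f00b00f00b00f00f00f00900f00f00900f00800900b00900f00800f00800f00c00b00b00700b00b00c00b00f00900f00800b00f00b00f00b00700b00b00c00b00b00c00b00700b00b00700f00900f00f00800700f00b00c00b00700b00b00b00f00b00b00b00800f00f00f00900700b00f00700f00900b00b00900700800900800f00b00f00b00900b00b00f007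00b00f00b00800f00800c00b00b00f00c00b00b00700c00800700f00b00f00b00f00b00900900f00f00800f00f00800f00b00c00f00c00900700b00f00f00700900700b00c00b00b00700900700b00f00800f00900f00b00700f00b00c00b00b00f00800f00b00f00b00900f00900f00900f00b00f00900f00700800b00c00800700900f00400900800a00900b00f00b00f00f00f00800f00c00c00f00900800b00f00900800900700f00700f00b00700f00800f00b00b00f00800700c00b00c00f00f00b00f00f00f00700b00c00f00800b00b00c00b00900f00b00900800c00900b00c00900b00b00700c00800b00f00800b00f00c00b00c00b00f00b00c00900800700b00c00b00f00b00f00f00f00900c00700f00700900700b00600f00f00800f00800900700b00f00b00f00b00f00800c00900700800700b00b00f00c00c00b00800800800f00b00b00f00f00b00b00c00700f00900700b00f00800f00700b00f00f00800b00700b00b00900b00f00b00b00f00900f00f00b00900c00b00c00f00b00f00700b00700b00c00f00900700b00f00800f00b00f00f00900800f00f00b00f00b00900900f00b00f00b00f00b00700700b00800b00f00800c00b00f00b00b00800f00900f00800f00900800c00900b00800b00b00c00b00700900800c00b00b00800700c00900700b00c00b00f00700a00700800e00b00c00b00800800b00b00f00900b00f00b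00f00f00f00b00f00b00c00f00c00b00b00700b00b00700b00f00800900b00b00700800f00b00800f00b00c00f00f00800b00c00700800800c00c00b00700900f00800700900800700b00c00900900f00f00800c00b00b00f00700b00c00f00900c00900f00700b00800b00900f00800800800700700f00b00c00b00900f00f00800f00f00900f00700c00b00700800f00800c00900f00b00700b00c00b00b00c00b00f00800f00700800900700c00700700f00f00800c00b00900b00700800c00b00f00700f00900f00b00900f00f00c00d00400f00900c00200f00f00b00900800f00f00900200f00800700b00b00b00b00b00b00b00b00b00200b00b00b00c00f00800b00f00b00700900900600700c00f00b00800f00b00700900700900600f00900f00f00b00b00f00a00f00a00f00900b00c00b00f00f00900f00b00c00f00c00f00f00400c00a00800c00800700f00f00f00900900800600900f00f00c00f00f00b00900b00b00e00f00900c00b00700b00f00b00b00f00f00b00f00b00f00f00b00b00700f00b00b00f00f00900b00c00a00800f00f00f00b00600e00b00b00700f00f00c00b00f00900c00c00700a00900c00600800800f00800700b00f00700b00f00900c00f00f00900700c00a00b00b00f00b00f00800800700b00b00f00900c00b00b00f00f00800700b00600b00600b00b00b00600c00f00800b00b00f00900f00c00b00b00f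00c00f00b00f00800700f00b00800800100000600700700700b00b00700400f00b00e00700800600700800700b00700700900c00b00b00b00c00800200c00c00a00c00c00700a00c00b00b00f00b00f00900900c00500300a00b00b00f00800700b00b00f00c00f00f00900900d00b00c00800f00f00900f00b00800800f00f00b00b00f00f00f00b00f00b00d00f00b00f00f00f00900b00c00d00200b00f00c00b00b00b00c00b00f00b00b00f00f00f00b00800700900c00b00c00f00800600700b00f00f00b00b00f00f00a00700400900e00d00f00b00900f00f00f00900f00b00200500400800800b00800f00900800200800f00800b00f00900a00700f00a00d00100200c00c00b00b00f00700800b00b00f00900a00800900e00c00f00f00b00900700f00f00b00c00c00700b00700f00b00c00600900800400b00c00400300e00700700700f00700b00600c00b00f00800700400700700600700800800800600c00d00c00800c00b00b00f00c00900b00b00f00800800f00c00b00900700f00f00c00d00200800c00800800c00b00c00f00b00700600800c00900f00900b00f00800a00c00900700600900e00900c00900c00900b00f00800600e00000d00700900900900a00c00c00c00900900600c00b00900f00a00700800b00f00b00700900e00c00c00300800a00f00f00b00800c00f00f00b00700b00c00d00c00a00900700900900900c00900900a00900c00c00700700700a00800200800700700700800800800800000800800800c00c00600c00800800900900900600700400700900900900700700700700900500100700700700200a00800d00900e00c00700400600d00800600c00900e00a007002004000003001005,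 tree4, [root4_0,root4_1,root4_2,root4_3,root4_4,root4_5,root4_6,root4_7,root4_8,root4_9,root4_10,root4_11,root4_12,root4_13,root4_14,root4_15]⟩

end CfsgLib.HN
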