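import Cfsg.Agent.Lib.DCoset.Orbits
import Cfsg.Agent.Lib.HN.ChainData

/-!
State 5.
-/

set_option autoImplicit false
set_option linter.style.longLine false

namespace CfsgLib.HN
open CfsgLib.CosetEnum CfsgLib.DCoset CfsgLib.DCoset.Space
/-- part 0 of `tree5` -/
def tree5P0 : List (Bool × ℕ × ℕ) := [
  (true,0,0),
  (false,0,3),
  (true,1,0),
  (false,0,1),
  (true,2,0),
  (false,0,0),
  (true,3,0),
  (false,0,2),
  (true,4,0),
  (false,0,15),
  (false,1,15),
  (false,2,15),
  (false,1,826),
  (false,2,826),
  (false,3,826),
  (false,1,392),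
  (false,2,392),
  (false,0,33),
  (false,1,33),
  (false,2,33),
  (false,3,33),
  (false,0,565),
  (false,1,565),
  (false,2,565),
  (false,3,565),
  (false,1,766),
  (false,2,766),
  (false,3,766),
  (false,1,1004),
  (false,1,137),
  (false,2,137),
  (false,1,391),
  (false,2,391),
  (false,3,391),
  (false,1,742),
  (false,2,742),
  (false,0,122),
  (false,2,122),
  (false,0,39),
  (false,2,39),
  (false,0,409),
  (false,1,409),
  (false,1,193),
  (false,0,696),
  (false,1,696),
  (false,1,973),
  (false,2,580),
  (false,1,737),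
  (false,2,737),
  (false,3,737),
  (false,0,578),
  (false,2,30),
  (false,2,205),
  (false,2,195),
  (false,0,190),
  (false,1,190),
  (false,1,199),
  (false,0,177),
  (true,5,0),
  (false,0,60),
  (false,1,60),
  (false,2,60),
  (false,3,60),
  (false,1,176),
  (false,2,176),
  (false,0,58),
  (false,1,58),
  (false,2,58),
  (false,3,58),
  (false,1,65),
  (false,2,65),
  (false,3,65),
  (false,0,101),
  (false,1,101),
  (false,2,101),
  (false,1,933),
  (false,1,174),
  (false,2,174),
  (false,3,174),
  (false,1,810),
  (false,2,810),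
  (false,0,410),
  (false,1,410),
  (false,0,38),
  (false,1,38),
  (false,0,206),
  (false,1,206),
  (false,2,206),
  (false,0,66),
  (false,1,66),
  (false,2,66),
  (false,3,66),
  (false,1,284),
  (false,2,284),
  (false,3,284),
  (false,0,408),
  (false,1,611),
  (false,0,285),
  (false,2,110),
  (false,0,289)]

/-- part 1 of `tree5` -/
def tree5P1 : List (Bool × ℕ × ℕ) := [
  (false,2,289),
  (false,1,460),
  (false,0,212),
  (false,0,26),
  (false,0,592),
  (false,1,14),
  (false,0,31),
  (false,1,399),
  (true,6,0),
  (false,0,5),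
  (false,1,5),
  (false,1,238),
  (false,2,238),
  (false,3,238),
  (false,0,12),
  (false,1,12),
  (false,2,12),
  (false,3,12),
  (false,0,477),
  (false,1,477),
  (false,2,477),
  (false,3,477),
  (false,1,520),
  (false,2,520),
  (false,3,520),
  (false,2,328),
  (false,0,196),
  (false,1,196),
  (false,2,196),
  (false,3,196),
  (false,1,1031),
  (false,2,1031),
  (false,3,1031),
  (false,1,479),
  (false,2,479),
  (false,0,423),
  (false,1,423),
  (false,3,423),
  (false,1,587),
  (false,2,587),
  (false,3,587),
  (false,0,178),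
  (false,1,178),
  (false,2,178),
  (false,3,178),
  (false,1,227),
  (false,1,225),
  (false,2,338),
  (false,1,45),
  (false,2,45),
  (false,2,182),
  (false,2,261),
  (false,3,261),
  (false,2,55),
  (false,1,21),
  (false,1,44),
  (false,2,44),
  (false,1,249),
  (true,7,0),
  (false,0,102),
  (false,1,102),
  (false,2,102),
  (false,3,102),
  (false,1,1316),
  (false,2,1316),
  (false,3,1316),
  (false,0,309),
  (false,1,309),
  (false,2,309),
  (false,3,309),
  (false,0,534),
  (false,1,534),
  (false,2,534),
  (false,3,534),
  (false,0,240),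
  (false,1,240),
  (false,2,240),
  (false,0,1045),
  (false,1,1045),
  (false,2,1045),
  (false,3,1045),
  (false,0,734),
  (false,1,734),
  (false,2,734),
  (false,3,734),
  (false,0,1076),
  (false,1,1076),
  (false,2,1076),
  (false,1,1292),
  (false,2,1292),
  (false,3,1292),
  (false,0,318),
  (false,0,363),
  (false,1,363),
  (false,2,363),
  (false,0,612),
  (false,1,612),
  (false,2,612),
  (false,1,1181),
  (false,0,348)]

/-- part 2 of `tree5` -/
def tree5P2 : List (Bool × ℕ × ℕ) := [
  (false,1,348),
  (false,2,348),
  (false,3,348),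
  (false,0,880),
  (false,1,880),
  (false,2,880),
  (false,3,880),
  (false,0,130),
  (false,1,130),
  (false,1,1101),
  (false,0,129),
  (false,1,129),
  (false,1,575),
  (false,2,575),
  (false,3,575),
  (false,1,388),
  (false,2,388),
  (false,3,388),
  (false,0,1405),
  (false,0,1341),
  (false,1,1341),
  (false,2,1341),
  (false,0,1221),
  (false,1,1221),
  (false,2,1221),
  (false,1,144),
  (false,0,730),
  (false,1,730),
  (false,2,730),
  (false,3,730),
  (false,0,1398),
  (false,1,1398),
  (false,2,1398),
  (false,3,1398),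
  (false,0,1159),
  (false,1,1159),
  (false,1,217),
  (false,0,683),
  (false,1,683),
  (false,1,760),
  (false,2,760),
  (false,3,760),
  (false,0,1258),
  (false,1,1258),
  (false,2,1258),
  (false,3,1258),
  (false,1,981),
  (false,2,981),
  (false,3,981),
  (false,0,1104),
  (false,2,1104),
  (false,1,1074),
  (false,2,1074),
  (false,3,1074),
  (false,0,278),
  (false,1,278),
  (false,2,278),
  (false,3,278),
  (false,0,469),
  (false,1,469),
  (false,2,469),
  (false,3,469),
  (false,1,1079),
  (false,0,308),
  (false,1,308),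
  (false,1,431),
  (false,2,431),
  (false,3,431),
  (false,1,1150),
  (false,2,1150),
  (false,0,597),
  (false,1,597),
  (false,3,597),
  (false,0,568),
  (false,1,568),
  (false,2,568),
  (false,3,568),
  (false,0,449),
  (false,1,449),
  (false,1,1375),
  (false,2,1375),
  (false,0,576),
  (false,1,576),
  (false,2,576),
  (false,3,576),
  (false,0,619),
  (false,1,619),
  (false,0,245),
  (false,1,245),
  (false,1,1235),
  (false,0,1262),
  (false,0,902),
  (false,1,902),
  (false,1,811),
  (false,2,811),
  (false,3,811),
  (false,0,606),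
  (false,1,606),
  (false,0,898),
  (false,2,898)]

/-- part 3 of `tree5` -/
def tree5P3 : List (Bool × ℕ × ℕ) := [
  (false,1,620),
  (false,2,620),
  (false,3,620),
  (false,0,899),
  (false,2,899),
  (false,2,253),
  (false,3,253),
  (false,0,764),
  (false,2,764),
  (false,0,909),
  (false,1,909),
  (false,2,909),
  (false,3,909),
  (false,1,505),
  (false,0,773),
  (false,1,773),
  (false,1,1265),
  (false,2,1265),
  (false,3,1265),
  (false,2,179),
  (false,0,1349),
  (false,1,1349),
  (false,3,1349),
  (false,0,923),
  (false,3,923),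
  (false,0,1201),
  (false,1,1201),
  (false,1,968),
  (false,0,1029),
  (false,2,1029),
  (false,0,763),
  (false,1,763),
  (false,0,673),
  (false,1,673),
  (false,1,155),
  (false,0,778),
  (false,0,837),
  (false,1,837),
  (false,1,1021),
  (false,2,1021),
  (false,3,1021),
  (false,1,759),
  (false,1,465),
  (false,2,1359),
  (false,0,1266),
  (false,3,1266),
  (false,0,1026),
  (false,2,1026),
  (false,1,1288),
  (false,2,1288),
  (false,3,1288),
  (false,1,538),
  (false,2,1261),
  (false,0,1123),
  (false,1,1123),
  (false,2,1123),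
  (false,3,1123),
  (false,1,1384),
  (false,2,1384),
  (false,3,1384),
  (false,0,825),
  (false,1,825),
  (false,3,825),
  (false,1,767),
  (false,2,767),
  (false,3,767),
  (false,2,1060),
  (false,0,486),
  (false,2,486),
  (false,3,486),
  (false,1,628),
  (false,1,428),
  (false,0,1146),
  (false,0,1036),
  (false,1,1036),
  (false,1,430),
  (false,2,430),
  (false,3,430),
  (false,0,319),
  (false,1,1329),
  (false,2,1329),
  (false,0,357),
  (false,1,357),
  (false,3,357),
  (false,0,805),
  (false,1,805),
  (false,2,805),
  (false,0,704),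
  (false,0,527),
  (false,1,527),
  (false,0,406),
  (false,1,1116),
  (false,1,1070),
  (false,0,542),
  (false,0,1030),
  (false,1,1030),
  (false,1,151),
  (false,2,151),
  (false,0,1155),
  (false,3,1155)]

/-- part 4 of `tree5` -/
def tree5P4 : List (Bool × ℕ × ℕ) := [
  (false,2,1061),
  (false,2,876),
  (false,1,1299),
  (false,2,299),
  (false,0,961),
  (false,1,1006),
  (false,3,782),
  (false,1,1051),
  (true,8,0),
  (false,0,114),
  (false,1,114),
  (false,2,114),
  (false,3,114),
  (false,1,90),
  (false,0,369),
  (false,1,369),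
  (false,2,369),
  (false,3,369),
  (false,0,72),
  (false,1,72),
  (false,2,72),
  (false,3,72),
  (false,0,368),
  (false,0,751),
  (false,1,751),
  (false,0,121),
  (false,1,121),
  (false,3,121),
  (false,0,132),
  (false,1,132),
  (false,2,132),
  (false,3,132),
  (false,0,43),
  (false,1,596),
  (false,2,596),
  (false,0,73),
  (false,1,73),
  (false,2,73),
  (false,3,73),
  (false,0,412),
  (false,1,412),
  (false,0,119),
  (false,1,119),
  (false,1,629),
  (false,2,237),
  (false,0,702),
  (false,1,702),
  (false,0,70),
  (false,3,70),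
  (false,0,100),
  (false,0,352),
  (false,0,544),
  (false,1,544),
  (false,0,545),
  (false,1,293),
  (false,0,134),
  (false,2,448),
  (false,1,795),
  (true,9,0),
  (false,0,20),
  (false,1,20),
  (false,2,20),
  (false,1,1127),
  (false,2,1127),
  (false,3,1127),
  (false,1,381),
  (false,2,381),
  (false,0,111),
  (false,1,111),
  (false,2,111),
  (false,3,111),
  (false,0,345),
  (false,1,345),
  (false,2,345),
  (false,3,345),
  (false,1,472),
  (false,2,472),
  (false,3,472),
  (false,1,1014),
  (false,1,112),
  (false,2,112),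
  (false,1,382),
  (false,2,382),
  (false,3,382),
  (false,1,900),
  (false,2,900),
  (false,0,81),
  (false,2,81),
  (false,0,185),
  (false,2,185),
  (false,0,385),
  (false,1,385),
  (false,1,49),
  (false,0,468),
  (false,1,468),
  (false,1,1198),
  (false,2,540),
  (false,1,487),
  (false,2,487),
  (false,3,487)]

/-- part 5 of `tree5` -/
def tree5P5 : List (Bool × ℕ × ℕ) := [
  (false,0,537),
  (false,2,131),
  (false,2,246),
  (false,2,163),
  (false,0,46),
  (false,1,46),
  (false,1,166),
  (false,0,242),
  (true,10,0),
  (false,0,10),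
  (false,1,10),
  (false,1,458),
  (false,2,458),
  (false,3,458),
  (false,0,247),
  (false,1,247),
  (false,2,247),
  (false,3,247),
  (false,0,86),
  (false,1,86),
  (false,2,86),
  (false,3,86),
  (false,1,415),
  (false,2,415),
  (false,3,415),
  (false,2,854),
  (false,0,47),
  (false,1,47),
  (false,2,47),
  (false,3,47),
  (false,1,17),
  (false,2,17),
  (false,3,17),
  (false,1,68),
  (false,2,68),
  (false,0,386),
  (false,1,386),
  (false,3,386),
  (false,1,850),
  (false,2,850),
  (false,3,850),
  (false,0,436),
  (false,1,436),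
  (false,2,436),
  (false,3,436),
  (false,1,207),
  (false,1,266),
  (false,2,304),
  (false,1,162),
  (false,2,162),
  (false,2,186),
  (false,2,83),
  (false,3,83),
  (false,2,480),
  (false,1,435),
  (false,1,184),
  (false,2,184),
  (false,1,241),
  (true,11,0),
  (false,0,7),
  (false,1,7),
  (false,2,7),
  (false,3,7),
  (false,1,570),
  (false,2,570),
  (false,3,570),
  (false,0,18),
  (false,1,18),
  (false,0,569),
  (false,1,569),
  (false,2,569),
  (false,0,483),
  (false,1,483),
  (false,2,483),
  (false,0,291),
  (false,2,291),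
  (false,3,291),
  (false,0,208),
  (false,1,208),
  (false,0,331),
  (false,1,331),
  (false,2,331),
  (false,1,173),
  (false,0,19),
  (false,1,19),
  (false,1,288),
  (false,2,288),
  (false,0,9),
  (false,1,9),
  (false,0,34),
  (false,1,34),
  (false,0,99),
  (false,1,99),
  (false,1,76),
  (false,2,76),
  (false,3,76),
  (false,1,233),
  (false,1,849),
  (false,2,849),
  (false,2,282)]

/-- part 6 of `tree5` -/
def tree5P6 : List (Bool × ℕ × ℕ) := [
  (false,1,269),
  (false,1,351),
  (false,0,546),
  (false,1,546),
  (false,1,136),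
  (false,1,120),
  (false,0,380),
  (false,0,135),
  (true,12,0),
  (false,0,600),
  (false,1,600),
  (false,2,600),
  (false,3,600),
  (false,1,1053),
  (false,2,1053),
  (false,3,1053),
  (false,0,935),
  (false,1,935),
  (false,2,935),
  (false,3,935),
  (false,0,800),
  (false,1,800),
  (false,2,800),
  (false,3,800),
  (false,0,798),
  (false,1,798),
  (false,2,798),
  (false,0,770),
  (false,1,770),
  (false,2,770),
  (false,0,1182),
  (false,1,1182),
  (false,2,1182),
  (false,0,1327),
  (false,1,1327),
  (false,2,1327),
  (false,1,1161),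
  (false,2,1161),
  (false,3,1161),
  (false,0,561),
  (false,1,561),
  (false,2,561),
  (false,3,561),
  (false,0,463),
  (false,1,463),
  (false,2,463),
  (false,3,463),
  (false,0,1106),
  (false,1,1106),
  (false,2,1106),
  (false,1,1225),
  (false,2,1225),
  (false,0,754),
  (false,1,754),
  (false,2,754),
  (false,3,754),
  (false,0,616),
  (false,2,616),
  (false,3,616),
  (false,0,314),
  (false,1,314),
  (false,1,1154),
  (false,0,396),
  (false,1,396),
  (false,1,494),
  (false,2,494),
  (false,3,494),
  (false,1,623),
  (false,2,623),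
  (false,3,623),
  (false,0,691),
  (false,1,691),
  (false,0,664),
  (false,1,664),
  (false,2,664),
  (false,1,221),
  (false,2,221),
  (false,0,1374),
  (false,1,1374),
  (false,2,1374),
  (false,3,1374),
  (false,0,1068),
  (false,1,1068),
  (false,2,1068),
  (false,3,1068),
  (false,1,302),
  (false,0,1242),
  (false,1,1242),
  (false,1,732),
  (false,2,732),
  (false,3,732),
  (false,0,821),
  (false,1,821),
  (false,2,821),
  (false,3,821),
  (false,1,671),
  (false,2,671),
  (false,3,671),
  (false,0,1396),
  (false,2,1396)]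

/-- part 7 of `tree5` -/
def tree5P7 : List (Bool × ℕ × ℕ) := [
  (false,1,1386),
  (false,2,1386),
  (false,3,1386),
  (false,0,566),
  (false,1,566),
  (false,2,566),
  (false,3,566),
  (false,0,496),
  (false,1,496),
  (false,2,496),
  (false,3,496),
  (false,0,779),
  (false,1,779),
  (false,2,779),
  (false,0,604),
  (false,1,604),
  (false,2,604),
  (false,3,604),
  (false,0,958),
  (false,1,958),
  (false,2,958),
  (false,3,958),
  (false,0,554),
  (false,1,839),
  (false,0,513),
  (false,1,513),
  (false,1,676),
  (false,2,676),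
  (false,3,676),
  (false,2,1322),
  (false,1,1255),
  (false,2,1255),
  (false,3,1255),
  (false,2,980),
  (false,1,441),
  (false,3,441),
  (false,0,928),
  (false,2,928),
  (false,3,928),
  (false,0,927),
  (false,1,1367),
  (false,2,1367),
  (false,0,244),
  (false,1,244),
  (false,0,443),
  (false,1,443),
  (false,1,844),
  (false,1,624),
  (false,0,883),
  (false,2,257),
  (false,0,509),
  (false,1,509),
  (false,0,804),
  (false,1,804),
  (false,2,804),
  (false,3,804),
  (false,1,330),
  (false,2,330),
  (false,3,330),
  (false,0,172),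
  (false,2,172),
  (false,2,699),
  (false,3,699),
  (false,0,758),
  (false,3,758),
  (false,0,1130),
  (false,1,1213),
  (false,2,1213),
  (false,3,1213),
  (false,1,220),
  (false,1,125),
  (false,0,685),
  (false,1,685),
  (false,3,685),
  (false,1,1144),
  (false,3,1144),
  (false,1,914),
  (false,1,724),
  (false,0,1151),
  (false,2,1151),
  (false,3,1151),
  (false,1,1108),
  (false,1,1167),
  (false,0,84),
  (false,0,1317),
  (false,1,1317),
  (false,1,815),
  (false,2,815),
  (false,3,815),
  (false,0,812),
  (false,1,812),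
  (false,2,1406),
  (false,0,1383),
  (false,2,1383),
  (false,0,1090),
  (false,2,1401),
  (false,1,954),
  (false,2,1178),
  (false,3,1178),
  (false,0,818)]

/-- part 8 of `tree5` -/
def tree5P8 : List (Bool × ℕ × ℕ) := [
  (false,2,845),
  (false,0,1024),
  (false,2,1024),
  (false,2,1360),
  (false,1,903),
  (false,2,903),
  (false,0,504),
  (false,1,504),
  (false,2,504),
  (false,0,418),
  (false,1,418),
  (false,2,418),
  (false,3,418),
  (false,0,785),
  (false,0,452),
  (false,2,510),
  (false,3,510),
  (false,1,941),
  (false,3,941),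
  (false,0,615),
  (false,2,1240),
  (false,1,638),
  (false,1,1287),
  (false,0,104),
  (false,1,104),
  (false,3,1162),
  (false,1,1188),
  (false,2,1188),
  (false,2,581),
  (false,2,855),
  (false,0,860),
  (false,1,860),
  (false,2,1223),
  (false,3,432),
  (false,1,922),
  (false,3,922),
  (false,2,1049),
  (false,2,1107),
  (false,2,887),
  (false,3,887),
  (false,0,533),
  (false,0,359),
  (false,1,864),
  (false,2,387),
  (false,3,387),
  (false,2,698),
  (false,3,698),
  (false,1,1332),
  (false,2,1332),
  (false,3,1332),
  (false,1,752),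
  (false,2,648),
  (false,0,775),
  (false,3,775),
  (false,1,1118),
  (false,1,152),
  (false,1,1257),
  (false,0,605),
  (true,13,0),
  (false,0,23),
  (false,1,23),
  (false,2,23),
  (false,1,918),
  (false,2,918),
  (false,3,918),
  (false,1,478),
  (false,2,478),
  (false,0,57),
  (false,1,57),
  (false,2,57),
  (false,3,57),
  (false,0,614),
  (false,1,614),
  (false,2,614),
  (false,3,614),
  (false,1,1099),
  (false,2,1099),
  (false,3,1099),
  (false,1,953),
  (false,1,94),
  (false,2,94),
  (false,1,550),
  (false,2,550),
  (false,3,550),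
  (false,1,650),
  (false,2,650),
  (false,0,160),
  (false,2,160),
  (false,0,63),
  (false,2,63),
  (false,0,341),
  (false,1,341),
  (false,1,158),
  (false,0,663),
  (false,1,663),
  (false,1,1141),
  (false,2,374),
  (false,1,995),
  (false,2,995),
  (false,3,995)]

/-- part 9 of `tree5` -/
def tree5P9 : List (Bool × ℕ × ℕ) := [
  (false,0,358),
  (false,2,54),
  (false,2,267),
  (false,2,262),
  (false,0,235),
  (false,1,235),
  (false,1,263),
  (false,0,228),
  (true,14,0),
  (false,0,85),
  (false,1,85),
  (false,2,85),
  (false,3,85),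
  (false,1,1054),
  (false,2,1054),
  (false,3,1054),
  (false,0,301),
  (false,1,301),
  (false,2,301),
  (false,0,88),
  (false,1,88),
  (false,2,88),
  (false,0,725),
  (false,1,725),
  (false,2,725),
  (false,0,757),
  (false,1,757),
  (false,2,757),
  (false,3,757),
  (false,0,1112),
  (false,1,1112),
  (false,2,1112),
  (false,3,1112),
  (false,0,1236),
  (false,1,1236),
  (false,2,1236),
  (false,1,1260),
  (false,2,1260),
  (false,3,1260),
  (false,0,197),
  (false,1,197),
  (false,0,390),
  (false,1,390),
  (false,2,390),
  (false,1,1180),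
  (false,2,1180),
  (false,0,103),
  (false,1,103),
  (false,2,103),
  (false,3,103),
  (false,0,353),
  (false,1,353),
  (false,2,353),
  (false,3,353),
  (false,1,1214),
  (false,0,529),
  (false,1,529),
  (false,1,292),
  (false,2,292),
  (false,3,292),
  (false,1,640),
  (false,2,640),
  (false,3,640),
  (false,0,1028),
  (false,1,1028),
  (false,2,1028),
  (false,3,1028),
  (false,0,956),
  (false,1,956),
  (false,2,956),
  (false,3,956),
  (false,0,1169),
  (false,1,1169),
  (false,2,1169),
  (false,1,579),
  (false,2,579),
  (false,0,689),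
  (false,1,689),
  (false,2,689),
  (false,3,689),
  (false,0,1170),
  (false,2,1170),
  (false,3,1170),
  (false,0,1020),
  (false,1,1020),
  (false,1,354),
  (false,0,1156),
  (false,1,1156),
  (false,1,1271),
  (false,2,1271),
  (false,3,1271),
  (false,0,1281),
  (false,1,1281),
  (false,2,1281),
  (false,3,1281),
  (false,1,1018),
  (false,2,1018),
  (false,3,1018),
  (false,0,1234),
  (false,2,1234)]

/-- part 10 of `tree5` -/
def tree5P10 : List (Bool × ℕ × ℕ) := [
  (false,1,1387),
  (false,2,1387),
  (false,3,1387),
  (false,0,306),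
  (false,1,306),
  (false,3,306),
  (false,0,507),
  (false,1,507),
  (false,1,147),
  (false,2,147),
  (false,3,147),
  (false,1,1318),
  (false,2,1318),
  (false,1,726),
  (false,2,1275),
  (false,0,639),
  (false,1,639),
  (false,3,639),
  (false,1,256),
  (false,2,256),
  (false,3,256),
  (false,1,218),
  (false,1,1094),
  (false,2,1094),
  (false,0,404),
  (false,2,404),
  (false,3,404),
  (false,0,329),
  (false,1,329),
  (false,0,562),
  (false,1,562),
  (false,0,1197),
  (false,1,1197),
  (false,0,720),
  (false,1,720),
  (false,1,356),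
  (false,2,356),
  (false,3,356),
  (false,0,350),
  (false,1,350),
  (false,0,287),
  (false,1,287),
  (false,2,287),
  (false,3,287),
  (false,1,333),
  (false,2,333),
  (false,3,333),
  (false,0,856),
  (false,2,856),
  (false,2,296),
  (false,3,296),
  (false,0,1363),
  (false,2,1363),
  (false,3,1363),
  (false,0,1338),
  (false,1,1338),
  (false,2,1338),
  (false,3,1338),
  (false,0,1389),
  (false,1,1389),
  (false,0,1077),
  (false,2,1077),
  (false,3,1077),
  (false,0,1286),
  (false,1,1286),
  (false,0,1388),
  (false,1,1035),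
  (false,0,872),
  (false,1,872),
  (false,1,1291),
  (false,2,1291),
  (false,3,1291),
  (false,2,275),
  (false,1,407),
  (false,2,407),
  (false,3,407),
  (false,1,1229),
  (false,3,1229),
  (false,0,1131),
  (false,3,1131),
  (false,0,1019),
  (false,1,677),
  (false,0,1379),
  (false,1,1379),
  (false,0,1336),
  (false,1,1336),
  (false,1,595),
  (false,0,1279),
  (false,2,1220),
  (false,0,1160),
  (false,1,1160),
  (false,1,511),
  (false,2,1248),
  (false,3,1248),
  (false,0,993),
  (false,0,1152),
  (false,2,1152),
  (false,2,1038),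
  (false,1,493),
  (false,2,1103)]

/-- part 11 of `tree5` -/
def tree5P11 : List (Bool × ℕ × ℕ) := [
  (false,0,835),
  (false,1,835),
  (false,2,835),
  (false,3,835),
  (false,1,1086),
  (false,2,1086),
  (false,3,1086),
  (false,1,1250),
  (false,2,1250),
  (false,3,1250),
  (false,2,339),
  (false,0,1088),
  (false,1,1088),
  (false,1,146),
  (false,2,146),
  (false,3,146),
  (false,0,250),
  (false,1,709),
  (false,0,1224),
  (false,2,1310),
  (false,0,695),
  (false,1,695),
  (false,3,695),
  (false,1,904),
  (false,1,979),
  (false,2,979),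
  (false,1,1093),
  (false,2,1093),
  (false,3,1093),
  (false,1,937),
  (false,1,583),
  (false,1,1207),
  (false,0,536),
  (false,1,536),
  (false,1,642),
  (false,2,944),
  (false,0,574),
  (false,2,574),
  (false,0,264),
  (false,1,861),
  (false,3,169),
  (false,2,877),
  (false,2,429),
  (false,1,1400),
  (false,2,1400),
  (false,2,1315),
  (false,0,1022),
  (false,3,1022),
  (false,0,1057),
  (false,0,1044),
  (false,2,857),
  (false,1,398),
  (false,0,1297),
  (false,3,1301),
  (false,1,305),
  (false,2,643),
  (false,2,524),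
  (false,3,419),
  (true,15,0),
  (false,0,92),
  (false,1,92),
  (false,2,92),
  (false,3,92),
  (false,1,1023),
  (false,2,1023),
  (false,3,1023),
  (false,0,567),
  (false,1,567),
  (false,2,567),
  (false,3,567),
  (false,0,467),
  (false,1,467),
  (false,2,467),
  (false,3,467),
  (false,0,626),
  (false,1,626),
  (false,2,626),
  (false,0,1264),
  (false,1,1264),
  (false,2,1264),
  (false,3,1264),
  (false,0,1404),
  (false,1,1404),
  (false,2,1404),
  (false,3,1404),
  (false,0,1306),
  (false,1,1306),
  (false,2,1306),
  (false,1,1372),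
  (false,2,1372),
  (false,3,1372),
  (false,0,444),
  (false,0,617),
  (false,1,617),
  (false,2,617),
  (false,0,316),
  (false,1,316),
  (false,2,316),
  (false,1,1407),
  (false,0,891)]

/-- part 12 of `tree5` -/
def tree5P12 : List (Bool × ℕ × ℕ) := [
  (false,1,891),
  (false,2,891),
  (false,3,891),
  (false,0,312),
  (false,1,312),
  (false,2,312),
  (false,3,312),
  (false,0,601),
  (false,1,601),
  (false,1,859),
  (false,0,1228),
  (false,1,1228),
  (false,1,360),
  (false,2,360),
  (false,3,360),
  (false,1,416),
  (false,2,416),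
  (false,3,416),
  (false,0,1376),
  (false,0,1105),
  (false,1,1105),
  (false,2,1105),
  (false,0,1350),
  (false,1,1350),
  (false,2,1350),
  (false,1,634),
  (false,0,1380),
  (false,1,1380),
  (false,2,1380),
  (false,3,1380),
  (false,0,1326),
  (false,1,1326),
  (false,2,1326),
  (false,3,1326),
  (false,0,1307),
  (false,1,1307),
  (false,1,558),
  (false,0,1369),
  (false,1,1369),
  (false,1,774),
  (false,2,774),
  (false,3,774),
  (false,0,833),
  (false,1,833),
  (false,2,833),
  (false,3,833),
  (false,1,1125),
  (false,2,1125),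
  (false,3,1125),
  (false,0,1382),
  (false,2,1382),
  (false,1,713),
  (false,2,713),
  (false,3,713),
  (false,0,488),
  (false,1,488),
  (false,2,488),
  (false,3,488),
  (false,0,433),
  (false,1,433),
  (false,2,433),
  (false,3,433),
  (false,1,1003),
  (false,0,1041),
  (false,1,1041),
  (false,1,590),
  (false,2,590),
  (false,3,590),
  (false,1,1247),
  (false,2,1247),
  (false,0,694),
  (false,1,694),
  (false,3,694),
  (false,0,446),
  (false,1,446),
  (false,2,446),
  (false,3,446),
  (false,0,1140),
  (false,1,1140),
  (false,1,863),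
  (false,2,863),
  (false,0,678),
  (false,1,678),
  (false,2,678),
  (false,3,678),
  (false,0,622),
  (false,1,622),
  (false,0,298),
  (false,1,298),
  (false,1,951),
  (false,0,1121),
  (false,0,930),
  (false,1,930),
  (false,1,108),
  (false,2,108),
  (false,3,108),
  (false,0,276),
  (false,1,276),
  (false,0,490),
  (false,2,490)]

/-- part 13 of `tree5` -/
def tree5P13 : List (Bool × ℕ × ℕ) := [
  (false,1,164),
  (false,2,164),
  (false,3,164),
  (false,0,445),
  (false,2,445),
  (false,2,202),
  (false,3,202),
  (false,0,1137),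
  (false,2,1137),
  (false,0,1172),
  (false,1,1172),
  (false,2,1172),
  (false,3,1172),
  (false,1,251),
  (false,0,686),
  (false,1,686),
  (false,1,962),
  (false,2,962),
  (false,3,962),
  (false,2,1013),
  (false,0,915),
  (false,1,915),
  (false,3,915),
  (false,0,999),
  (false,3,999),
  (false,0,1394),
  (false,1,1394),
  (false,1,780),
  (false,0,836),
  (false,2,836),
  (false,0,982),
  (false,1,982),
  (false,0,1115),
  (false,1,1115),
  (false,1,790),
  (false,0,965),
  (false,0,1333),
  (false,1,1333),
  (false,1,769),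
  (false,2,769),
  (false,3,769),
  (false,1,1284),
  (false,1,470),
  (false,2,1008),
  (false,0,1304),
  (false,3,1304),
  (false,0,908),
  (false,2,908),
  (false,1,1313),
  (false,2,1313),
  (false,3,1313),
  (false,1,886),
  (false,2,1052),
  (false,0,1148),
  (false,1,1148),
  (false,2,1148),
  (false,3,1148),
  (false,1,716),
  (false,2,716),
  (false,3,716),
  (false,0,577),
  (false,1,577),
  (false,3,577),
  (false,1,652),
  (false,2,652),
  (false,3,652),
  (false,2,865),
  (false,0,901),
  (false,2,901),
  (false,3,901),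
  (false,1,346),
  (false,1,277),
  (false,0,684),
  (false,0,654),
  (false,1,654),
  (false,1,735),
  (false,2,735),
  (false,3,735),
  (false,0,325),
  (false,1,1205),
  (false,2,1205),
  (false,0,485),
  (false,1,485),
  (false,3,485),
  (false,0,994),
  (false,1,994),
  (false,2,994),
  (false,0,792),
  (false,0,376),
  (false,1,376),
  (false,0,827),
  (false,1,1102),
  (false,1,1215),
  (false,0,582),
  (false,0,598),
  (false,1,598),
  (false,1,294),
  (false,2,294),
  (false,0,984),
  (false,3,984)]

/-- part 14 of `tree5` -/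
def tree5P14 : List (Bool × ℕ × ℕ) := [
  (false,2,627),
  (false,2,476),
  (false,1,1065),
  (false,2,706),
  (false,0,816),
  (false,1,831),
  (false,3,310),
  (false,1,1365)]

/-- certificate data -/
def tree5 : List (Bool × ℕ × ℕ) :=
  [tree5P0, tree5P1, tree5P2, tree5P3, tree5P4, tree5P5, tree5P6, tree5P7, tree5P8, tree5P9, tree5P10, tree5P11, tree5P12, tree5P13, tree5P14].flatten

/-- chain of a point stabiliser -/
def stb5_0 : List Lev := [
  { base := 4, new := [([199,193,127,2],[3,128,194,200])],
    orbit := [(4,[]),
      (6,[0]),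
      (38,[0,1]),
      (191,[0,0]),
      (206,[0,2]),
      (40,[0,0,0]),
      (58,[0,1,2]),
      (59,[0,0,2]),
      (60,[0,0,1]),
      (66,[0,2,1]),
      (212,[0,2,2]),
      (408,[0,2,0]),
      (410,[0,1,0]),
      (14,[0,0,1,0]),
      (16,[0,1,2,0]),
      (26,[0,2,1,0]),
      (31,[0,2,2,2]),
      (65,[0,0,2,1]),
      (101,[0,0,2,2]),
      (194,[0,2,0,2]),
      (284,[0,0,0,2]),
      (285,[0,0,1,2]),
      (399,[0,0,0,0]),
      (593,[0,1,2,1]),
      (592,[0,0,1,0,0])],
    wit := [] },
  { base := 6, new := [([21,201,121],[122,202,22]),([193,135],[136,194])],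
    orbit := [(6,[]),
      (38,[0]),
      (206,[1]),
      (58,[0,1]),
      (66,[1,0]),
      (212,[1,1]),
      (14,[1,1,0]),
      (31,[1,1,1]),
      (399,[0,1,1]),
      (593,[0,1,0])],
    wit := [] }]

/-- an orbit -/
def root5_0 : Root :=
  ⟨[203], [204], 1, [457,204], [203,458], stb5_0,
    [[(3,false),(2,false),(3,false),(1,false)],
      [(3,false),(2,false),(2,false)],
      [(3,false),(2,false),(3,false)]],
    [[30,6,0,4,1,0],[6,4,3,2,3,0],[44,4,0,4,1,0]]⟩

/-- chain of a point stabiliser -/
def stb5_1 : List Lev := [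
  { base := 4, new := [([199,193,127,2],[3,128,194,200])],
    orbit := [(4,[]),
      (6,[0]),
      (58,[0,2]),
      (191,[0,0]),
      (593,[0,1]),
      (16,[0,2,0]),
      (31,[0,1,1]),
      (38,[0,2,1]),
      (40,[0,0,0]),
      (101,[0,1,0]),
      (194,[0,0,1]),
      (285,[0,0,2]),
      (399,[0,1,2]),
      (14,[0,1,1,2]),
      (59,[0,1,0,1]),
      (60,[0,0,2,1]),
      (65,[0,1,0,2]),
      (66,[0,2,1,1]),
      (206,[0,2,0,0]),
      (212,[0,1,1,1]),
      (284,[0,0,1,0]),
      (408,[0,0,1,1]),
      (410,[0,2,1,0]),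
      (26,[0,2,1,1,0]),
      (592,[0,1,1,2,0])],
    wit := [] },
  { base := 6, new := [([19,193,183],[184,194,20]),([21,201,15,125],[126,16,202,22])],
    orbit := [(6,[]),
      (58,[1]),
      (593,[0]),
      (31,[0,0]),
      (38,[1,0]),
      (399,[0,1]),
      (14,[0,0,1]),
      (66,[1,0,0]),
      (206,[1,0,1]),
      (212,[0,0,0])],
    wit := [] }]

/-- an orbit -/
def root5_1 : Root :=
  ⟨[11,159,25,0], [1,26,160,12], 5, [21,199,193,155,5,203,1,26,160,12], [11,159,25,0,204,6,156,194,200,22], stb5_1,
    [[(3,false),(2,false),(3,false),(1,false)],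
      [(2,false)],
      [(3,false),(2,false)]],
    [[0,8,4,1],[0,4,3,1],[0,3,3,1]]⟩

/-- chain of a point stabiliser -/
def stb5_2 : List Lev := [
  { base := 4, new := [([199,193,127,2],[3,128,194,200])],
    orbit := [(4,[]),
      (6,[0]),
      (31,[0,1]),
      (58,[0,2]),
      (191,[0,0]),
      (14,[0,1,2]),
      (16,[0,2,0]),
      (40,[0,0,0]),
      (66,[0,2,1]),
      (194,[0,1,0]),
      (206,[0,1,1]),
      (285,[0,0,2]),
      (408,[0,0,1]),
      (26,[0,2,1,0]),
      (38,[0,0,2,0]),
      (59,[0,0,1,1]),
      (60,[0,0,0,1]),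
      (65,[0,0,1,0]),
      (101,[0,1,0,1]),
      (212,[0,2,1,2]),
      (284,[0,0,1,2]),
      (399,[0,0,0,0]),
      (592,[0,1,2,0]),
      (593,[0,1,1,1]),
      (410,[0,0,2,0,0])],
    wit := [] },
  { base := 6, new := [([199,193,117],[118,194,200]),([21,201,15,125],[126,16,202,22])],
    orbit := [(6,[]),
      (31,[0]),
      (58,[1]),
      (14,[0,1]),
      (66,[1,0]),
      (206,[0,0]),
      (38,[0,0,1]),
      (212,[1,0,1]),
      (399,[1,0,0]),
      (593,[0,0,0])],
    wit := [] }]

/-- an orbit -/
def root5_2 : Root :=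
  ⟨[21,199,193,155,5], [6,156,194,200,22], 5, [11,159,25,1,6,156,194,200,22], [21,199,193,155,5,0,26,160,12], stb5_2,
    [[(3,false),(2,false),(3,false),(1,false)],
      [(2,false),(2,false)],
      [(3,false),(2,false)]],
    [[0,14,0,0],[0,16,4,1],[0,0,2,1]]⟩

/-- chain of a point stabiliser -/
def stb5_3 : List Lev := [
  { base := 4, new := [([199,15,179,103],[104,180,16,200])],
    orbit := [(4,[]),
      (59,[0]),
      (14,[0,0]),
      (60,[0,2]),
      (194,[0,1]),
      (16,[0,2,0]),
      (31,[0,0,2]),
      (40,[0,1,2]),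
      (58,[0,0,1]),
      (101,[0,1,1]),
      (206,[0,0,0]),
      (284,[0,2,1]),
      (399,[0,1,0]),
      (6,[0,0,1,2]),
      (38,[0,0,0,2]),
      (65,[0,1,1,2]),
      (66,[0,0,1,1]),
      (191,[0,1,1,1]),
      (212,[0,1,0,0]),
      (285,[0,2,1,1]),
      (408,[0,2,1,2]),
      (410,[0,1,2,0]),
      (593,[0,0,0,1]),
      (26,[0,1,1,2,0]),
      (592,[0,2,1,1,0])],
    wit := [] },
  { base := 6, new := [([199,193,117],[118,194,200]),([21,201,15,125],[126,16,202,22])],
    orbit := [(6,[]),
      (31,[0]),
      (58,[1]),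
      (14,[0,1]),
      (66,[1,0]),
      (206,[0,0]),
      (38,[0,0,1]),
      (212,[1,0,1]),
      (399,[1,0,0]),
      (593,[0,0,0])],
    wit := [] }]

/-- an orbit -/
def root5_3 : Root :=
  ⟨[15,149,101,1], [0,102,150,16], 5, [19,11,145,85,0,0,102,150,16], [15,149,101,1,1,86,146,12,20], stb5_3,
    [[(2,false),(2,false),(1,false),(1,false),(2,false)],
      [(2,false),(2,false)],
      [(3,false),(2,false)]],
    [[0,7,2,0],[0,6,3,0],[0,9,0,1]]⟩

/-- chain of a point stabiliser -/
def stb5_4 : List Lev := [
  { base := 4, new := [([193,143,73],[74,144,194])],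
    orbit := [(4,[]),
      (38,[0]),
      (212,[0,1]),
      (284,[0,0]),
      (194,[0,0,0])],
    wit := [] },
  { base := 6, new := [([193,185],[186,194])],
    orbit := [(6,[]),
      (399,[0])],
    wit := [] }]

/-- an orbit -/
def root5_4 : Root :=
  ⟨[201,193,177,89,4], [4,90,178,194,202], 4, [197,193,145,85,209,4,90,178,194,202], [201,193,177,89,4,210,86,146,194,198], stb5_4,
    [[(3,false),(2,false),(2,false),(1,false),(3,false),(2,false),(2,false)],
      [(3,false)]],
    [[0,2,3,1,1],[0,5,0,2,0]]⟩

/-- chain of a point stabiliser -/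
def stb5_5 : List Lev := [
  { base := 4, new := [([161,93],[94,162]),([19,195,143,95],[96,144,196,20])],
    orbit := [(4,[]),
      (26,[1]),
      (212,[0]),
      (6,[1,0]),
      (16,[1,1]),
      (593,[0,1]),
      (31,[1,1,0]),
      (206,[0,1,1]),
      (410,[0,1,0]),
      (592,[1,1,1])],
    wit := [] }]

/-- an orbit -/
def root5_5 : Root :=
  ⟨[21,201,135,95,4], [4,96,136,202,22], 2, [21,17,11,151,95,461,4,96,136,202,22], [21,201,135,95,4,462,96,152,12,18,22], stb5_5,
    [[(3,false),(2,false),(2,false),(1,false),(2,false),(2,false),(2,false)],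
      [(3,false),(2,false),(1,false),(3,false),(2,false),(2,false),(1,false)]],
    [[0,6,3,4,3,2],[0,5,1,4,2,0]]⟩

/-- chain of a point stabiliser -/
def stb5_6 : List Lev := [
  { base := 6, new := [([199,193,117],[118,194,200]),([21,201,121],[122,202,22])],
    orbit := [(6,[]),
      (31,[0]),
      (38,[1]),
      (14,[1,0]),
      (206,[0,0]),
      (399,[0,1]),
      (58,[1,0,0]),
      (66,[0,0,1]),
      (212,[1,0,1]),
      (593,[0,0,0])],
    wit := [] }]

/-- an orbit -/
def root5_6 : Root :=
  ⟨[21,17,193,127,251], [252,128,194,18,22], 5, [21,17,11,179,71,465,252,128,194,18,22], [21,17,193,127,251,466,72,180,12,18,22], stb5_6,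
    [[(2,false),(2,false)],
      [(3,false),(2,false),(2,false)]],
    [[0,23,1,1],[0,4,0,1]]⟩

/-- chain of a point stabiliser -/
def stb5_7 : List Lev := [
  { base := 4, new := [([21,199,11,119,43],[44,120,12,200,22])],
    orbit := [(4,[]),
      (101,[0])],
    wit := [] }]

/-- an orbit -/
def root5_7 : Root :=
  ⟨[15,191,49,323], [324,50,192,16], 5, [21,197,193,151,45,471,324,50,192,16], [15,191,49,323,472,46,152,194,198,22], stb5_7,
    [[(2,false),(3,false),(1,false),(1,false)]],
    [[0,0,1,1]]⟩

/-- chain of a point stabiliser -/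
def stb5_8 : List Lev := [
  { base := 4, new := [([199,11,9,103],[104,10,12,200])],
    orbit := [(4,[]),
      (59,[0]),
      (60,[0,1]),
      (399,[0,0]),
      (593,[0,0,0])],
    wit := [] },
  { base := 6, new := [([21,201,15,125],[126,16,202,22])],
    orbit := [(6,[]),
      (58,[0])],
    wit := [] }]

/-- an orbit -/
def root5_8 : Root :=
  ⟨[19,171,25,481], [482,26,172,20], 4, [17,11,119,75,259,482,26,172,20], [19,171,25,481,260,76,120,12,18], stb5_8,
    [[(3,false),(2,false),(3,false),(1,false),(1,false),(2,false)],
      [(3,false),(2,false)]],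
    [[0,1,3,3,1],[0,1,3,1,2]]⟩

/-- chain of a point stabiliser -/
def stb5_9 : List Lev := [
  { base := 4, new := [([21,19,193,145,93],[94,146,194,20,22])],
    orbit := [(4,[]),
      (212,[0]),
      (38,[0,1]),
      (194,[0,0]),
      (284,[0,0,0])],
    wit := [] },
  { base := 6, new := [([193,185],[186,194])],
    orbit := [(6,[]),
      (399,[0])],
    wit := [] }]

/-- an orbit -/
def root5_9 : Root :=
  ⟨[199,195,139,33,487], [488,34,140,196,200], 5, [21,197,195,157,67,211,488,34,140,196,200], [199,195,139,33,487,212,68,158,196,198,22], stb5_9,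
    [[(2,false),(2,false),(1,false),(2,false),(2,false),(2,false)],
      [(3,false)]],
    [[0,10,0,1],[0,3,3,1]]⟩

/-- chain of a point stabiliser -/
def stb5_10 : List Lev := [
  { base := 6, new := [([193,135],[136,194]),([19,11,147],[148,12,20])],
    orbit := [(6,[]),
      (66,[1]),
      (206,[0]),
      (14,[0,1]),
      (38,[1,0]),
      (212,[0,0]),
      (31,[0,0,0]),
      (58,[1,0,0]),
      (399,[0,0,1]),
      (593,[1,0,1])],
    wit := [] }]

/-- an orbit -/
def root5_10 : Root :=
  ⟨[201,195,143,113,583], [584,114,144,196,202], 6, [21,11,9,35,591,584,114,144,196,202], [201,195,143,113,583,592,36,10,12,22], stb5_10,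
    [[(3,false),(2,false),(3,false)],
      [(3,false),(2,false),(2,false),(2,false)]],
    [[0,0,3,2,0],[0,0,3,3,0]]⟩

/-- chain of a point stabiliser -/
def stb5_11 : List Lev := [
  { base := 4, new := [([21,19,191,79],[80,192,20,22]),([21,197,193,187,111],[112,188,194,198,22])],
    orbit := [(4,[]),
      (60,[0]),
      (410,[1]),
      (65,[1,0]),
      (285,[0,1]),
      (592,[1,1]),
      (16,[1,1,1]),
      (26,[0,1,0]),
      (40,[0,1,1]),
      (284,[1,1,0])],
    wit := [] }]

/-- an orbit -/
def root5_11 : Root :=
  ⟨[21,19,15,151,107,607], [608,108,152,16,20,22], 6, [197,193,137,115,295,608,108,152,16,20,22], [21,19,15,151,107,607,296,116,138,194,198], stb5_11,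
    [[(3,false),(2,false),(3,false),(1,false),(1,false),(3,false)],
      [(3,false),(2,false),(2,false),(2,false),(1,false),(3,false),(2,false),(1,false)]],
    [[0,0,0,3,1],[0,0,2,2,1]]⟩

/-- chain of a point stabiliser -/
def stb5_12 : List Lev := [
  { base := 4, new := [([199,121,89],[90,122,200])],
    orbit := [(4,[]),
      (191,[0])],
    wit := [] }]

/-- an orbit -/
def root5_12 : Root :=
  ⟨[21,17,167,33,477], [478,34,168,18,22], 6, [21,197,187,97,209,478,34,168,18,22], [21,17,167,33,477,210,98,188,198,22], stb5_12,
    [[(3,false),(2,false),(1,false),(1,false),(2,false),(2,false)]],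
    [[0,0,1,1,2]]⟩

/-- chain of a point stabiliser -/
def stb5_13 : List Lev := [
  { base := 4, new := [([193,143,73],[74,144,194])],
    orbit := [(4,[]),
      (38,[0]),
      (212,[0,1]),
      (284,[0,0]),
      (194,[0,0,0])],
    wit := [] },
  { base := 6, new := [([193,185],[186,194])],
    orbit := [(6,[]),
      (399,[0])],
    wit := [] }]

/-- an orbit -/
def root5_13 : Root :=
  ⟨[21,17,15,187,77,629], [630,78,188,16,18,22], 6, [191,105,635,630,78,188,16,18,22], [21,17,15,187,77,629,636,106,192], stb5_13,
    [[(3,false),(2,false),(2,false),(1,false),(3,false),(2,false),(2,false)],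
      [(3,false)]],
    [[0,0,4,1,0],[0,0,2,0,2]]⟩

/-- chain of a point stabiliser -/
def stb5_14 : List Lev := [
  { base := 4, new := [([21,19,11,131,107],[108,132,12,20,22])],
    orbit := [(4,[]),
      (285,[0])],
    wit := [] }]

/-- an orbit -/
def root5_14 : Root :=
  ⟨[197,117,39,683], [684,40,118,198], 6, [17,193,139,75,463,684,40,118,198], [197,117,39,683,464,76,140,194,18], stb5_14,
    [[(2,false),(3,false),(1,false),(1,false),(1,false)]],
    [[0,0,1,1,2]]⟩

/-- chain of a point stabiliser -/
def stb5_15 : List Lev := [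
  { base := 4, new := [([21,199,11,119,43],[44,120,12,200,22])],
    orbit := [(4,[]),
      (101,[0])],
    wit := [] }]

/-- an orbit -/
def root5_15 : Root :=
  ⟨[201,15,177,29,317], [318,30,178,16,202], 7, [21,17,11,121,67,207,318,30,178,16,202], [201,15,177,29,317,208,68,122,12,18,22], stb5_15,
    [[(2,false),(3,false),(1,false),(1,false)]],
    [[100,4]]⟩

/-- state 5 -/
def st5 : St :=
  ⟨k5, 500, 0xf00c00700f00700c00c00e00f00700700c00c00f00e00c00f00e00e00e00e00c00e00700c00f00f00f00e00c00700f00700c00f00f00700e00f00c00c00c00f00f00e00700c00c00700700700700700e00700f00c00f00700e00700f00f00700f00e00700f00c00e00f00e00700700f00c00c00f00700f00c00f00e00e00e00c00c00e00e00e00c00700e00c00f00f00c00e00e00c00f00f00c00f00c00f00e00700700e00e00e00f00c00700700e00700f00700c00e00c00f00700f00e00c00e00f00c00c00e00700700700e00e00700c00e00700700f00c00700700e00c00700c00f00c00700f00f00e00e00c00e00f00700e00e00700c00f00c00f00700c00e00700e00c00f00700700e00f00f00700c00e00c00f00700e00700d00e00c00f00e00c00f00c00f00f00f00e00700f00f00700c00700100e00900e00700700f00f00c00e00c00f00c00e00700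f00700e00c00700e00c00c00e00c00c00c00700f00c00e00e00200c00c00e00700e00c00c00e00700f00c00e00700c00f00e00c00700f00f00700700e00c00f00f00d00f00400f00f00e00c00700f00700e00c00e00f00900c00f00e00700700f00700e00c00f00700f00f00f00e00f00f00700c00c00c00f00700e00f00700700d00e00e00700e00e00e00f00c00c00700e00900e00700c00700700c00300700e00e00700f00700e00d00e00700f00c00e00700f00e00e00500700700e00f00e00700c00e00c00f00700e00c00700f00c00700e00700800f00e00c00e00900700e00f00e00600600700700e00f00700c00c00f00e00700e00e00e00f00c00f00900f00e00c00f00c00f00e00700700400f00e00e00c00f00f00f00a00d00f00e00c00700e00f00c00c00700b00f00f00f00700c00e00c00c00700700700400c00800e00c00700800700f00700c00f00700c00700c00700e00f00c00d00e00f00f00e00c00700c00e00e00e00f00c00d00f00f00e00700c00700500e00f00f00e00c00c00f00700e00700c00c00700700d00e00400f00c00e00e00f00c00700f00800700900e00c00700f00900700700700f00e00900c00700f00900600400c00f00f00c00c00c00a00700400c00e00700700600e00e00c00700f00c00e00f00f00c00f00700e00c00f00e00e00e00c00a00f00400f00a00b00f00e00f00c00c00700700f00400c00f00700f00e00e00f00c00f00e00c00700f004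00700c00f00c00c00700c00c00c00f00c00f00e00c00700500800500c00900700c00700900800c00c00c00700400800c00700f00c00f00e00b00e00f00c00500e00700c00f00c00700e00e00c00f00700c00c00c00f00f00700400600700700f00700700700c00e00e00c00c00c00c00800f00e00700700f00700f00e00400c00700800c00400d00f00700700c00c00700e00700f00e00e00c00f00f00700e00e00c00700f00f00e00f00e00e00c00e00000f00f00e00700900800800e00c00c00d00400e00f00c00800c00e00e00700700f00c00f00700d00e00c00e00f00e00c00700400700f00c00e00e00c00e00700f00c00d00e00e00c00d00d00e00900e00f00e00f00f00d00f00c00e00d00700c00e00e00f00e00e00c00700e00f00f00e00f00f00e00800700f00f00500c00c00f00e00700700600f00c00c00d00c00700500a00700700a00700c00c00700900f00c00c00f00700800e00700500500700f00500800600700e00800e00f00c00400e00400f00700700e00f00900f00b00b00700f00c00400e00d00e00c00f00b00f00e00e00f00c00e00f00700d00c00e00f00b00800800e00700e00900600700900e00c00700c00c00c00b00e00700700e00700e00c00a00e00600c00600500f00b00700c00400e00c00c00b00e00700700c00e00700400f00600c00a00c00c00c00e00e00b00f00c00f00900700f00700b00b00a00a00600d00600f00c00c00b00900500f00700900f0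0e00700400c00e00800500f00a00f00d00d00400c00c00600e00700800c00f00f00f00c00700c00d00c00c00700a00a00a00f00c00700700e00700f00f00800700600400600700e00c00e00f00a00c00c00800400500400500e00700700e00f00f00a00c00500e00700c00f00c00500400400e00700700c00a00900600600900900b00a00900700f00700d00a00e00500e00800800900900d00600700700b00f00c00d00700e00f00e00e00800b00e00a00700f00f00900700f00700d00600e00600700500b00e00e00500b00c00e00600a00f00f00e00800700a00a00700700b00f00c00c00700f00c00f00700700600e00e00a00f00c00e00700700f00f00e00700f00800e00b00c00500b00e00600500500b00b00e00e00500700f00f00e00700f00700700500b00600d00a00700e00d00d00600f00f00d00c00e00f00e00700f00f00e00600500a00900700c00b00900a00700a00600800600d00800b00a00f00e00a00d00600f00600500f00900c00c00400e00700c00700f00400500700a00f00b00a00500400400600f00700c00400c00e00600400500400400500400d00600600a00900a00900600900c00700600400500c00500b00c00d00b00e00c00b00900e00f00900a00600d00a00d00d00700700900f00c00700c00e00d00e00e00800700f00e00f00c00900800400b00b00800a00800900700700f00600700c00a00600400800b00800b00a00900900800b00900900500c00f00e00500800c00e00700500800b00a00900900d00d00e00f00500800b00e00b00a00e00c00a00a00900800800400800b00800900800800b00800a00a00400500500600d00600d00500500500d00d00600d00d00600d00d00900900a00900600600800b00b00500400500400b00b00b00400400500400800800400500400400d00600600900b00b00a00500400500a00600a00a00b00800b005006005000003001002,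 tree5, [root5_0,root5_1,root5_2,root5_3,root5_4,root5_5,root5_6,root5_7,root5_8,root5_9,root5_10,root5_11,root5_12,root5_13,root5_14,root5_15]⟩

end CfsgLib.HN
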