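import Cfsg.Agent.Lib.DCoset.Orbits
import Cfsg.Agent.Lib.HN.ChainData

/-!
State 6.
-/

set_option autoImplicit false
set_option linter.style.longLine false

namespace CfsgLib.HN
open CfsgLib.CosetEnum CfsgLib.DCoset CfsgLib.DCoset.Space
/-- part 0 of `tree6` -/
def tree6P0 : List (Bool × ℕ × ℕ) := [
  (true,0,0),
  (false,0,3),
  (false,1,3),
  (false,1,96),
  (true,1,0),
  (false,0,2),
  (false,1,2),
  (false,1,28),
  (true,2,0),
  (false,0,0),
  (false,1,0),
  (false,1,27),
  (true,3,0),
  (false,0,72),
  (false,1,72),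
  (false,2,72),
  (false,4,72),
  (false,0,468),
  (false,1,468),
  (false,2,468),
  (false,3,468),
  (false,3,1133),
  (false,4,1133),
  (false,0,114),
  (false,1,114),
  (false,2,368),
  (false,3,368),
  (false,1,482),
  (false,0,375),
  (false,1,375),
  (false,2,375),
  (false,3,375),
  (false,4,375),
  (false,1,997),
  (false,3,355),
  (false,0,709),
  (true,4,0),
  (false,0,48),
  (false,1,48),
  (false,2,48),
  (false,4,48),
  (false,0,663),
  (false,1,663),
  (false,2,663),
  (false,3,663),
  (false,3,948),
  (false,4,948),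
  (false,0,115),
  (false,1,115),
  (false,2,367),
  (false,3,367),
  (false,1,481),
  (false,0,552),
  (false,1,552),
  (false,2,552),
  (false,3,552),
  (false,4,552),
  (false,1,781),
  (false,3,623),
  (false,0,909),
  (true,5,0),
  (false,0,157),
  (false,1,157),
  (false,2,157),
  (false,4,157),
  (false,0,696),
  (false,1,696),
  (false,2,696),
  (false,3,696),
  (false,3,729),
  (false,4,729),
  (false,0,95),
  (false,1,95),
  (false,2,455),
  (false,3,455),
  (false,1,1032),
  (false,0,396),
  (false,1,396),
  (false,2,396),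
  (false,3,396),
  (false,4,396),
  (false,1,585),
  (false,3,725),
  (false,0,999),
  (true,6,0),
  (false,0,24),
  (false,1,24),
  (false,2,24),
  (false,3,24),
  (false,4,24),
  (false,0,563),
  (false,1,563),
  (false,2,563),
  (false,3,563),
  (false,4,563),
  (false,0,988),
  (false,1,988),
  (false,2,988),
  (false,3,988),
  (false,4,988)]

/-- part 1 of `tree6` -/
def tree6P1 : List (Bool × ℕ × ℕ) := [
  (false,0,32),
  (false,1,32),
  (false,2,32),
  (false,3,32),
  (false,4,32),
  (false,0,193),
  (false,1,193),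
  (false,2,193),
  (false,3,193),
  (false,4,193),
  (false,0,122),
  (false,1,122),
  (false,2,122),
  (false,3,122),
  (false,0,195),
  (false,1,195),
  (false,2,195),
  (false,3,195),
  (false,1,674),
  (false,2,674),
  (false,3,674),
  (false,4,674),
  (false,0,274),
  (false,1,274),
  (false,2,274),
  (false,3,274),
  (false,0,659),
  (false,1,659),
  (false,2,263),
  (false,3,263),
  (false,0,917),
  (false,1,917),
  (false,2,917),
  (false,3,917),
  (false,4,917),
  (false,0,392),
  (false,1,392),
  (false,2,392),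
  (false,4,392),
  (false,0,1085),
  (false,2,1085),
  (false,3,1085),
  (false,0,1360),
  (false,1,1360),
  (false,3,1360),
  (false,4,1360),
  (false,0,1406),
  (false,3,1406),
  (false,4,1406),
  (false,3,145),
  (false,4,145),
  (false,0,728),
  (false,3,728),
  (false,1,26),
  (false,2,26),
  (false,0,409),
  (false,1,409),
  (false,1,33),
  (false,2,33),
  (false,3,33),
  (false,4,33),
  (false,4,176),
  (false,0,860),
  (false,1,860),
  (false,3,860),
  (false,2,190),
  (false,1,60),
  (false,0,101),
  (false,3,101),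
  (false,0,732),
  (false,4,732),
  (false,1,941),
  (false,2,941),
  (false,3,941),
  (false,0,1347),
  (false,2,1347),
  (false,1,408),
  (false,0,464),
  (false,3,464),
  (false,1,323),
  (false,2,879),
  (false,4,879),
  (false,0,78),
  (false,4,78),
  (false,3,1012),
  (false,2,721),
  (false,1,109),
  (false,3,109),
  (false,2,1048),
  (false,3,1048),
  (false,2,228),
  (false,3,1014),
  (false,1,976),
  (false,3,894),
  (false,2,950),
  (false,3,1168),
  (false,3,1074),
  (false,2,1223),
  (false,1,936),
  (false,4,970)]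

/-- part 2 of `tree6` -/
def tree6P2 : List (Bool × ℕ × ℕ) := [
  (false,3,1157),
  (false,0,1009),
  (false,3,487),
  (false,0,25),
  (true,7,0),
  (false,0,807),
  (false,1,807),
  (false,2,807),
  (false,3,807),
  (false,4,807),
  (false,0,1242),
  (false,1,1242),
  (false,2,1242),
  (false,3,1242),
  (false,4,1242),
  (false,0,102),
  (false,1,102),
  (false,2,102),
  (false,3,102),
  (false,0,440),
  (false,2,440),
  (false,3,440),
  (false,4,440),
  (false,0,810),
  (false,1,810),
  (false,2,810),
  (false,3,810),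
  (false,4,810),
  (false,0,110),
  (false,1,110),
  (false,3,110),
  (false,4,110),
  (false,0,309),
  (false,3,309),
  (false,1,1008),
  (false,2,1008),
  (false,0,1398),
  (false,1,1398),
  (false,1,1217),
  (false,1,1291),
  (false,2,1291),
  (false,3,1291),
  (false,4,1291),
  (false,1,1225),
  (false,2,1225),
  (false,3,1225),
  (false,4,1225),
  (false,0,257),
  (false,2,257),
  (false,2,245),
  (false,0,1313),
  (false,1,311),
  (false,0,431),
  (false,3,431),
  (false,3,673),
  (false,3,575),
  (false,1,386),
  (false,4,104),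
  (false,0,318),
  (false,2,318),
  (false,2,1250),
  (false,0,152),
  (false,3,1268),
  (false,4,1333),
  (true,8,0),
  (false,0,88),
  (false,1,88),
  (false,2,88),
  (false,3,88),
  (false,0,1120),
  (false,1,1120),
  (false,2,1120),
  (false,3,1120),
  (false,4,1120),
  (false,0,570),
  (false,1,570),
  (false,2,570),
  (false,3,570),
  (false,4,570),
  (false,0,328),
  (false,2,328),
  (false,3,328),
  (false,4,328),
  (false,0,572),
  (false,1,572),
  (false,2,572),
  (false,3,572),
  (false,4,572),
  (false,0,546),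
  (false,3,546),
  (false,1,841),
  (false,2,841),
  (false,3,841),
  (false,4,841),
  (false,0,1002),
  (false,1,1002),
  (false,2,1002),
  (false,1,992),
  (false,3,992),
  (false,1,1402)]

/-- part 3 of `tree6` -/
def tree6P3 : List (Bool × ℕ × ℕ) := [
  (false,2,1402),
  (false,3,1402),
  (false,4,1402),
  (false,1,921),
  (false,0,562),
  (false,2,562),
  (false,0,539),
  (false,2,539),
  (false,3,539),
  (false,4,539),
  (false,0,339),
  (false,1,339),
  (false,0,961),
  (false,4,961),
  (false,0,331),
  (false,1,331),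
  (false,1,143),
  (false,2,143),
  (false,4,143),
  (false,3,1266),
  (false,3,203),
  (false,4,203),
  (false,0,419),
  (false,2,1364),
  (true,9,0),
  (false,0,150),
  (false,1,150),
  (false,2,150),
  (false,3,150),
  (false,1,236),
  (false,2,236),
  (false,4,236),
  (false,0,542),
  (false,1,542),
  (false,2,542),
  (false,4,542),
  (false,4,441),
  (false,0,200),
  (false,1,200),
  (false,2,200),
  (false,3,80),
  (false,4,80),
  (false,2,22),
  (false,3,22),
  (false,0,380),
  (false,0,295),
  (false,3,215),
  (false,0,397),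
  (true,10,0),
  (false,0,4),
  (true,11,0),
  (false,0,141),
  (false,1,141),
  (false,2,141),
  (false,3,141),
  (false,1,47),
  (false,2,47),
  (false,4,47),
  (false,0,462),
  (false,1,462),
  (false,2,462),
  (false,4,462),
  (false,4,573),
  (false,0,251),
  (false,1,251),
  (false,2,251),
  (false,3,137),
  (false,4,137),
  (false,2,11),
  (false,3,11),
  (false,0,410),
  (false,0,503),
  (false,3,254),
  (false,0,553),
  (true,12,0),
  (false,0,18),
  (true,13,0),
  (false,0,50),
  (false,1,50),
  (false,2,50),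
  (false,3,50),
  (false,4,50),
  (false,0,1037),
  (false,1,1037),
  (false,2,1037),
  (false,3,1037),
  (false,4,1037),
  (false,0,1149),
  (false,1,1149),
  (false,2,1149),
  (false,3,1149),
  (false,4,1149),
  (false,0,56),
  (false,1,56),
  (false,2,56),
  (false,3,56),
  (false,4,56),
  (false,0,158),
  (false,1,158),
  (false,2,158)]

/-- part 4 of `tree6` -/
def tree6P4 : List (Bool × ℕ × ℕ) := [
  (false,3,158),
  (false,4,158),
  (false,0,160),
  (false,1,160),
  (false,2,160),
  (false,3,160),
  (false,0,262),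
  (false,1,262),
  (false,2,262),
  (false,3,262),
  (false,1,1072),
  (false,2,1072),
  (false,3,1072),
  (false,4,1072),
  (false,0,493),
  (false,1,493),
  (false,2,493),
  (false,3,493),
  (false,0,656),
  (false,1,656),
  (false,2,166),
  (false,3,166),
  (false,0,882),
  (false,1,882),
  (false,2,882),
  (false,3,882),
  (false,4,882),
  (false,0,478),
  (false,1,478),
  (false,2,478),
  (false,4,478),
  (false,0,1038),
  (false,2,1038),
  (false,3,1038),
  (false,0,1382),
  (false,1,1382),
  (false,3,1382),
  (false,4,1382),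
  (false,0,1372),
  (false,3,1372),
  (false,4,1372),
  (false,3,219),
  (false,4,219),
  (false,0,813),
  (false,3,813),
  (false,1,52),
  (false,2,52),
  (false,0,341),
  (false,1,341),
  (false,1,57),
  (false,2,57),
  (false,3,57),
  (false,4,57),
  (false,4,227),
  (false,0,1117),
  (false,1,1117),
  (false,3,1117),
  (false,2,235),
  (false,1,182),
  (false,0,196),
  (false,3,196),
  (false,0,951),
  (false,4,951),
  (false,1,939),
  (false,2,939),
  (false,3,939),
  (false,0,1338),
  (false,2,1338),
  (false,1,340),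
  (false,0,456),
  (false,3,456),
  (false,1,512),
  (false,2,682),
  (false,4,682),
  (false,0,171),
  (false,4,171),
  (false,3,893),
  (false,2,647),
  (false,1,202),
  (false,3,202),
  (false,2,705),
  (false,3,705),
  (false,2,242),
  (false,3,967),
  (false,1,642),
  (false,3,751),
  (false,2,1134),
  (false,3,1200),
  (false,3,1163),
  (false,2,1023),
  (false,1,679),
  (false,4,794),
  (false,3,1185),
  (false,0,962),
  (false,3,596),
  (false,0,51),
  (true,14,0),
  (false,0,16),
  (false,1,16),
  (false,2,16)]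

/-- part 5 of `tree6` -/
def tree6P5 : List (Bool × ℕ × ℕ) := [
  (false,3,16),
  (false,1,624),
  (false,3,624),
  (false,4,624),
  (false,0,671),
  (false,1,671),
  (false,2,671),
  (false,3,671),
  (false,4,671),
  (false,0,192),
  (false,1,192),
  (false,2,192),
  (false,0,205),
  (false,3,390),
  (false,2,469),
  (false,0,301),
  (false,2,301),
  (false,3,301),
  (false,0,1081),
  (false,0,584),
  (true,15,0),
  (false,0,13),
  (true,16,0),
  (false,0,15),
  (false,1,15),
  (false,2,15),
  (false,1,531),
  (false,3,531),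
  (false,4,531),
  (false,1,284),
  (false,4,284),
  (false,2,207),
  (true,17,0),
  (false,0,99),
  (false,1,99),
  (false,2,99),
  (false,4,99),
  (false,0,281),
  (false,1,281),
  (false,4,281),
  (false,0,282),
  (false,0,135),
  (true,18,0),
  (false,0,19),
  (false,1,19),
  (false,2,19),
  (false,3,19),
  (false,0,602),
  (false,1,602),
  (false,2,602),
  (false,3,602),
  (false,4,602),
  (false,0,1244),
  (false,1,1244),
  (false,2,1244),
  (false,3,1244),
  (false,4,1244),
  (false,0,42),
  (false,2,42),
  (false,3,42),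
  (false,4,42),
  (false,0,544),
  (false,1,544),
  (false,2,544),
  (false,3,544),
  (false,4,544),
  (false,0,132),
  (false,1,132),
  (false,2,132),
  (false,3,132),
  (false,0,216),
  (false,1,216),
  (false,2,216),
  (false,3,216),
  (false,4,216),
  (false,0,199),
  (false,1,199),
  (false,2,199),
  (false,3,199),
  (false,0,783),
  (false,1,783),
  (false,3,783),
  (false,1,681),
  (false,2,681),
  (false,3,681),
  (false,4,681),
  (false,0,210),
  (false,1,210),
  (false,2,210),
  (false,0,77),
  (false,1,77),
  (false,2,77),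
  (false,4,77),
  (false,0,690),
  (false,2,690),
  (false,3,690),
  (false,4,690),
  (false,0,1166),
  (false,1,1166),
  (false,2,1166)]

/-- part 6 of `tree6` -/
def tree6P6 : List (Bool × ℕ × ℕ) := [
  (false,0,839),
  (false,3,839),
  (false,4,839),
  (false,0,806),
  (false,3,806),
  (false,4,806),
  (false,0,369),
  (false,1,369),
  (false,4,369),
  (false,0,100),
  (false,1,100),
  (false,4,100),
  (false,1,121),
  (false,2,121),
  (false,4,121),
  (false,3,792),
  (false,0,1207),
  (false,3,1207),
  (false,4,1207),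
  (false,2,34),
  (false,4,34),
  (false,0,351),
  (false,4,351),
  (false,0,1145),
  (false,2,1145),
  (false,3,1145),
  (false,1,352),
  (false,0,684),
  (false,2,684),
  (false,1,1087),
  (false,2,591),
  (false,4,591),
  (false,0,70),
  (false,3,70),
  (false,4,70),
  (false,0,449),
  (false,3,449),
  (false,4,449),
  (false,2,866),
  (false,1,177),
  (false,3,177),
  (false,4,177),
  (false,3,538),
  (false,0,490),
  (false,1,490),
  (false,2,169),
  (false,2,316),
  (false,3,1050),
  (false,1,426),
  (false,3,692),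
  (false,1,154),
  (false,0,79),
  (false,3,79),
  (false,3,825),
  (false,3,1363),
  (false,1,545),
  (false,1,312),
  (false,4,731),
  (false,3,858),
  (false,0,1297),
  (false,4,1297),
  (false,4,739),
  (true,19,0),
  (false,0,5),
  (true,20,0),
  (false,0,173),
  (false,1,173),
  (false,2,173),
  (false,3,173),
  (false,4,173),
  (false,0,1326),
  (false,1,1326),
  (false,2,1326),
  (false,3,1326),
  (false,4,1326),
  (false,0,225),
  (false,1,225),
  (false,2,225),
  (false,0,518),
  (false,1,518),
  (false,2,518),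
  (false,3,518),
  (false,4,518),
  (false,0,429),
  (false,1,429),
  (false,3,429),
  (false,4,429),
  (false,0,944),
  (false,1,944),
  (false,2,944),
  (false,3,944),
  (false,4,944),
  (false,0,677),
  (false,1,677),
  (false,2,677),
  (false,3,677),
  (false,0,760),
  (false,1,760),
  (false,3,760),
  (false,4,760)]

/-- part 7 of `tree6` -/
def tree6P7 : List (Bool × ℕ × ℕ) := [
  (false,0,925),
  (false,1,925),
  (false,3,925),
  (false,4,925),
  (false,0,1232),
  (false,1,1232),
  (false,2,1232),
  (false,3,1232),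
  (false,1,1075),
  (false,2,1075),
  (false,3,1075),
  (false,4,1075),
  (false,0,1235),
  (false,1,1235),
  (false,2,1235),
  (false,3,1235),
  (false,0,1035),
  (false,1,1035),
  (false,2,1035),
  (false,0,851),
  (false,2,851),
  (false,3,851),
  (false,4,851),
  (false,0,1174),
  (false,3,1174),
  (false,4,1174),
  (false,0,277),
  (false,3,277),
  (false,4,277),
  (false,0,654),
  (false,1,654),
  (false,2,654),
  (false,4,654),
  (false,0,743),
  (false,1,743),
  (false,4,743),
  (false,1,857),
  (false,2,857),
  (false,4,857),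
  (false,3,1195),
  (false,4,1195),
  (false,0,423),
  (false,4,423),
  (false,0,1140),
  (false,1,1140),
  (false,4,1140),
  (false,0,891),
  (false,3,891),
  (false,1,1276),
  (false,0,720),
  (false,2,275),
  (false,3,275),
  (false,4,275),
  (false,0,1154),
  (false,1,1154),
  (false,2,1154),
  (false,3,1154),
  (false,0,932),
  (false,2,932),
  (false,1,433),
  (false,2,433),
  (false,0,507),
  (false,3,507),
  (false,2,885),
  (false,4,1178),
  (false,0,712),
  (false,0,1331),
  (false,3,1331),
  (false,1,1383),
  (false,3,1383),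
  (false,4,1383),
  (false,3,622),
  (false,3,1390),
  (false,4,733),
  (false,4,1309),
  (false,4,870),
  (false,0,1194),
  (false,2,1158),
  (false,3,1151),
  (false,0,853),
  (false,1,931),
  (false,3,1280),
  (false,3,667),
  (false,3,1407),
  (true,21,0),
  (false,0,643),
  (false,1,643),
  (false,3,643),
  (false,4,643),
  (false,0,1335),
  (false,1,1335),
  (false,2,1335),
  (false,3,1335),
  (false,4,1335),
  (false,0,324),
  (false,1,324),
  (false,2,324),
  (false,3,324),
  (false,4,324),
  (false,0,564)]

/-- part 8 of `tree6` -/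
def tree6P8 : List (Bool × ℕ × ℕ) := [
  (false,1,564),
  (false,2,564),
  (false,3,564),
  (false,4,564),
  (false,0,653),
  (false,1,653),
  (false,2,653),
  (false,3,653),
  (false,4,653),
  (false,0,499),
  (false,1,499),
  (false,2,499),
  (false,3,499),
  (false,0,1114),
  (false,1,1114),
  (false,2,1114),
  (false,3,1114),
  (false,4,1114),
  (false,0,1214),
  (false,1,1214),
  (false,2,1214),
  (false,3,1214),
  (false,4,1214),
  (false,0,1359),
  (false,2,1359),
  (false,3,1359),
  (false,1,1029),
  (false,2,1029),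
  (false,3,1029),
  (false,4,1029),
  (false,0,821),
  (false,1,821),
  (false,3,821),
  (false,4,821),
  (false,0,372),
  (false,4,372),
  (false,0,473),
  (false,2,473),
  (false,3,473),
  (false,4,473),
  (false,0,574),
  (false,1,574),
  (false,3,574),
  (false,4,574),
  (false,3,943),
  (false,4,943),
  (false,3,1404),
  (false,4,1404),
  (false,0,938),
  (false,1,938),
  (false,3,938),
  (false,4,938),
  (false,0,578),
  (false,2,578),
  (false,4,578),
  (false,0,849),
  (false,4,849),
  (false,0,291),
  (false,3,291),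
  (false,4,291),
  (false,1,913),
  (false,3,913),
  (false,0,874),
  (false,2,777),
  (false,3,777),
  (false,4,777),
  (false,0,92),
  (false,0,1143),
  (false,1,1143),
  (false,3,1143),
  (false,0,904),
  (false,2,904),
  (false,3,904),
  (false,0,547),
  (false,1,547),
  (false,2,547),
  (false,3,877),
  (false,0,446),
  (false,4,446),
  (false,0,1001),
  (false,2,1001),
  (false,3,1001),
  (false,4,1001),
  (false,0,601),
  (false,3,601),
  (false,4,601),
  (false,0,1252),
  (false,1,1252),
  (false,2,1252),
  (false,4,1358),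
  (false,2,1349),
  (false,4,1349),
  (false,3,994),
  (false,4,994),
  (false,0,1307),
  (false,4,859),
  (false,3,956),
  (false,0,1339),
  (false,2,1339),
  (false,3,1111)]

/-- part 9 of `tree6` -/
def tree6P9 : List (Bool × ℕ × ℕ) := [
  (false,3,757),
  (false,2,1370),
  (false,2,639),
  (false,0,540),
  (true,22,0),
  (false,0,1),
  (false,1,1),
  (false,1,53),
  (true,23,0),
  (false,0,91),
  (false,1,91),
  (false,2,91),
  (false,3,91),
  (false,4,91),
  (false,0,686),
  (false,1,686),
  (false,2,686),
  (false,3,686),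
  (false,4,686),
  (false,0,748),
  (false,1,748),
  (false,2,748),
  (false,3,748),
  (false,4,748),
  (false,0,638),
  (false,1,638),
  (false,2,638),
  (false,3,638),
  (false,4,638),
  (false,0,902),
  (false,1,902),
  (false,2,902),
  (false,3,902),
  (false,4,902),
  (false,0,968),
  (false,1,968),
  (false,2,968),
  (false,3,968),
  (false,4,968),
  (false,0,498),
  (false,1,498),
  (false,3,498),
  (false,0,1227),
  (false,1,1227),
  (false,2,1227),
  (false,3,1227),
  (false,4,1227),
  (false,0,1206),
  (false,1,1206),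
  (false,2,1206),
  (false,4,1206),
  (false,1,1399),
  (false,2,1399),
  (false,3,1399),
  (false,1,1302),
  (false,2,1302),
  (false,3,1302),
  (false,4,1302),
  (false,0,924),
  (false,1,924),
  (false,3,924),
  (false,4,924),
  (false,0,693),
  (false,1,693),
  (false,2,693),
  (false,0,958),
  (false,2,958),
  (false,3,958),
  (false,4,958),
  (false,0,850),
  (false,1,850),
  (false,3,850),
  (false,4,850),
  (false,0,239),
  (false,3,239),
  (false,4,239),
  (false,0,1025),
  (false,3,1025),
  (false,4,1025),
  (false,0,892),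
  (false,1,892),
  (false,2,892),
  (false,3,892),
  (false,4,892),
  (false,4,460),
  (false,1,1062),
  (false,2,1062),
  (false,4,1062),
  (false,3,756),
  (false,4,756),
  (false,0,609),
  (false,3,609),
  (false,4,609),
  (false,0,615),
  (false,4,615),
  (false,0,875),
  (false,1,875),
  (false,0,362),
  (false,3,362),
  (false,1,1279)]

/-- part 10 of `tree6` -/
def tree6P10 : List (Bool × ℕ × ℕ) := [
  (false,3,1279),
  (false,4,438),
  (false,3,702),
  (false,0,327),
  (false,2,327),
  (false,0,1024),
  (false,2,1024),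
  (false,3,1024),
  (false,0,448),
  (false,3,448),
  (false,0,509),
  (false,2,509),
  (false,4,1049),
  (false,2,1005),
  (false,3,1005),
  (false,0,568),
  (false,1,1311),
  (false,2,1311),
  (false,2,1271),
  (false,1,1272),
  (false,2,1394),
  (false,0,714),
  (false,4,1019),
  (false,2,844),
  (false,0,1395),
  (false,4,1082),
  (false,3,876),
  (false,3,1386),
  (true,24,0),
  (false,0,969),
  (false,1,969),
  (false,3,969),
  (false,4,969),
  (false,0,1267),
  (false,1,1267),
  (false,2,1267),
  (false,3,1267),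
  (false,4,1267),
  (false,0,513),
  (false,1,513),
  (false,2,513),
  (false,3,513),
  (false,4,513),
  (false,0,605),
  (false,1,605),
  (false,2,605),
  (false,3,605),
  (false,4,605),
  (false,0,474),
  (false,1,474),
  (false,2,474),
  (false,3,474),
  (false,4,474),
  (false,0,610),
  (false,1,610),
  (false,2,610),
  (false,3,610),
  (false,0,1026),
  (false,1,1026),
  (false,2,1026),
  (false,3,1026),
  (false,4,1026),
  (false,0,770),
  (false,1,770),
  (false,2,770),
  (false,3,770),
  (false,4,770),
  (false,0,1320),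
  (false,2,1320),
  (false,3,1320),
  (false,1,993),
  (false,2,993),
  (false,3,993),
  (false,4,993),
  (false,0,1113),
  (false,1,1113),
  (false,3,1113),
  (false,4,1113),
  (false,0,452),
  (false,4,452),
  (false,0,589),
  (false,2,589),
  (false,3,589),
  (false,4,589),
  (false,0,648),
  (false,1,648),
  (false,3,648),
  (false,4,648),
  (false,3,822),
  (false,4,822),
  (false,3,1355),
  (false,4,1355),
  (false,0,388),
  (false,1,388),
  (false,3,388),
  (false,4,388),
  (false,0,358),
  (false,2,358),
  (false,4,358),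
  (false,0,611)]

/-- part 11 of `tree6` -/
def tree6P11 : List (Bool × ℕ × ℕ) := [
  (false,4,611),
  (false,0,332),
  (false,3,332),
  (false,4,332),
  (false,1,845),
  (false,3,845),
  (false,0,854),
  (false,2,791),
  (false,3,791),
  (false,4,791),
  (false,0,179),
  (false,0,730),
  (false,1,730),
  (false,3,730),
  (false,0,954),
  (false,2,954),
  (false,3,954),
  (false,0,337),
  (false,1,337),
  (false,2,337),
  (false,3,753),
  (false,0,576),
  (false,4,576),
  (false,0,664),
  (false,2,664),
  (false,3,664),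
  (false,4,664),
  (false,0,313),
  (false,3,313),
  (false,4,313),
  (false,0,1258),
  (false,1,1258),
  (false,2,1258),
  (false,4,1270),
  (false,2,1296),
  (false,4,1296),
  (false,3,1155),
  (false,4,1155),
  (false,0,1377),
  (false,4,1056),
  (false,3,963),
  (false,0,1381),
  (false,2,1381),
  (false,3,1201),
  (false,3,1091),
  (false,2,1368),
  (false,2,824),
  (false,0,461),
  (true,25,0),
  (false,0,20),
  (false,1,20),
  (false,2,20),
  (false,1,619),
  (false,3,619),
  (false,4,619),
  (false,1,320),
  (false,4,320),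
  (false,2,248),
  (true,26,0),
  (false,0,103),
  (false,1,103),
  (false,2,103),
  (false,3,103),
  (false,4,103),
  (false,0,1243),
  (false,1,1243),
  (false,2,1243),
  (false,3,1243),
  (false,4,1243),
  (false,0,317),
  (false,1,317),
  (false,2,317),
  (false,3,317),
  (false,4,317),
  (false,0,587),
  (false,1,587),
  (false,2,587),
  (false,3,587),
  (false,0,231),
  (false,1,231),
  (false,3,231),
  (false,4,231),
  (false,0,516),
  (false,1,516),
  (false,2,516),
  (false,3,516),
  (false,4,516),
  (false,0,470),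
  (false,1,470),
  (false,3,470),
  (false,2,1152),
  (false,3,1152),
  (false,4,1152),
  (false,1,773),
  (false,2,773),
  (false,4,773),
  (false,1,1292),
  (false,2,1292),
  (false,3,1292),
  (false,1,1104)]

/-- part 12 of `tree6` -/
def tree6P12 : List (Bool × ℕ × ℕ) := [
  (false,2,1104),
  (false,3,1104),
  (false,0,980),
  (false,1,980),
  (false,3,980),
  (false,1,627),
  (false,2,627),
  (false,0,165),
  (false,1,165),
  (false,0,256),
  (false,4,256),
  (false,0,947),
  (false,3,947),
  (false,4,947),
  (false,1,491),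
  (false,3,491),
  (false,4,1170),
  (false,1,1128),
  (true,27,0),
  (false,0,84),
  (false,1,84),
  (false,2,84),
  (false,3,84),
  (false,0,991),
  (false,1,991),
  (false,2,991),
  (false,3,991),
  (false,4,991),
  (false,0,144),
  (false,1,144),
  (false,2,144),
  (false,3,144),
  (false,4,144),
  (false,0,180),
  (false,2,180),
  (false,3,180),
  (false,4,180),
  (false,0,505),
  (false,1,505),
  (false,2,505),
  (false,3,505),
  (false,4,505),
  (false,0,217),
  (false,3,217),
  (false,1,1003),
  (false,2,1003),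
  (false,3,1003),
  (false,4,1003),
  (false,0,710),
  (false,1,710),
  (false,2,710),
  (false,1,872),
  (false,3,872),
  (false,1,1318),
  (false,2,1318),
  (false,3,1318),
  (false,4,1318),
  (false,1,1043),
  (false,0,342),
  (false,2,342),
  (false,0,330),
  (false,2,330),
  (false,3,330),
  (false,4,330),
  (false,0,266),
  (false,1,266),
  (false,0,1083),
  (false,4,1083),
  (false,0,129),
  (false,1,129),
  (false,1,393),
  (false,2,393),
  (false,4,393),
  (false,3,1215),
  (false,3,523),
  (false,4,523),
  (false,0,779),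
  (false,2,1260),
  (true,28,0),
  (false,0,17),
  (false,1,17),
  (false,2,17),
  (false,3,17),
  (false,0,697),
  (false,1,697),
  (false,2,697),
  (false,3,697),
  (false,4,697),
  (false,0,1283),
  (false,1,1283),
  (false,2,1283),
  (false,3,1283),
  (false,4,1283),
  (false,0,159),
  (false,2,159),
  (false,3,159),
  (false,4,159),
  (false,0,381),
  (false,1,381),
  (false,2,381)]

/-- part 13 of `tree6` -/
def tree6P13 : List (Bool × ℕ × ℕ) := [
  (false,3,381),
  (false,4,381),
  (false,0,97),
  (false,1,97),
  (false,2,97),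
  (false,3,97),
  (false,0,142),
  (false,1,142),
  (false,2,142),
  (false,3,142),
  (false,4,142),
  (false,0,105),
  (false,1,105),
  (false,2,105),
  (false,3,105),
  (false,0,906),
  (false,1,906),
  (false,3,906),
  (false,1,975),
  (false,2,975),
  (false,3,975),
  (false,4,975),
  (false,0,127),
  (false,1,127),
  (false,2,127),
  (false,0,181),
  (false,1,181),
  (false,2,181),
  (false,4,181),
  (false,0,1196),
  (false,2,1196),
  (false,3,1196),
  (false,4,1196),
  (false,0,1077),
  (false,1,1077),
  (false,2,1077),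
  (false,0,669),
  (false,3,669),
  (false,4,669),
  (false,0,646),
  (false,3,646),
  (false,4,646),
  (false,0,378),
  (false,1,378),
  (false,4,378),
  (false,0,163),
  (false,1,163),
  (false,4,163),
  (false,1,183),
  (false,2,183),
  (false,4,183),
  (false,3,829),
  (false,0,1173),
  (false,3,1173),
  (false,4,1173),
  (false,2,68),
  (false,4,68),
  (false,0,379),
  (false,4,379),
  (false,0,981),
  (false,2,981),
  (false,3,981),
  (false,1,385),
  (false,0,1190),
  (false,2,1190),
  (false,1,736),
  (false,2,476),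
  (false,4,476),
  (false,0,46),
  (false,3,46),
  (false,4,46),
  (false,0,444),
  (false,3,444),
  (false,4,444),
  (false,2,676),
  (false,1,90),
  (false,3,90),
  (false,4,90),
  (false,3,360),
  (false,0,928),
  (false,1,928),
  (false,2,265),
  (false,2,413),
  (false,3,1231),
  (false,1,698),
  (false,3,1198),
  (false,1,258),
  (false,0,111),
  (false,3,111),
  (false,3,1041),
  (false,3,1274),
  (false,1,382),
  (false,1,600),
  (false,4,1020),
  (false,3,747),
  (false,0,1403),
  (false,4,1403),
  (false,4,703),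
  (true,29,0),
  (false,0,23)]

/-- part 14 of `tree6` -/
def tree6P14 : List (Bool × ℕ × ℕ) := [
  (false,1,23),
  (false,2,23),
  (false,1,1034),
  (false,3,1034),
  (false,4,1034),
  (false,1,383),
  (false,4,383),
  (false,2,269)]

/-- certificate data -/
def tree6 : List (Bool × ℕ × ℕ) :=
  [tree6P0, tree6P1, tree6P2, tree6P3, tree6P4, tree6P5, tree6P6, tree6P7, tree6P8, tree6P9, tree6P10, tree6P11, tree6P12, tree6P13, tree6P14].flatten

/-- chain of a point stabiliser -/
def stb6_0 : List Lev := [
  { base := 6, new := [([19,193,141],[142,194,20])],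
    orbit := [(6,[]),
      (464,[0]),
      (24,[0,0]),
      (30,[0,1]),
      (37,[0,0,0]),
      (190,[0,1,0]),
      (391,[0,0,1]),
      (26,[0,0,1,0]),
      (59,[0,0,0,1]),
      (60,[0,1,0,1]),
      (206,[0,0,0,0]),
      (408,[0,1,0,0]),
      (33,[0,0,0,1,0]),
      (65,[0,1,0,0,1]),
      (66,[0,1,0,1,0]),
      (101,[0,1,0,0,0]),
      (193,[0,0,0,0,1]),
      (392,[0,0,1,0,1]),
      (31,[0,0,0,1,0,1]),
      (39,[0,0,0,1,0,0]),
      (58,[0,0,0,0,1,0]),
      (67,[0,1,0,0,0,0]),
      (78,[0,0,1,0,1,0]),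
      (195,[0,1,0,1,0,0]),
      (409,[0,1,0,0,1,0]),
      (25,[0,0,1,0,1,0,1]),
      (32,[0,1,0,0,0,0,1]),
      (122,[0,0,0,0,1,0,1]),
      (285,[0,1,0,1,0,0,1]),
      (399,[0,1,0,0,0,0,1,0])],
    wit := [] },
  { base := 9, new := [([21],[22])],
    orbit := [(9,[]),
      (482,[0])],
    wit := [] }]

/-- an orbit -/
def root6_0 : Root :=
  ⟨[203], [204], 2, [21,171,57,205,204], [203,206,58,172,22], stb6_0,
    [[(4,false),(3,false),(3,false),(2,false),(2,false)],
      [(4,false),(3,false),(3,false)]],
    [[0,6,4,0,0,0],[0,0,3,3,2,0]]⟩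

/-- chain of a point stabiliser -/
def stb6_1 : List Lev := [
  { base := 6, new := [([21,201,193,169],[170,194,202,22])],
    orbit := [(6,[]),
      (37,[0]),
      (59,[0,1]),
      (391,[0,0]),
      (24,[0,0,1]),
      (464,[0,1,0]),
      (30,[0,1,0,1]),
      (33,[0,0,1,0]),
      (101,[0,1,0,0]),
      (31,[0,0,1,0,1]),
      (39,[0,1,0,0,1]),
      (193,[0,0,1,0,0]),
      (206,[0,1,0,1,0]),
      (26,[0,0,1,0,1,0]),
      (65,[0,1,0,1,0,0]),
      (190,[0,1,0,0,1,0]),
      (60,[0,1,0,0,1,0,1]),
      (66,[0,0,1,0,1,0,0]),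
      (392,[0,0,1,0,1,0,1]),
      (408,[0,1,0,1,0,0,1]),
      (58,[0,1,0,1,0,0,1,0]),
      (67,[0,1,0,0,1,0,1,0]),
      (409,[0,0,1,0,1,0,0,1]),
      (32,[0,1,0,0,1,0,1,0,1]),
      (78,[0,0,1,0,1,0,0,1,0]),
      (122,[0,1,0,1,0,0,1,0,1]),
      (285,[0,1,0,0,1,0,1,0,0]),
      (25,[0,0,1,0,1,0,0,1,0,1]),
      (195,[0,1,0,0,1,0,1,0,0,1]),
      (399,[0,1,0,0,1,0,1,0,0,1,0])],
    wit := [] },
  { base := 9, new := [([21],[22])],
    orbit := [(9,[]),
      (482,[0])],
    wit := [] }]

/-- an orbit -/
def root6_1 : Root :=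
  ⟨[199,195,187,115,1], [0,116,188,196,200], 2, [199,133,55,269,0,116,188,196,200], [199,195,187,115,1,270,56,134,200], stb6_1,
    [[(3,false),(4,false),(2,false)],
      [(4,false),(3,false),(3,false)]],
    [[0,3,0,1,1,1],[0,2,2,2,0,1]]⟩

/-- chain of a point stabiliser -/
def stb6_2 : List Lev := [
  { base := 6, new := [([21,19,15,9],[10,16,20,22])],
    orbit := [(6,[]),
      (193,[0]),
      (59,[0,0]),
      (206,[0,1]),
      (37,[0,0,1]),
      (66,[0,1,0]),
      (391,[0,0,0]),
      (24,[0,0,0,1]),
      (30,[0,0,0,0]),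
      (392,[0,0,1,0]),
      (408,[0,1,0,0]),
      (409,[0,1,0,1]),
      (26,[0,0,1,0,1]),
      (33,[0,1,0,0,0]),
      (65,[0,1,0,0,1]),
      (101,[0,0,0,1,0]),
      (190,[0,1,0,1,0]),
      (464,[0,0,0,0,1]),
      (25,[0,1,0,1,0,0]),
      (31,[0,0,0,1,0,0]),
      (32,[0,0,0,0,1,0]),
      (39,[0,0,0,1,0,1]),
      (60,[0,1,0,0,1,0]),
      (122,[0,1,0,0,0,0]),
      (285,[0,0,1,0,1,0]),
      (58,[0,1,0,0,0,0,1]),
      (67,[0,0,0,0,1,0,1]),
      (78,[0,1,0,1,0,0,1]),
      (195,[0,0,1,0,1,0,1]),
      (399,[0,1,0,0,0,0,1,0])],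
    wit := [] },
  { base := 9, new := [([21],[22])],
    orbit := [(9,[]),
      (482,[0])],
    wit := [] }]

/-- an orbit -/
def root6_2 : Root :=
  ⟨[21,197,15,175,63], [64,176,16,198,22], 4, [199,195,117,61,571,64,176,16,198,22], [21,197,15,175,63,572,62,118,196,200], stb6_2,
    [[(4,false),(3,false),(3,false),(2,false),(2,false),(2,false)],
      [(4,false),(3,false),(3,false)]],
    [[0,3,2,3,2],[0,0,0,2,1]]⟩

/-- chain of a point stabiliser -/
def stb6_3 : List Lev := [
  { base := 6, new := [([19,193,141],[142,194,20]),([21,193,155],[156,194,22])],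
    orbit := [(6,[]),
      (122,[1]),
      (464,[0]),
      (24,[0,0]),
      (285,[1,0]),
      (399,[0,1]),
      (25,[1,0,0]),
      (32,[0,0,1]),
      (37,[0,0,0]),
      (206,[1,0,1])],
    wit := [] }]

/-- an orbit -/
def root6_3 : Root :=
  ⟨[21,201,11,147,67,207], [208,68,148,12,202,22], 2, [201,193,135,71,579,208,68,148,12,202,22], [21,201,11,147,67,207,580,72,136,194,202], stb6_3,
    [[(4,false),(3,false),(3,false),(2,false),(2,false)],
      [(4,false),(4,false),(3,false),(2,false),(2,false)]],
    [[0,0,3,1,2,1],[0,0,0,3,2,2]]⟩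

/-- chain of a point stabiliser -/
def stb6_4 : List Lev := [
  { base := 6, new := [([197,195,143],[144,196,198]),([19,15,163],[164,16,20])],
    orbit := [(6,[]),
      (24,[0]),
      (25,[1]),
      (122,[0,1]),
      (206,[0,0]),
      (399,[1,0]),
      (32,[0,0,1]),
      (37,[1,0,1]),
      (285,[1,0,0]),
      (464,[0,0,0])],
    wit := [] }]

/-- an orbit -/
def root6_4 : Root :=
  ⟨[21,11,9,35,599], [600,36,10,12,22], 5, [201,195,143,113,601,600,36,10,12,22], [21,11,9,35,599,602,114,144,196,202], stb6_4,
    [[(4,false),(4,false),(3,false),(3,false),(2,false),(2,false),(2,false)],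
      [(4,false),(3,false),(2,false)]],
    [[0,0,2,0],[0,0,2,1]]⟩

/-- chain of a point stabiliser -/
def stb6_5 : List Lev := [
  { base := 6, new := [([199,193,133],[134,194,200]),([197,195,143],[144,196,198])],
    orbit := [(6,[]),
      (24,[1]),
      (32,[0]),
      (122,[0,1]),
      (206,[1,1]),
      (285,[1,0]),
      (25,[0,1,1]),
      (37,[0,1,0]),
      (399,[1,1,0]),
      (464,[1,1,1])],
    wit := [] }]

/-- an orbit -/
def root6_5 : Root :=
  ⟨[197,193,137,115,291], [292,116,138,194,198], 5, [19,193,135,83,613,292,116,138,194,198], [197,193,137,115,291,614,84,136,194,20], stb6_5,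
    [[(3,false),(4,false),(2,false),(3,false)],
      [(4,false),(4,false),(3,false),(3,false),(2,false),(2,false),(2,false)]],
    [[0,15,4,0],[0,24,2,1]]⟩

/-- chain of a point stabiliser -/
def stb6_6 : List Lev := [
  { base := 6, new := [([21,197,15,191],[192,16,198,22])],
    orbit := [(6,[]),
      (39,[0])],
    wit := [] }]

/-- an orbit -/
def root6_6 : Root :=
  ⟨[21,197,187,97,4], [4,98,188,198,22], 5, [21,17,167,33,471,4,98,188,198,22], [21,197,187,97,4,472,34,168,18,22], stb6_6,
    [[(4,false),(4,false),(3,false),(2,false)]],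
    [[0,17,1,1]]⟩

/-- chain of a point stabiliser -/
def stb6_7 : List Lev := [
  { base := 0, new := [([21,197,195,175,343],[344,176,196,198,22])],
    orbit := [(0,[]),
      (270,[0])],
    wit := [] },
  { base := 6, new := [([201,195,13],[14,196,202])],
    orbit := [(6,[]),
      (67,[0])],
    wit := [] }]

/-- an orbit -/
def root6_7 : Root :=
  ⟨[21,19,193,139,87,477], [478,88,140,194,20,22], 4, [21,199,193,147,59,327,478,88,140,194,20,22], [21,19,193,139,87,477,328,60,148,194,200,22], stb6_7,
    [[(4,false),(3,false),(3,false),(1,false)],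
      [(4,false),(4,false),(3,false),(2,false),(2,false),(2,false)]],
    [[2,0,0,1,2],[0,0,0,2,1]]⟩

/-- chain of a point stabiliser -/
def stb6_8 : List Lev := [
  { base := 0, new := [([143,343],[344,144])],
    orbit := [(0,[]),
      (270,[0])],
    wit := [] },
  { base := 9, new := [([21],[22])],
    orbit := [(9,[]),
      (482,[0])],
    wit := [] }]

/-- an orbit -/
def root6_8 : Root :=
  ⟨[199,11,151,23,619], [620,24,152,12,200], 6, [21,17,15,13,59,317,620,24,152,12,200], [199,11,151,23,619,318,60,14,16,18,22], stb6_8,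
    [[(4,false),(4,false),(2,false),(3,false),(1,false)],
      [(4,false),(3,false),(3,false)]],
    [[0,1,3,0,2],[0,0,4,1,2]]⟩

/-- chain of a point stabiliser -/
def stb6_9 : List Lev := [
  { base := 6, new := [([197,15,191],[192,16,198])],
    orbit := [(6,[]),
      (39,[0]),
      (101,[0,1]),
      (195,[0,0]),
      (285,[0,0,0])],
    wit := [] },
  { base := 9, new := [([21],[22])],
    orbit := [(9,[]),
      (482,[0])],
    wit := [] }]

/-- an orbit -/
def root6_9 : Root :=
  ⟨[191,105,637], [638,106,192], 5, [21,17,15,187,77,639,638,106,192], [191,105,637,640,78,188,16,18,22], stb6_9,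
    [[(4,false),(3,false),(4,false),(2,false)],
      [(4,false),(3,false),(3,false)]],
    [[0,20,3,0],[0,20,3,1]]⟩

/-- chain of a point stabiliser -/
def stb6_10 : List Lev := [
  { base := 6, new := [([199,167,343],[344,168,200])],
    orbit := [(6,[]),
      (1193,[0]),
      (408,[0,0]),
      (988,[0,1]),
      (65,[0,0,1]),
      (122,[0,1,0]),
      (1314,[0,0,0]),
      (58,[0,1,0,1]),
      (392,[0,0,0,0]),
      (862,[0,1,0,0]),
      (1074,[0,0,0,1]),
      (1144,[0,0,1,0]),
      (26,[0,0,0,0,1]),
      (391,[0,1,0,0,0]),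
      (409,[0,0,0,1,0]),
      (860,[0,0,1,0,1]),
      (914,[0,1,0,1,0]),
      (1223,[0,1,0,0,1]),
      (1406,[0,0,0,0,0]),
      (24,[0,1,0,0,0,1]),
      (66,[0,0,0,1,0,1]),
      (78,[0,1,0,1,0,0]),
      (101,[0,0,1,0,1,0]),
      (1109,[0,0,0,0,1,0]),
      (1360,[0,1,0,0,0,0]),
      (1374,[0,0,0,1,0,0]),
      (25,[0,1,0,1,0,0,1]),
      (32,[0,0,0,1,0,0,0]),
      (39,[0,0,1,0,1,0,1]),
      (399,[0,0,0,0,1,0,0]),
      (713,[0,0,0,1,0,1,0]),
      (732,[0,1,0,1,0,0,0]),
      (1009,[0,0,0,0,1,0,1]),
      (1085,[0,1,0,0,0,1,0]),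
      (1240,[0,0,1,0,1,0,0]),
      (59,[0,0,0,0,1,0,1,0]),
      (60,[0,1,0,0,0,1,0,0]),
      (67,[0,0,0,1,0,0,0,1]),
      (190,[0,1,0,1,0,0,0,0]),
      (206,[0,0,1,0,1,0,0,0]),
      (464,[0,0,0,1,0,1,0,0]),
      (758,[0,0,0,0,1,0,0,0]),
      (761,[0,0,1,0,1,0,0,1]),
      (926,[0,0,0,1,0,0,0,0]),
      (30,[0,0,0,1,0,1,0,0,1]),
      (37,[0,0,0,0,1,0,1,0,1]),
      (193,[0,0,1,0,1,0,0,0,1]),
      (950,[0,0,0,0,1,0,1,0,0]),
      (1079,[0,0,0,1,0,0,0,1,0]),
      (1123,[0,1,0,0,0,1,0,0,0]),
      (1157,[0,0,0,1,0,1,0,0,0]),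
      (1179,[0,0,1,0,1,0,0,0,0]),
      (31,[0,0,0,0,1,0,1,0,0,0]),
      (195,[0,0,0,1,0,1,0,0,0,0]),
      (285,[0,0,0,1,0,0,0,1,0,0]),
      (1168,[0,0,0,1,0,0,0,1,0,1]),
      (1263,[0,0,0,1,0,1,0,0,0,1]),
      (1347,[0,1,0,0,0,1,0,0,0,1]),
      (33,[0,0,0,0,1,0,1,0,0,0,1]),
      (728,[0,0,0,1,0,0,0,1,0,0,0])],
    wit := [] },
  { base := 9, new := [([21],[22])],
    orbit := [(9,[]),
      (482,[0])],
    wit := [] }]

/-- an orbit -/
def root6_10 : Root :=
  ⟨[197,195,173,649], [650,174,196,198], 3, [19,195,131,37,393,650,174,196,198], [197,195,173,649,394,38,132,196,20], stb6_10,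
    [[(4,false),(4,false),(3,false),(4,false),(1,false)],
      [(4,false),(3,false),(3,false)]],
    [[26,3,4,1,2,1],[0,6,2,4,3,2]]⟩

/-- chain of a point stabiliser -/
def stb6_11 : List Lev := [
  { base := 6, new := [([171],[172])],
    orbit := [(6,[]),
      (101,[0]),
      (39,[0,1]),
      (285,[0,0]),
      (195,[0,0,0])],
    wit := [] },
  { base := 9, new := [([21],[22])],
    orbit := [(9,[]),
      (482,[0])],
    wit := [] }]

/-- an orbit -/
def root6_11 : Root :=
  ⟨[21,19,11,123,103,653], [654,104,124,12,20,22], 4, [199,11,161,65,273,654,104,124,12,20,22], [21,19,11,123,103,653,274,66,162,12,200], stb6_11,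
    [[(3,false),(4,false),(2,false),(2,false)],
      [(4,false),(3,false),(3,false)]],
    [[0,0,3,1,2],[0,0,0,3,1]]⟩

/-- chain of a point stabiliser -/
def stb6_12 : List Lev := [
  { base := 6, new := [([21,17,193,169,343],[344,170,194,18,22])],
    orbit := [(6,[]),
      (860,[0]),
      (409,[0,0]),
      (1144,[0,1]),
      (37,[0,1,0]),
      (66,[0,0,1]),
      (1168,[0,0,0]),
      (59,[0,1,0,1]),
      (190,[0,0,0,0]),
      (758,[0,1,0,0]),
      (1079,[0,0,0,1]),
      (1109,[0,0,1,0]),
      (30,[0,0,1,0,0]),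
      (31,[0,0,0,1,0]),
      (39,[0,1,0,0,0]),
      (60,[0,0,0,0,1]),
      (713,[0,1,0,0,1]),
      (1009,[0,0,1,0,1]),
      (1123,[0,1,0,1,0]),
      (1223,[0,0,0,0,0]),
      (33,[0,0,0,1,0,1]),
      (78,[0,0,1,0,1,0]),
      (101,[0,1,0,0,0,1]),
      (195,[0,1,0,1,0,0]),
      (464,[0,0,1,0,0,1]),
      (862,[0,0,0,0,0,1]),
      (950,[0,0,0,0,1,0]),
      (1263,[0,0,0,1,0,0]),
      (1314,[0,0,1,0,0,0]),
      (1347,[0,1,0,1,0,1]),
      (1406,[0,1,0,0,0,0]),
      (25,[0,0,1,0,0,0,0]),
      (58,[0,1,0,0,0,0,0]),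
      (67,[0,0,0,0,0,1,0]),
      (285,[0,0,0,0,1,0,0]),
      (391,[0,1,0,1,0,1,0]),
      (399,[0,0,0,1,0,0,0]),
      (728,[0,0,1,0,0,1,0]),
      (732,[0,0,0,1,0,1,0]),
      (914,[0,1,0,0,0,0,1]),
      (1074,[0,0,1,0,0,0,1]),
      (1157,[0,0,0,1,0,0,1]),
      (1179,[0,0,0,0,1,0,1]),
      (1360,[0,1,0,1,0,0,0]),
      (24,[0,0,0,1,0,1,0,0]),
      (32,[0,0,0,0,0,1,0,1]),
      (65,[0,1,0,1,0,0,0,0]),
      (122,[0,1,0,0,0,0,0,1]),
      (193,[0,0,0,1,0,0,1,0]),
      (206,[0,0,1,0,0,1,0,0]),
      (392,[0,0,0,0,1,0,1,0]),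
      (761,[0,1,0,1,0,1,0,0]),
      (926,[0,0,0,1,0,1,0,1]),
      (1193,[0,0,1,0,0,0,0,0]),
      (1240,[0,0,0,0,0,1,0,0]),
      (1374,[0,1,0,1,0,0,0,1]),
      (26,[0,0,0,0,1,0,1,0,1]),
      (408,[0,1,0,1,0,0,0,0,1]),
      (988,[0,0,0,0,1,0,1,0,0]),
      (1085,[0,1,0,0,0,0,0,1,0])],
    wit := [] },
  { base := 9, new := [([21],[22])],
    orbit := [(9,[]),
      (482,[0])],
    wit := [] }]

/-- an orbit -/
def root6_12 : Root :=
  ⟨[201,195,159,673], [674,160,196,202], 4, [17,193,121,675,674,160,196,202], [201,195,159,673,676,122,194,18], stb6_12,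
    [[(4,false),(3,false),(3,false),(2,false),(2,false),(2,false),(1,false)],
      [(4,false),(3,false),(3,false)]],
    [[2,0,1,3,1],[0,0,1,1,1]]⟩

/-- chain of a point stabiliser -/
def stb6_13 : List Lev := [
  { base := 6, new := [([21,197,15,191],[192,16,198,22])],
    orbit := [(6,[]),
      (39,[0])],
    wit := [] }]

/-- an orbit -/
def root6_13 : Root :=
  ⟨[17,193,139,75,265], [266,76,140,194,18], 5, [197,117,39,691,266,76,140,194,18], [17,193,139,75,265,692,40,118,198], stb6_13,
    [[(4,false),(4,false),(3,false),(2,false)]],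
    [[0,12,3,0]]⟩

/-- chain of a point stabiliser -/
def stb6_14 : List Lev := [
  { base := 6, new := [([11,7],[8,12]),([197,193,139],[140,194,198])],
    orbit := [(6,[]),
      (30,[1]),
      (33,[0]),
      (58,[1,0]),
      (60,[1,1]),
      (101,[0,1]),
      (32,[0,1,1]),
      (206,[0,1,0]),
      (399,[1,1,0]),
      (409,[1,1,1])],
    wit := [] }]

/-- an orbit -/
def root6_14 : Root :=
  ⟨[197,193,169,83,697], [698,84,170,194,198], 6, [21,17,153,65,209,698,84,170,194,198], [197,193,169,83,697,210,66,154,18,22], stb6_14,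
    [[(3,false),(4,false),(2,false),(2,false),(2,false)],
      [(4,false),(4,false),(3,false),(3,false),(2,false)]],
    [[0,0,2,1,2],[0,0,2,2,1]]⟩

/-- chain of a point stabiliser -/
def stb6_15 : List Lev := [
  { base := 6, new := [([21,117,343],[344,118,22])],
    orbit := [(6,[]),
      (862,[0]),
      (391,[0,0]),
      (1223,[0,1]),
      (24,[0,0,1]),
      (60,[0,1,0]),
      (1123,[0,0,0]),
      (37,[0,0,0,0]),
      (190,[0,1,0,1]),
      (926,[0,0,1,0]),
      (1347,[0,0,0,1]),
      (1360,[0,1,0,0]),
      (25,[0,0,0,1,0]),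
      (59,[0,0,0,0,1]),
      (193,[0,0,1,0,0]),
      (285,[0,1,0,0,0]),
      (732,[0,0,1,0,1]),
      (860,[0,0,0,0,0]),
      (1079,[0,1,0,1,0]),
      (1374,[0,1,0,0,1]),
      (31,[0,0,1,0,1,0]),
      (39,[0,1,0,1,0,0]),
      (78,[0,0,0,1,0,1]),
      (195,[0,1,0,0,0,1]),
      (206,[0,0,1,0,0,1]),
      (1074,[0,0,0,1,0,0]),
      (1144,[0,0,0,0,0,1]),
      (1168,[0,1,0,1,0,1]),
      (1179,[0,1,0,0,0,0]),
      (1263,[0,0,1,0,0,0]),
      (1406,[0,0,0,0,1,0]),
      (33,[0,0,1,0,0,0,0]),
      (66,[0,1,0,1,0,1,0]),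
      (67,[0,1,0,0,0,0,0]),
      (101,[0,0,0,0,1,0,0]),
      (122,[0,0,0,0,0,1,0]),
      (399,[0,0,0,1,0,0,0]),
      (713,[0,1,0,1,0,0,0]),
      (728,[0,0,1,0,0,1,0]),
      (914,[0,0,0,0,1,0,1]),
      (950,[0,1,0,0,0,0,1]),
      (1109,[0,0,0,1,0,1,0]),
      (1157,[0,0,1,0,0,0,1]),
      (1314,[0,0,0,1,0,0,1]),
      (30,[0,0,1,0,0,1,0,0]),
      (32,[0,1,0,0,0,0,0,1]),
      (58,[0,0,0,0,0,1,0,1]),
      (392,[0,1,0,1,0,0,0,0]),
      (408,[0,0,0,0,1,0,1,0]),
      (409,[0,0,0,1,0,1,0,0]),
      (464,[0,0,0,1,0,0,1,0]),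
      (758,[0,1,0,1,0,0,0,1]),
      (761,[0,0,1,0,0,0,0,0]),
      (988,[0,1,0,1,0,1,0,0]),
      (1009,[0,0,0,1,0,1,0,1]),
      (1193,[0,0,0,0,0,1,0,0]),
      (26,[0,1,0,1,0,0,0,0,1]),
      (65,[0,0,0,0,1,0,1,0,1]),
      (1085,[0,1,0,0,0,0,0,1,0]),
      (1240,[0,0,0,0,1,0,1,0,0])],
    wit := [] },
  { base := 9, new := [([21],[22])],
    orbit := [(9,[]),
      (482,[0])],
    wit := [] }]

/-- an orbit -/
def root6_15 : Root :=
  ⟨[201,195,119,287], [288,120,196,202], 4, [21,201,145,57,709,288,120,196,202], [201,195,119,287,710,58,146,202,22], stb6_15,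
    [[(4,false),(4,false),(2,false),(2,false),(1,false)],
      [(4,false),(3,false),(3,false)]],
    [[2,2,1,0,1],[0,2,1,3,0]]⟩

/-- chain of a point stabiliser -/
def stb6_16 : List Lev := [
  { base := 0, new := [([15,119,343],[344,120,16])],
    orbit := [(0,[]),
      (270,[0])],
    wit := [] },
  { base := 6, new := [([21,199,193,175],[176,194,200,22])],
    orbit := [(6,[]),
      (65,[0]),
      (392,[0,0]),
      (408,[0,1]),
      (26,[0,0,1]),
      (399,[0,0,1,0])],
    wit := [] },
  { base := 9, new := [([21],[22])],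
    orbit := [(9,[]),
      (482,[0])],
    wit := [] }]

/-- an orbit -/
def root6_16 : Root :=
  ⟨[17,15,187,85,4], [4,86,188,16,18], 6, [21,183,55,205,4,86,188,16,18], [17,15,187,85,4,206,56,184,22], stb6_16,
    [[(4,false),(2,false),(3,false),(1,false)],
      [(4,false),(4,false)],
      [(4,false),(3,false),(3,false)]],
    [[0,1,0,1,0],[0,0,3,1,2],[0,0,1,1,0]]⟩

/-- chain of a point stabiliser -/
def stb6_17 : List Lev := [
  { base := 6, new := [([19,15,147],[148,16,20]),([21,19,195,121,343],[344,122,196,20,22])],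
    orbit := [(6,[]),
      (66,[0]),
      (1374,[1]),
      (31,[1,1]),
      (60,[0,0]),
      (1009,[0,1]),
      (1406,[1,0]),
      (26,[1,0,1]),
      (67,[0,1,1]),
      (391,[1,1,0]),
      (728,[0,0,1]),
      (758,[1,1,1]),
      (1074,[0,1,0]),
      (1347,[1,0,0]),
      (32,[1,1,0,0]),
      (37,[0,0,1,1]),
      (58,[1,0,1,0]),
      (285,[0,1,0,1]),
      (732,[0,0,1,0]),
      (988,[0,1,0,0]),
      (1157,[1,0,1,1]),
      (1314,[1,1,0,1]),
      (408,[0,1,0,1,0]),
      (1168,[0,1,0,1,1])],
    wit := [] }]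

/-- an orbit -/
def root6_17 : Root :=
  ⟨[21,183,55,207], [208,56,184,22], 6, [17,15,187,85,209,208,56,184,22], [21,183,55,207,210,86,188,16,18], stb6_17,
    [[(4,false),(3,false),(3,false),(2,false)],
      [(4,false),(2,false),(2,false),(1,false)]],
    [[0,0,0,1,1],[0,1,3,2,2]]⟩

/-- chain of a point stabiliser -/
def stb6_18 : List Lev := [
  { base := 9, new := [([21],[22])],
    orbit := [(9,[]),
      (482,[0])],
    wit := [] }]

/-- an orbit -/
def root6_18 : Root :=
  ⟨[21,201,11,119,73,385], [386,74,120,12,202,22], 6, [21,201,193,117,59,641,386,74,120,12,202,22], [21,201,11,119,73,385,642,60,118,194,202,22], stb6_18,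
    [[(4,false),(3,false),(3,false)]],
    [[0,0,1,1,2]]⟩

/-- chain of a point stabiliser -/
def stb6_19 : List Lev := [
  { base := 6, new := [([21,199,15,133,343],[344,134,16,200,22])],
    orbit := [(6,[]),
      (988,[0]),
      (58,[0,0]),
      (1193,[0,1]),
      (65,[0,1,0]),
      (122,[0,0,1]),
      (1406,[0,0,0]),
      (408,[0,1,0,1]),
      (860,[0,1,0,0]),
      (914,[0,0,0,1]),
      (1223,[0,0,1,0]),
      (25,[0,0,0,1,0]),
      (39,[0,1,0,0,0]),
      (862,[0,0,1,0,1]),
      (1074,[0,1,0,1,0]),
      (1144,[0,1,0,0,1]),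
      (24,[0,0,1,0,1,0]),
      (66,[0,1,0,1,0,0]),
      (78,[0,0,0,1,0,1]),
      (101,[0,1,0,0,0,1]),
      (392,[0,1,0,0,1,0]),
      (1314,[0,1,0,1,0,1]),
      (26,[0,1,0,0,1,0,1]),
      (391,[0,0,1,0,1,0,1]),
      (409,[0,1,0,1,0,0,1]),
      (758,[0,1,0,1,0,0,0]),
      (761,[0,1,0,0,0,1,0]),
      (926,[0,0,0,1,0,1,0]),
      (1085,[0,0,1,0,1,0,0]),
      (59,[0,0,0,1,0,1,0,0]),
      (190,[0,0,1,0,1,0,0,0]),
      (713,[0,1,0,1,0,0,0,1]),
      (732,[0,0,0,1,0,1,0,1]),
      (1009,[0,1,0,0,1,0,1,0]),
      (1240,[0,1,0,0,0,1,0,1]),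
      (1360,[0,1,0,1,0,0,1,0]),
      (1374,[0,0,1,0,1,0,1,0]),
      (30,[0,1,0,1,0,0,0,1,0]),
      (37,[0,0,0,1,0,1,0,0,1]),
      (60,[0,0,0,1,0,1,0,1,0]),
      (67,[0,0,1,0,1,0,1,0,0]),
      (193,[0,1,0,0,0,1,0,1,0]),
      (1109,[0,1,0,0,1,0,1,0,1]),
      (1179,[0,0,0,1,0,1,0,0,0]),
      (32,[0,0,1,0,1,0,1,0,0,1]),
      (206,[0,1,0,0,0,1,0,1,0,1]),
      (399,[0,1,0,0,1,0,1,0,1,0]),
      (464,[0,1,0,1,0,0,0,1,0,1]),
      (950,[0,0,0,1,0,1,0,0,0,1]),
      (1079,[0,1,0,0,0,1,0,1,0,0]),
      (1168,[0,0,1,0,1,0,1,0,0,0]),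
      (1347,[0,0,0,1,0,1,0,1,0,0]),
      (33,[0,0,0,1,0,1,0,0,0,1,0]),
      (195,[0,1,0,0,0,1,0,1,0,0,0]),
      (1123,[0,0,0,1,0,1,0,1,0,0,1]),
      (1263,[0,1,0,1,0,0,0,1,0,1,0]),
      (31,[0,0,0,1,0,1,0,0,0,1,0,1]),
      (285,[0,1,0,0,0,1,0,1,0,0,0,1]),
      (1157,[0,1,0,1,0,0,0,1,0,1,0,1]),
      (728,[0,1,0,0,0,1,0,1,0,0,0,1,0])],
    wit := [] },
  { base := 9, new := [([21],[22])],
    orbit := [(9,[]),
      (482,[0])],
    wit := [] }]

/-- an orbit -/
def root6_19 : Root :=
  ⟨[21,11,7,113,547], [548,114,8,12,22], 6, [21,19,15,147,113,543,548,114,8,12,22], [21,11,7,113,547,544,114,148,16,20,22], stb6_19,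
    [[(4,false),(4,false),(3,false),(3,false),(2,false),(2,false),(2,false),(1,false)],
      [(4,false),(3,false),(3,false)]],
    [[0,1,3,0,0],[0,0,4,0,1]]⟩

/-- chain of a point stabiliser -/
def stb6_20 : List Lev := [
  { base := 0, new := [([19,193,7,343],[344,8,194,20])],
    orbit := [(0,[]),
      (270,[0])],
    wit := [] }]

/-- an orbit -/
def root6_20 : Root :=
  ⟨[197,11,151,111,701], [702,112,152,12,198], 6, [21,17,195,137,101,713,702,112,152,12,198], [197,11,151,111,701,714,102,138,196,18,22], stb6_20,
    [[(4,false),(4,false),(3,false),(2,false),(2,false),(2,false),(1,false)]],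
    [[0,1,1,0,2]]⟩

/-- chain of a point stabiliser -/
def stb6_21 : List Lev := [
  { base := 0, new := [([201,195,165,343],[344,166,196,202])],
    orbit := [(0,[]),
      (270,[0])],
    wit := [] }]

/-- an orbit -/
def root6_21 : Root :=
  ⟨[21,17,195,137,101,565], [566,102,138,196,18,22], 6, [197,11,151,111,695,566,102,138,196,18,22], [21,17,195,137,101,565,696,112,152,12,198], stb6_21,
    [[(4,false),(4,false),(2,false),(1,false)]],
    [[0,1,4,1,2]]⟩

/-- chain of a point stabiliser -/
def stb6_22 : List Lev := [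
  { base := 6, new := [([19,15,9],[10,16,20])],
    orbit := [(6,[]),
      (193,[0]),
      (66,[0,0]),
      (206,[0,1]),
      (59,[0,1,0]),
      (190,[0,0,0]),
      (409,[0,0,1]),
      (37,[0,1,0,1]),
      (60,[0,0,0,1]),
      (392,[0,1,0,0]),
      (408,[0,0,1,0]),
      (464,[0,0,0,0]),
      (25,[0,0,0,1,0]),
      (26,[0,1,0,0,1]),
      (30,[0,0,0,0,1]),
      (65,[0,0,1,0,1]),
      (285,[0,1,0,0,0]),
      (391,[0,1,0,1,0]),
      (24,[0,1,0,0,1,0]),
      (32,[0,0,0,0,1,0]),
      (33,[0,0,1,0,1,0]),
      (58,[0,1,0,0,0,0]),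
      (78,[0,0,0,1,0,1]),
      (101,[0,1,0,1,0,0]),
      (195,[0,0,0,1,0,0]),
      (31,[0,0,1,0,1,0,1]),
      (39,[0,1,0,1,0,0,1]),
      (67,[0,0,0,0,1,0,1]),
      (122,[0,1,0,0,0,0,1]),
      (399,[0,1,0,0,0,0,1,0])],
    wit := [] },
  { base := 9, new := [([21],[22])],
    orbit := [(9,[]),
      (482,[0])],
    wit := [] }]

/-- an orbit -/
def root6_22 : Root :=
  ⟨[19,193,129,61,0], [1,62,130,194,20], 6, [21,19,11,153,57,1,1,62,130,194,20], [19,193,129,61,0,0,58,154,12,20,22], stb6_22,
    [[(2,false),(2,false),(2,false)],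
      [(4,false),(3,false),(3,false)]],
    [[0,0,1,3,2],[0,0,0,2,1]]⟩

/-- chain of a point stabiliser -/
def stb6_23 : List Lev := [
  { base := 0, new := [([21,143,343],[344,144,22])],
    orbit := [(0,[]),
      (270,[0])],
    wit := [] }]

/-- an orbit -/
def root6_23 : Root :=
  ⟨[199,11,177,37,717], [718,38,178,12,200], 6, [175,85,719,718,38,178,12,200], [199,11,177,37,717,720,86,176], stb6_23,
    [[(3,false),(4,false),(2,false),(3,false),(1,false)]],
    [[0,1,1,0,2]]⟩

/-- chain of a point stabiliser -/
def stb6_24 : List Lev := [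
  { base := 0, new := [([201,195,165,343],[344,166,196,202])],
    orbit := [(0,[]),
      (270,[0])],
    wit := [] }]

/-- an orbit -/
def root6_24 : Root :=
  ⟨[175,85,615], [616,86,176], 6, [199,11,177,37,721,616,86,176], [175,85,615,722,38,178,12,200], stb6_24,
    [[(4,false),(4,false),(2,false),(1,false)]],
    [[0,1,3,3,0]]⟩

/-- chain of a point stabiliser -/
def stb6_25 : List Lev := [
  { base := 0, new := [([21,201,11,147,343],[344,148,12,202,22])],
    orbit := [(0,[]),
      (270,[0])],
    wit := [] },
  { base := 6, new := [([21,19,193,149],[150,194,20,22])],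
    orbit := [(6,[]),
      (26,[0]),
      (392,[0,1]),
      (408,[0,0]),
      (65,[0,0,1]),
      (399,[0,0,1,0])],
    wit := [] },
  { base := 9, new := [([21],[22])],
    orbit := [(9,[]),
      (482,[0])],
    wit := [] }]

/-- an orbit -/
def root6_25 : Root :=
  ⟨[197,11,175,95,663], [664,96,176,12,198], 6, [21,201,195,117,95,675,664,96,176,12,198], [197,11,175,95,663,676,96,118,196,202,22], stb6_25,
    [[(4,false),(4,false),(3,false),(2,false),(3,false),(1,false)],
      [(4,false),(4,false),(3,false),(4,false)],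
      [(4,false),(3,false),(3,false)]],
    [[0,1,0,3,0],[0,0,0,1,1],[0,0,4,0,1]]⟩

/-- chain of a point stabiliser -/
def stb6_26 : List Lev := [
  { base := 0, new := [([21,19,11,157,343],[344,158,12,20,22])],
    orbit := [(0,[]),
      (270,[0])],
    wit := [] },
  { base := 6, new := [([197,125],[126,198])],
    orbit := [(6,[]),
      (58,[0])],
    wit := [] }]

/-- an orbit -/
def root6_26 : Root :=
  ⟨[21,201,11,163,43,731], [732,44,164,12,202,22], 7, [21,19,153,61,203,732,44,164,12,202,22], [21,201,11,163,43,731,204,62,154,20,22], stb6_26,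
    [[(3,false),(3,false),(2,false),(2,false),(1,false)],
      [(3,false),(2,false)]],
    [[68,0],[69,2]]⟩

/-- chain of a point stabiliser -/
def stb6_27 : List Lev := [
  { base := 0, new := [([21,143,343],[344,144,22])],
    orbit := [(0,[]),
      (270,[0])],
    wit := [] },
  { base := 9, new := [([21],[22])],
    orbit := [(9,[]),
      (482,[0])],
    wit := [] }]

/-- an orbit -/
def root6_27 : Root :=
  ⟨[21,11,177,115,743], [744,116,178,12,22], 7, [201,195,173,77,1,744,116,178,12,22], [21,11,177,115,743,0,78,174,196,202], stb6_27,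
    [[(3,false),(4,false),(2,false),(3,false),(1,false)],
      [(4,false),(3,false),(3,false)]],
    [[31,1],[69,2]]⟩

/-- chain of a point stabiliser -/
def stb6_28 : List Lev := [
  { base := 9, new := [([21],[22])],
    orbit := [(9,[]),
      (482,[0])],
    wit := [] }]

/-- an orbit -/
def root6_28 : Root :=
  ⟨[21,197,15,119,83,751], [752,84,120,16,198,22], 7, [21,11,139,115,211,752,84,120,16,198,22], [21,197,15,119,83,751,212,116,140,12,22], stb6_28,
    [[(4,false),(3,false),(3,false)]],
    [[100,4]]⟩

/-- chain of a point stabiliser -/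
def stb6_29 : List Lev := [
  { base := 0, new := [([201,11,145,343],[344,146,12,202])],
    orbit := [(0,[]),
      (270,[0])],
    wit := [] },
  { base := 6, new := [([15,177],[178,16])],
    orbit := [(6,[]),
      (392,[0]),
      (26,[0,1]),
      (408,[0,0]),
      (65,[0,0,1]),
      (399,[0,0,1,0])],
    wit := [] },
  { base := 9, new := [([21],[22])],
    orbit := [(9,[]),
      (482,[0])],
    wit := [] }]

/-- an orbit -/
def root6_29 : Root :=
  ⟨[5,205], [206,6], 8, [206,6], [5,205], stb6_29,
    [[(4,false),(3,false),(2,false),(3,false),(1,false)],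
      [(3,false)],
      [(4,false),(3,false),(3,false)]],
    [[28,7,0,0,0,1],[0,0,2,0,1,0],[30,7,0,1,0,1]]⟩

/-- state 6 -/
def st6 : St :=
  ⟨k6, 240, 0x1400601501501c00801801201700701401b01701701201800d01400701501801701501c01400d01801700801b01801b01400600700d01701501401801a01501800801201701800601501501501501801801700d01c01501501700601201401701a01801501801500d01a01a01500700701a01401b00800701a01401801b01701500801800801b01a01501400600701801701801401401500d01701701401701401b01c01501201800801701801a00700800d01801801201401501c01b01a01401701701501401501c01401701701801a00701800801401500600801801b01701801401701401b01701501400700801b01701c01401201a00701400600701701501701401b01c01401c01800d01201701a00701400600d00701201700d00700801b01501701701701201801701201700501201401201800d01401c00701c01401400601401501c01a01b00301700d01a00700801701400601401401c01501401c01400e01a01500601801201801700d00d01b00800401400601401801401b01a01401a00d01801801801200601501800d01400601401a01200d00d00300d01701501b01a00601a01401700601401800800d01800d01c01401501801c01501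500601c01c00d01b01a00701401801400601201801800d01701800d01801501201501200300601701b01700e01200601501c01501400600600d00800700501801201801400d01a01701200801501800d01801501701a01201701201700601801a00700301b00d01c01401c00d00d00601401d00600500900601500700801801701700d01b01c01c01701201c01801400601c00600d01500600700800e01701c01b00801501700500d00301701201501800801b01801b00601501c01401c01501501c01a01201701500601c01200601801200601801700d01201c01801800d00801b00401701c01501501801200600d00601400401a01b00801401501400601200d01500d00600d01800901401401c01401c00600601401700801b00800700501200600d00d00601501401701c00401a01c01c01c01501701701501401801801200d01500600d01701401c01a00d01701501401c01700d01700700601701501701701500601b01801401201c01401201801500700601500601501201400600d01801401c01401701501a00600d01801701500700800e01201801400700800701a00e00e01a01c01701501c01201801a01801500d01700300700501701200d01c00600701c01800701201800d00600400301800701c00d01200600d01801201801400d00b00d00401001b01201700401c01b01701500600801b01a00701801801501801701201401c0150150060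1401500601501701c00601801800d01c01501701c01501701201401501c01801200d01c01c01200401400601201800500601200d00501701200600601401401c01200801401700601400401b00301c01201400d01801c01700600801c01c01c00500d01501701200801201701700d01701801201700d01201b00d01c01401c01200600701a00e01501c01501401c01501800401a00d01c00600500300d00d01401501c01201800601800d01c01201701500d01400601501700601501501201101d01500601201901a01501700e00401401400601901a01c00d01701700700701801801701800701901801701701201501c00701401800d00600600b00e01201401801c01a00700500e00d00600901400601501401800701500b00800b00801201701201701401500600801b00301a01201501501d01200b00401200d00501401500801201201c00900e01500801201401501700e01801b01000800601201800d01b01a01b01701401401801401b01a01501801800d01a01b01701401400601b01200b00401a01501501700901001b01700d01a01a01201801500601201200d00900300400b00d00d01a01c00d01801500d01b01a00e00301501500600601200b01801701401b01a00d00500e01b01801500601201701801501a01c00d01700900700901701700700b01c01401c00701801400e00801201801701401200800700800400501a01b01c01c002016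00b00600600d01701700d01d01a01b01000601c00900501c00d01b00600600e00301801700701c00d01d01c01c00901c01c00d00b00301701801500700801200300400100000900701701401c00d01801701400301500801201201100701201c01501500600801b00d00d00801401801801401501401800801b01100801701401501500601b01c01901900701a01201801801801200700800701801500801401800400500e00301801200801c00900501b00801501701701501400b00601001201101100800700601401401400600801b00f00201d00d00501b01c01400600d01d00401401c00701a00600b00d00800b00c01601901c00400701701400d01c00701701501200900d01201101c01a01401800600d01a01401700301c00501800d01a01b01200900600401001b01201300101000600e00e00800d01800901200700800d00601000600e00b00600d00d00d00b01c01901c00d01c01b01801501200601b01801400400d01a01201700600d01a01a01c01901d00d01c00d00500301701200800700d00901c00300e01500601b00801c00b01200e00500b01201101201c01201c00e01b00801c00900a00001100601201200300901c01c00400301200b01c00700601500b00d01c00701a00700601201101c01c00000500900801501701c01200801501800501b01c01901c00901200601201201201c01200300901201c01c00600600600900d01d00d00600600600d00d00d00d01600d00d00d01c00400b01c00d00d01201201200b00601000601201201200600600600601200100200600600601d00900501901200c01c00e01000b00f00d00b00400301100900601300a000001016002,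 tree6, [root6_0,root6_1,root6_2,root6_3,root6_4,root6_5,root6_6,root6_7,root6_8,root6_9,root6_10,root6_11,root6_12,root6_13,root6_14,root6_15,root6_16,root6_17,root6_18,root6_19,root6_20,root6_21,root6_22,root6_23,root6_24,root6_25,root6_26,root6_27,root6_28,root6_29]⟩

end CfsgLib.HN
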