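import Cfsg.Agent.Lib.DCoset.Orbits
import Cfsg.Agent.Lib.HN.ChainData

/-!
State 7.
-/

set_option autoImplicit false
set_option linter.style.longLine false

namespace CfsgLib.HN
open CfsgLib.CosetEnum CfsgLib.DCoset CfsgLib.DCoset.Space
/-- part 0 of `tree7` -/
def tree7P0 : List (Bool × ℕ × ℕ) := [
  (true,0,0),
  (false,0,3),
  (false,1,3),
  (false,2,3),
  (false,0,1271),
  (false,1,1271),
  (false,2,1271),
  (false,0,420),
  (false,1,420),
  (false,2,420),
  (false,0,635),
  (false,1,635),
  (false,2,635),
  (false,0,571),
  (false,1,571),
  (false,2,571),
  (false,0,237),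
  (false,1,237),
  (false,2,237),
  (false,1,1194),
  (false,2,1194),
  (false,0,990),
  (false,1,990),
  (false,2,990),
  (false,0,620),
  (false,1,620),
  (false,2,620),
  (false,0,651),
  (false,1,651),
  (false,2,651),
  (false,0,870),
  (false,1,870),
  (false,2,870),
  (false,0,84),
  (false,2,84),
  (false,0,504),
  (false,1,504),
  (false,2,504),
  (false,0,1177),
  (false,2,1177),
  (false,0,438),
  (false,1,438),
  (false,2,438),
  (false,0,401),
  (false,1,401),
  (false,2,401),
  (false,0,995),
  (false,1,995),
  (false,2,995),
  (false,1,1313),
  (false,2,1313),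
  (false,0,40),
  (false,1,40),
  (false,2,40),
  (false,0,1350),
  (false,1,1350),
  (false,2,1350),
  (false,1,194),
  (false,2,194),
  (false,0,338),
  (false,1,338),
  (false,2,338),
  (false,1,1111),
  (false,2,1111),
  (false,2,31),
  (false,0,185),
  (false,1,185),
  (false,2,185),
  (false,0,286),
  (false,1,286),
  (false,2,215),
  (false,0,1341),
  (false,1,1341),
  (false,1,935),
  (false,1,754),
  (false,2,754),
  (false,0,242),
  (false,0,761),
  (false,1,761),
  (false,2,761),
  (false,0,1340),
  (false,1,1340),
  (false,2,1340),
  (false,1,516),
  (false,2,516),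
  (false,0,368),
  (false,0,546),
  (false,1,546),
  (false,2,546),
  (false,0,440),
  (false,1,440),
  (false,2,440),
  (false,0,567),
  (false,1,365),
  (false,1,908),
  (false,2,908),
  (false,1,674),
  (false,0,35),
  (false,2,35),
  (false,0,535)]

/-- part 1 of `tree7` -/
def tree7P1 : List (Bool × ℕ × ℕ) := [
  (false,1,535),
  (false,1,202),
  (false,1,1360),
  (false,1,967),
  (false,2,967),
  (false,0,1263),
  (false,1,1263),
  (false,0,70),
  (false,0,508),
  (false,1,508),
  (false,2,17),
  (false,0,43),
  (false,1,43),
  (false,1,75),
  (false,2,75),
  (false,1,989),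
  (false,0,768),
  (false,1,768),
  (false,1,1243),
  (false,2,1243),
  (false,1,921),
  (false,1,156),
  (false,1,214),
  (false,1,1249),
  (false,0,1188),
  (false,1,1188),
  (false,1,1214),
  (false,2,1214),
  (false,0,785),
  (false,1,785),
  (false,2,1137),
  (false,2,593),
  (false,0,398),
  (false,1,398),
  (false,2,297),
  (false,1,580),
  (false,2,580),
  (false,1,1220),
  (false,1,422),
  (false,1,451),
  (false,1,1089),
  (false,0,134),
  (false,2,1331),
  (false,0,609),
  (false,1,1161),
  (false,1,1073),
  (false,1,1084),
  (false,1,163),
  (false,1,203),
  (false,1,805),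
  (false,0,1368),
  (false,1,1061),
  (false,1,427),
  (false,0,915),
  (false,2,915),
  (false,2,1045),
  (false,2,952),
  (false,0,749),
  (false,0,341),
  (false,2,65),
  (true,1,0),
  (false,0,0),
  (false,1,0),
  (false,2,0),
  (false,0,1365),
  (false,1,1365),
  (false,2,1365),
  (false,0,680),
  (false,1,680),
  (false,2,680),
  (false,0,621),
  (false,1,621),
  (false,2,621),
  (false,0,503),
  (false,1,503),
  (false,2,503),
  (false,0,171),
  (false,1,171),
  (false,2,171),
  (false,1,1078),
  (false,2,1078),
  (false,0,911),
  (false,1,911),
  (false,2,911),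
  (false,0,699),
  (false,1,699),
  (false,2,699),
  (false,0,695),
  (false,1,695),
  (false,2,695),
  (false,0,1237),
  (false,1,1237),
  (false,2,1237),
  (false,0,102),
  (false,2,102),
  (false,0,797),
  (false,1,797),
  (false,2,797),
  (false,0,762),
  (false,2,762)]

/-- part 2 of `tree7` -/
def tree7P2 : List (Bool × ℕ × ℕ) := [
  (false,0,299),
  (false,1,299),
  (false,2,299),
  (false,0,279),
  (false,1,279),
  (false,2,279),
  (false,0,596),
  (false,1,596),
  (false,2,596),
  (false,1,1324),
  (false,2,1324),
  (false,0,186),
  (false,1,186),
  (false,2,186),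
  (false,0,1251),
  (false,1,1251),
  (false,2,1251),
  (false,1,162),
  (false,2,162),
  (false,0,849),
  (false,1,849),
  (false,2,849),
  (false,1,712),
  (false,2,712),
  (false,2,133),
  (false,0,39),
  (false,1,39),
  (false,2,39),
  (false,0,788),
  (false,1,788),
  (false,2,150),
  (false,0,1276),
  (false,1,1276),
  (false,1,717),
  (false,1,906),
  (false,2,906),
  (false,0,177),
  (false,0,1176),
  (false,1,1176),
  (false,2,1176),
  (false,0,1279),
  (false,1,1279),
  (false,2,1279),
  (false,1,292),
  (false,2,292),
  (false,0,455),
  (false,0,477),
  (false,1,477),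
  (false,2,477),
  (false,0,293),
  (false,1,293),
  (false,2,293),
  (false,0,655),
  (false,1,412),
  (false,1,945),
  (false,2,945),
  (false,1,703),
  (false,0,45),
  (false,2,45),
  (false,0,576),
  (false,1,576),
  (false,1,169),
  (false,1,1274),
  (false,1,953),
  (false,2,953),
  (false,0,1403),
  (false,1,1403),
  (false,0,235),
  (false,0,307),
  (false,1,307),
  (false,2,6),
  (false,0,189),
  (false,1,189),
  (false,1,54),
  (false,2,54),
  (false,1,1197),
  (false,0,756),
  (false,1,756),
  (false,1,1402),
  (false,2,1402),
  (false,1,947),
  (false,1,221),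
  (false,1,149),
  (false,1,1269),
  (false,0,1070),
  (false,1,1070),
  (false,1,1102),
  (false,2,1102),
  (false,0,628),
  (false,1,628),
  (false,2,1007),
  (false,2,480),
  (false,0,649),
  (false,1,649),
  (false,2,662),
  (false,1,540),
  (false,2,540),
  (false,1,846),
  (false,1,1037),
  (false,1,361)]

/-- part 3 of `tree7` -/
def tree7P3 : List (Bool × ℕ × ℕ) := [
  (false,1,893),
  (false,0,160),
  (false,2,1357),
  (false,0,519),
  (false,1,673),
  (false,1,780),
  (false,1,740),
  (false,1,195),
  (false,1,170),
  (false,1,878),
  (false,0,1272),
  (false,1,855),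
  (false,1,524),
  (false,0,1098),
  (false,2,1098),
  (false,2,922),
  (false,2,1013),
  (false,0,1140),
  (false,0,352),
  (false,2,117),
  (true,2,0),
  (false,0,1),
  (false,1,1),
  (false,2,1),
  (false,0,1375),
  (false,1,1375),
  (false,2,1375),
  (false,0,416),
  (false,1,416),
  (false,2,416),
  (false,0,724),
  (false,1,724),
  (false,2,724),
  (false,0,439),
  (false,1,439),
  (false,2,439),
  (false,0,222),
  (false,1,222),
  (false,2,222),
  (false,1,1167),
  (false,2,1167),
  (false,0,843),
  (false,1,843),
  (false,2,843),
  (false,0,723),
  (false,1,723),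
  (false,2,723),
  (false,0,741),
  (false,1,741),
  (false,2,741),
  (false,0,1058),
  (false,1,1058),
  (false,2,1058),
  (false,0,197),
  (false,2,197),
  (false,0,296),
  (false,1,296),
  (false,2,296),
  (false,0,1096),
  (false,2,1096),
  (false,0,507),
  (false,1,507),
  (false,2,507),
  (false,0,328),
  (false,1,328),
  (false,2,328),
  (false,0,737),
  (false,1,737),
  (false,2,737),
  (false,1,1367),
  (false,2,1367),
  (false,0,118),
  (false,1,118),
  (false,2,118),
  (false,0,1259),
  (false,1,1259),
  (false,2,1259),
  (false,1,99),
  (false,2,99),
  (false,0,611),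
  (false,1,611),
  (false,2,611),
  (false,1,819),
  (false,2,819),
  (false,2,76),
  (false,0,63),
  (false,1,63),
  (false,2,63),
  (false,0,933),
  (false,1,933),
  (false,2,141),
  (false,0,1380),
  (false,1,1380),
  (false,1,630),
  (false,1,783),
  (false,2,783),
  (false,0,228),
  (false,0,1210),
  (false,1,1210),
  (false,2,1210)]

/-- part 4 of `tree7` -/
def tree7P4 : List (Bool × ℕ × ℕ) := [
  (false,0,1277),
  (false,1,1277),
  (false,2,1277),
  (false,1,330),
  (false,2,330),
  (false,0,367),
  (false,0,386),
  (false,1,386),
  (false,2,386),
  (false,0,501),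
  (false,1,501),
  (false,2,501),
  (false,0,432),
  (false,1,411),
  (false,1,710),
  (false,2,710),
  (false,1,739),
  (false,0,69),
  (false,2,69),
  (false,0,356),
  (false,1,356),
  (false,1,109),
  (false,1,1363),
  (false,1,1014),
  (false,2,1014),
  (false,0,1297),
  (false,1,1297),
  (false,0,46),
  (false,0,304),
  (false,1,304),
  (false,2,12),
  (false,0,116),
  (false,1,116),
  (false,1,131),
  (false,2,131),
  (false,1,691),
  (false,0,1090),
  (false,1,1090),
  (false,1,1282),
  (false,2,1282),
  (false,1,834),
  (false,1,260),
  (false,1,140),
  (false,1,1291),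
  (false,0,1160),
  (false,1,1160),
  (false,1,1181),
  (false,2,1181),
  (false,0,633),
  (false,1,633),
  (false,2,960),
  (false,2,483),
  (false,0,484),
  (false,1,484),
  (false,2,799),
  (false,1,461),
  (false,2,461),
  (false,1,1116),
  (false,1,809),
  (false,1,460),
  (false,1,750),
  (false,0,81),
  (false,2,1325),
  (false,0,851),
  (false,1,1071),
  (false,1,675),
  (false,1,719),
  (false,1,262),
  (false,1,110),
  (false,1,631),
  (false,0,1370),
  (false,1,984),
  (false,1,807),
  (false,0,1179),
  (false,2,1179),
  (false,2,1128),
  (false,2,966),
  (false,0,892),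
  (false,0,409),
  (false,2,41),
  (true,3,0),
  (false,0,1032),
  (false,1,1032),
  (false,2,1032),
  (false,0,602),
  (false,1,602),
  (false,2,602),
  (false,0,977),
  (false,1,977),
  (false,2,977),
  (false,0,569),
  (false,1,569),
  (false,2,569),
  (false,0,1001),
  (false,1,1001),
  (false,2,1001),
  (false,0,597),
  (false,1,597),
  (false,2,597),
  (false,0,638)]

/-- part 5 of `tree7` -/
def tree7P5 : List (Bool × ℕ × ℕ) := [
  (false,1,638),
  (false,2,638),
  (false,0,698),
  (false,1,698),
  (false,2,698),
  (false,0,1180),
  (false,1,1180),
  (false,2,1180),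
  (false,1,192),
  (false,2,192),
  (false,0,904),
  (false,1,904),
  (false,2,904),
  (false,0,18),
  (false,1,18),
  (false,2,18),
  (false,0,20),
  (false,1,20),
  (false,2,20),
  (false,0,634),
  (false,1,634),
  (false,2,634),
  (false,0,1008),
  (false,1,1008),
  (false,2,1008),
  (false,0,1121),
  (false,1,1121),
  (false,2,1121),
  (false,0,22),
  (false,1,22),
  (false,2,22),
  (false,1,796),
  (false,2,796),
  (false,0,103),
  (false,1,103),
  (false,2,103),
  (false,0,833),
  (false,1,833),
  (false,2,833),
  (false,0,179),
  (false,1,179),
  (false,2,179),
  (false,1,333),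
  (false,2,333),
  (false,0,909),
  (false,1,909),
  (false,2,909),
  (false,1,856),
  (false,2,856),
  (false,2,173),
  (false,1,601),
  (false,2,601),
  (false,0,1190),
  (false,1,1190),
  (false,2,1190),
  (false,0,545),
  (false,1,545),
  (false,2,545),
  (false,1,1079),
  (false,2,1079),
  (false,0,963),
  (false,1,963),
  (false,2,963),
  (false,0,949),
  (false,1,949),
  (false,2,949),
  (false,1,801),
  (false,2,801),
  (false,0,887),
  (false,1,887),
  (false,2,887),
  (false,0,377),
  (false,1,377),
  (false,2,377),
  (false,1,42),
  (false,0,212),
  (false,1,212),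
  (false,2,212),
  (false,2,263),
  (false,1,1366),
  (false,2,1366),
  (false,0,1225),
  (false,1,1225),
  (false,2,1225),
  (false,0,1244),
  (false,1,1244),
  (false,2,1244),
  (false,0,876),
  (false,1,876),
  (false,2,876),
  (false,0,396),
  (false,1,396),
  (false,2,396),
  (false,0,1107),
  (false,1,1107),
  (false,2,1107),
  (false,1,1301),
  (false,1,232),
  (false,2,232),
  (false,0,176)]

/-- part 6 of `tree7` -/
def tree7P6 : List (Bool × ℕ × ℕ) := [
  (false,2,176),
  (false,1,820),
  (false,2,820),
  (false,1,727),
  (false,2,727),
  (false,2,389),
  (false,1,1091),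
  (false,2,1091),
  (false,0,704),
  (false,2,704),
  (false,1,245),
  (false,2,245),
  (false,1,98),
  (false,2,98),
  (false,1,558),
  (false,2,558),
  (false,0,778),
  (false,1,778),
  (false,2,778),
  (false,2,594),
  (false,0,1329),
  (false,1,5),
  (false,2,5),
  (false,2,38),
  (false,1,104),
  (false,2,104),
  (false,0,932),
  (false,1,932),
  (false,2,932),
  (false,0,578),
  (false,1,578),
  (false,2,578),
  (false,0,331),
  (false,1,331),
  (false,2,331),
  (false,1,1123),
  (false,1,273),
  (false,2,273),
  (false,1,240),
  (false,2,240),
  (false,1,153),
  (false,2,153),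
  (false,1,531),
  (false,2,531),
  (false,2,766),
  (false,0,539),
  (false,2,539),
  (false,0,48),
  (false,2,48),
  (false,1,247),
  (false,2,247),
  (false,1,1306),
  (false,2,1306),
  (false,0,1157),
  (false,1,1157),
  (false,2,1157),
  (false,1,1060),
  (false,2,91),
  (false,0,1238),
  (false,2,1238),
  (false,0,1343),
  (false,1,1343),
  (false,2,1343),
  (false,0,452),
  (false,2,452),
  (false,1,665),
  (false,2,665),
  (false,0,1250),
  (false,2,1250),
  (false,1,647),
  (false,2,647),
  (false,0,965),
  (false,2,965),
  (false,0,7),
  (false,2,656),
  (false,1,252),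
  (false,2,252),
  (false,1,925),
  (false,2,925),
  (false,2,599),
  (false,0,1241),
  (false,1,1241),
  (false,2,1241),
  (false,2,496),
  (false,2,1230),
  (false,1,114),
  (false,2,114),
  (false,0,568),
  (false,2,568),
  (false,1,1362),
  (false,1,910),
  (false,2,910),
  (false,0,658),
  (false,2,1021),
  (false,0,26),
  (false,1,26),
  (false,2,881),
  (false,1,1165),
  (false,0,1136),
  (false,2,1136)]

/-- part 7 of `tree7` -/
def tree7P7 : List (Bool × ℕ × ℕ) := [
  (false,0,769),
  (false,1,769),
  (false,2,287),
  (false,1,244),
  (false,2,244),
  (false,0,775),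
  (false,1,775),
  (false,1,1348),
  (false,2,1348),
  (false,2,1097),
  (false,2,753),
  (false,1,865),
  (false,2,865),
  (false,1,868),
  (false,2,868),
  (false,0,1114),
  (false,0,184),
  (false,1,184),
  (false,2,184),
  (false,0,500),
  (false,1,500),
  (false,2,500),
  (false,2,643),
  (false,2,1374),
  (false,2,482),
  (false,2,1077),
  (false,1,776),
  (false,2,776),
  (false,2,301),
  (false,0,463),
  (false,0,188),
  (false,2,188),
  (false,1,82),
  (false,2,82),
  (false,2,1104),
  (false,0,550),
  (false,1,706),
  (false,2,706),
  (false,2,781),
  (false,2,1386),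
  (false,1,225),
  (false,2,225),
  (false,2,542),
  (false,0,1359),
  (false,2,1359),
  (false,1,223),
  (false,2,223),
  (false,0,319),
  (false,1,319),
  (false,0,332),
  (false,1,332),
  (false,2,332),
  (false,0,619),
  (false,1,619),
  (false,2,619),
  (false,2,491),
  (false,2,124),
  (false,2,800),
  (false,0,1262),
  (false,2,1262),
  (false,2,238),
  (false,2,1005),
  (false,1,1229),
  (false,1,962),
  (false,0,167),
  (false,1,1378),
  (false,2,1381),
  (false,2,1086),
  (false,0,272),
  (false,2,272),
  (false,1,606),
  (false,2,606),
  (false,2,1298),
  (false,2,735),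
  (false,2,449),
  (false,0,549),
  (false,2,180),
  (false,2,791),
  (false,2,206),
  (false,0,1361),
  (false,2,1327),
  (false,2,681),
  (false,2,939),
  (false,2,325),
  (false,2,119),
  (false,1,537),
  (false,2,537),
  (false,2,1388),
  (false,2,479),
  (false,0,591),
  (false,2,871),
  (false,2,1065),
  (false,1,359),
  (false,0,344),
  (false,2,9),
  (false,1,536),
  (false,2,536),
  (false,0,639),
  (false,2,288),
  (false,1,303)]

/-- part 8 of `tree7` -/
def tree7P8 : List (Bool × ℕ × ℕ) := [
  (true,4,0),
  (false,0,481),
  (false,1,481),
  (false,2,481),
  (false,0,323),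
  (false,1,323),
  (false,2,323),
  (false,0,1142),
  (false,1,1142),
  (false,2,1142),
  (false,0,399),
  (false,1,399),
  (false,2,399),
  (false,0,664),
  (false,1,664),
  (false,2,664),
  (false,0,720),
  (false,1,720),
  (false,2,720),
  (false,0,901),
  (false,1,901),
  (false,2,901),
  (false,0,426),
  (false,1,426),
  (false,2,426),
  (false,0,1213),
  (false,1,1213),
  (false,2,1213),
  (false,1,157),
  (false,2,157),
  (false,0,954),
  (false,1,954),
  (false,2,954),
  (false,0,4),
  (false,1,4),
  (false,2,4),
  (false,0,8),
  (false,1,8),
  (false,2,8),
  (false,0,936),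
  (false,1,936),
  (false,2,936),
  (false,0,961),
  (false,1,961),
  (false,2,961),
  (false,0,1235),
  (false,1,1235),
  (false,2,1235),
  (false,0,11),
  (false,1,11),
  (false,2,11),
  (false,1,659),
  (false,2,659),
  (false,0,198),
  (false,1,198),
  (false,2,198),
  (false,0,920),
  (false,1,920),
  (false,2,920),
  (false,0,230),
  (false,1,230),
  (false,2,230),
  (false,1,290),
  (false,2,290),
  (false,0,709),
  (false,1,709),
  (false,2,709),
  (false,1,1011),
  (false,2,1011),
  (false,2,224),
  (false,1,313),
  (false,2,313),
  (false,0,684),
  (false,1,684),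
  (false,2,684),
  (false,0,391),
  (false,1,391),
  (false,2,391),
  (false,1,726),
  (false,2,726),
  (false,0,1138),
  (false,1,1138),
  (false,2,1138),
  (false,0,978),
  (false,1,978),
  (false,2,978),
  (false,1,840),
  (false,2,840),
  (false,0,488),
  (false,1,488),
  (false,2,488),
  (false,0,543),
  (false,1,543),
  (false,2,543),
  (false,1,66),
  (false,0,161),
  (false,1,161),
  (false,2,161),
  (false,2,166),
  (false,1,1312)]

/-- part 9 of `tree7` -/
def tree7P9 : List (Bool × ℕ × ℕ) := [
  (false,2,1312),
  (false,0,1027),
  (false,1,1027),
  (false,2,1027),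
  (false,0,1314),
  (false,1,1314),
  (false,2,1314),
  (false,0,877),
  (false,1,877),
  (false,2,877),
  (false,0,552),
  (false,1,552),
  (false,2,552),
  (false,0,1228),
  (false,1,1228),
  (false,2,1228),
  (false,1,1305),
  (false,1,36),
  (false,2,36),
  (false,0,227),
  (false,2,227),
  (false,1,1112),
  (false,2,1112),
  (false,1,1085),
  (false,2,1085),
  (false,2,390),
  (false,1,1172),
  (false,2,1172),
  (false,0,743),
  (false,2,743),
  (false,1,93),
  (false,2,93),
  (false,1,113),
  (false,2,113),
  (false,1,811),
  (false,2,811),
  (false,0,777),
  (false,1,777),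
  (false,2,777),
  (false,2,787),
  (false,0,1260),
  (false,1,13),
  (false,2,13),
  (false,2,62),
  (false,1,128),
  (false,2,128),
  (false,0,604),
  (false,1,604),
  (false,2,604),
  (false,0,358),
  (false,1,358),
  (false,2,358),
  (false,0,517),
  (false,1,517),
  (false,2,517),
  (false,1,1057),
  (false,1,322),
  (false,2,322),
  (false,1,88),
  (false,2,88),
  (false,1,144),
  (false,2,144),
  (false,1,1034),
  (false,2,1034),
  (false,2,1099),
  (false,0,458),
  (false,2,458),
  (false,0,72),
  (false,2,72),
  (false,1,120),
  (false,2,120),
  (false,1,1283),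
  (false,2,1283),
  (false,0,1185),
  (false,1,1185),
  (false,2,1185),
  (false,1,872),
  (false,2,178),
  (false,0,1059),
  (false,2,1059),
  (false,0,1398),
  (false,1,1398),
  (false,2,1398),
  (false,0,459),
  (false,2,459),
  (false,1,1066),
  (false,2,1066),
  (false,0,1321),
  (false,2,1321),
  (false,1,755),
  (false,2,755),
  (false,0,897),
  (false,2,897),
  (false,0,14),
  (false,2,907),
  (false,1,129),
  (false,2,129),
  (false,1,1131),
  (false,2,1131),
  (false,2,310)]

/-- part 10 of `tree7` -/
def tree7P10 : List (Bool × ℕ × ℕ) := [
  (false,0,1344),
  (false,1,1344),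
  (false,2,1344),
  (false,2,403),
  (false,2,1040),
  (false,1,204),
  (false,2,204),
  (false,0,354),
  (false,2,354),
  (false,1,1275),
  (false,1,707),
  (false,2,707),
  (false,0,802),
  (false,2,979),
  (false,0,52),
  (false,1,52),
  (false,2,291),
  (false,1,1192),
  (false,0,1009),
  (false,2,1009),
  (false,0,1101),
  (false,1,1101),
  (false,2,498),
  (false,1,92),
  (false,2,92),
  (false,0,1105),
  (false,1,1105),
  (false,1,1339),
  (false,2,1339),
  (false,2,1178),
  (false,2,942),
  (false,1,1122),
  (false,2,1122),
  (false,1,869),
  (false,2,869),
  (false,0,1026),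
  (false,0,233),
  (false,1,233),
  (false,2,233),
  (false,0,608),
  (false,1,608),
  (false,2,608),
  (false,2,969),
  (false,2,1352),
  (false,2,592),
  (false,2,1166),
  (false,1,1106),
  (false,2,1106),
  (false,2,302),
  (false,0,582),
  (false,0,159),
  (false,2,159),
  (false,1,135),
  (false,2,135),
  (false,2,1183),
  (false,0,382),
  (false,1,902),
  (false,2,902),
  (false,2,997),
  (false,2,1284),
  (false,1,239),
  (false,2,239),
  (false,2,462),
  (false,0,1320),
  (false,2,1320),
  (false,1,130),
  (false,2,130),
  (false,0,281),
  (false,1,281),
  (false,0,518),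
  (false,1,518),
  (false,2,518),
  (false,0,350),
  (false,1,350),
  (false,2,350),
  (false,2,371),
  (false,2,208),
  (false,2,622),
  (false,0,1318),
  (false,2,1318),
  (false,2,86),
  (false,2,956),
  (false,1,1039),
  (false,1,957),
  (false,0,106),
  (false,1,1337),
  (false,2,1273),
  (false,2,1171),
  (false,0,492),
  (false,2,492),
  (false,1,329),
  (false,2,329),
  (false,2,1392),
  (false,2,721),
  (false,2,579),
  (false,0,786),
  (false,2,231),
  (false,2,790),
  (false,2,268),
  (false,0,1369)]

/-- part 11 of `tree7` -/
def tree7P11 : List (Bool × ℕ × ℕ) := [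
  (false,2,1333),
  (false,2,927),
  (false,2,747),
  (false,2,514),
  (false,2,205),
  (false,1,448),
  (false,2,448),
  (false,2,1287),
  (false,2,434),
  (false,0,640),
  (false,2,1125),
  (false,2,683),
  (false,1,444),
  (false,0,526),
  (false,2,16),
  (false,1,447),
  (false,2,447),
  (false,0,824),
  (false,2,336),
  (false,1,300),
  (true,5,0),
  (false,0,164),
  (false,1,164),
  (false,2,164),
  (false,0,1397),
  (false,1,1397),
  (false,2,1397),
  (false,0,254),
  (false,1,254),
  (false,2,254),
  (false,0,880),
  (false,1,880),
  (false,2,880),
  (false,0,334),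
  (false,1,334),
  (false,2,334),
  (false,0,1189),
  (false,1,1189),
  (false,2,1189),
  (false,0,408),
  (false,1,408),
  (false,2,408),
  (false,0,1246),
  (false,1,1246),
  (false,2,1246),
  (false,0,317),
  (false,1,317),
  (false,2,317),
  (false,0,505),
  (false,1,505),
  (false,2,505),
  (false,0,770),
  (false,1,770),
  (false,2,770),
  (false,0,1162),
  (false,1,1162),
  (false,2,1162),
  (false,0,694),
  (false,1,694),
  (false,2,694),
  (false,0,708),
  (false,1,708),
  (false,0,305),
  (false,1,305),
  (false,2,305),
  (false,0,765),
  (false,2,765),
  (false,0,407),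
  (false,1,407),
  (false,2,407),
  (false,1,47),
  (false,2,47),
  (false,0,1031),
  (false,1,1031),
  (false,2,1031),
  (false,0,147),
  (false,2,147),
  (false,0,1124),
  (false,1,1124),
  (false,2,1124),
  (false,1,1295),
  (false,0,431),
  (false,1,431),
  (false,2,431),
  (false,1,1151),
  (false,2,1151),
  (false,2,187),
  (false,0,59),
  (false,2,59),
  (false,0,446),
  (false,1,446),
  (false,2,446),
  (false,0,265),
  (false,1,265),
  (false,2,265),
  (false,1,1376),
  (false,2,487),
  (false,0,618),
  (false,1,618),
  (false,2,618)]

/-- part 12 of `tree7` -/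
def tree7P12 : List (Bool × ℕ × ℕ) := [
  (false,0,1012),
  (false,0,1023),
  (false,1,1023),
  (false,2,1023),
  (false,0,1231),
  (false,1,1231),
  (false,0,913),
  (false,1,913),
  (false,2,913),
  (false,2,600),
  (false,1,847),
  (false,2,847),
  (false,0,283),
  (false,0,940),
  (false,1,373),
  (false,2,373),
  (false,0,873),
  (false,0,688),
  (false,1,688),
  (false,0,1242),
  (false,1,1242),
  (false,1,563),
  (false,0,1253),
  (false,2,1253),
  (false,1,648),
  (false,1,1391),
  (false,2,522),
  (false,0,1053),
  (false,1,1053),
  (false,0,1382),
  (false,0,610),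
  (false,1,610),
  (false,2,610),
  (false,2,64),
  (false,1,1264),
  (false,0,944),
  (false,0,90),
  (false,1,90),
  (false,1,1095),
  (false,2,1095),
  (false,1,1174),
  (false,2,1174),
  (false,0,464),
  (false,1,464),
  (false,1,486),
  (false,1,562),
  (false,2,1201),
  (false,1,55),
  (false,1,1083),
  (false,2,1083),
  (false,1,339),
  (false,2,339),
  (false,2,1146),
  (false,0,1255),
  (false,2,1255),
  (false,0,1135),
  (false,2,646),
  (false,1,393),
  (false,1,1129),
  (false,1,126),
  (false,0,366),
  (false,1,405),
  (false,1,327),
  (false,2,841),
  (false,1,364),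
  (false,2,364),
  (false,0,736),
  (false,1,827),
  (false,2,497),
  (false,0,261),
  (false,1,261),
  (false,1,1033),
  (false,1,692),
  (false,1,1293),
  (false,2,1003),
  (false,2,1294),
  (false,0,1130),
  (false,1,1130),
  (false,2,1072),
  (false,1,100),
  (true,6,0),
  (false,0,32),
  (false,1,32),
  (false,0,853),
  (false,1,853),
  (false,2,853),
  (false,0,670),
  (false,1,670),
  (false,2,670),
  (false,0,79),
  (false,1,79),
  (false,2,79),
  (false,0,355),
  (false,1,355),
  (false,2,355),
  (false,0,425),
  (false,1,425),
  (false,2,425),
  (false,0,584),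
  (false,1,584)]

/-- part 13 of `tree7` -/
def tree7P13 : List (Bool × ℕ × ℕ) := [
  (false,2,584),
  (false,0,1169),
  (false,1,1169),
  (false,2,1169),
  (false,0,832),
  (false,1,832),
  (false,2,832),
  (false,0,417),
  (false,1,417),
  (false,2,417),
  (false,0,948),
  (false,1,948),
  (false,2,948),
  (false,0,1247),
  (false,1,1247),
  (false,2,1247),
  (false,0,1069),
  (false,1,1069),
  (false,2,1069),
  (false,1,560),
  (false,2,560),
  (false,0,315),
  (false,1,315),
  (false,2,315),
  (false,0,816),
  (false,1,816),
  (false,2,816),
  (false,0,294),
  (false,1,294),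
  (false,2,294),
  (false,1,615),
  (false,2,615),
  (false,0,1158),
  (false,2,1158),
  (false,1,527),
  (false,2,527),
  (false,0,151),
  (false,0,1394),
  (false,1,1394),
  (false,2,1394),
  (false,0,1405),
  (false,2,1405),
  (false,0,1016),
  (false,1,1016),
  (false,2,1016),
  (false,2,685),
  (false,0,1401),
  (false,1,1401),
  (false,1,715),
  (false,2,715),
  (false,0,566),
  (false,1,566),
  (false,2,566),
  (false,1,879),
  (false,0,547),
  (false,1,547),
  (false,1,1175),
  (false,0,1082),
  (false,0,429),
  (false,1,1316),
  (false,2,478),
  (false,1,657),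
  (false,2,657),
  (false,1,430),
  (false,2,430),
  (false,0,890),
  (false,1,890),
  (false,0,1094),
  (false,2,1094),
  (false,0,826),
  (false,0,891),
  (false,0,1075),
  (false,0,1407),
  (false,1,1407),
  (false,2,1407),
  (false,1,392),
  (false,2,392),
  (false,2,360),
  (false,0,875),
  (false,1,875),
  (false,0,955),
  (false,2,958),
  (false,0,959),
  (false,1,857),
  (false,0,898),
  (false,2,898),
  (false,2,1164),
  (false,0,725),
  (false,1,671),
  (false,1,1209),
  (false,1,818),
  (false,2,818),
  (false,1,538),
  (false,2,406),
  (false,2,1355),
  (false,0,428),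
  (false,2,345),
  (false,2,895),
  (false,1,255),
  (false,2,37)]

/-- part 14 of `tree7` -/
def tree7P14 : List (Bool × ℕ × ℕ) := [
  (false,0,711),
  (false,0,752),
  (false,2,418),
  (false,2,565),
  (false,1,557),
  (false,1,1159),
  (false,2,183),
  (false,2,918)]

/-- certificate data -/
def tree7 : List (Bool × ℕ × ℕ) :=
  [tree7P0, tree7P1, tree7P2, tree7P3, tree7P4, tree7P5, tree7P6, tree7P7, tree7P8, tree7P9, tree7P10, tree7P11, tree7P12, tree7P13, tree7P14].flatten

/-- chain of a point stabiliser -/
def stb7_0 : List Lev := [
  { base := 4, new := [([197,15,119,5],[6,120,16,198])],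
    orbit := [(4,[]),
      (14,[0])],
    wit := [] },
  { base := 6, new := [([21,199,11,179],[180,12,200,22])],
    orbit := [(6,[]),
      (285,[0])],
    wit := [] }]

/-- an orbit -/
def root7_0 : Root :=
  ⟨[203], [204], 4, [21,171,57,293,204], [203,294,58,172,22], stb7_0,
    [[(0,false),(2,false),(1,false),(2,false),(0,false)],
      [(2,false),(2,false),(0,false),(0,false),(2,false),(0,false),(0,false)]],
    [[2,5,1,1,0],[0,2,0,2,1]]⟩

/-- chain of a point stabiliser -/
def stb7_1 : List Lev := [
  { base := 4, new := [([197,15,119,5],[6,120,16,198])],
    orbit := [(4,[]),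
      (14,[0])],
    wit := [] },
  { base := 6, new := [([21,199,11,179],[180,12,200,22])],
    orbit := [(6,[]),
      (285,[0])],
    wit := [] }]

/-- an orbit -/
def root7_1 : Root :=
  ⟨[21,19,153,61], [62,154,20,22], 6, [21,201,11,163,43,737,62,154,20,22], [21,19,153,61,738,44,164,12,202,22], stb7_1,
    [[(0,false),(2,false),(1,false),(2,false),(0,false)],
      [(2,false),(2,false),(0,false),(0,false),(2,false),(0,false),(0,false)]],
    [[0,1,2,2,0],[0,0,1,1,0]]⟩

/-- chain of a point stabiliser -/
def stb7_2 : List Lev := [
  { base := 6, new := [([21,199,11,179],[180,12,200,22])],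
    orbit := [(6,[]),
      (285,[0])],
    wit := [] },
  { base := 4, new := [([197,15,119,5],[6,120,16,198])],
    orbit := [(4,[]),
      (14,[0])],
    wit := [] }]

/-- an orbit -/
def root7_2 : Root :=
  ⟨[201,195,173,77,0], [1,78,174,196,202], 6, [21,11,177,115,749,1,78,174,196,202], [201,195,173,77,0,750,116,178,12,22], stb7_2,
    [[(2,false),(2,false),(0,false),(0,false),(2,false),(0,false),(0,false)],
      [(0,false),(2,false),(1,false),(2,false),(0,false)]],
    [[0,0,0,2,1],[0,1,3,0,2]]⟩

/-- chain of a point stabiliser -/
def stb7_3 : List Lev := [
  { base := 0, new := [([15,121,99,761],[762,100,122,16])],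
    orbit := [(0,[]),
      (855,[0])],
    wit := [] }]

/-- an orbit -/
def root7_3 : Root :=
  ⟨[21,17,11,121,67,205], [206,68,122,12,18,22], 5, [201,15,177,29,625,206,68,122,12,18,22], [21,17,11,121,67,205,626,30,178,16,202], stb7_3,
    [[(2,false),(2,false),(2,false),(2,false),(1,false),(2,false),(0,false),(0,false),(1,false)]],
    [[0,2,3,0]]⟩

/-- chain of a point stabiliser -/
def stb7_4 : List Lev := [
  { base := 0, new := [([15,121,99,761],[762,100,122,16])],
    orbit := [(0,[]),
      (855,[0])],
    wit := [] }]

/-- an orbit -/
def root7_4 : Root :=
  ⟨[21,11,139,115,451], [452,116,140,12,22], 6, [21,197,15,119,83,753,452,116,140,12,22], [21,11,139,115,451,754,84,120,16,198,22], stb7_4,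
    [[(2,false),(2,false),(2,false),(2,false),(1,false),(2,false),(0,false),(0,false),(1,false)]],
    [[0,0,0,2,1]]⟩

/-- chain of a point stabiliser -/
def stb7_5 : List Lev := [
  { base := 0, new := [([21,17,15,135,103,909],[910,104,136,16,18,22])],
    orbit := [(0,[]),
      (893,[0])],
    wit := [] },
  { base := 4, new := [([197,15,119,5],[6,120,16,198])],
    orbit := [(4,[]),
      (14,[0])],
    wit := [] }]

/-- an orbit -/
def root7_5 : Root :=
  ⟨[21,201,177,113,775], [776,114,178,202,22], 7, [197,15,137,2,0,776,114,178,202,22], [21,201,177,113,775,1,3,138,16,198], stb7_5,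
    [[(2,false),(1,false),(2,false),(0,false),(0,false)],
      [(0,false),(2,false),(1,false),(2,false),(0,false)]],
    [[31,1],[68,0]]⟩

/-- chain of a point stabiliser -/
def stb7_6 : List Lev := [
  { base := 0, new := [([199,11,161,23,913],[914,24,162,12,200])],
    orbit := [(0,[]),
      (797,[0]),
      (524,[0,0]),
      (621,[0,0,0]),
      (293,[0,0,0,0])],
    wit := [] }]

/-- an orbit -/
def root7_6 : Root :=
  ⟨[17,193,171,97,355], [356,98,172,194,18], 7, [21,199,193,145,105,209,356,98,172,194,18], [17,193,171,97,355,210,106,146,194,200,22], stb7_6,
    [[(2,false),(2,false)]],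
    [[73,1]]⟩

/-- state 7 -/
def st7 : St :=
  ⟨k7, 640, 0x6005006006001001006000003004005004006006004004005000005003006003006002004005003002004003004005002003003001006002004000002003001001002003003000003005001004006006004004004000002003004003005004003005000000004003004002001003004003000003003004003003002001004005004004003004004006004004000004000003006006003003004000002005003002003003002000005005005004002004000001004001006004004002000003001004002001004001004001000001001000002005003005000003003004002002000001005001005001001003000003006005002003000005003002004003001003004000004003005003003004004003003001000004005000000001004003005000004003005002006001001003003000001003005000005000001003003000003004006003005000006006004003004000002003002004000001006005005004004001006002002004003006004005000002006006003003000003004004005005004004004005002003003004002001005004000003005001006003004005005002006003004005003004003002003004000002002003005004000004004002003004004003002001004005004001003002005006000000003002000006001003004000005006003001003001003004006003000005002001006006004004003005003001000003004002004001004003005003004001000004001001000006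00100600300400400300100300600400500300500500300400400400400200500300300200400300300600300200100500400200400300100600300500500300300400400500400100000200400300300000000300300400500200300000100400400400300300400400100500000400400400000200300000300300400200600600400400600400100000300500300600100400100500400400400500300500500400000400200300300400200200400400300000000100000400600600300000000500500300100300300000400100200300100400400100500600400300600100100200600600300000300600100300000400300500600100400300600200500400300000400300200300300400100400300200500300600300100000600000200400100200500100100400200500500400300400200200500200300600600200300400500600400400000300000300200600000600300300100400400300200200200100000100500400300300200300100300200300100400300400400100400400000000200300300100400300400300300400100200600500300000500300500500400100000600200200400100400000300600200200000600400300300200400000200100200200200500300400300400000400600500300400600200200500400400200400100000600200400100600200400500400300300300100200200300100300400600100500100500200400400500400300600400400600300100300500500400200000100500600600400300300300300400600100400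10040030060030010040010000000050010050030050030000030040030040030030000040000030020050020020060010010020050060060040010000030050020010060060040000020050000040040030040040040030030050030030030010010030000040030000000040000040040060010040030000040030030010050000000050000010030030000060060030050050020060040030060010040050010040000030030020060000030060040030040010030060030030000060030020030020050000060040040010010050060030010040040000010040040030030050010000020030050000010060020030000040050030000040000040030000040040050050040020020030040010030060010040010020020030020030030060050030050050030040020020040040030010010050040030000060030040040050000040060020020000020000040050010040040020050060060060000040060040000000040000010060060020030040010010020000020050050060050030040050000030040000050030020030050060040040030010060020050020040040060020020020030040030050050040040030000000020050000050040030010060030040040020060040010010000040010000020060060030030050000010050000060040010050030030030020040020050030030030040040000030030010050020060020040010040040020000010000050020030040030040010040000020050060010010040040020030030000010030050040040020010000060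00003002003003004003004004003005005004003002005002003003004002006005005003000003004003003004003003004000003003004003000000001005004003004004003002004004003004003002001004004003001006000000004003003004003004003003004004000000003002004004002000001000000003002005001003005001000003006004006003003004001003003004003004001001001003003004004005000001004001004005004000004004003000006001001003005003003004005006002002004003000001004000001004002004004004003005004003004005006004003002001002004003004001006002002004001004003003003001002005002003003003003005004004003005004004003004003000005003002002006005006002000004002004001000002001005004000005002004006003005000006006005001004004004003001003005002001005000003002000001003006004000002006006000005003004003003003004004003003003005003000004003004004002004004003004003001003004000005002001, tree7, [root7_0,root7_1,root7_2,root7_3,root7_4,root7_5,root7_6]⟩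

end CfsgLib.HN
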