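import Cfsg.Agent.Lib.DCoset.Orbits
import Cfsg.Agent.Lib.HN.ChainData

/-!
State 8.
-/

set_option autoImplicit false
set_option linter.style.longLine false

namespace CfsgLib.HN
open CfsgLib.CosetEnum CfsgLib.DCoset CfsgLib.DCoset.Space
/-- part 0 of `tree8` -/
def tree8P0 : List (Bool × ℕ × ℕ) := [
  (true,0,0),
  (false,0,3),
  (false,1,3),
  (false,2,3),
  (false,3,3),
  (false,5,3),
  (false,0,59),
  (false,1,59),
  (false,2,59),
  (false,3,59),
  (false,5,59),
  (false,0,394),
  (false,1,394),
  (false,2,394),
  (false,3,394),
  (false,4,394),
  (false,5,394),
  (false,0,130),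
  (false,1,130),
  (false,0,102),
  (false,1,102),
  (false,0,300),
  (false,1,300),
  (false,0,534),
  (false,1,534),
  (false,2,534),
  (false,3,534),
  (false,4,534),
  (false,5,534),
  (false,0,1357),
  (false,1,1357),
  (false,2,1357),
  (false,3,1357),
  (false,4,1357),
  (false,5,1357),
  (false,0,1049),
  (false,1,1049),
  (false,3,1049),
  (false,0,921),
  (false,1,921),
  (false,2,921),
  (false,4,921),
  (false,0,1242),
  (false,1,1242),
  (false,0,727),
  (false,1,727),
  (false,2,727),
  (false,4,727),
  (false,5,727),
  (false,0,829),
  (false,1,829),
  (false,2,829),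
  (false,3,829),
  (false,5,829),
  (false,0,144),
  (false,4,144),
  (false,5,144),
  (false,0,994),
  (false,1,994),
  (false,2,994),
  (false,5,994),
  (false,0,330),
  (false,1,330),
  (false,0,313),
  (false,0,1327),
  (false,1,1327),
  (false,2,1327),
  (false,3,1327),
  (false,4,1327),
  (false,0,453),
  (false,1,453),
  (false,2,453),
  (false,3,453),
  (false,4,453),
  (false,5,453),
  (false,0,981),
  (false,1,981),
  (false,3,981),
  (false,0,866),
  (false,2,866),
  (false,0,1407),
  (false,1,1407),
  (false,3,1407),
  (false,0,168),
  (false,2,168),
  (false,3,168),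
  (false,0,60),
  (false,1,60),
  (false,2,60),
  (false,3,60),
  (false,4,60),
  (false,5,60),
  (false,0,1106),
  (false,1,1106),
  (false,2,1106),
  (false,3,1106),
  (false,5,1106),
  (false,0,802),
  (false,1,802),
  (false,3,802)]

/-- part 1 of `tree8` -/
def tree8P1 : List (Bool × ℕ × ℕ) := [
  (false,4,802),
  (false,5,802),
  (false,0,250),
  (false,1,250),
  (false,2,250),
  (false,4,250),
  (false,5,250),
  (false,0,207),
  (false,1,207),
  (false,0,141),
  (false,1,141),
  (false,0,577),
  (false,1,577),
  (false,2,577),
  (false,3,577),
  (false,4,577),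
  (false,5,577),
  (false,0,1043),
  (false,1,1043),
  (false,2,1043),
  (false,3,1043),
  (false,4,1043),
  (false,5,1043),
  (false,0,1243),
  (false,3,1243),
  (false,4,1243),
  (false,5,1243),
  (false,1,351),
  (false,2,351),
  (false,4,351),
  (false,5,351),
  (false,0,1165),
  (false,1,1165),
  (false,0,1006),
  (false,1,1006),
  (false,0,275),
  (false,1,275),
  (false,2,275),
  (false,3,275),
  (false,4,275),
  (false,5,275),
  (false,0,1019),
  (false,1,1019),
  (false,2,1019),
  (false,3,1019),
  (false,4,1019),
  (false,5,1019),
  (false,0,1377),
  (false,1,1377),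
  (false,2,1377),
  (false,0,891),
  (false,1,891),
  (false,2,891),
  (false,3,891),
  (false,4,891),
  (false,5,891),
  (false,0,77),
  (false,1,77),
  (false,2,77),
  (false,3,77),
  (false,4,77),
  (false,5,77),
  (false,0,1356),
  (false,1,1356),
  (false,5,1356),
  (false,0,1280),
  (false,1,1280),
  (false,0,516),
  (false,1,516),
  (false,2,516),
  (false,3,516),
  (false,0,341),
  (false,2,341),
  (false,3,341),
  (false,0,682),
  (false,1,682),
  (false,2,682),
  (false,3,682),
  (false,4,682),
  (false,5,682),
  (false,0,1307),
  (false,1,1307),
  (false,2,1307),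
  (false,3,1307),
  (false,4,1307),
  (false,5,1307),
  (false,0,378),
  (false,1,378),
  (false,3,378),
  (false,4,378),
  (false,5,378),
  (false,0,593),
  (false,1,593),
  (false,1,20),
  (false,0,1206),
  (false,1,1206),
  (false,2,1206),
  (false,3,1206),
  (false,0,650),
  (false,5,650)]

/-- part 2 of `tree8` -/
def tree8P2 : List (Bool × ℕ × ℕ) := [
  (false,0,289),
  (false,3,289),
  (false,4,289),
  (false,0,882),
  (false,0,803),
  (false,0,683),
  (false,1,683),
  (false,2,683),
  (false,3,683),
  (false,4,683),
  (false,5,683),
  (false,0,323),
  (false,0,885),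
  (false,0,714),
  (false,1,714),
  (false,2,714),
  (false,3,714),
  (false,4,714),
  (false,5,714),
  (false,0,903),
  (false,1,903),
  (false,2,903),
  (false,4,903),
  (false,0,387),
  (false,0,400),
  (false,0,1293),
  (false,1,1293),
  (false,2,1293),
  (false,3,1293),
  (false,4,1293),
  (false,5,1293),
  (false,0,179),
  (false,0,1022),
  (false,1,1022),
  (false,2,1022),
  (false,3,1022),
  (false,0,209),
  (false,1,209),
  (false,2,209),
  (false,3,209),
  (false,4,209),
  (false,5,209),
  (false,0,1384),
  (false,1,1384),
  (false,2,1384),
  (false,4,1384),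
  (false,5,1384),
  (false,0,988),
  (false,1,988),
  (false,3,988),
  (false,0,1294),
  (false,2,1294),
  (false,5,1294),
  (false,0,67),
  (false,1,67),
  (false,0,480),
  (false,1,480),
  (false,2,480),
  (false,4,480),
  (false,5,480),
  (false,0,971),
  (false,0,641),
  (false,4,641),
  (false,5,641),
  (false,0,293),
  (false,2,293),
  (false,0,413),
  (false,0,780),
  (false,0,166),
  (false,2,166),
  (false,3,166),
  (false,1,41),
  (false,2,41),
  (false,3,41),
  (false,0,40),
  (false,1,40),
  (false,2,40),
  (false,0,1081),
  (false,1,1081),
  (false,2,1081),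
  (false,0,596),
  (false,0,439),
  (false,1,439),
  (false,2,439),
  (false,3,439),
  (false,0,1195),
  (false,1,1195),
  (false,2,1195),
  (false,3,1195),
  (false,0,864),
  (false,2,864),
  (false,0,15),
  (false,1,15),
  (false,2,15),
  (false,0,216),
  (false,0,441),
  (false,0,240),
  (false,1,240),
  (false,2,240),
  (false,4,240)]

/-- part 3 of `tree8` -/
def tree8P3 : List (Bool × ℕ × ℕ) := [
  (false,5,240),
  (false,0,1264),
  (false,1,1264),
  (false,2,1264),
  (false,3,1264),
  (false,5,1264),
  (false,0,1096),
  (false,1,1096),
  (false,4,1096),
  (false,5,1096),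
  (false,0,1160),
  (false,1,1160),
  (false,2,1160),
  (false,5,1160),
  (false,0,1118),
  (false,1,1118),
  (false,0,1221),
  (false,0,1292),
  (false,1,1292),
  (false,2,1292),
  (false,3,1292),
  (false,5,1292),
  (false,0,294),
  (false,1,294),
  (false,2,294),
  (false,3,294),
  (false,0,645),
  (false,3,645),
  (false,4,645),
  (false,0,563),
  (false,1,563),
  (false,2,563),
  (false,4,563),
  (false,1,1380),
  (false,4,1380),
  (false,5,1380),
  (false,0,342),
  (false,1,342),
  (false,2,342),
  (false,4,342),
  (false,5,342),
  (false,0,471),
  (false,1,471),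
  (false,2,471),
  (false,4,471),
  (false,5,471),
  (false,0,174),
  (false,1,174),
  (false,0,139),
  (false,1,139),
  (false,1,775),
  (false,2,775),
  (false,3,775),
  (false,4,775),
  (false,5,775),
  (false,0,850),
  (false,1,850),
  (false,2,850),
  (false,3,850),
  (false,4,850),
  (false,0,298),
  (false,1,298),
  (false,3,298),
  (false,0,730),
  (false,1,730),
  (false,4,730),
  (false,0,311),
  (false,4,311),
  (false,0,1328),
  (false,1,1328),
  (false,3,1328),
  (false,0,787),
  (false,3,787),
  (false,1,391),
  (false,2,391),
  (false,4,391),
  (false,5,391),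
  (false,1,253),
  (false,4,253),
  (false,5,253),
  (false,0,515),
  (false,3,515),
  (false,4,515),
  (false,5,515),
  (false,0,743),
  (false,1,743),
  (false,2,743),
  (false,4,743),
  (false,5,743),
  (false,0,767),
  (false,1,767),
  (false,1,398),
  (false,0,92),
  (false,1,92),
  (false,2,92),
  (false,3,92),
  (false,5,92),
  (false,0,1094),
  (false,4,1094),
  (false,5,1094)]

/-- part 4 of `tree8` -/
def tree8P4 : List (Bool × ℕ × ℕ) := [
  (false,0,914),
  (false,3,914),
  (false,4,914),
  (false,5,914),
  (false,4,61),
  (false,5,61),
  (false,0,924),
  (false,1,924),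
  (false,0,870),
  (false,1,870),
  (false,0,931),
  (false,1,931),
  (false,2,931),
  (false,3,931),
  (false,4,931),
  (false,0,1348),
  (false,4,1348),
  (false,5,1348),
  (false,0,1117),
  (false,1,1117),
  (false,0,70),
  (false,1,70),
  (false,0,160),
  (false,1,160),
  (false,2,160),
  (false,0,1203),
  (false,4,1203),
  (false,0,831),
  (false,1,831),
  (false,0,838),
  (false,1,838),
  (false,0,720),
  (false,1,720),
  (false,2,720),
  (false,3,720),
  (false,0,268),
  (false,2,268),
  (false,3,268),
  (false,5,268),
  (false,0,776),
  (false,1,776),
  (false,2,776),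
  (false,3,776),
  (false,0,73),
  (false,3,73),
  (false,0,980),
  (false,1,980),
  (false,2,980),
  (false,3,980),
  (false,4,980),
  (false,5,980),
  (false,1,1155),
  (false,0,512),
  (false,4,512),
  (false,5,512),
  (false,0,547),
  (false,0,1048),
  (false,1,1048),
  (false,0,476),
  (false,1,476),
  (false,0,854),
  (false,1,854),
  (false,3,854),
  (false,4,854),
  (false,5,854),
  (false,1,1052),
  (false,3,72),
  (false,4,72),
  (false,5,72),
  (false,0,1032),
  (false,4,1032),
  (false,5,1032),
  (false,0,1068),
  (false,1,1068),
  (false,0,42),
  (false,1,42),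
  (false,0,507),
  (false,1,507),
  (false,2,507),
  (false,3,507),
  (false,4,507),
  (false,1,95),
  (false,2,95),
  (false,3,95),
  (false,0,1247),
  (false,0,1235),
  (false,0,570),
  (false,1,570),
  (false,2,570),
  (false,3,570),
  (false,4,570),
  (false,5,570),
  (false,0,437),
  (false,1,437),
  (false,3,437),
  (false,4,437),
  (false,5,437),
  (false,0,348),
  (false,1,348),
  (false,2,348)]

/-- part 5 of `tree8` -/
def tree8P5 : List (Bool × ℕ × ℕ) := [
  (false,5,348),
  (false,0,304),
  (false,1,304),
  (false,0,628),
  (false,1,628),
  (false,2,1014),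
  (false,3,1014),
  (false,4,1014),
  (false,5,1014),
  (false,0,1324),
  (false,2,1324),
  (false,5,1324),
  (false,0,1375),
  (false,0,843),
  (false,1,843),
  (false,0,1083),
  (false,0,845),
  (false,0,857),
  (false,1,857),
  (false,2,857),
  (false,3,857),
  (false,4,857),
  (false,5,857),
  (false,2,1258),
  (false,0,26),
  (false,0,938),
  (false,1,938),
  (false,2,938),
  (false,3,938),
  (false,1,832),
  (false,1,1251),
  (false,2,1251),
  (false,3,1251),
  (false,1,230),
  (false,0,442),
  (false,0,555),
  (false,0,582),
  (false,1,582),
  (false,3,582),
  (false,0,1156),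
  (false,0,411),
  (false,1,411),
  (false,2,411),
  (false,4,411),
  (false,5,411),
  (false,0,475),
  (false,2,475),
  (false,3,475),
  (false,4,475),
  (false,5,475),
  (false,1,505),
  (false,3,505),
  (false,4,505),
  (false,5,505),
  (false,0,719),
  (false,4,719),
  (false,5,719),
  (false,0,525),
  (false,0,614),
  (false,0,299),
  (false,1,299),
  (false,5,299),
  (false,0,204),
  (false,1,204),
  (false,5,204),
  (false,0,1285),
  (false,3,1285),
  (false,4,1285),
  (false,5,1285),
  (false,1,867),
  (false,2,867),
  (false,4,867),
  (false,0,118),
  (false,0,834),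
  (false,0,446),
  (false,1,446),
  (false,2,446),
  (false,0,1058),
  (false,1,1058),
  (false,2,1058),
  (false,3,1058),
  (false,0,206),
  (false,1,206),
  (false,2,206),
  (false,5,206),
  (false,1,962),
  (false,1,814),
  (false,0,612),
  (false,1,612),
  (false,3,612),
  (false,1,1172),
  (false,3,1172),
  (false,4,1172),
  (false,5,1172),
  (false,2,62),
  (false,3,62),
  (false,1,272),
  (false,2,272),
  (false,3,272),
  (false,0,53)]

/-- part 6 of `tree8` -/
def tree8P6 : List (Bool × ℕ × ℕ) := [
  (false,1,53),
  (false,0,1134),
  (false,1,1134),
  (false,0,116),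
  (false,0,977),
  (false,2,977),
  (false,5,977),
  (false,0,940),
  (false,0,1256),
  (false,1,1256),
  (false,2,1256),
  (false,4,1256),
  (false,5,1256),
  (false,0,228),
  (false,1,1305),
  (false,2,1305),
  (false,3,1305),
  (false,4,1305),
  (false,5,1305),
  (false,2,184),
  (false,1,541),
  (false,2,541),
  (false,4,541),
  (false,5,541),
  (false,4,950),
  (false,5,950),
  (false,1,710),
  (false,4,710),
  (false,5,710),
  (false,0,159),
  (false,1,159),
  (false,4,159),
  (false,1,592),
  (false,1,1066),
  (false,0,673),
  (false,0,51),
  (false,0,397),
  (false,1,397),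
  (false,2,397),
  (false,3,397),
  (false,4,397),
  (false,0,1379),
  (false,2,1379),
  (false,3,1379),
  (false,4,1379),
  (false,5,1379),
  (false,0,871),
  (false,1,871),
  (false,3,871),
  (false,4,871),
  (false,5,871),
  (false,0,1170),
  (false,1,1170),
  (false,4,1170),
  (false,5,1170),
  (false,0,194),
  (false,1,194),
  (false,1,990),
  (false,2,1116),
  (false,4,1116),
  (false,5,1116),
  (false,1,1129),
  (false,2,1129),
  (false,3,1129),
  (false,1,1225),
  (false,2,1225),
  (false,3,1225),
  (false,0,621),
  (false,1,621),
  (false,4,621),
  (false,5,621),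
  (false,0,1351),
  (false,2,1351),
  (false,3,1351),
  (false,0,771),
  (false,1,771),
  (false,3,771),
  (false,4,771),
  (false,5,771),
  (false,0,1124),
  (false,2,1124),
  (false,4,1124),
  (false,1,183),
  (false,0,862),
  (false,1,862),
  (false,0,1277),
  (false,1,1277),
  (false,0,170),
  (false,1,170),
  (false,0,1304),
  (false,2,1304),
  (false,0,82),
  (false,1,82),
  (false,0,1130),
  (false,1,1130),
  (false,2,1130),
  (false,0,1184),
  (false,1,1184),
  (false,2,1184),
  (false,3,1184)]

/-- part 7 of `tree8` -/
def tree8P7 : List (Bool × ℕ × ℕ) := [
  (false,4,1184),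
  (false,5,1184),
  (false,0,336),
  (false,2,336),
  (false,3,336),
  (false,3,661),
  (false,4,661),
  (false,5,661),
  (false,0,623),
  (false,1,623),
  (false,2,623),
  (false,0,504),
  (false,1,504),
  (false,0,390),
  (false,1,390),
  (false,0,312),
  (false,1,312),
  (false,2,312),
  (false,3,312),
  (false,4,312),
  (false,5,312),
  (false,0,1340),
  (false,1,1340),
  (false,2,1340),
  (false,3,1340),
  (false,4,1340),
  (false,0,134),
  (false,4,134),
  (false,5,134),
  (false,0,1161),
  (false,1,1161),
  (false,0,132),
  (false,1,132),
  (false,3,316),
  (false,4,316),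
  (false,5,316),
  (false,0,119),
  (false,2,119),
  (false,3,119),
  (false,4,119),
  (false,5,119),
  (false,0,38),
  (false,1,38),
  (false,2,38),
  (false,1,799),
  (false,2,799),
  (false,5,799),
  (false,4,1317),
  (false,0,1091),
  (false,1,1091),
  (false,0,1255),
  (false,1,1255),
  (false,2,1255),
  (false,3,1255),
  (false,2,523),
  (false,4,523),
  (false,5,523),
  (false,0,757),
  (false,1,757),
  (false,2,757),
  (false,3,757),
  (false,4,757),
  (false,5,757),
  (false,3,1229),
  (false,4,1229),
  (false,5,1229),
  (false,0,1038),
  (false,1,1038),
  (false,1,909),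
  (false,0,1359),
  (false,1,1359),
  (false,2,1359),
  (false,3,1359),
  (false,0,1110),
  (false,1,1110),
  (false,4,1110),
  (false,0,605),
  (false,0,418),
  (false,0,191),
  (false,1,191),
  (false,2,191),
  (false,3,191),
  (false,5,191),
  (false,2,181),
  (false,5,181),
  (false,2,1077),
  (false,0,1021),
  (false,2,1021),
  (false,1,224),
  (false,0,295),
  (false,0,236),
  (false,0,982),
  (false,1,881),
  (false,3,881),
  (false,0,1166),
  (false,0,634),
  (false,1,634),
  (false,0,1320),
  (false,1,1320),
  (false,3,1320)]

/-- part 8 of `tree8` -/
def tree8P8 : List (Bool × ℕ × ℕ) := [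
  (false,3,30),
  (false,2,763),
  (false,3,763),
  (false,2,241),
  (false,3,241),
  (false,0,199),
  (false,1,199),
  (false,2,199),
  (false,1,448),
  (false,2,448),
  (false,3,448),
  (false,0,821),
  (false,1,821),
  (false,2,821),
  (false,0,1286),
  (false,2,1194),
  (false,1,542),
  (false,1,489),
  (false,2,489),
  (false,3,489),
  (false,0,233),
  (false,1,233),
  (false,2,233),
  (false,3,233),
  (false,3,1136),
  (false,1,24),
  (false,0,841),
  (false,1,841),
  (false,2,841),
  (false,0,37),
  (false,5,37),
  (false,0,1034),
  (false,1,1034),
  (false,2,1034),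
  (false,3,1034),
  (false,5,1034),
  (false,0,467),
  (false,1,796),
  (false,1,214),
  (false,2,904),
  (false,3,904),
  (false,4,904),
  (false,5,904),
  (false,0,989),
  (false,5,989),
  (false,0,1102),
  (false,3,1102),
  (false,4,1102),
  (false,0,922),
  (false,0,667),
  (false,1,173),
  (false,2,173),
  (false,4,173),
  (false,5,173),
  (false,2,13),
  (false,4,13),
  (false,0,561),
  (false,4,561),
  (false,0,1308),
  (false,2,1308),
  (false,4,1308),
  (false,0,554),
  (false,3,554),
  (false,4,554),
  (false,5,554),
  (false,1,1154),
  (false,2,1154),
  (false,3,1154),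
  (false,4,1154),
  (false,3,1354),
  (false,4,770),
  (false,1,1274),
  (false,1,956),
  (false,0,793),
  (false,3,793),
  (false,2,696),
  (false,3,261),
  (false,3,633),
  (false,4,633),
  (false,5,633),
  (false,1,855),
  (false,1,753),
  (false,0,45),
  (false,1,45),
  (false,3,45),
  (false,0,1296),
  (false,1,1168),
  (false,2,1168),
  (false,3,1168),
  (false,4,1168),
  (false,0,165),
  (false,3,1015),
  (false,5,1015),
  (false,1,344),
  (false,1,1035),
  (false,2,458),
  (false,1,147),
  (false,5,147),
  (false,0,420),
  (false,1,420)]

/-- part 9 of `tree8` -/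
def tree8P9 : List (Bool × ℕ × ℕ) := [
  (false,0,219),
  (false,1,219),
  (false,0,1270),
  (false,3,1270),
  (false,0,805),
  (false,2,805),
  (false,3,805),
  (false,0,1347),
  (false,0,1064),
  (false,2,1064),
  (false,1,1153),
  (false,2,1153),
  (false,3,1153),
  (false,4,1153),
  (false,0,1312),
  (false,1,1312),
  (false,4,1312),
  (false,5,1312),
  (false,0,756),
  (false,2,756),
  (false,4,756),
  (false,0,868),
  (false,2,868),
  (false,4,868),
  (false,2,358),
  (false,5,358),
  (false,1,514),
  (false,0,1158),
  (false,1,1158),
  (false,3,1158),
  (false,0,955),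
  (false,2,955),
  (false,3,955),
  (false,5,955),
  (false,0,430),
  (false,1,430),
  (false,2,301),
  (false,4,301),
  (false,1,728),
  (false,0,1289),
  (false,1,1266),
  (false,0,85),
  (false,1,569),
  (false,1,1374),
  (false,3,1374),
  (false,1,778),
  (false,2,1133),
  (false,3,1133),
  (false,4,1133),
  (false,5,1133),
  (false,0,74),
  (false,0,1040),
  (false,1,193),
  (false,0,1135),
  (false,0,419),
  (false,0,788),
  (false,0,461),
  (false,0,529),
  (false,5,529),
  (false,1,1062),
  (false,1,543),
  (false,0,381),
  (false,1,472),
  (false,2,472),
  (false,4,472),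
  (false,1,329),
  (false,3,329),
  (false,0,676),
  (false,1,676),
  (false,2,676),
  (false,4,676),
  (false,1,521),
  (false,3,626),
  (false,5,626),
  (false,0,257),
  (false,1,257),
  (false,4,257),
  (false,5,257),
  (false,0,1103),
  (false,0,171),
  (false,0,1350),
  (false,0,961),
  (false,1,961),
  (false,4,415),
  (false,3,1191),
  (false,2,1051),
  (false,3,1051),
  (false,4,258),
  (false,5,258),
  (false,3,595),
  (false,1,500),
  (false,2,500),
  (false,5,500),
  (false,1,975),
  (false,1,976),
  (false,2,976),
  (false,3,976),
  (false,0,1334),
  (false,0,380),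
  (false,2,164)]

/-- part 10 of `tree8` -/
def tree8P10 : List (Bool × ℕ × ℕ) := [
  (false,5,164),
  (false,1,1),
  (false,1,169),
  (false,2,169),
  (false,3,169),
  (false,5,169),
  (false,0,1196),
  (false,1,573),
  (false,1,273),
  (false,3,273),
  (false,4,273),
  (false,5,273),
  (false,1,884),
  (false,2,884),
  (false,2,8),
  (false,2,1382),
  (false,2,447),
  (false,3,447),
  (false,3,1127),
  (false,2,877),
  (false,2,632),
  (false,0,732),
  (false,0,669),
  (false,2,1330),
  (false,3,1330),
  (false,2,624),
  (false,3,930),
  (false,2,422),
  (false,0,307),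
  (false,2,307),
  (false,1,110),
  (false,0,1358),
  (false,1,1358),
  (false,2,1358),
  (false,0,135),
  (false,4,135),
  (false,5,135),
  (false,0,1047),
  (false,2,1010),
  (false,3,1010),
  (false,4,1071),
  (false,5,1071),
  (false,3,1046),
  (false,1,655),
  (false,2,655),
  (false,0,1131),
  (false,1,1131),
  (false,0,740),
  (false,1,740),
  (false,3,740),
  (false,1,649),
  (false,2,649),
  (false,4,649),
  (false,5,649),
  (false,1,901),
  (false,1,468),
  (false,0,1078),
  (false,0,1349),
  (false,0,267),
  (false,2,1037),
  (false,3,1037),
  (false,0,1001),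
  (false,1,428),
  (false,2,428),
  (false,4,428),
  (false,5,428),
  (false,1,424),
  (false,2,424),
  (false,1,383),
  (false,3,383),
  (false,1,319),
  (false,2,319),
  (false,5,319),
  (false,0,908),
  (false,1,908),
  (false,1,852),
  (false,2,852),
  (false,3,581),
  (false,2,1171),
  (false,4,1171),
  (false,3,156),
  (false,1,658),
  (false,2,658),
  (false,0,590),
  (false,1,590),
  (false,3,590),
  (false,2,6),
  (false,5,6),
  (false,0,549),
  (false,3,549),
  (false,4,549),
  (false,3,1311),
  (false,4,997),
  (false,0,1147),
  (false,3,1147),
  (false,3,528),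
  (false,4,528),
  (false,5,528),
  (false,1,314),
  (false,1,386)]

/-- part 11 of `tree8` -/
def tree8P11 : List (Bool × ℕ × ℕ) := [
  (false,2,432),
  (false,0,991),
  (false,2,1173),
  (false,5,1173),
  (false,4,608),
  (false,5,608),
  (false,1,210),
  (false,2,210),
  (false,0,1290),
  (false,1,742),
  (false,2,742),
  (false,1,1335),
  (false,3,1335),
  (false,1,91),
  (false,2,91),
  (false,1,175),
  (false,0,1346),
  (false,2,1346),
  (false,2,97),
  (false,1,711),
  (false,0,338),
  (false,1,338),
  (false,3,338),
  (false,1,474),
  (false,2,474),
  (false,1,942),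
  (false,2,942),
  (false,3,942),
  (false,0,481),
  (false,1,382),
  (false,1,762),
  (false,2,762),
  (false,4,762),
  (false,0,522),
  (false,0,616),
  (false,2,616),
  (false,4,616),
  (false,5,616),
  (false,0,578),
  (false,0,274),
  (false,0,886),
  (false,1,886),
  (false,0,895),
  (false,3,403),
  (false,3,751),
  (false,0,1399),
  (false,2,518),
  (false,2,1016),
  (false,5,560),
  (false,0,785),
  (false,1,785),
  (false,5,1332),
  (false,4,162),
  (false,5,162),
  (false,2,911),
  (false,0,484),
  (false,0,929),
  (false,1,929),
  (false,0,1396),
  (false,2,1162),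
  (false,3,1162),
  (false,4,1162),
  (false,1,192),
  (false,1,66),
  (false,1,716),
  (false,2,716),
  (false,0,114),
  (false,1,114),
  (false,2,114),
  (false,4,114),
  (false,5,114),
  (false,4,1387),
  (false,5,1387),
  (false,1,1056),
  (false,2,1056),
  (false,4,1056),
  (false,1,947),
  (false,0,1373),
  (false,0,55),
  (false,1,1371),
  (false,5,25),
  (false,2,1189),
  (false,1,782),
  (false,2,782),
  (false,5,782),
  (false,3,200),
  (false,4,190),
  (false,5,190),
  (false,0,1339),
  (false,1,1339),
  (false,1,1271),
  (false,0,1246),
  (false,5,65),
  (false,1,237),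
  (false,2,1075),
  (false,1,1284),
  (false,0,217),
  (false,1,217),
  (false,4,217),
  (false,0,795)]

/-- part 12 of `tree8` -/
def tree8P12 : List (Bool × ℕ × ℕ) := [
  (false,0,617),
  (false,2,526),
  (false,0,1299),
  (false,0,846),
  (false,3,410),
  (false,2,615),
  (false,1,1248),
  (false,4,1323),
  (false,2,768),
  (false,1,1123),
  (false,3,637),
  (false,2,232),
  (false,5,232),
  (false,2,974),
  (false,0,1000),
  (false,4,226),
  (false,5,226),
  (false,3,281),
  (false,2,878),
  (false,0,331),
  (false,5,202),
  (false,1,1318),
  (false,1,978),
  (false,2,986),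
  (false,3,986),
  (false,3,926),
  (false,4,188),
  (false,0,211),
  (false,0,1287),
  (false,0,731),
  (false,0,599),
  (false,1,492),
  (false,0,1054),
  (false,0,1390),
  (false,1,98),
  (false,2,1199),
  (false,1,688),
  (false,0,837),
  (false,4,1365),
  (false,1,913),
  (false,3,1273),
  (false,1,1098),
  (false,0,755),
  (false,0,1002),
  (false,0,517),
  (false,3,178),
  (false,2,723),
  (false,5,389),
  (false,0,271),
  (false,0,958),
  (false,2,282),
  (false,5,282),
  (false,2,109),
  (false,5,109),
  (false,3,619),
  (false,0,355),
  (false,1,808),
  (false,1,1265),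
  (false,2,1265),
  (false,1,203),
  (false,2,752),
  (false,0,725),
  (false,2,725),
  (false,1,1179),
  (false,4,1179),
  (false,1,1181),
  (false,3,308),
  (false,0,703),
  (false,0,477),
  (false,0,860),
  (false,0,949),
  (false,3,1236),
  (false,5,12),
  (false,4,172),
  (false,4,138),
  (false,3,503),
  (false,3,94),
  (false,1,734),
  (false,5,1210),
  (false,1,1368),
  (true,1,0),
  (false,0,39),
  (false,0,533),
  (false,1,533),
  (false,2,533),
  (false,3,533),
  (false,4,533),
  (false,0,1336),
  (false,1,1336),
  (false,2,1336),
  (false,3,1336),
  (false,4,1336),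
  (false,0,789),
  (false,1,789),
  (false,2,789),
  (false,3,789),
  (false,4,789),
  (false,0,741),
  (false,1,741),
  (false,3,741)]

/-- part 13 of `tree8` -/
def tree8P13 : List (Bool × ℕ × ℕ) := [
  (false,4,741),
  (false,0,519),
  (false,1,519),
  (false,2,519),
  (false,4,519),
  (false,0,609),
  (false,1,609),
  (false,0,359),
  (false,1,359),
  (false,2,359),
  (false,3,359),
  (false,0,285),
  (false,3,285),
  (false,1,666),
  (false,4,666),
  (false,0,1060),
  (false,1,1060),
  (false,2,1060),
  (false,4,1060),
  (false,0,1208),
  (false,1,1208),
  (false,1,712),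
  (false,2,712),
  (false,3,712),
  (false,4,712),
  (false,0,1030),
  (false,1,1030),
  (false,3,1030),
  (false,0,1228),
  (false,3,1228),
  (false,4,1228),
  (false,0,856),
  (false,0,1012),
  (false,1,1012),
  (false,2,1012),
  (false,0,1036),
  (false,4,1036),
  (false,0,893),
  (false,0,1326),
  (false,1,1326),
  (false,3,1326),
  (false,4,1326),
  (false,0,354),
  (false,0,1089),
  (false,0,568),
  (false,1,1298),
  (false,3,1298),
  (false,4,1298),
  (false,0,433),
  (false,0,1403),
  (false,2,1403),
  (false,4,1403),
  (false,0,934),
  (false,4,934),
  (false,1,906),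
  (false,3,906),
  (false,1,783),
  (false,2,783),
  (false,3,783),
  (false,0,684),
  (false,0,1263),
  (false,1,1263),
  (false,0,800),
  (false,1,800),
  (false,2,800),
  (false,4,800),
  (false,0,101),
  (false,1,1126),
  (false,0,280),
  (false,1,280),
  (false,3,280),
  (false,4,1244),
  (false,2,1369),
  (false,0,1107),
  (false,4,1111),
  (false,0,695),
  (false,0,965),
  (false,2,136),
  (false,0,1201),
  (false,1,1201),
  (false,2,1201),
  (false,3,1201),
  (false,4,1201),
  (false,0,1269),
  (false,0,1297),
  (false,1,1297),
  (false,3,1297),
  (false,4,1297),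
  (false,0,1174),
  (false,0,1239),
  (false,0,1249),
  (false,3,1249),
  (false,0,1295),
  (false,1,1295),
  (false,0,1391),
  (false,0,872),
  (false,1,1268),
  (false,0,745),
  (false,1,745),
  (false,3,402)]

/-- part 14 of `tree8` -/
def tree8P14 : List (Bool × ℕ × ℕ) := [
  (false,1,444),
  (false,3,444),
  (false,1,1198),
  (false,4,1198),
  (false,3,736),
  (false,4,736),
  (false,0,83),
  (false,2,196)]

/-- certificate data -/
def tree8 : List (Bool × ℕ × ℕ) :=
  [tree8P0, tree8P1, tree8P2, tree8P3, tree8P4, tree8P5, tree8P6, tree8P7, tree8P8, tree8P9, tree8P10, tree8P11, tree8P12, tree8P13, tree8P14].flatten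

/-- chain of a point stabiliser -/
def stb8_0 : List Lev := [
  { base := 8, new := [([21,197,15,119,5],[6,120,16,198,22])],
    orbit := [(8,[]),
      (120,[0]),
      (73,[0,2]),
      (75,[0,1]),
      (483,[0,0]),
      (369,[0,1,0])],
    wit := [] },
  { base := 4, new := [([21,19,15,119,5],[6,120,16,20,22])],
    orbit := [(4,[]),
      (14,[0])],
    wit := [] },
  { base := 9, new := [([21],[22])],
    orbit := [(9,[]),
      (482,[0])],
    wit := [] }]

/-- an orbit -/
def root8_0 : Root :=
  ⟨[203], [204], 6, [5,207,204], [203,208,6], stb8_0,
    [[(5,false),(1,false),(3,false),(1,false),(0,false),(0,false),(3,false),(1,false)],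
      [(5,false),(4,false),(3,false)],
      [(3,false),(2,false),(3,false),(1,false),(3,false),(1,false),(0,false),(0,false),(3,false),(1,false)]],
    [[0,1,3,1,1],[0,1,3,2,1],[0,0,0,1,2]]⟩

/-- chain of a point stabiliser -/
def stb8_1 : List Lev := [
  { base := 0, new := [([17,11,125,107,923],[924,108,126,12,18])],
    orbit := [(0,[]),
      (1218,[0]),
      (90,[0,2]),
      (257,[0,0]),
      (702,[0,1]),
      (84,[0,1,0]),
      (172,[0,2,0]),
      (397,[0,0,0]),
      (494,[0,0,1]),
      (782,[0,1,2]),
      (880,[0,0,2]),
      (976,[0,2,1]),
      (1099,[0,2,2]),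
      (302,[0,2,0,1]),
      (337,[0,0,1,2]),
      (424,[0,0,0,2]),
      (428,[0,2,2,0]),
      (440,[0,0,0,1]),
      (574,[0,1,2,0]),
      (606,[0,0,2,2]),
      (643,[0,2,1,0]),
      (751,[0,0,1,0]),
      (825,[0,1,0,0]),
      (995,[0,0,2,1]),
      (201,[0,0,0,2,2]),
      (363,[0,0,0,2,1]),
      (432,[0,2,0,1,0]),
      (538,[0,0,1,0,2]),
      (576,[0,0,1,2,0]),
      (591,[0,2,2,0,0]),
      (610,[0,1,0,0,2]),
      (705,[0,0,0,2,0]),
      (765,[0,0,2,2,0]),
      (1073,[0,2,1,0,1]),
      (1199,[0,2,1,0,0]),
      (151,[0,0,1,2,0,2]),
      (244,[0,2,2,0,0,2]),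
      (278,[0,2,1,0,0,0]),
      (697,[0,0,1,0,2,0]),
      (964,[0,0,0,2,0,0])],
    wit := [] },
  { base := 4, new := [([201,15,119,5],[6,120,16,202])],
    orbit := [(4,[]),
      (14,[0])],
    wit := [] },
  { base := 8, new := [([19],[20])],
    orbit := [(8,[]),
      (369,[0]),
      (73,[0,0])],
    wit := [] }]

/-- an orbit -/
def root8_1 : Root :=
  ⟨[201,15,13,37,869], [870,38,14,16,202], 8, [201,193,147,103,209,870,38,14,16,202], [201,15,13,37,869,210,104,148,194,202], stb8_1,
    [[(4,false),(1,false),(1,false)],
      [(5,false),(2,false)],
      [(5,false),(3,false),(2,false)]],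
    [[127,6,1,0,0,1],[63,1,2,1,0,1],[99,5,1,1,0,1]]⟩

/-- state 8 -/
def st8 : St :=
  ⟨k8, 30720, 0x10000000000000000000000000000000010010000000000000000000000000000000000000000000010000000000000000000010000000000000000000010010000000000000000000000010000000000000000000000000000000000000000000000000010000000000000000000000000000010000000000000000000000000000000000010000000000000000000000010000000000000000000000010010000010000000000010000000000000000000000010000000000000000000000010000000000000000010010000000000000010000000000000000000000000010000000000000010000000000000010000000000000010000000000000010000000000000000010000000000000000000000000000000000000000000000000000000000010000000000000000000010000000010000000000000000000000010000000000000010000000000000000000000000000000010000000000000000000000000000000010000000000000000010000000000000000000000000000000000000000000000010000000000000000000000000000000000000000000010000000000000000010000000000000000000000000010000000000010000000000000000000000000000000000000000010000000000010000010000000000000000000000000000000000000010000000000000000000010000000000000000000010000000000000000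00001000000000000000000000000000000000000000000000000001000000000000000001000000000000000000000000000000000000000000000000000001001000000000000000000000000000000000000001000000000000000000000000000000000000000000000000000000000000000000000000001000000000000000000000001000000000000000000000000000000000000000000000000000000000000000000000000000000000000000000001000000000000000000000000000000000000000000000000000000000000000000000000000000000001000000000000000000000000001000000000001000000000000001000000000000000000000000000000000000000000000001000000000000000000000000001000000000000000000001000000000000001000000000000000000000000000000000000000000000000000000000000000000000000000000000000000000000001000000000000000000000000000000000000000000000000000000001000000000000000000000000000000001000000000000001001000000000000000000000000000000000000000000000000000000000000000000000001000000000000001000000000001000000000001001000000000001000000000000001000000000000000000000000000000000000000000000000000000000000000000000001000000000000000000000000000000001000000000000000001000000001000000000000000000000001000000000000000000000000000000000000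00000000000000000100000000000000000000000000000000000000000000100000000000000000000000000000000000000000000100000000000000000000000000100000000000000100000000000100000000000000000000000000100000000000000000000000000000000000000000000000000000000000000000000000000000000000000000100000000000000000000000000000000100000000000000000000000000000000000000000000000000000000000000000000000000000000000000000000000000000000100000000100000000000000000000000000000000100000000000000000000000000100000000000000000000000000000000000100000000100000000000000000000000000000000000000000000000000000000000000000000000000000000000000000000000000000000000000000000000000000000000000000100000000000000100000000000000000000000000000000100000000000000000000000000000000000000000000000000000000000000000000000000000000000000000000100100000000000000000000000000000000000000000000000000100000000000000000000000000000000000000000000000000000000000000000000000000100000000000000100000000000000100000000000000000000000000000000000000000000100000000000000000100000000000000000000100000000100100000000000000000000000100000000100000000000000000000000000000000000000000000000000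0000001000001000001000000001001000000000000000000000000000000000000000000000000001000000000000000000000000000000000000000000000000000000000000000000000000000000000001000000000000000000000000000000000000000000000000000000000000000000000000000000000000000000000000000000000000000001001000000000000000000000000000001000000000000000000000000000000000000000000000000000000000000000001000000000000000000000000000000000000000000000000000000000000000000000000000000001000000000000000000000000000000000000000000000000000000000000000000000000000000000000000000000000000000001001000000000000000000000000000000000000000000000000001000000000000000000000000000000000000000000000000000000000001000000000000000000000000000000000000000000000000000000000000000000000001000000000000000000000000000000000000000000000000000000000000000000000000000000000000000000000000000000000000000000000, tree8, [root8_0,root8_1]⟩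

end CfsgLib.HN
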