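import Cfsg.Agent.Lib.HN.St0
import Cfsg.Agent.Lib.HN.St1
import Cfsg.Agent.Lib.HN.St2
import Cfsg.Agent.Lib.HN.St3
import Cfsg.Agent.Lib.HN.St4
import Cfsg.Agent.Lib.HN.St5
import Cfsg.Agent.Lib.HN.St6
import Cfsg.Agent.Lib.HN.St7
import Cfsg.Agent.Lib.HN.St8

/-!
All the states.
-/

set_option autoImplicit false
set_option linter.style.longLine false

namespace CfsgLib.HN
open CfsgLib.CosetEnum CfsgLib.DCoset CfsgLib.DCoset.Space
/-- the states -/
def lower : LData := ⟨base, uChain, [st0,st1,st2,st3,st4,st5,st6,st7,st8]⟩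

end CfsgLib.HN
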