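import Cfsg.Agent.Lib.HN.Atoms0
import Cfsg.Agent.Lib.HN.Atoms1
import Cfsg.Agent.Lib.HN.Atoms2
import Cfsg.Agent.Lib.HN.Atoms3
import Cfsg.Agent.Lib.HN.Atoms4
import Cfsg.Agent.Lib.HN.Atoms5
import Cfsg.Agent.Lib.HN.Atoms6
import Cfsg.Agent.Lib.HN.Atoms7
import Cfsg.Agent.Lib.HN.CertData

/-!
The table of 1408 cosets with named permutations.
-/

set_option autoImplicit false
set_option linter.style.longLine false

namespace CfsgLib.HN
open CfsgLib.CosetEnum CfsgLib.DCoset CfsgLib.DCoset.Space
/-- part 0 of `atomDefs` -/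
def atomDefsP0 : List (List (List ℕ)) := [
  [[],
   [],
   [],
   [],
   [],
   [1,2,0],
   [1,3,0],
   [3,2,2,3,3,6,6,3],
   [2,5,5,2,2,3,3,2],
   [5,5,5,2,2,8,6],
   [5,7,3,3,6,6,6],
   [5,3,5,10,8,10,10,8],
   [7,9,9,7,9,6,2,6],
   [9,5,11,2,12,3,3],
   [2,2,11,3,12,6,10],
   [2,2,5,7,2,6,14,3,3,14,14,8],
   [7,13,13,2,2,13,5,3,8,6,3,3],
   [5,3,3,6,3,8],
   [7,2,5,2,2,6],
   [6,13,6,14,6,3,12,14,8,12],
   [11,7,13,11,2,5,13,5,14,5],
   [9,7,2,19,2,3,3,8,16,8,16,18],
   [17,15,7,15,7,2,2,3,20,3,8,10],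
   [2,2],
   [3,3],
   [2,5],
   [6,3],
   [2,7],
   [8,3],
   [2,9],
   [10,3],
   [2,13]],
  [[14,3],
   [5,5],
   [6,6],
   [5,7],
   [8,6],
   [5,9],
   [10,6],
   [5,13],
   [14,6],
   [5,11],
   [12,6],
   [5,15],
   [16,6],
   [23,2],
   [3,24],
   [23,5],
   [6,24],
   [23,13],
   [14,24],
   [23,11],
   [12,24],
   [23,15],
   [16,24],
   [23,17],
   [18,24],
   [25,2],
   [3,26],
   [25,5],
   [6,26],
   [25,9],
   [10,26],
   [25,13]],
  [[14,26],
   [25,15],
   [16,26],
   [25,19],
   [20,26],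
   [27,2],
   [3,28],
   [27,5],
   [6,28],
   [27,13],
   [14,28],
   [27,11],
   [12,28],
   [27,15],
   [16,28],
   [27,19],
   [20,28],
   [29,2],
   [3,30],
   [29,9],
   [10,30],
   [29,13],
   [14,30],
   [31,7],
   [8,32],
   [33,13],
   [14,34],
   [33,15],
   [16,34],
   [35,9],
   [10,36],
   [35,11]],
  [[12,36],
   [35,17],
   [18,36],
   [37,5],
   [6,38],
   [39,2],
   [3,40],
   [41,5],
   [6,42],
   [43,11],
   [12,44],
   [43,17],
   [18,44],
   [49,21],
   [22,50],
   [53,15],
   [16,54],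
   [61,13],
   [14,62],
   [65,9],
   [10,66],
   [7,7],
   [8,8],
   [7,9],
   [10,8],
   [7,13],
   [14,8],
   [7,11],
   [12,8],
   [7,15],
   [16,8],
   [7,17]]]

/-- part 1 of `atomDefs` -/
def atomDefsP1 : List (List (List ℕ)) := [
  [[18,8],
   [7,19],
   [20,8],
   [9,7],
   [8,10],
   [9,9],
   [10,10],
   [9,13],
   [14,10],
   [9,11],
   [12,10],
   [9,15],
   [16,10],
   [13,7],
   [8,14],
   [13,13],
   [14,14],
   [13,11],
   [12,14],
   [13,15],
   [16,14],
   [117,9],
   [10,118],
   [117,13],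
   [14,118],
   [117,17],
   [18,118],
   [119,9],
   [10,120],
   [119,13],
   [14,120],
   [121,11]],
  [[12,122],
   [123,9],
   [10,124],
   [123,21],
   [22,124],
   [125,7],
   [8,126],
   [125,9],
   [10,126],
   [129,7],
   [8,130],
   [129,13],
   [14,130],
   [129,17],
   [18,130],
   [131,11],
   [12,132],
   [131,19],
   [20,132],
   [133,7],
   [8,134],
   [133,11],
   [12,134],
   [135,17],
   [18,136],
   [137,13],
   [14,138],
   [139,13],
   [14,140],
   [143,7],
   [8,144],
   [143,9]],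
  [[10,144],
   [15,11],
   [12,16],
   [15,17],
   [18,16],
   [17,17],
   [18,18],
   [17,19],
   [20,18],
   [199,17],
   [18,200],
   [0,0],
   [1,1],
   [1,4],
   [4,0],
   [0,4],
   [4,1],
   [203,4],
   [4,204],
   [4,3],
   [2,4],
   [211,0],
   [1,212],
   [211,1],
   [0,212],
   [4,2],
   [3,4],
   [217,1],
   [0,218],
   [219,4],
   [4,220],
   [221,2]],
  [[3,222],
   [223,4],
   [4,224],
   [225,2],
   [3,226],
   [217,0],
   [1,218],
   [229,4],
   [4,230],
   [231,2],
   [3,232],
   [233,4],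
   [4,234],
   [235,2],
   [3,236],
   [217,4],
   [4,218],
   [239,2],
   [3,240],
   [241,0],
   [1,242],
   [243,3],
   [2,244],
   [245,4],
   [4,246],
   [217,2],
   [3,218],
   [249,0],
   [1,250],
   [251,2],
   [3,252],
   [253,2]]]

/-- part 2 of `atomDefs` -/
def atomDefsP2 : List (List (List ℕ)) := [
  [[3,254],
   [249,1],
   [0,250],
   [257,2],
   [3,258],
   [259,2],
   [3,260],
   [249,2],
   [3,250],
   [263,0],
   [1,264],
   [265,3],
   [2,266],
   [267,1],
   [0,268],
   [269,2],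
   [3,270],
   [271,2],
   [3,272],
   [265,2],
   [3,266],
   [275,0],
   [1,276],
   [277,3],
   [2,278],
   [279,1],
   [0,280],
   [279,0],
   [1,280],
   [267,0],
   [1,268],
   [285,2]],
  [[3,286],
   [287,2],
   [3,288],
   [205,3],
   [2,206],
   [291,4],
   [4,292],
   [207,3],
   [2,208],
   [295,4],
   [4,296],
   [207,2],
   [3,208],
   [299,0],
   [1,300],
   [301,2],
   [3,302],
   [303,4],
   [4,304],
   [299,1],
   [0,300],
   [307,2],
   [3,308],
   [309,4],
   [4,310],
   [299,4],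
   [4,300],
   [313,2],
   [3,314],
   [315,2],
   [3,316],
   [317,2]],
  [[3,318],
   [319,1],
   [0,320],
   [321,2],
   [3,322],
   [319,0],
   [1,320],
   [325,2],
   [3,326],
   [299,2],
   [3,300],
   [329,0],
   [1,330],
   [331,2],
   [3,332],
   [333,0],
   [1,334],
   [335,3],
   [2,336],
   [333,1],
   [0,334],
   [339,3],
   [2,340],
   [211,4],
   [4,212],
   [343,2],
   [3,344],
   [255,1],
   [0,256],
   [297,2],
   [3,298],
   [349,4]],
  [[4,350],
   [293,2],
   [3,294],
   [353,4],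
   [4,354],
   [349,2],
   [3,350],
   [357,1],
   [0,358],
   [357,0],
   [1,358],
   [329,2],
   [3,330],
   [363,0],
   [1,364],
   [365,3],
   [2,366],
   [367,0],
   [1,368],
   [369,2],
   [3,370],
   [313,3],
   [2,314],
   [373,4],
   [4,374],
   [375,3],
   [2,376],
   [377,3],
   [2,378],
   [379,0],
   [1,380],
   [379,1]]]

/-- part 3 of `atomDefs` -/
def atomDefsP3 : List (List (List ℕ)) := [
  [[0,380],
   [367,1],
   [0,368],
   [385,2],
   [3,386],
   [249,4],
   [4,250],
   [205,2],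
   [3,206],
   [391,2],
   [3,392],
   [393,4],
   [4,394],
   [329,4],
   [4,330],
   [209,2],
   [3,210],
   [399,2],
   [3,400],
   [401,4],
   [4,402],
   [311,3],
   [2,312],
   [305,3],
   [2,306],
   [295,3],
   [2,296],
   [409,0],
   [1,410],
   [411,3],
   [2,412],
   [413,0]],
  [[1,414],
   [411,4],
   [4,412],
   [417,3],
   [2,418],
   [419,0],
   [1,420],
   [419,1],
   [0,420],
   [413,1],
   [0,414],
   [363,1],
   [0,364],
   [409,1],
   [0,410],
   [429,4],
   [4,430],
   [211,3],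
   [2,212],
   [433,0],
   [1,434],
   [435,4],
   [4,436],
   [433,1],
   [0,434],
   [439,4],
   [4,440],
   [317,1],
   [0,318],
   [317,0],
   [1,318],
   [343,3]],
  [[2,344],
   [447,4],
   [4,448],
   [209,3],
   [2,210],
   [451,4],
   [4,452],
   [453,3],
   [2,454],
   [455,4],
   [4,456],
   [241,1],
   [0,242],
   [459,3],
   [2,460],
   [263,1],
   [0,264],
   [463,2],
   [3,464],
   [253,1],
   [0,254],
   [467,3],
   [2,468],
   [469,4],
   [4,470],
   [253,0],
   [1,254],
   [473,3],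
   [2,474],
   [475,4],
   [4,476],
   [369,3]],
  [[2,370],
   [385,3],
   [2,386],
   [331,4],
   [4,332],
   [483,3],
   [2,484],
   [485,4],
   [4,486],
   [329,1],
   [0,330],
   [489,4],
   [4,490],
   [491,3],
   [2,492],
   [493,4],
   [4,494],
   [409,4],
   [4,410],
   [291,3],
   [2,292],
   [499,4],
   [4,500],
   [473,4],
   [4,474],
   [503,3],
   [2,504],
   [467,4],
   [4,468],
   [507,3],
   [2,508],
   [447,3]]]

/-- part 4 of `atomDefs` -/
def atomDefsP4 : List (List (List ℕ)) := [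
  [[2,448],
   [511,4],
   [4,512],
   [513,2],
   [3,514],
   [515,2],
   [3,516],
   [517,0],
   [1,518],
   [241,2],
   [3,242],
   [521,2],
   [3,522],
   [523,4],
   [4,524],
   [525,3],
   [2,526],
   [483,2],
   [3,484],
   [529,1],
   [0,530],
   [531,4],
   [4,532],
   [529,0],
   [1,530],
   [535,4],
   [4,536],
   [399,4],
   [4,400],
   [283,4],
   [4,284],
   [345,4]],
  [[4,346],
   [453,2],
   [3,454],
   [545,4],
   [4,546],
   [281,4],
   [4,282],
   [315,4],
   [4,316],
   [551,2],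
   [3,552],
   [553,0],
   [1,554],
   [553,1],
   [0,554],
   [389,3],
   [2,390],
   [559,3],
   [2,560],
   [561,4],
   [4,562],
   [257,4],
   [4,258],
   [565,3],
   [2,566],
   [567,4],
   [4,568],
   [569,2],
   [3,570],
   [257,3],
   [2,258],
   [573,4]],
  [[4,574],
   [251,3],
   [2,252],
   [577,4],
   [4,578],
   [415,2],
   [3,416],
   [581,0],
   [1,582],
   [307,4],
   [4,308],
   [585,2],
   [3,586],
   [587,4],
   [4,588],
   [589,2],
   [3,590],
   [301,4],
   [4,302],
   [593,2],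
   [3,594],
   [595,4],
   [4,596],
   [597,2],
   [3,598],
   [581,1],
   [0,582],
   [239,3],
   [2,240],
   [603,4],
   [4,604],
   [605,3]],
  [[2,606],
   [215,4],
   [4,216],
   [609,3],
   [2,610],
   [611,4],
   [4,612],
   [503,2],
   [3,504],
   [615,2],
   [3,616],
   [617,1],
   [0,618],
   [391,4],
   [4,392],
   [621,2],
   [3,622],
   [623,2],
   [3,624],
   [617,0],
   [1,618],
   [475,1],
   [0,476],
   [275,1],
   [0,276],
   [631,3],
   [2,632],
   [633,4],
   [4,634],
   [279,4],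
   [4,280],
   [475,0]]]

/-- part 5 of `atomDefs` -/
def atomDefsP5 : List (List (List ℕ)) := [
  [[1,476],
   [435,3],
   [2,436],
   [641,0],
   [1,642],
   [643,3],
   [2,644],
   [641,1],
   [0,642],
   [647,3],
   [2,648],
   [275,4],
   [4,276],
   [465,4],
   [4,466],
   [449,3],
   [2,450],
   [655,0],
   [1,656],
   [657,2],
   [3,658],
   [659,4],
   [4,660],
   [643,2],
   [3,644],
   [365,2],
   [3,366],
   [665,0],
   [1,666],
   [667,2],
   [3,668],
   [665,1]],
  [[0,666],
   [671,2],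
   [3,672],
   [647,2],
   [3,648],
   [293,3],
   [2,294],
   [677,4],
   [4,678],
   [679,3],
   [2,680],
   [681,4],
   [4,682],
   [297,3],
   [2,298],
   [685,4],
   [4,686],
   [687,3],
   [2,688],
   [689,4],
   [4,690],
   [395,3],
   [2,396],
   [693,3],
   [2,694],
   [695,4],
   [4,696],
   [397,3],
   [2,398],
   [699,3],
   [2,700],
   [701,4]],
  [[4,702],
   [473,2],
   [3,474],
   [705,0],
   [1,706],
   [705,1],
   [0,706],
   [439,3],
   [2,440],
   [251,4],
   [4,252],
   [535,3],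
   [2,536],
   [715,1],
   [0,716],
   [507,2],
   [3,508],
   [715,0],
   [1,716],
   [613,3],
   [2,614],
   [723,4],
   [4,724],
   [259,4],
   [4,260],
   [727,3],
   [2,728],
   [729,3],
   [2,730],
   [253,4],
   [4,254],
   [733,3]],
  [[2,734],
   [735,3],
   [2,736],
   [219,2],
   [3,220],
   [739,4],
   [4,740],
   [741,3],
   [2,742],
   [229,2],
   [3,230],
   [745,4],
   [4,746],
   [747,3],
   [2,748],
   [285,3],
   [2,286],
   [269,3],
   [2,270],
   [553,4],
   [4,554],
   [755,3],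
   [2,756],
   [757,3],
   [2,758],
   [759,0],
   [1,760],
   [595,2],
   [3,596],
   [523,0],
   [1,524],
   [765,2]]]

/-- part 6 of `atomDefs` -/
def atomDefsP6 : List (List (List ℕ)) := [
  [[3,766],
   [523,1],
   [0,524],
   [769,2],
   [3,770],
   [587,2],
   [3,588],
   [311,2],
   [3,312],
   [305,2],
   [3,306],
   [333,4],
   [4,334],
   [779,3],
   [2,780],
   [781,3],
   [2,782],
   [489,2],
   [3,490],
   [785,4],
   [4,786],
   [787,3],
   [2,788],
   [789,3],
   [2,790],
   [607,3],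
   [2,608],
   [793,4],
   [4,794],
   [295,1],
   [0,296],
   [797,4]],
  [[4,798],
   [799,3],
   [2,800],
   [213,4],
   [4,214],
   [295,0],
   [1,296],
   [805,4],
   [4,806],
   [807,3],
   [2,808],
   [629,2],
   [3,630],
   [811,4],
   [4,812],
   [639,2],
   [3,640],
   [815,4],
   [4,816],
   [451,3],
   [2,452],
   [801,4],
   [4,802],
   [821,3],
   [2,822],
   [823,4],
   [4,824],
   [803,3],
   [2,804],
   [379,4],
   [4,380],
   [345,2]],
  [[3,346],
   [831,1],
   [0,832],
   [833,4],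
   [4,834],
   [835,2],
   [3,836],
   [559,4],
   [4,560],
   [839,2],
   [3,840],
   [841,2],
   [3,842],
   [509,3],
   [2,510],
   [397,2],
   [3,398],
   [847,0],
   [1,848],
   [849,4],
   [4,850],
   [851,3],
   [2,852],
   [671,4],
   [4,672],
   [667,4],
   [4,668],
   [237,1],
   [0,238],
   [859,4],
   [4,860],
   [237,0]],
  [[1,238],
   [863,4],
   [4,864],
   [233,1],
   [0,234],
   [867,4],
   [4,868],
   [233,0],
   [1,234],
   [871,4],
   [4,872],
   [195,9,111],
   [112,10,196],
   [201,195,121],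
   [122,196,202],
   [201,193],
   [194,202],
   [21,197],
   [198,22],
   [827,3],
   [2,828],
   [883,0],
   [1,884],
   [885,3],
   [2,886],
   [831,4],
   [4,832],
   [889,2],
   [3,890],
   [277,4],
   [4,278],
   [893,2]]]

/-- part 7 of `atomDefs` -/
def atomDefsP7 : List (List (List ℕ)) := [
  [[3,894],
   [459,2],
   [3,460],
   [897,2],
   [3,898],
   [323,2],
   [3,324],
   [223,2],
   [3,224],
   [903,4],
   [4,904],
   [905,3],
   [2,906],
   [907,4],
   [4,908],
   [497,2],
   [3,498],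
   [911,1],
   [0,912],
   [611,3],
   [2,612],
   [915,4],
   [4,916],
   [917,2],
   [3,918],
   [919,4],
   [4,920],
   [921,2],
   [3,922]]]

/-- certificate data -/
def atomDefs : List (List (List ℕ)) :=
  [atomDefsP0, atomDefsP1, atomDefsP2, atomDefsP3, atomDefsP4, atomDefsP5, atomDefsP6, atomDefsP7].flatten

/-- the table with the named permutations -/
def space : Space where
  C := certU
  A := (.node (.node (.node atoms0 atoms4) (.node atoms2 atoms6)) (.node (.node atoms1 atoms5) (.node atoms3 atoms7)))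
  cnt := 925
  D := fun n => (atomDefs.getD (n / 32) []).getD (n % 32) []

end CfsgLib.HN
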