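import Cfsg.Agent.Lib.DCoset.Index
import Cfsg.Agent.Lib.HN.UpperData
import Cfsg.Agent.Lib.HN.LowerData
import Cfsg.Agent.Lib.HN.Space

/-!
The two certificates agree.
-/

set_option autoImplicit false
set_option linter.style.longLine false

namespace CfsgLib.HN
open CfsgLib.CosetEnum CfsgLib.DCoset CfsgLib.DCoset.Space

/-- part 0 of `link0` -/
def link0P0 : List (List (ℕ × Bool)) := [
  [(0,false)]]

/-- part 1 of `link0` -/
def link0P1 : List (List (ℕ × Bool)) := [
  [(2,false),(0,false),(2,true)]]

/-- part 2 of `link0` -/
def link0P2 : List (List (ℕ × Bool)) := [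
  [(2,false),(0,false),(2,true),(0,false),(1,false)]]

/-- part 3 of `link0` -/
def link0P3 : List (List (ℕ × Bool)) := [
  [(1,true),(0,true),(2,false),(0,true),(2,true)]]

/-- part 4 of `link0` -/
def link0P4 : List (List (ℕ × Bool)) := [
  [(2,false)]]

/-- part 5 of `link0` -/
def link0P5 : List (List (ℕ × Bool)) := [
  [(2,false),(1,false),(0,true),(1,false),(1,false),(0,false),(1,false),(2,true),(1,false),(0,true),(2,false),(0,false),(2,true),(0,false),(1,false),(0,false),(1,false),(0,false),(1,false),(1,false),(0,true),(1,true),(0,true),(1,false),(0,false),(0,false),(1,true),(0,true),(1,true),(0,true),(2,false),(0,true),(2,true),(1,true),(0,true),(1,true),(0,true),(2,false),(0,true),(0,true),(2,false),(0,false),(1,false),(0,true),(1,true),(0,true),(1,false),(0,false),(0,false),(1,false),(0,true),(1,true),(0,true),(1,false),(0,false),(0,false),(1,false),(0,true),(1,true),(0,true),(1,false),(0,false),(0,false),(1,false),(0,true),(1,true),(0,true),(1,false),(0,false),(0,false),(1,true),(0,true),(1,true),(0,true),(2,false),(0,true),(2,true),(1,true),(0,true),(1,true),(0,true),(2,false),(0,true),(0,true),(2,fa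lse),(0,false),(1,false),(0,true),(1,true),(0,true),(1,false),(0,false),(0,false),(1,true),(0,true),(1,true),(0,true),(2,false),(0,true),(2,true),(0,false),(1,false),(0,true),(1,false),(0,false),(1,false),(0,true),(1,true),(0,true),(1,false),(0,false),(0,false),(1,false),(0,true),(1,true),(0,true),(1,false),(0,false),(2,true),(0,false),(0,false),(2,true),(0,false),(1,false),(0,false),(1,false),(2,false),(0,false),(2,true),(0,false),(1,false),(0,false),(1,false),(0,true),(0,true),(1,true),(0,false),(1,false),(0,false),(1,true),(0,true),(0,true),(1,true),(0,false),(1,false),(0,false),(1,true),(0,true),(0,true),(1,true),(0,false),(1,false),(0,false),(1,true),(0,true),(0,true),(1,true),(0,false),(1,false),(0,false),(1,true),(0,true),(2,true),(0,false),(0,false),(2,true),(0,false),(1,false),(0,false),(1,false),(2,false),(0,false),(2,true),(0,false),(1,false),(0,false),(1,false),(0,true),(0,true),(1,true),(0,false),(1,false),(0,false),(1,true),(1,true),(0,true),(1,true),(0,true),(1,true),(0,true),(2,false),(0,true),(2,true),(0,false),(1,true),(0,false),(1,false),(0,true),(1,true),(0,true),(1,false),(0,false),(0,false),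(1,true),(0,true),(1,true),(0,true),(2,false),(0,true),(2,true),(1,true),(0,true),(1,true),(0,true),(2,false),(0,true),(0,true),(2,false),(0,false),(1,false),(0,true),(1,true),(0,true),(1,false),(0,false),(0,false),(1,true),(0,true),(1,true),(0,true),(2,false),(0,true),(2,true),(0,false),(1,false),(0,true),(1,false),(0,false),(1,false),(0,true),(1,true),(0,true),(1,false),(0,false),(0,false),(1,true),(0,true),(1,true),(0,true),(2,false),(0,true),(2,true),(0,false),(1,false),(0,true),(1,false),(2,true),(0,false),(0,false),(2,true),(0,false),(1,false),(0,false),(1,false),(2,false),(0,false),(2,true),(0,false),(1,false),(0,false),(1,false),(0,true),(0,true),(1,true),(0,false),(1,false),(0,false),(1,true),(0,true),(1,false),(0,true),(2,false),(0,false),(2,true),(0,false),(1,false),(0,false),(1,false),(0,false),(1,false),(1,false),(0,true),(1,true),(0,true),(1,false),(0,false),(0,false),(1,true),(0,true),(1,true),(0,true),(2,false),(0,true),(2,true),(1,true),(0,true),(1,true),(0,true),(2,false),(0,true),(0,true),(2,false),(0,false),(1,false),(0,true),(1,true),(0,true),(1,false),(0,false),(0,false),(1,false),(0,true),(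1,true),(0,true),(1,false),(0,false),(0,false),(1,false),(0,true),(1,true),(0,true),(1,false),(0,false),(0,false),(1,false),(0,true),(1,true),(0,true),(1,false),(0,false),(0,false),(1,true),(0,true),(1,true),(0,true),(2,false),(0,true),(2,true),(1,true),(0,true),(1,true),(0,true),(2,false),(0,true),(0,true),(2,false),(0,true),(1,true),(0,false),(1,false),(0,false),(1,true),(0,true),(0,true),(1,true),(0,false),(1,false),(0,false),(1,true),(0,true),(2,true),(0,false),(0,false),(2,true),(0,false),(1,false),(0,false),(1,false),(2,false),(0,false),(2,true),(0,false),(1,false),(0,false),(1,false),(0,true),(0,true),(1,true),(0,false),(1,false),(0,false),(1,true),(0,true),(2,false),(1,false),(0,true),(1,false),(1,false),(0,false),(1,false),(2,true),(1,false),(0,true),(2,false),(0,false),(2,true),(0,false),(1,false),(0,false),(1,false),(0,false),(1,false),(1,false),(0,true),(1,true),(0,true),(1,false),(0,false),(0,false),(1,true),(0,true),(1,true),(0,true),(2,false),(0,true),(2,true),(1,true),(0,true),(1,true),(0,true),(2,false),(0,true),(0,true),(2,false),(0,false),(1,false),(0,true),(1,true),(0,true),(1,false),(0,false)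,(0,false),(1,false),(0,true),(1,true),(0,true),(1,false),(0,false),(0,false),(1,false),(0,true),(1,true),(0,true),(1,false),(0,false),(0,false),(1,false),(0,true),(1,true),(0,true),(1,false),(0,false),(0,false),(1,true),(0,true),(1,true),(0,true),(2,false),(0,true),(2,true),(1,true),(0,true),(1,true),(0,true),(2,false),(0,true),(0,true),(2,false),(0,false),(1,false),(0,true),(1,true),(0,true),(1,false),(0,false),(0,false),(1,true),(0,true),(1,true),(0,true),(2,false),(0,true),(2,true),(0,false),(1,false),(0,true),(1,false),(0,false),(1,false),(0,true),(1,true),(0,true),(1,false),(0,false),(0,false),(1,false),(0,true),(1,true),(0,true),(1,false),(0,false),(2,true),(0,false),(0,false),(2,true),(0,false),(1,false),(0,false),(1,false),(2,false),(0,false),(2,true),(0,false),(1,false),(0,false),(1,false),(0,true),(0,true),(1,true),(0,false),(1,false),(0,false),(1,true),(0,true),(0,true),(1,true),(0,false),(1,false),(0,false),(1,true),(0,true),(0,true),(1,true),(0,false),(1,false),(0,false),(1,true),(0,true),(0,true),(1,true),(0,false),(1,false),(0,false),(1,true),(0,true),(2,true),(0,false),(0,false),(2,true),(0,false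),(1,false),(0,false),(1,false),(2,false),(0,false),(2,true),(0,false),(1,false),(0,false),(1,false),(0,true),(0,true),(1,true),(0,false),(1,false),(0,false),(1,true),(1,true),(0,true),(1,true),(0,true),(1,true),(0,true),(2,false),(0,true),(2,true),(0,false),(1,true),(0,false),(1,false),(0,true),(1,true),(0,true),(1,false),(0,false),(0,false),(1,true),(0,true),(1,true),(0,true),(2,false),(0,true),(2,true),(1,true),(0,true),(1,true),(0,true),(2,false),(0,true),(0,true),(2,false),(0,false),(1,false),(0,true),(1,true),(0,true),(1,false),(0,false),(0,false),(1,true),(0,true),(1,true),(0,true),(2,false),(0,true),(2,true),(0,false),(1,false),(0,true),(1,false),(0,false),(1,true),(1,true),(0,true),(2,false),(1,false),(0,true),(1,false),(1,false),(0,false),(1,false),(2,true),(1,false),(0,true),(2,false),(0,false),(2,true),(0,false),(1,false),(0,false),(1,false),(0,false),(1,false),(1,false),(0,true),(1,true),(0,true),(1,false),(0,false),(0,false),(1,true),(0,true),(1,true),(0,true),(2,false),(0,true),(2,true),(1,true),(0,true),(1,true),(0,true),(2,false),(0,true),(0,true),(2,false),(0,false),(1,false),(0,true),(1,true),(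0,true),(1,false),(0,false),(0,false),(1,false),(0,true),(1,true),(0,true),(1,false),(0,false),(0,false),(1,false),(0,true),(1,true),(0,true),(1,false),(0,false),(0,false),(1,false),(0,true),(1,true),(0,true),(1,false),(0,false),(0,false),(1,true),(0,true),(1,true),(0,true),(2,false),(0,true),(2,true),(1,true),(0,true),(1,true),(0,true),(2,false),(0,true),(0,true),(2,false),(0,false),(1,false),(0,true),(1,true),(0,true),(1,false),(0,false),(0,false),(1,true),(0,true),(1,true),(0,true),(2,false),(0,true),(2,true),(0,false),(1,false),(0,true),(1,false),(0,false),(1,false),(0,true),(1,true),(0,true),(1,false),(0,false),(0,false),(1,false),(0,true),(1,true),(0,true),(1,false),(0,false),(2,true),(0,false),(0,false),(2,true),(0,false),(1,false),(0,false),(1,false),(2,false),(0,false),(2,true),(0,false),(1,false),(0,false),(1,false),(0,true),(0,true),(1,true),(0,false),(1,false),(0,false),(1,true),(0,true),(0,true),(1,true),(0,false),(1,false),(0,false),(1,true),(0,true),(0,true),(1,true),(0,false),(1,false),(0,false),(1,true),(0,true),(0,true),(1,true),(0,false),(1,false),(0,false),(1,true),(0,true),(2,true),(0,false),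(0,false),(2,true),(0,false),(1,false),(0,false),(1,false),(2,false),(0,false),(2,true),(0,false),(1,false),(0,false),(1,false),(0,true),(0,true),(1,true),(0,false),(1,false),(0,false),(1,true),(1,true),(0,true),(1,true),(0,true),(1,true),(0,true),(2,false),(0,true),(2,true),(0,false),(1,true),(0,false),(1,false),(0,true),(1,true),(0,true),(1,false),(0,false),(0,false),(1,true),(0,true),(1,true),(0,true),(2,false),(0,true),(2,true),(1,true),(0,true),(1,true),(0,true),(2,false),(0,true),(0,true),(2,false),(0,false),(1,false),(0,true),(1,true),(0,true),(1,false),(0,false),(0,false),(1,true),(0,true),(1,true),(0,true),(2,false),(0,true),(2,true),(0,false),(1,false),(0,true),(1,false)]]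

/-- part 6 of `link0` -/
def link0P6 : List (List (ℕ × Bool)) := [
  [(2,false),(1,false),(0,true),(1,false),(1,false),(0,false),(1,false),(2,true),(1,false),(0,true),(2,false),(0,false),(2,true),(0,false),(1,false),(0,false),(1,false),(0,false),(1,false),(1,false),(0,true),(1,true),(0,true),(1,false),(0,false),(0,false),(1,true),(0,true),(1,true),(0,true),(2,false),(0,true),(2,true),(1,true),(0,true),(1,true),(0,true),(2,false),(0,true),(0,true),(2,false),(0,false),(1,false),(0,true),(1,true),(0,true),(1,false),(0,false),(0,false),(1,false),(0,true),(1,true),(0,true),(1,false),(0,false),(0,false),(1,false),(0,true),(1,true),(0,true),(1,false),(0,false),(0,false),(1,false),(0,true),(1,true),(0,true),(1,false),(0,false),(0,false),(1,true),(0,true),(1,true),(0,true),(2,false),(0,true),(2,true),(1,true),(0,true),(1,true),(0,true),(2,false),(0,true),(0,true),(2,false),(0,false),(1,false),(0,true),(1,true),(0,true),(1,false),(0,false),(0,false),(1,true),(0,true),(1,true),(0,true),(2,false),(0,true),(2,true),(0,false),(1,false),(0,true),(1,false),(0,false),(1,false),(0,true),(1,true),(0,true),(1,false),(0,false),(0,f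alse),(1,false),(0,true),(1,true),(0,true),(1,false),(0,false),(2,true),(0,false),(0,false),(2,true),(0,false),(1,false),(0,false),(1,false),(2,false),(0,false),(2,true),(0,false),(1,false),(0,false),(1,false),(0,true),(0,true),(1,true),(0,false),(1,false),(0,false),(1,true),(0,true),(0,true),(1,true),(0,false),(1,false),(0,false),(1,true),(0,true),(0,true),(1,true),(0,false),(1,false),(0,false),(1,true),(0,true),(0,true),(1,true),(0,false),(1,false),(0,false),(1,true),(0,true),(2,true),(0,false),(0,false),(2,true),(0,false),(1,false),(0,false),(1,false),(2,false),(0,false),(2,true),(0,false),(1,false),(0,false),(1,false),(0,true),(0,true),(1,true),(0,false),(1,false),(0,false),(1,true),(1,true),(0,true),(1,true),(0,true),(1,true),(0,true),(2,false),(0,true),(2,true),(0,false),(1,true),(0,false),(1,false),(0,true),(1,true),(0,true),(1,false),(0,false),(0,false),(1,true),(0,true),(1,true),(0,true),(2,false),(0,true),(2,true),(1,true),(0,true),(1,true),(0,true),(2,false),(0,true),(0,true),(2,false),(0,false),(1,false),(0,true),(1,true),(0,true),(1,false),(0,false),(0,false),(1,true),(0,true),(1,true),(0,true),(2,fa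lse),(0,true),(2,true),(0,false),(1,false),(0,true),(1,false),(0,false),(1,false),(0,true),(1,true),(0,true),(1,false),(0,false),(0,false),(1,true),(0,true),(1,true),(0,true),(2,false),(0,true),(2,true),(0,false),(1,false),(0,true),(1,false),(2,true),(0,false),(0,false),(2,true),(0,false),(1,false),(0,false),(1,false),(2,false),(0,false),(2,true),(0,false),(1,false),(0,false),(1,false),(0,true),(0,true),(1,true),(0,false),(1,false),(0,false),(1,true),(0,true),(2,true),(0,false),(0,false),(2,true),(0,false),(1,false),(0,false),(1,false),(2,false),(0,false),(2,true),(0,false),(1,false),(0,false),(1,false),(0,true),(0,true),(1,true),(0,false),(1,false),(0,false),(1,true),(0,true),(0,true),(1,true),(0,false),(1,false),(0,false),(1,true),(0,true),(0,true),(1,true),(0,false),(1,false),(0,false),(1,true),(0,true),(0,true),(1,true),(0,false),(1,false),(0,false),(1,true),(0,true),(2,true),(0,false),(0,false),(2,true),(0,false),(1,false),(0,false),(1,false),(2,false),(0,false),(2,true),(0,false),(1,false),(0,false),(1,false),(0,true),(0,true),(1,true),(0,false),(1,false),(0,false),(1,true),(1,true),(0,true),(1,true),(0,true),(1,true),(0,true),(2,false),(0,true),(2,true),(0,false),(1,true),(0,false),(1,false),(0,true),(1,true),(0,true),(1,false),(0,false),(0,false),(1,false),(0,true),(1,true),(0,true),(1,false),(0,false)]]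

/-- part 7 of `link0` -/
def link0P7 : List (List (ℕ × Bool)) := [
  [(2,false),(1,false),(0,true),(1,false),(1,false),(0,false),(1,false),(2,true),(1,false),(0,true),(2,false),(0,false),(2,true),(0,false),(1,false),(0,false),(1,false),(0,false),(1,false),(1,false),(0,true),(1,true),(0,true),(1,false),(0,false),(0,false),(1,true),(0,true),(1,true),(0,true),(2,false),(0,true),(2,true),(1,true),(0,true),(1,true),(0,true),(2,false),(0,true),(0,true),(2,false),(0,false),(1,false),(0,true),(1,true),(0,true),(1,false),(0,false),(0,false),(1,false),(0,true),(1,true),(0,true),(1,false),(0,false),(0,false),(1,false),(0,true),(1,true),(0,true),(1,false),(0,false),(0,false),(1,false),(0,true),(1,true),(0,true),(1,false),(0,false),(0,false),(1,true),(0,true),(1,true),(0,true),(2,false),(0,true),(2,true),(1,true),(0,true),(1,true),(0,true),(2,false),(0,true),(0,true),(2,false),(0,false),(1,false),(0,true),(1,true),(0,true),(1,false),(0,false),(0,false),(1,true),(0,true),(1,true),(0,true),(2,false),(0,true),(2,true),(0,false),(1,false),(0,true),(1,false),(0,false),(1,false),(0,true),(1,true),(0,true),(1,false),(0,false),(0,f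alse),(1,false),(0,true),(1,true),(0,true),(1,false),(0,false),(2,true),(0,false),(0,false),(2,true),(0,false),(1,false),(0,false),(1,false),(2,false),(0,false),(2,true),(0,false),(1,false),(0,false),(1,false),(0,true),(0,true),(1,true),(0,false),(1,false),(0,false),(1,true),(0,true),(0,true),(1,true),(0,false),(1,false),(0,false),(1,true),(0,true),(0,true),(1,true),(0,false),(1,false),(0,false),(1,true),(0,true),(0,true),(1,true),(0,false),(1,false),(0,false),(1,true),(0,true),(2,true),(0,false),(0,false),(2,true),(0,false),(1,false),(0,false),(1,false),(2,false),(0,false),(2,true),(0,false),(1,false),(0,false),(1,false),(0,true),(0,true),(1,true),(0,false),(1,false),(0,false),(1,true),(1,true),(0,true),(1,true),(0,true),(1,true),(0,true),(2,false),(0,true),(2,true),(0,false),(1,true),(0,true),(1,true),(0,false),(1,false),(0,false),(1,true),(0,true),(0,true),(1,true),(0,false),(1,false),(0,false),(1,true),(0,true),(0,true),(1,true),(0,false),(1,false),(0,false),(1,true),(0,true),(2,true),(0,false),(0,false),(2,true),(0,false),(1,false),(0,false),(1,false),(2,false),(0,false),(2,true),(0,false),(1,false),(0,false),(1,false),(0,true),(0,true),(1,true),(0,false),(1,false),(0,false),(1,true),(1,true),(0,true),(1,true),(0,true),(1,true),(0,true),(2,false),(0,true),(2,true),(0,false),(1,true),(2,true),(0,false),(0,false),(2,true),(0,false),(1,false),(0,false),(1,false),(2,false),(0,false),(2,true),(0,false),(1,false),(0,false),(1,false),(0,true),(0,true),(1,true),(0,false),(1,false),(0,false),(1,true),(0,true)]]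

/-- part 8 of `link0` -/
def link0P8 : List (List (ℕ × Bool)) := [
  [(2,false),(1,false),(0,true),(1,false),(1,false),(0,false),(1,false),(2,true),(1,false),(0,true),(2,false),(0,false),(2,true),(0,false),(1,false),(0,false),(1,false),(0,false),(1,false),(1,false),(0,true),(1,true),(0,true),(1,false),(0,false),(0,false),(1,true),(0,true),(1,true),(0,true),(2,false),(0,true),(2,true),(1,true),(0,true),(1,true),(0,true),(2,false),(0,true),(0,true),(2,false),(0,false),(1,false),(0,true),(1,true),(0,true),(1,false),(0,false),(0,false),(1,false),(0,true),(1,true),(0,true),(1,false),(0,false),(0,false),(1,false),(0,true),(1,true),(0,true),(1,false),(0,false),(0,false),(1,false),(0,true),(1,true),(0,true),(1,false),(0,false),(0,false),(1,true),(0,true),(1,true),(0,true),(2,false),(0,true),(2,true),(1,true),(0,true),(1,true),(0,true),(2,false),(0,true),(0,true),(2,false),(0,false),(1,false),(0,true),(1,true),(0,true),(1,false),(0,false),(0,false),(1,true),(0,true),(1,true),(0,true),(2,false),(0,true),(2,true),(0,false),(1,false),(0,true),(1,false),(0,false),(1,false),(0,true),(1,true),(0,true),(1,false),(0,false),(0,f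alse),(1,false),(0,true),(1,true),(0,true),(1,false),(0,false),(2,true),(0,false),(0,false),(2,true),(0,false),(1,false),(0,false),(1,false),(2,false),(0,false),(2,true),(0,false),(1,false),(0,false),(1,false),(0,true),(0,true),(1,true),(0,false),(1,false),(0,false),(1,true),(0,true),(0,true),(1,true),(0,false),(1,false),(0,false),(1,true),(0,true),(0,true),(1,true),(0,false),(1,false),(0,false),(1,true),(0,true),(0,true),(1,true),(0,false),(1,false),(0,false),(1,true),(0,true),(2,true),(0,false),(0,false),(2,true),(0,false),(1,false),(0,false),(1,false),(2,false),(0,false),(2,true),(0,false),(1,false),(0,false),(1,false),(0,true),(0,true),(1,true),(0,false),(1,false),(0,false),(1,true),(1,true),(0,true),(1,true),(0,true),(1,true),(0,true),(2,false),(0,true),(2,true),(0,false),(1,true),(0,false),(1,false),(0,true),(1,true),(0,true),(1,false),(0,false),(0,false),(1,true),(0,true),(1,true),(0,true),(2,false),(0,true),(2,true),(1,true),(0,true),(1,true),(0,true),(2,false),(0,true),(0,true),(2,false)]]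

/-- part 9 of `link0` -/
def link0P9 : List (List (ℕ × Bool)) := [
  [(2,false),(1,false),(0,true),(1,false),(1,false),(0,false),(1,false),(2,true),(1,false),(0,true),(2,false),(0,false),(2,true),(0,false),(1,false),(0,false),(1,false),(0,false),(1,false),(1,false),(0,true),(1,true),(0,true),(1,false),(0,false),(0,false),(1,true),(0,true),(1,true),(0,true),(2,false),(0,true),(2,true),(1,true),(0,true),(1,true),(0,true),(2,false),(0,true),(0,true),(2,false),(0,false),(1,false),(0,true),(1,true),(0,true),(1,false),(0,false),(0,false),(1,false),(0,true),(1,true),(0,true),(1,false),(0,false),(0,false),(1,false),(0,true),(1,true),(0,true),(1,false),(0,false),(0,false),(1,false),(0,true),(1,true),(0,true),(1,false),(0,false),(0,false),(1,true),(0,true),(1,true),(0,true),(2,false),(0,true),(2,true),(1,true),(0,true),(1,true),(0,true),(2,false),(0,true),(0,true),(2,false),(0,false),(1,false),(0,true),(1,true),(0,true),(1,false),(0,false),(0,false),(1,true),(0,true),(1,true),(0,true),(2,false),(0,true),(2,true),(0,false),(1,false),(0,true),(1,false),(0,false),(1,false),(0,true),(1,true),(0,true),(1,false),(0,false),(0,f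alse),(1,false),(0,true),(1,true),(0,true),(1,false),(0,false),(2,true),(0,false),(0,false),(2,true),(0,false),(1,false),(0,false),(1,false),(2,false),(0,false),(2,true),(0,false),(1,false),(0,false),(1,false),(0,true),(0,true),(1,true),(0,false),(1,false),(0,false),(1,true),(0,true),(0,true),(1,true),(0,false),(1,false),(0,false),(1,true),(0,true),(0,true),(1,true),(0,false),(1,false),(0,false),(1,true),(0,true),(0,true),(1,true),(0,false),(1,false),(0,false),(1,true),(0,true),(2,true),(0,false),(0,false),(2,true),(0,false),(1,false),(0,false),(1,false),(2,false),(0,false),(2,true),(0,false),(1,false),(0,false),(1,false),(0,true),(0,true),(1,true),(0,false),(1,false),(0,false),(1,true),(1,true),(0,true),(1,true),(0,true),(1,true),(0,true),(2,false),(0,true),(2,true),(0,false),(1,true),(0,false),(1,false),(0,true),(1,true),(0,true),(1,false),(0,false),(0,false),(1,true),(0,true),(1,true),(0,true),(2,false),(0,true),(2,true),(1,true),(0,true),(1,true),(0,true),(2,false),(0,true),(0,true),(2,false),(0,false),(1,false),(0,true),(1,true),(0,true),(1,false),(0,false),(0,false),(1,true),(0,true),(1,true),(0,true),(2,false),(0,true),(2,true),(0,false),(1,false),(0,true),(1,false)]]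

/-- certificate data -/
def link0 : List (List (ℕ × Bool)) :=
  [link0P0, link0P1, link0P2, link0P3, link0P4, link0P5, link0P6, link0P7, link0P8, link0P9].flatten

theorem linkChk0 : linkOK upper lower space 225 0 link0 = true := by decide +kernel

/-- part 0 of `link1` -/
def link1P0 : List (List (ℕ × Bool)) := [
  [(6,true),(5,false),(5,false),(6,false),(5,false),(6,false),(5,true),(6,false),(5,true),(6,true),(5,false),(6,false),(5,true),(6,true),(5,false),(6,false),(5,true),(6,true),(5,true),(6,true),(6,true),(5,true),(6,false),(5,false),(6,false),(5,true),(5,true),(5,true),(6,true),(6,true),(5,false),(5,false),(6,false),(5,false),(6,false),(5,true),(6,false),(5,true),(6,true),(5,false),(6,false),(5,true),(6,true),(5,false),(6,false),(5,true),(6,true),(5,true),(6,true),(6,true),(5,true),(6,false),(5,false),(6,true),(5,false),(6,true),(5,true),(6,true),(5,true),(6,true),(6,true),(5,false),(6,false),(5,false)]]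

/-- part 1 of `link1` -/
def link1P1 : List (List (ℕ × Bool)) := [
  [(6,true),(5,true),(6,false),(5,false),(6,true),(5,false),(5,false),(6,false),(5,false),(6,true),(5,true),(6,false),(5,false),(6,true),(5,false),(5,false),(6,false),(5,false),(6,false),(5,true),(6,false),(5,true),(6,true),(5,false),(6,false),(5,true),(6,true),(5,false),(6,false),(5,true),(6,true),(5,true),(6,true),(6,true),(5,true),(6,false),(5,false),(6,true),(5,false),(6,true),(5,true),(6,true),(5,true),(6,true),(6,true),(5,true),(6,false),(5,false),(6,false),(5,false),(6,false),(5,false)]]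

/-- part 2 of `link1` -/
def link1P2 : List (List (ℕ × Bool)) := [
  [(6,false),(5,true),(6,false),(6,false),(5,true),(5,true),(5,true),(6,true),(6,true),(5,true),(6,false),(5,false),(6,true),(5,false),(6,true),(6,true),(5,false),(6,true)]]

/-- part 3 of `link1` -/
def link1P3 : List (List (ℕ × Bool)) := [
  [(6,true),(5,false),(5,false),(6,false),(5,false),(6,false),(5,true),(6,false),(5,true),(6,true),(5,false),(6,false),(5,true),(6,true),(5,false),(6,false),(5,true),(6,true),(5,true),(6,true),(6,true),(5,true),(6,false),(5,false),(6,false),(5,true),(5,true),(5,true),(6,true),(6,true),(5,false),(6,true),(6,true),(5,true),(6,false),(5,false),(6,true),(5,false),(5,false),(6,false),(5,false),(6,true),(5,true),(6,false),(5,false),(6,false),(5,false),(5,false),(6,false),(6,false),(5,false),(6,false),(5,false)]]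

/-- part 4 of `link1` -/
def link1P4 : List (List (ℕ × Bool)) := [
  [(6,false),(5,false),(6,false),(5,false),(6,false),(5,true),(6,false),(6,false),(5,true),(5,true),(6,false),(5,false),(6,true),(5,true),(6,false),(5,false)]]

/-- part 5 of `link1` -/
def link1P5 : List (List (ℕ × Bool)) := [
  [(6,false),(5,true),(6,false),(6,false),(5,true),(5,true),(5,true),(6,true),(6,true),(5,false),(6,true),(6,true),(5,true),(6,false),(5,false),(6,true),(5,false),(5,false),(6,false),(5,false),(6,true),(5,true),(6,false),(5,false),(6,true),(5,false),(5,false),(6,false),(5,false),(6,false),(5,true),(6,false),(5,true),(6,true),(5,false),(6,false),(5,true),(6,true),(5,false),(6,false),(5,true),(6,true),(5,true),(6,true),(6,true),(5,true),(6,false),(5,false),(6,true),(5,false),(6,true),(5,true),(6,true),(5,true),(6,true),(6,true),(5,true),(6,false),(5,false),(6,true),(5,false),(5,false),(6,false),(5,false),(6,false),(5,true),(6,false),(5,true),(6,true),(5,false),(6,false),(5,true),(6,true),(5,false),(6,false),(5,true),(6,true),(5,true),(6,true),(6,true),(5,true),(6,false),(5,false),(6,true),(5,false),(6,true),(5,true),(6,true),(5,true),(6,true)]]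

/-- certificate data -/
def link1 : List (List (ℕ × Bool)) :=
  [link1P0, link1P1, link1P2, link1P3, link1P4, link1P5].flatten

theorem linkChk1 : linkOK upper lower space 225 1 link1 = true := by decide +kernel

/-- part 0 of `link2` -/
def link2P0 : List (List (ℕ × Bool)) := [
  [(13,true),(15,true),(13,true),(14,false),(13,true),(15,true),(13,true),(14,false),(13,true),(14,true),(15,true),(13,true),(13,true),(14,true),(15,true),(24,false),(13,false)]]

/-- part 1 of `link2` -/
def link2P1 : List (List (ℕ × Bool)) := [
  [(15,false),(14,true),(15,false),(14,false),(15,false),(13,true),(13,true),(13,true),(15,true),(13,true),(14,false),(13,true),(15,true),(13,true),(14,false),(13,true),(14,true),(15,true),(13,true)]]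

/-- part 2 of `link2` -/
def link2P2 : List (List (ℕ × Bool)) := [
  [(14,true),(13,false),(15,false),(13,false),(14,true),(13,false),(15,false),(14,true),(15,true),(15,true),(13,false)]]

/-- part 3 of `link2` -/
def link2P3 : List (List (ℕ × Bool)) := [
  [(13,true),(15,true),(13,true),(14,false),(15,false),(14,false),(13,false),(15,true)]]

/-- part 4 of `link2` -/
def link2P4 : List (List (ℕ × Bool)) := [
  [(14,true),(13,false),(15,false),(13,false),(13,false),(14,true),(15,true),(13,true),(15,true),(13,false),(13,false),(15,true)]]

/-- part 5 of `link2` -/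
def link2P5 : List (List (ℕ × Bool)) := [
  [(15,false),(14,true),(15,false),(14,false),(15,false),(13,true),(13,true),(13,true),(15,true),(13,true),(14,false),(13,false),(13,false),(15,false),(14,false),(15,true),(14,true),(13,false),(15,false),(13,false)]]

/-- certificate data -/
def link2 : List (List (ℕ × Bool)) :=
  [link2P0, link2P1, link2P2, link2P3, link2P4, link2P5].flatten

theorem linkChk2 : linkOK upper lower space 225 2 link2 = true := by decide +kernel

/-- part 0 of `link3` -/
def link3P0 : List (List (ℕ × Bool)) := [
  [(29,false),(58,false),(41,false),(58,false),(41,false),(29,false),(58,false),(27,false),(36,true),(29,false),(27,false),(29,true),(41,false),(41,false),(58,true),(28,false),(58,true),(29,true),(36,false),(27,true),(58,true),(29,true),(41,true),(58,true),(41,true),(58,true),(29,true),(28,true),(41,true),(29,true),(58,false),(41,false)]]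

/-- part 1 of `link3` -/
def link3P1 : List (List (ℕ × Bool)) := [
  [(58,false),(29,false),(58,false),(41,false),(58,false),(41,false),(29,false),(58,false),(27,false),(36,true),(41,true),(41,true),(58,true),(29,true),(41,true)]]

/-- part 2 of `link3` -/
def link3P2 : List (List (ℕ × Bool)) := [
  [(27,false),(29,true),(41,false),(41,false),(58,true),(28,false),(41,false),(58,false),(41,false),(29,false),(58,false),(27,false),(36,true),(29,true),(28,true)]]

/-- part 3 of `link3` -/
def link3P3 : List (List (ℕ × Bool)) := [
  [(27,false),(29,true),(41,false),(41,false),(58,true),(28,false),(58,true),(29,true),(36,false),(27,true),(58,true),(29,true),(41,true),(58,true),(41,true),(58,true),(29,true),(58,false),(58,false),(41,true),(29,false),(58,false),(41,false),(58,false),(41,false),(29,false),(58,false),(27,false),(36,true),(29,true),(41,true)]]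

/-- part 4 of `link3` -/
def link3P4 : List (List (ℕ × Bool)) := [
  [(29,false),(58,false),(41,false),(58,false),(41,false),(29,false),(58,false),(27,false),(36,true),(29,false),(36,false),(27,true),(58,true),(29,true),(41,true),(58,true),(41,true),(58,true),(29,true),(41,true),(41,true),(29,false)]]

/-- part 5 of `link3` -/
def link3P5 : List (List (ℕ × Bool)) := [
  [(27,false),(29,true),(41,false),(41,false),(58,true),(28,false),(41,false),(58,false),(41,false),(29,false),(58,false),(27,false),(36,true),(29,false),(28,true),(41,false),(27,false),(29,true),(41,false),(41,false),(58,true),(28,false),(58,true),(29,true),(36,false),(27,true),(58,true),(29,true),(41,true),(58,true),(41,true),(58,true),(29,true),(41,false)]]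

/-- part 6 of `link3` -/
def link3P6 : List (List (ℕ × Bool)) := [
  [(41,true),(27,false),(29,true),(41,false),(41,false),(58,true),(28,false),(58,true),(29,true),(36,false),(27,true),(58,true),(29,true),(41,true),(58,true),(41,true),(58,true),(29,true),(41,true)]]

/-- certificate data -/
def link3 : List (List (ℕ × Bool)) :=
  [link3P0, link3P1, link3P2, link3P3, link3P4, link3P5, link3P6].flatten

theorem linkChk3 : linkOK upper lower space 225 3 link3 = true := by decide +kernel

/-- part 0 of `link4` -/
def link4P0 : List (List (ℕ × Bool)) := [
  [(46,true),(80,true),(46,true),(45,true)]]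

/-- part 1 of `link4` -/
def link4P1 : List (List (ℕ × Bool)) := [
  [(59,true)]]

/-- part 2 of `link4` -/
def link4P2 : List (List (ℕ × Bool)) := [
  [(59,true),(45,false),(59,true),(59,true),(59,true),(46,true),(80,true),(46,true),(80,true),(59,false),(45,false),(59,true)]]

/-- part 3 of `link4` -/
def link4P3 : List (List (ℕ × Bool)) := [
  [(59,true),(45,false),(59,true),(59,true),(45,true),(46,true),(80,true),(45,false),(59,true),(46,true),(80,true)]]

/-- part 4 of `link4` -/
def link4P4 : List (List (ℕ × Bool)) := [
  [(46,true),(45,true)]]

/-- part 5 of `link4` -/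
def link4P5 : List (List (ℕ × Bool)) := [
  [(59,true),(59,true),(46,true),(45,true),(59,true),(59,true)]]

/-- certificate data -/
def link4 : List (List (ℕ × Bool)) :=
  [link4P0, link4P1, link4P2, link4P3, link4P4, link4P5].flatten

theorem linkChk4 : linkOK upper lower space 225 4 link4 = true := by decide +kernel

/-- part 0 of `link5` -/
def link5P0 : List (List (ℕ × Bool)) := [
  [(118,false),(83,true),(118,true),(83,false),(118,false),(83,true),(118,true),(83,false),(84,true),(118,true)]]

/-- part 1 of `link5` -/
def link5P1 : List (List (ℕ × Bool)) := [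
  [(83,false),(84,true),(83,false),(118,false),(83,true),(118,true)]]

/-- part 2 of `link5` -/
def link5P2 : List (List (ℕ × Bool)) := [
  [(118,false),(83,true),(118,true),(83,false),(118,false),(83,true),(118,true),(83,false)]]

/-- part 3 of `link5` -/
def link5P3 : List (List (ℕ × Bool)) := [
  [(83,false),(118,false),(83,true),(118,true),(83,false)]]

/-- certificate data -/
def link5 : List (List (ℕ × Bool)) :=
  [link5P0, link5P1, link5P2, link5P3].flatten

theorem linkChk5 : linkOK upper lower space 225 5 link5 = true := by decide +kernel

/-- part 0 of `link6` -/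
def link6P0 : List (List (ℕ × Bool)) := [
  [(123,true),(153,true),(121,true),(146,true)]]

/-- part 1 of `link6` -/
def link6P1 : List (List (ℕ × Bool)) := [
  [(123,true),(146,true)]]

/-- part 2 of `link6` -/
def link6P2 : List (List (ℕ × Bool)) := [
  [(122,false),(121,false),(122,false),(123,true)]]

/-- part 3 of `link6` -/
def link6P3 : List (List (ℕ × Bool)) := [
  [(123,true),(121,false),(122,false)]]

/-- part 4 of `link6` -/
def link6P4 : List (List (ℕ × Bool)) := [
  [(122,false),(123,true),(121,false),(122,false)]]

/-- certificate data -/
def link6 : List (List (ℕ × Bool)) :=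
  [link6P0, link6P1, link6P2, link6P3, link6P4].flatten

theorem linkChk6 : linkOK upper lower space 225 6 link6 = true := by decide +kernel

/-- part 0 of `link7` -/
def link7P0 : List (List (ℕ × Bool)) := [
  [(201,true),(202,false),(182,true)]]

/-- part 1 of `link7` -/
def link7P1 : List (List (ℕ × Bool)) := [
  [(173,true),(182,false),(182,false),(202,true),(201,false),(202,true),(173,false)]]

/-- part 2 of `link7` -/
def link7P2 : List (List (ℕ × Bool)) := [
  [(172,true),(202,true),(173,false),(201,true),(201,true),(202,false)]]

/-- certificate data -/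
def link7 : List (List (ℕ × Bool)) :=
  [link7P0, link7P1, link7P2].flatten

theorem linkChk7 : linkOK upper lower space 225 7 link7 = true := by decide +kernel

/-- part 0 of `link8` -/
def link8P0 : List (List (ℕ × Bool)) := [
  [(215,false),(209,false),(215,true),(209,true),(208,false),(208,false),(207,false),(209,false),(215,false),(222,true),(222,true),(215,false),(208,true),(222,true)]]

/-- part 1 of `link8` -/
def link8P1 : List (List (ℕ × Bool)) := [
  [(222,false),(215,false),(222,true),(215,true)]]

/-- part 2 of `link8` -/
def link8P2 : List (List (ℕ × Bool)) := [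
  [(208,true),(215,false),(215,false),(222,true),(208,true),(209,false),(222,true),(208,true),(209,false)]]

/-- part 3 of `link8` -/
def link8P3 : List (List (ℕ × Bool)) := [
  [(208,true),(208,true),(209,false),(222,true),(215,false),(222,true),(207,true),(222,false),(215,false),(222,false)]]

/-- part 4 of `link8` -/
def link8P4 : List (List (ℕ × Bool)) := [
  [(209,false),(215,false),(215,false),(222,true),(208,true),(209,false),(222,true),(208,true),(209,false)]]

/-- part 5 of `link8` -/
def link8P5 : List (List (ℕ × Bool)) := [
  [(215,false),(209,false),(215,true),(209,true),(208,false),(208,false),(207,false),(208,true),(215,false),(215,false),(222,true),(208,true),(209,false),(222,true)]]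

/-- certificate data -/
def link8 : List (List (ℕ × Bool)) :=
  [link8P0, link8P1, link8P2, link8P3, link8P4, link8P5].flatten

theorem linkChk8 : linkOK upper lower space 225 8 link8 = true := by decide +kernel

theorem links : ∀ i < lower.ns, ∃ wit, linkOK upper lower space 225 i wit = true := by
  intro i hi
  match i, hi with
  | 0, _ => exact ⟨_, linkChk0⟩
  | 1, _ => exact ⟨_, linkChk1⟩
  | 2, _ => exact ⟨_, linkChk2⟩
  | 3, _ => exact ⟨_, linkChk3⟩
  | 4, _ => exact ⟨_, linkChk4⟩
  | 5, _ => exact ⟨_, linkChk5⟩
  | 6, _ => exact ⟨_, linkChk6⟩
  | 7, _ => exact ⟨_, linkChk7⟩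
  | 8, _ => exact ⟨_, linkChk8⟩
  | n + 9, h => exact absurd (show n + 9 < 9 from h) (by omega)

theorem parChk1 : parOK upper lower space 1 ⟨0,[]⟩ [0,0,0,0,0,0] = true := by decide +kernel

theorem parChk2 : parOK upper lower space 2 ⟨4,[]⟩ [0,0,0,0,0,0] = true := by decide +kernel

theorem parChk3 : parOK upper lower space 3 ⟨7,[]⟩ [0,0,0,0,0,0] = true := by decide +kernel

theorem parChk4 : parOK upper lower space 4 ⟨8,[]⟩ [0,0,0,0,0] = true := by decide +kernel

theorem parChk5 : parOK upper lower space 5 ⟨10,[]⟩ [0,0,0,0] = true := by decide +kernel

theorem parChk6 : parOK upper lower space 6 ⟨11,[]⟩ [0,0,0,0,0] = true := by decide +kernel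

theorem parChk7 : parOK upper lower space 7 ⟨15,[]⟩ [0,0] = true := by decide +kernel

theorem parChk8 : parOK upper lower space 8 ⟨29,[]⟩ [0,0,0,0,0,0] = true := by decide +kernel

theorem parents : ∀ j < lower.ns, 0 < j → ∃ w js, parOK upper lower space j w js = true := by
  intro j hj h0
  match j, hj with
  | 0, _ => omega
  | 1, _ => exact ⟨_, _, parChk1⟩
  | 2, _ => exact ⟨_, _, parChk2⟩
  | 3, _ => exact ⟨_, _, parChk3⟩
  | 4, _ => exact ⟨_, _, parChk4⟩
  | 5, _ => exact ⟨_, _, parChk5⟩
  | 6, _ => exact ⟨_, _, parChk6⟩
  | 7, _ => exact ⟨_, _, parChk7⟩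
  | 8, _ => exact ⟨_, _, parChk8⟩
  | n + 9, h => exact absurd (show n + 9 < 9 from h) (by omega)

end CfsgLib.HN
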