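import Cfsg.Agent.Lib.DCoset.Check

/-!
A relation on the cosets.
-/

set_option autoImplicit false
set_option linter.style.longLine false

namespace CfsgLib.HN
open CfsgLib.CosetEnum CfsgLib.DCoset CfsgLib.DCoset.Space
/-- part 0 of `cov0_0` -/
def cov0_0P0 : List (List Cov) := [
  [.rep 0 [] [⟨0,[]⟩,⟨2,[]⟩,⟨3,[]⟩,⟨1,[]⟩,⟨0,[]⟩] [1,0,0,0,0,0]]]

/-- certificate data -/
def cov0_0 : List (List Cov) :=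
  [cov0_0P0].flatten

/-- part 0 of `cov0_1` -/
def cov0_1P0 : List (List Cov) := [
  [.rep 0 [] [⟨0,[]⟩,⟨0,[(0,false),(0,false)]⟩,⟨2,[]⟩,⟨3,[]⟩,⟨1,[]⟩] [0,0,0,0,0,0]]]

/-- part 1 of `cov0_1` -/
def cov0_1P1 : List (List Cov) := [
  [.rep 0 [] [⟨1,[]⟩,⟨0,[]⟩,⟨0,[(0,false),(0,false)]⟩,⟨2,[]⟩,⟨3,[]⟩] [0,0,0,0,0,0]]]

/-- part 2 of `cov0_1` -/
def cov0_1P2 : List (List Cov) := [
  [.rep 0 [] [⟨2,[]⟩,⟨3,[]⟩,⟨1,[]⟩,⟨0,[]⟩,⟨0,[(0,false),(0,false)]⟩] [0,0,0,0,0,0]]]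

/-- part 3 of `cov0_1` -/
def cov0_1P3 : List (List Cov) := [
  [.rep 0 [] [⟨3,[]⟩,⟨1,[]⟩,⟨0,[]⟩,⟨0,[(0,false),(0,false)]⟩,⟨2,[]⟩] [0,0,0,0,0,0]]]

/-- part 4 of `cov0_1` -/
def cov0_1P4 : List (List Cov) := [
  [.rep 0 [] [⟨4,[]⟩,⟨2,[]⟩,⟨0,[(0,false)]⟩,⟨7,[(0,false),(4,false)]⟩,⟨0,[(0,false),(0,false),(0,false)]⟩] [36,0,2,0,3,1]]]

/-- part 5 of `cov0_1` -/
def cov0_1P5 : List (List Cov) := [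
  [.rep 0 [] [⟨5,[]⟩,⟨3,[(0,false)]⟩,⟨1,[(0,false),(0,false),(0,false)]⟩,⟨1,[(0,false)]⟩,⟨6,[(0,false),(1,false),(1,false),(0,false)]⟩] [34,0,2,4,1,0]]]

/-- part 6 of `cov0_1` -/
def cov0_1P6 : List (List Cov) := [
  [.rep 0 [] [⟨6,[]⟩,⟨5,[(0,true),(4,false),(1,true),(0,false)]⟩,⟨3,[(0,false)]⟩,⟨1,[(0,false),(0,false),(0,false)]⟩,⟨1,[(0,false)]⟩] [42,6,5,1,3,0]]]

/-- part 7 of `cov0_1` -/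
def cov0_1P7 : List (List Cov) := [
  [.rep 0 [] [⟨7,[]⟩,⟨0,[(0,false),(0,false),(0,false)]⟩,⟨4,[(4,true),(0,true)]⟩,⟨2,[]⟩,⟨0,[(0,false)]⟩] [3,0,3,2,1,2]]]

/-- part 8 of `cov0_1` -/
def cov0_1P8 : List (List Cov) := [
  [.rep 0 [] [⟨8,[]⟩,⟨5,[(0,false)]⟩,⟨6,[]⟩,⟨5,[(1,false),(0,false)]⟩,⟨0,[(0,false)]⟩] [30,0,4,4,1,2]]]

/-- part 9 of `cov0_1` -/
def cov0_1P9 : List (List Cov) := [
  [.rep 0 [] [⟨9,[]⟩,⟨4,[(5,true)]⟩,⟨3,[(0,false)]⟩,⟨1,[(0,false)]⟩,⟨9,[(5,false)]⟩] [47,4,2,4,0,0]]]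

/-- part 10 of `cov0_1` -/
def cov0_1P10 : List (List Cov) := [
  [.rep 0 [] [⟨10,[]⟩,⟨2,[]⟩,⟨3,[]⟩,⟨1,[]⟩,⟨0,[]⟩] [4,4,1,0,1,0]]]

/-- certificate data -/
def cov0_1 : List (List Cov) :=
  [cov0_1P0, cov0_1P1, cov0_1P2, cov0_1P3, cov0_1P4, cov0_1P5, cov0_1P6, cov0_1P7, cov0_1P8, cov0_1P9, cov0_1P10].flatten

/-- part 0 of `cov0_2` -/
def cov0_2P0 : List (List Cov) := [
  [.rep 0 [] [⟨0,[]⟩,⟨7,[(0,false),(4,false)]⟩,⟨0,[(0,false),(0,false),(0,false)]⟩,⟨4,[(4,true),(0,true)]⟩,⟨2,[]⟩] [1,0,5,2,2,2]]]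

/-- part 1 of `cov0_2` -/
def cov0_2P1 : List (List Cov) := [
  [.rep 0 [] [⟨1,[]⟩,⟨6,[(0,false),(1,false),(1,false),(0,false)]⟩,⟨5,[(0,true),(4,false),(1,true),(0,false)]⟩,⟨3,[(0,false)]⟩,⟨1,[(0,false),(0,false),(0,false)]⟩] [1,1,5,1,0,2]]]

/-- part 2 of `cov0_2` -/
def cov0_2P2 : List (List Cov) := [
  [.rep 0 [] [⟨2,[]⟩,⟨0,[(0,false)]⟩,⟨7,[(0,false),(4,false)]⟩,⟨0,[(0,false),(0,false),(0,false)]⟩,⟨4,[(4,true),(0,true)]⟩] [0,0,4,0,0,2]]]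

/-- part 3 of `cov0_2` -/
def cov0_2P3 : List (List Cov) := [
  [.rep 0 [] [⟨3,[]⟩,⟨1,[(0,false),(0,false),(0,false)]⟩,⟨1,[(0,false)]⟩,⟨6,[(0,false),(1,false),(1,false),(0,false)]⟩,⟨5,[(0,true),(4,false),(1,true),(0,false)]⟩] [1,4,3,2,2,2]]]

/-- part 4 of `cov0_2` -/
def cov0_2P4 : List (List Cov) := [
  [.rep 0 [] [⟨4,[]⟩,⟨3,[(0,false)]⟩,⟨1,[(0,false)]⟩,⟨9,[(5,false)]⟩,⟨9,[(2,true),(0,false),(2,false),(0,false)]⟩] [0,6,4,2,1,0]]]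

/-- part 5 of `cov0_2` -/
def cov0_2P5 : List (List Cov) := [
  [.rep 0 [] [⟨5,[]⟩,⟨0,[(0,false)]⟩,⟨8,[(2,false),(0,true),(2,false)]⟩,⟨5,[(0,false)]⟩,⟨6,[]⟩] [1,5,0,4,2,0]]]

/-- part 6 of `cov0_2` -/
def cov0_2P6 : List (List Cov) := [
  [.rep 0 [] [⟨6,[]⟩,⟨5,[(1,false),(0,false)]⟩,⟨0,[(0,false)]⟩,⟨8,[(2,false),(0,true),(2,false)]⟩,⟨5,[(0,false)]⟩] [0,0,0,2,1,2]]]

/-- part 7 of `cov0_2` -/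
def cov0_2P7 : List (List Cov) := [
  [.rep 0 [] [⟨7,[]⟩,⟨6,[(4,false),(1,true)]⟩,⟨12,[(4,false),(2,true)]⟩,⟨22,[]⟩,⟨1,[]⟩] [0,0,2,2,3,0]]]

/-- part 8 of `cov0_2` -/
def cov0_2P8 : List (List Cov) := [
  [.rep 0 [] [⟨8,[]⟩,⟨11,[(4,false),(2,true)]⟩,⟨2,[]⟩,⟨10,[(1,false)]⟩,⟨0,[]⟩] [0,2,1,2,2,1]]]

/-- part 9 of `cov0_2` -/
def cov0_2P9 : List (List Cov) := [
  [.rep 0 [] [⟨9,[]⟩,⟨9,[(2,true),(0,false),(2,false),(0,false)]⟩,⟨4,[(5,true)]⟩,⟨3,[(0,false)]⟩,⟨1,[(0,false)]⟩] [0,2,2,3,0,0]]]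

/-- part 10 of `cov0_2` -/
def cov0_2P10 : List (List Cov) := [
  [.rep 0 [] [⟨10,[]⟩,⟨10,[(1,false),(2,true),(1,false)]⟩,⟨14,[(2,true)]⟩,⟨4,[]⟩,⟨5,[(1,true),(2,false),(1,true)]⟩] [0,3,0,2,0,0]]]

/-- part 11 of `cov0_2` -/
def cov0_2P11 : List (List Cov) := [
  [.rep 0 [] [⟨11,[]⟩,⟨2,[]⟩,⟨10,[(1,false)]⟩,⟨0,[]⟩,⟨8,[(3,true),(3,true)]⟩] [0,3,1,0,0,1]]]

/-- part 12 of `cov0_2` -/
def cov0_2P12 : List (List Cov) := [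
  [.rep 0 [] [⟨12,[]⟩,⟨22,[]⟩,⟨1,[]⟩,⟨7,[(3,false),(2,true)]⟩,⟨6,[(4,false),(1,true)]⟩] [0,5,3,3,2,1]]]

/-- part 13 of `cov0_2` -/
def cov0_2P13 : List (List Cov) := [
  [.rep 0 [] [⟨13,[]⟩,⟨5,[]⟩,⟨6,[(1,false)]⟩,⟨11,[(2,true),(1,false)]⟩,⟨3,[]⟩] [0,4,1,4,2,1]]]

/-- certificate data -/
def cov0_2 : List (List Cov) :=
  [cov0_2P0, cov0_2P1, cov0_2P2, cov0_2P3, cov0_2P4, cov0_2P5, cov0_2P6, cov0_2P7, cov0_2P8, cov0_2P9, cov0_2P10, cov0_2P11, cov0_2P12, cov0_2P13].flatten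

/-- part 0 of `cov0_3` -/
def cov0_3P0 : List (List Cov) := [
  [.rep 0 [] [⟨0,[]⟩,⟨4,[(4,true),(0,true)]⟩,⟨2,[]⟩,⟨0,[(0,false)]⟩,⟨7,[(0,false),(4,false)]⟩] [15,3,2,1,0,2]]]

/-- part 1 of `cov0_3` -/
def cov0_3P1 : List (List Cov) := [
  [.rep 0 [] [⟨1,[]⟩,⟨1,[(0,false)]⟩,⟨6,[(0,false),(1,false),(1,false),(0,false)]⟩,⟨5,[(0,true),(4,false),(1,true),(0,false)]⟩,⟨3,[(0,false)]⟩] [15,3,4,4,3,2]]]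

/-- part 2 of `cov0_3` -/
def cov0_3P2 : List (List Cov) := [
  [.rep 0 [] [⟨2,[]⟩,⟨13,[]⟩,⟨19,[]⟩,⟨12,[]⟩,⟨4,[]⟩] [15,6,5,0,3,1]]]

/-- part 3 of `cov0_3` -/
def cov0_3P3 : List (List Cov) := [
  [.rep 0 [] [⟨3,[]⟩,⟨15,[]⟩,⟨2,[(2,true),(1,false),(0,false)]⟩,⟨14,[(2,true),(1,false),(0,false)]⟩,⟨10,[]⟩] [15,0,5,4,0,1]]]

/-- certificate data -/
def cov0_3 : List (List Cov) :=
  [cov0_3P0, cov0_3P1, cov0_3P2, cov0_3P3].flatten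

/-- part 0 of `cov0_4` -/
def cov0_4P0 : List (List Cov) := [
  [.rep 0 [] [⟨0,[]⟩,⟨8,[(2,false),(0,true),(2,false)]⟩,⟨5,[(0,false)]⟩,⟨6,[]⟩,⟨5,[(1,false),(0,false)]⟩] [1,1,1,2,2]]]

/-- part 1 of `cov0_4` -/
def cov0_4P1 : List (List Cov) := [
  [.rep 0 [] [⟨1,[]⟩,⟨9,[(5,false)]⟩,⟨9,[(2,true),(0,false),(2,false),(0,false)]⟩,⟨4,[(5,true)]⟩,⟨3,[(0,false)]⟩] [1,1,0,2,0]]]

/-- part 2 of `cov0_4` -/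
def cov0_4P2 : List (List Cov) := [
  [.rep 0 [] [⟨2,[]⟩,⟨14,[(2,true),(1,false),(0,false)]⟩,⟨10,[]⟩,⟨3,[(0,false),(0,false),(0,false)]⟩,⟨15,[]⟩] [3,0,2,3,0]]]

/-- part 3 of `cov0_4` -/
def cov0_4P3 : List (List Cov) := [
  [.rep 0 [] [⟨3,[]⟩,⟨1,[(0,false)]⟩,⟨9,[(5,false)]⟩,⟨9,[(2,true),(0,false),(2,false),(0,false)]⟩,⟨4,[(5,true)]⟩] [1,5,0,0,1]]]

/-- part 4 of `cov0_4` -/
def cov0_4P4 : List (List Cov) := [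
  [.rep 0 [] [⟨4,[]⟩,⟨2,[(0,false),(0,false),(0,false)]⟩,⟨13,[]⟩,⟨19,[]⟩,⟨12,[]⟩] [0,0,4,0,2]]]

/-- part 5 of `cov0_4` -/
def cov0_4P5 : List (List Cov) := [
  [.rep 0 [] [⟨5,[]⟩,⟨6,[]⟩,⟨5,[(1,false),(0,false)]⟩,⟨0,[(0,false)]⟩,⟨8,[(2,false),(0,true),(2,false)]⟩] [1,1,4,0,2]]]

/-- part 6 of `cov0_4` -/
def cov0_4P6 : List (List Cov) := [
  [.rep 0 [] [⟨6,[]⟩,⟨12,[(4,false),(2,true)]⟩,⟨22,[]⟩,⟨1,[]⟩,⟨7,[(3,false),(2,true)]⟩] [2,2,1,3,2]]]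

/-- part 7 of `cov0_4` -/
def cov0_4P7 : List (List Cov) := [
  [.rep 0 [] [⟨7,[]⟩,⟨9,[]⟩,⟨4,[(2,false),(2,false),(1,false)]⟩,⟨12,[(5,false),(2,true)]⟩,⟨11,[(2,false),(1,false)]⟩] [0,1,0,0,2]]]

/-- part 8 of `cov0_4` -/
def cov0_4P8 : List (List Cov) := [
  [.rep 0 [] [⟨8,[]⟩,⟨13,[(2,false),(2,false),(1,false)]⟩,⟨9,[(2,false),(1,false)]⟩,⟨8,[(2,true),(1,false),(2,true)]⟩,⟨9,[(0,false),(5,false),(0,false)]⟩] [0,0,3,3,1]]]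

/-- part 9 of `cov0_4` -/
def cov0_4P9 : List (List Cov) := [
  [.rep 0 [] [⟨9,[]⟩,⟨8,[(4,true),(3,false)]⟩,⟨13,[(2,false),(2,false),(1,false)]⟩,⟨9,[(2,false),(1,false)]⟩,⟨8,[(2,true),(1,false),(2,true)]⟩] [0,4,2,1,2]]]

/-- part 10 of `cov0_4` -/
def cov0_4P10 : List (List Cov) := [
  [.rep 0 [] [⟨10,[]⟩,⟨0,[]⟩,⟨8,[(3,true),(3,true)]⟩,⟨11,[(4,false),(2,true)]⟩,⟨2,[]⟩] [2,0,1,1,0]]]

/-- part 11 of `cov0_4` -/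
def cov0_4P11 : List (List Cov) := [
  [.rep 0 [] [⟨11,[]⟩,⟨27,[(1,false)]⟩,⟨5,[(2,false),(1,false)]⟩,⟨2,[]⟩,⟨7,[(1,true)]⟩] [2,4,2,3,2]]]

/-- part 12 of `cov0_4` -/
def cov0_4P12 : List (List Cov) := [
  [.rep 0 [] [⟨12,[]⟩,⟨11,[(2,false),(1,false)]⟩,⟨7,[(5,true),(2,false)]⟩,⟨9,[]⟩,⟨4,[(2,false),(2,false),(1,false)]⟩] [0,2,0,0,1]]]

/-- part 13 of `cov0_4` -/
def cov0_4P13 : List (List Cov) := [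
  [.rep 0 [] [⟨13,[]⟩,⟨19,[]⟩,⟨12,[]⟩,⟨4,[]⟩,⟨2,[(0,false),(0,false),(0,false)]⟩] [0,0,4,0,2]]]

/-- part 14 of `cov0_4` -/
def cov0_4P14 : List (List Cov) := [
  [.rep 0 [] [⟨14,[]⟩,⟨10,[]⟩,⟨3,[(0,false),(0,false),(0,false)]⟩,⟨15,[]⟩,⟨2,[(2,true),(1,false),(0,false)]⟩] [3,3,0,1,2]]]

/-- part 15 of `cov0_4` -/
def cov0_4P15 : List (List Cov) := [
  [.rep 0 [] [⟨15,[]⟩,⟨1,[]⟩,⟨8,[(2,false),(1,true)]⟩,⟨26,[(0,true),(2,false),(0,false)]⟩,⟨0,[]⟩] [2,2,3,1,1]]]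

/-- certificate data -/
def cov0_4 : List (List Cov) :=
  [cov0_4P0, cov0_4P1, cov0_4P2, cov0_4P3, cov0_4P4, cov0_4P5, cov0_4P6, cov0_4P7, cov0_4P8, cov0_4P9, cov0_4P10, cov0_4P11, cov0_4P12, cov0_4P13, cov0_4P14, cov0_4P15].flatten

/-- part 0 of `cov0_5` -/
def cov0_5P0 : List (List Cov) := [
  [.rep 0 [] [⟨0,[]⟩,⟨10,[(4,true),(3,true),(1,false)]⟩,⟨2,[]⟩,⟨3,[]⟩,⟨1,[]⟩] [0,21,0,1]]]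

/-- part 1 of `cov0_5` -/
def cov0_5P1 : List (List Cov) := [
  [.rep 0 [] [⟨1,[]⟩,⟨0,[]⟩,⟨10,[(4,true),(3,true),(1,false)]⟩,⟨2,[]⟩,⟨3,[]⟩] [0,2,3,0]]]

/-- part 2 of `cov0_5` -/
def cov0_5P2 : List (List Cov) := [
  [.rep 0 [] [⟨2,[]⟩,⟨3,[]⟩,⟨1,[]⟩,⟨0,[]⟩,⟨10,[(4,true),(3,true),(1,false)]⟩] [0,0,1,1]]]

/-- part 3 of `cov0_5` -/
def cov0_5P3 : List (List Cov) := [
  [.rep 0 [] [⟨3,[]⟩,⟨1,[]⟩,⟨0,[]⟩,⟨10,[(4,true),(3,true),(1,false)]⟩,⟨2,[]⟩] [0,0,2,1]]]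

/-- part 4 of `cov0_5` -/
def cov0_5P4 : List (List Cov) := [
  [.rep 0 [] [⟨4,[]⟩,⟨12,[(5,false),(2,true)]⟩,⟨11,[(2,false),(1,false)]⟩,⟨7,[(5,true),(2,false)]⟩,⟨9,[]⟩] [0,1,2,0]]]

/-- part 5 of `cov0_5` -/
def cov0_5P5 : List (List Cov) := [
  [.rep 0 [] [⟨5,[]⟩,⟨10,[(4,false),(2,true),(1,true)]⟩,⟨10,[(1,false),(2,true),(1,false)]⟩,⟨14,[(2,true)]⟩,⟨4,[]⟩] [0,20,4,1]]]

/-- part 6 of `cov0_5` -/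
def cov0_5P6 : List (List Cov) := [
  [.rep 0 [] [⟨6,[]⟩,⟨11,[(2,true),(1,false)]⟩,⟨3,[]⟩,⟨13,[(5,false),(1,true),(0,true),(0,true)]⟩,⟨5,[]⟩] [0,7,0,0]]]

/-- part 7 of `cov0_5` -/
def cov0_5P7 : List (List Cov) := [
  [.rep 0 [] [⟨7,[]⟩,⟨12,[(1,false),(2,false)]⟩,⟨28,[(4,true),(2,false)]⟩,⟨4,[(1,false),(1,false),(2,true),(1,false)]⟩,⟨6,[(2,true),(4,false)]⟩] [0,11,0,1]]]

/-- part 8 of `cov0_5` -/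
def cov0_5P8 : List (List Cov) := [
  [.rep 0 [] [⟨8,[]⟩,⟨9,[(0,false),(5,false),(0,false)]⟩,⟨8,[(4,true),(3,false)]⟩,⟨13,[(2,false),(2,false),(1,false)]⟩,⟨9,[(2,false),(1,false)]⟩] [0,2,4,1]]]

/-- part 9 of `cov0_5` -/
def cov0_5P9 : List (List Cov) := [
  [.rep 0 [] [⟨9,[]⟩,⟨4,[(2,false),(2,false),(1,false)]⟩,⟨12,[(5,false),(2,true)]⟩,⟨11,[(2,false),(1,false)]⟩,⟨7,[(5,true),(2,false)]⟩] [0,0,0,0]]]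

/-- part 10 of `cov0_5` -/
def cov0_5P10 : List (List Cov) := [
  [.rep 0 [] [⟨10,[]⟩,⟨14,[(2,true)]⟩,⟨4,[]⟩,⟨5,[(1,true),(2,false),(1,true)]⟩,⟨10,[(4,false),(2,true),(1,true)]⟩] [0,17,2,0]]]

/-- part 11 of `cov0_5` -/
def cov0_5P11 : List (List Cov) := [
  [.rep 0 [] [⟨11,[]⟩,⟨3,[]⟩,⟨13,[(5,false),(1,true),(0,true),(0,true)]⟩,⟨5,[]⟩,⟨6,[(1,false)]⟩] [0,7,4,0]]]

/-- part 12 of `cov0_5` -/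
def cov0_5P12 : List (List Cov) := [
  [.rep 0 [] [⟨12,[]⟩,⟨28,[(4,true),(2,false)]⟩,⟨4,[(1,false),(1,false),(2,true),(1,false)]⟩,⟨6,[(2,true),(4,false)]⟩,⟨7,[(2,true),(0,false),(1,false),(0,false)]⟩] [0,4,1,1]]]

/-- part 13 of `cov0_5` -/
def cov0_5P13 : List (List Cov) := [
  [.rep 0 [] [⟨13,[]⟩,⟨9,[(2,false),(1,false)]⟩,⟨8,[(2,true),(1,false),(2,true)]⟩,⟨9,[(0,false),(5,false),(0,false)]⟩,⟨8,[(4,true),(3,false)]⟩] [0,3,2,0]]]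

/-- part 14 of `cov0_5` -/
def cov0_5P14 : List (List Cov) := [
  [.rep 0 [] [⟨14,[]⟩,⟨18,[(4,true),(2,false)]⟩,⟨13,[]⟩,⟨15,[(2,false),(1,false),(2,true),(1,false)]⟩,⟨3,[(1,false),(1,false),(2,true),(1,false)]⟩] [0,15,1,1]]]

/-- part 15 of `cov0_5` -/
def cov0_5P15 : List (List Cov) := [
  [.rep 0 [] [⟨15,[]⟩,⟨3,[(1,false),(1,false),(2,true),(1,false)]⟩,⟨14,[(3,false),(0,false),(1,false),(0,false)]⟩,⟨18,[(4,true),(2,false)]⟩,⟨13,[]⟩] [0,6,1,0]]]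

/-- certificate data -/
def cov0_5 : List (List Cov) :=
  [cov0_5P0, cov0_5P1, cov0_5P2, cov0_5P3, cov0_5P4, cov0_5P5, cov0_5P6, cov0_5P7, cov0_5P8, cov0_5P9, cov0_5P10, cov0_5P11, cov0_5P12, cov0_5P13, cov0_5P14, cov0_5P15].flatten

/-- part 0 of `cov0_6` -/
def cov0_6P0 : List (List Cov) := [
  [.rep 0 [] [⟨0,[]⟩,⟨8,[(3,true),(3,true)]⟩,⟨11,[(4,false),(2,true)]⟩,⟨2,[]⟩,⟨10,[(1,false)]⟩] [0,0,3,3,2]]]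

/-- part 1 of `cov0_6` -/
def cov0_6P1 : List (List Cov) := [
  [.rep 0 [] [⟨1,[]⟩,⟨7,[(3,false),(2,true)]⟩,⟨6,[(4,false),(1,true)]⟩,⟨12,[(4,false),(2,true)]⟩,⟨22,[]⟩] [0,0,2,0,2]]]

/-- part 2 of `cov0_6` -/
def cov0_6P2 : List (List Cov) := [
  [.rep 0 [] [⟨2,[]⟩,⟨10,[(1,false)]⟩,⟨0,[]⟩,⟨8,[(3,true),(3,true)]⟩,⟨11,[(4,false),(2,true)]⟩] [0,0,2,3,2]]]

/-- part 3 of `cov0_6` -/
def cov0_6P3 : List (List Cov) := [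
  [.rep 0 [] [⟨3,[]⟩,⟨13,[(5,false),(1,true),(0,true),(0,true)]⟩,⟨5,[]⟩,⟨6,[(1,false)]⟩,⟨11,[(2,true),(1,false)]⟩] [0,0,4,2,2]]]

/-- part 4 of `cov0_6` -/
def cov0_6P4 : List (List Cov) := [
  [.rep 0 [] [⟨4,[]⟩,⟨5,[(1,true),(2,false),(1,true)]⟩,⟨10,[(4,false),(2,true),(1,true)]⟩,⟨10,[(1,false),(2,true),(1,false)]⟩,⟨14,[(2,true)]⟩] [0,0,0,0,0]]]

/-- part 5 of `cov0_6` -/
def cov0_6P5 : List (List Cov) := [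
  [.rep 0 [] [⟨5,[]⟩,⟨6,[(1,false)]⟩,⟨11,[(2,true),(1,false)]⟩,⟨3,[]⟩,⟨13,[(5,false),(1,true),(0,true),(0,true)]⟩] [0,0,3,2,0]]]

/-- part 6 of `cov0_6` -/
def cov0_6P6 : List (List Cov) := [
  [.rep 0 [] [⟨6,[]⟩,⟨7,[(2,true),(0,false),(1,false),(0,false)]⟩,⟨12,[(1,false),(2,false)]⟩,⟨28,[(4,true),(2,false)]⟩,⟨4,[(1,false),(1,false),(2,true),(1,false)]⟩] [0,0,4,3,2]]]

/-- part 7 of `cov0_6` -/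
def cov0_6P7 : List (List Cov) := [
  [.rep 0 [] [⟨7,[]⟩,⟨11,[(4,false),(0,false),(5,false),(0,false)]⟩,⟨27,[(1,false)]⟩,⟨5,[(2,false),(1,false)]⟩,⟨2,[]⟩] [0,0,3,0,2]]]

/-- part 8 of `cov0_6` -/
def cov0_6P8 : List (List Cov) := [
  [.rep 0 [] [⟨8,[]⟩,⟨26,[(0,true),(2,false),(0,false)]⟩,⟨0,[]⟩,⟨15,[(5,true),(0,true),(0,true)]⟩,⟨1,[]⟩] [0,0,1,0,1]]]

/-- part 9 of `cov0_6` -/
def cov0_6P9 : List (List Cov) := [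
  [.rep 0 [] [⟨9,[]⟩,⟨8,[(2,true),(1,false),(2,true)]⟩,⟨9,[(0,false),(5,false),(0,false)]⟩,⟨8,[(4,true),(3,false)]⟩,⟨13,[(2,false),(2,false),(1,false)]⟩] [0,1,4,0,2]]]

/-- part 10 of `cov0_6` -/
def cov0_6P10 : List (List Cov) := [
  [.rep 0 [] [⟨10,[]⟩,⟨3,[(0,false),(0,false),(0,false)]⟩,⟨15,[]⟩,⟨2,[(2,true),(1,false),(0,false)]⟩,⟨14,[(2,true),(1,false),(0,false)]⟩] [0,0,1,1,0]]]

/-- part 11 of `cov0_6` -/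
def cov0_6P11 : List (List Cov) := [
  [.rep 0 [] [⟨11,[]⟩,⟨7,[(5,true),(2,false)]⟩,⟨9,[]⟩,⟨4,[(2,false),(2,false),(1,false)]⟩,⟨12,[(5,false),(2,true)]⟩] [0,1,1,0,0]]]

/-- part 12 of `cov0_6` -/
def cov0_6P12 : List (List Cov) := [
  [.rep 0 [] [⟨12,[]⟩,⟨4,[]⟩,⟨2,[(0,false),(0,false),(0,false)]⟩,⟨13,[]⟩,⟨19,[]⟩] [0,0,2,0,2]]]

/-- part 13 of `cov0_6` -/
def cov0_6P13 : List (List Cov) := [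
  [.rep 0 [] [⟨13,[]⟩,⟨15,[(2,false),(1,false),(2,true),(1,false)]⟩,⟨3,[(1,false),(1,false),(2,true),(1,false)]⟩,⟨14,[(3,false),(0,false),(1,false),(0,false)]⟩,⟨18,[(4,true),(2,false)]⟩] [0,0,1,1,2]]]

/-- part 14 of `cov0_6` -/
def cov0_6P14 : List (List Cov) := [
  [.rep 0 [] [⟨14,[]⟩,⟨4,[]⟩,⟨5,[(1,true),(2,false),(1,true)]⟩,⟨10,[(4,false),(2,true),(1,true)]⟩,⟨10,[(1,false),(2,true),(1,false)]⟩] [0,0,3,1,0]]]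

/-- part 15 of `cov0_6` -/
def cov0_6P15 : List (List Cov) := [
  [.rep 0 [] [⟨15,[]⟩,⟨2,[(2,true),(1,false),(0,false)]⟩,⟨14,[(2,true),(1,false),(0,false)]⟩,⟨10,[]⟩,⟨3,[(0,false),(0,false),(0,false)]⟩] [0,0,1,1,0]]]

/-- part 16 of `cov0_6` -/
def cov0_6P16 : List (List Cov) := [
  [.rep 0 [] [⟨16,[]⟩,⟨29,[(0,false),(0,false)]⟩,⟨0,[(2,true),(0,true),(0,true),(3,false),(0,false),(0,false)]⟩,⟨17,[(0,true),(0,true)]⟩,⟨25,[]⟩] [0,1,4,3,0]]]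

/-- part 17 of `cov0_6` -/
def cov0_6P17 : List (List Cov) := [
  [.rep 0 [] [⟨17,[]⟩,⟨25,[]⟩,⟨16,[(0,false),(0,false)]⟩,⟨29,[(0,false),(0,false)]⟩,⟨0,[(2,true),(0,true),(0,true),(3,false),(0,false),(0,false)]⟩] [0,1,1,2,0]]]

/-- part 18 of `cov0_6` -/
def cov0_6P18 : List (List Cov) := [
  [.rep 0 [] [⟨18,[]⟩,⟨13,[]⟩,⟨15,[(2,false),(1,false),(2,true),(1,false)]⟩,⟨3,[(1,false),(1,false),(2,true),(1,false)]⟩,⟨14,[(3,false),(0,false),(1,false),(0,false)]⟩] [0,0,2,1,0]]]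

/-- part 19 of `cov0_6` -/
def cov0_6P19 : List (List Cov) := [
  [.rep 0 [] [⟨19,[]⟩,⟨12,[]⟩,⟨4,[]⟩,⟨2,[(0,false),(0,false),(0,false)]⟩,⟨13,[]⟩] [0,0,2,0,2]]]

/-- part 20 of `cov0_6` -/
def cov0_6P20 : List (List Cov) := [
  [.rep 0 [] [⟨20,[]⟩,⟨20,[(0,false),(1,true),(0,false)]⟩,⟨20,[(0,false),(1,true),(0,false)]⟩,⟨20,[(0,false),(1,true),(0,false)]⟩,⟨20,[(0,false),(1,true),(0,false)]⟩] [0,0,3,3,1]]]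

/-- part 21 of `cov0_6` -/
def cov0_6P21 : List (List Cov) := [
  [.rep 0 [] [⟨21,[]⟩,⟨21,[(0,true),(1,false),(0,true)]⟩,⟨21,[(0,true),(1,false),(0,true)]⟩,⟨21,[(0,true),(1,false),(0,true)]⟩,⟨21,[(0,true),(1,false),(0,true)]⟩] [0,0,2,0,1]]]

/-- part 22 of `cov0_6` -/
def cov0_6P22 : List (List Cov) := [
  [.rep 0 [] [⟨22,[]⟩,⟨1,[]⟩,⟨7,[(3,false),(2,true)]⟩,⟨6,[(4,false),(1,true)]⟩,⟨12,[(4,false),(2,true)]⟩] [0,0,3,0,0]]]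

/-- part 23 of `cov0_6` -/
def cov0_6P23 : List (List Cov) := [
  [.rep 0 [] [⟨23,[]⟩,⟨23,[(4,true),(1,false)]⟩,⟨23,[(4,true),(1,false)]⟩,⟨23,[(4,true),(1,false)]⟩,⟨23,[(4,true),(1,false)]⟩] [0,0,3,3,2]]]

/-- part 24 of `cov0_6` -/
def cov0_6P24 : List (List Cov) := [
  [.rep 0 [] [⟨24,[]⟩,⟨24,[(1,true),(4,false)]⟩,⟨24,[(1,true),(4,false)]⟩,⟨24,[(1,true),(4,false)]⟩,⟨24,[(1,true),(4,false)]⟩] [0,0,4,0,2]]]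

/-- part 25 of `cov0_6` -/
def cov0_6P25 : List (List Cov) := [
  [.rep 0 [] [⟨25,[]⟩,⟨16,[(0,false),(0,false)]⟩,⟨29,[(0,false),(0,false)]⟩,⟨0,[(2,true),(0,true),(0,true),(3,false),(0,false),(0,false)]⟩,⟨17,[(0,true),(0,true)]⟩] [0,1,3,1,2]]]

/-- part 26 of `cov0_6` -/
def cov0_6P26 : List (List Cov) := [
  [.rep 0 [] [⟨26,[]⟩,⟨0,[]⟩,⟨15,[(5,true),(0,true),(0,true)]⟩,⟨1,[]⟩,⟨8,[(2,false),(1,true)]⟩] [0,1,2,3,0]]]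

/-- part 27 of `cov0_6` -/
def cov0_6P27 : List (List Cov) := [
  [.rep 0 [] [⟨27,[]⟩,⟨5,[(2,false),(1,false)]⟩,⟨2,[]⟩,⟨7,[(1,true)]⟩,⟨11,[(4,false),(0,false),(5,false),(0,false)]⟩] [0,0,3,3,0]]]

/-- part 28 of `cov0_6` -/
def cov0_6P28 : List (List Cov) := [
  [.rep 0 [] [⟨28,[]⟩,⟨4,[(1,false),(1,false),(2,true),(1,false)]⟩,⟨6,[(2,true),(4,false)]⟩,⟨7,[(2,true),(0,false),(1,false),(0,false)]⟩,⟨12,[(1,false),(2,false)]⟩] [0,0,2,1,0]]]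

/-- part 29 of `cov0_6` -/
def cov0_6P29 : List (List Cov) := [
  [.rep 0 [] [⟨29,[]⟩,⟨0,[(2,true),(0,true),(0,true),(3,false),(0,false),(0,false)]⟩,⟨17,[(0,true),(0,true)]⟩,⟨25,[]⟩,⟨16,[(0,false),(0,false)]⟩] [0,1,0,0,1]]]

/-- certificate data -/
def cov0_6 : List (List Cov) :=
  [cov0_6P0, cov0_6P1, cov0_6P2, cov0_6P3, cov0_6P4, cov0_6P5, cov0_6P6, cov0_6P7, cov0_6P8, cov0_6P9, cov0_6P10, cov0_6P11, cov0_6P12, cov0_6P13, cov0_6P14, cov0_6P15, cov0_6P16, cov0_6P17, cov0_6P18, cov0_6P19, cov0_6P20, cov0_6P21, cov0_6P22, cov0_6P23, cov0_6P24, cov0_6P25, cov0_6P26, cov0_6P27, cov0_6P28, cov0_6P29].flatten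

/-- part 0 of `cov0_7` -/
def cov0_7P0 : List (List Cov) := [
  [.rep 0 [] [⟨0,[]⟩,⟨15,[(5,true),(0,true),(0,true)]⟩,⟨1,[]⟩,⟨8,[(2,false),(1,true)]⟩,⟨26,[(0,true),(2,false),(0,false)]⟩] [31,1]]]

/-- part 1 of `cov0_7` -/
def cov0_7P1 : List (List Cov) := [
  [.rep 0 [] [⟨1,[]⟩,⟨8,[(2,false),(1,true)]⟩,⟨26,[(0,true),(2,false),(0,false)]⟩,⟨0,[]⟩,⟨15,[(5,true),(0,true),(0,true)]⟩] [68,0]]]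

/-- part 2 of `cov0_7` -/
def cov0_7P2 : List (List Cov) := [
  [.rep 0 [] [⟨2,[]⟩,⟨7,[(1,true)]⟩,⟨11,[(4,false),(0,false),(5,false),(0,false)]⟩,⟨27,[(1,false)]⟩,⟨5,[(2,false),(1,false)]⟩] [68,0]]]

/-- part 3 of `cov0_7` -/
def cov0_7P3 : List (List Cov) := [
  [.rep 0 [] [⟨3,[]⟩,⟨14,[(3,false),(0,false),(1,false),(0,false)]⟩,⟨18,[(4,true),(2,false)]⟩,⟨13,[]⟩,⟨15,[(2,false),(1,false),(2,true),(1,false)]⟩] [105,0]]]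

/-- part 4 of `cov0_7` -/
def cov0_7P4 : List (List Cov) := [
  [.rep 0 [] [⟨4,[]⟩,⟨6,[(2,true),(4,false)]⟩,⟨7,[(2,true),(0,false),(1,false),(0,false)]⟩,⟨12,[(1,false),(2,false)]⟩,⟨28,[(4,true),(2,false)]⟩] [105,0]]]

/-- part 5 of `cov0_7` -/
def cov0_7P5 : List (List Cov) := [
  [.rep 0 [] [⟨5,[]⟩,⟨2,[]⟩,⟨7,[(1,true)]⟩,⟨11,[(4,false),(0,false),(5,false),(0,false)]⟩,⟨27,[(1,false)]⟩] [18,1]]]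

/-- part 6 of `cov0_7` -/
def cov0_7P6 : List (List Cov) := [
  [.rep 0 [] [⟨6,[]⟩,⟨6,[(2,true),(2,true),(1,true),(0,false),(0,false)]⟩,⟨6,[(2,true),(2,true),(1,true),(0,false),(0,false)]⟩,⟨6,[(2,true),(2,true),(1,true),(0,false),(0,false)]⟩,⟨6,[(2,true),(2,true),(1,true),(0,false),(0,false)]⟩] [31,3]]]

/-- certificate data -/
def cov0_7 : List (List Cov) :=
  [cov0_7P0, cov0_7P1, cov0_7P2, cov0_7P3, cov0_7P4, cov0_7P5, cov0_7P6].flatten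

/-- part 0 of `cov0_8` -/
def cov0_8P0 : List (List Cov) := [
  [.rep 0 [] [⟨0,[]⟩,⟨17,[(0,true),(0,true)]⟩,⟨25,[]⟩,⟨16,[(0,false),(0,false)]⟩,⟨29,[(0,false),(0,false)]⟩] [72,9,2,0,1,1]]]

/-- part 1 of `cov0_8` -/
def cov0_8P1 : List (List Cov) := [
  [.rep 0 [] [⟨1,[]⟩,⟨1,[(1,false),(0,false),(4,false),(0,true)]⟩,⟨1,[(1,false),(0,false),(4,false),(0,true)]⟩,⟨1,[(1,false),(0,false),(4,false),(0,true)]⟩,⟨1,[(1,false),(0,false),(4,false),(0,true)]⟩] [21,4,1,1,0,1]]]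

/-- certificate data -/
def cov0_8 : List (List Cov) :=
  [cov0_8P0, cov0_8P1].flatten

/-- relation 0 -/
def rel0 : RelCert := ⟨[5,5,5,5,5], 0, 0x1, [cov0_0,cov0_1,cov0_2,cov0_3,cov0_4,cov0_5,cov0_6,cov0_7,cov0_8]⟩

end CfsgLib.HN
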