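import Cfsg.Agent.Lib.DCoset.Check

/-!
A relation on the cosets.
-/

set_option autoImplicit false
set_option linter.style.longLine false

namespace CfsgLib.HN
open CfsgLib.CosetEnum CfsgLib.DCoset CfsgLib.DCoset.Space
/-- part 0 of `cov1_0` -/
def cov1_0P0 : List (List Cov) := [
  [.rep 0 [] [⟨0,[(0,true)]⟩,⟨1,[]⟩,⟨0,[]⟩] [1,0,0,0,0,0]]]

/-- certificate data -/
def cov1_0 : List (List Cov) :=
  [cov1_0P0].flatten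

/-- part 0 of `cov1_1` -/
def cov1_1P0 : List (List Cov) := [
  [.rep 0 [] [⟨1,[]⟩,⟨3,[]⟩,⟨1,[]⟩] [0,0,0,0,0,0]]]

/-- part 1 of `cov1_1` -/
def cov1_1P1 : List (List Cov) := [
  [.rep 0 [] [⟨2,[]⟩,⟨2,[]⟩,⟨3,[]⟩] [0,0,0,0,0,0]]]

/-- part 2 of `cov1_1` -/
def cov1_1P2 : List (List Cov) := [
  [.rep 0 [] [⟨3,[]⟩,⟨0,[]⟩,⟨0,[(0,false),(0,false)]⟩] [0,0,0,0,0,0]]]

/-- part 3 of `cov1_1` -/
def cov1_1P3 : List (List Cov) := [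
  [.rep 0 [] [⟨0,[]⟩,⟨0,[(0,true)]⟩,⟨2,[]⟩] [0,0,0,0,0,0]]]

/-- part 4 of `cov1_1` -/
def cov1_1P4 : List (List Cov) := [
  [.rep 0 [] [⟨6,[]⟩,⟨7,[(0,false),(4,false)]⟩,⟨0,[(0,false),(0,false),(0,false)]⟩] [10,2,3,2,3,0]]]

/-- part 5 of `cov1_1` -/
def cov1_1P5 : List (List Cov) := [
  [.rep 0 [] [⟨4,[(0,false),(1,false),(1,false),(0,false)]⟩,⟨1,[(0,false)]⟩,⟨6,[(0,false),(1,false),(1,false),(0,false)]⟩] [34,2,2,0,0,2]]]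

/-- part 6 of `cov1_1` -/
def cov1_1P6 : List (List Cov) := [
  [.rep 0 [] [⟨7,[(0,false),(4,false)]⟩,⟨1,[(0,false),(0,false),(0,false)]⟩,⟨1,[(0,false)]⟩] [42,6,3,4,3,1]]]

/-- part 7 of `cov1_1` -/
def cov1_1P7 : List (List Cov) := [
  [.rep 0 [] [⟨5,[(2,false),(1,false),(0,false)]⟩,⟨2,[(0,false)]⟩,⟨0,[(0,false)]⟩] [3,5,5,0,1,2]]]

/-- part 8 of `cov1_1` -/
def cov1_1P8 : List (List Cov) := [
  [.rep 0 [] [⟨9,[(2,true),(0,false),(5,true)]⟩,⟨5,[(0,true),(1,false)]⟩,⟨0,[(0,false)]⟩] [32,4,1,1,2,0]]]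

/-- part 9 of `cov1_1` -/
def cov1_1P9 : List (List Cov) := [
  [.rep 0 [] [⟨8,[(5,false),(2,true)]⟩,⟨1,[(0,false)]⟩,⟨9,[(5,false)]⟩] [8,0,0,2,0,1]]]

/-- part 10 of `cov1_1` -/
def cov1_1P10 : List (List Cov) := [
  [.rep 0 [] [⟨10,[(4,true),(0,false),(0,false)]⟩,⟨1,[]⟩,⟨0,[]⟩] [27,1,0,4,3,1]]]

/-- certificate data -/
def cov1_1 : List (List Cov) :=
  [cov1_1P0, cov1_1P1, cov1_1P2, cov1_1P3, cov1_1P4, cov1_1P5, cov1_1P6, cov1_1P7, cov1_1P8, cov1_1P9, cov1_1P10].flatten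

/-- part 0 of `cov1_2` -/
def cov1_2P0 : List (List Cov) := [
  [.rep 0 [] [⟨1,[(0,false)]⟩,⟨4,[(0,false),(1,false),(1,false),(0,false)]⟩,⟨2,[]⟩] [1,5,1,1,3,0]]]

/-- part 1 of `cov1_2` -/
def cov1_2P1 : List (List Cov) := [
  [.rep 0 [] [⟨2,[(0,false)]⟩,⟨3,[(0,false)]⟩,⟨1,[(0,false),(0,false),(0,false)]⟩] [1,0,0,1,0,2]]]

/-- part 2 of `cov1_2` -/
def cov1_2P2 : List (List Cov) := [
  [.rep 0 [] [⟨3,[]⟩,⟨0,[]⟩,⟨4,[(4,true),(0,true)]⟩] [0,4,4,1,0,1]]]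

/-- part 3 of `cov1_2` -/
def cov1_2P3 : List (List Cov) := [
  [.rep 0 [] [⟨0,[]⟩,⟨6,[]⟩,⟨5,[(0,true),(4,false),(1,true),(0,false)]⟩] [1,5,5,4,2,1]]]

/-- part 4 of `cov1_2` -/
def cov1_2P4 : List (List Cov) := [
  [.rep 0 [] [⟨6,[(1,false),(0,false)]⟩,⟨9,[(5,false)]⟩,⟨9,[(2,true),(0,false),(2,false),(0,false)]⟩] [0,1,2,0,1,1]]]

/-- part 5 of `cov1_2` -/
def cov1_2P5 : List (List Cov) := [
  [.rep 0 [] [⟨4,[(1,false),(0,false)]⟩,⟨5,[]⟩,⟨6,[]⟩] [1,1,2,4,2,2]]]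

/-- part 6 of `cov1_2` -/
def cov1_2P6 : List (List Cov) := [
  [.rep 0 [] [⟨9,[(1,true),(0,false)]⟩,⟨8,[(5,false),(2,true)]⟩,⟨5,[(0,false)]⟩] [0,0,5,2,0,1]]]

/-- part 7 of `cov1_2` -/
def cov1_2P7 : List (List Cov) := [
  [.rep 0 [] [⟨11,[(4,false),(2,true)]⟩,⟨22,[]⟩,⟨1,[]⟩] [0,4,0,3,2,0]]]

/-- part 8 of `cov1_2` -/
def cov1_2P8 : List (List Cov) := [
  [.rep 0 [] [⟨7,[(2,true),(1,true)]⟩,⟨10,[(5,true)]⟩,⟨0,[]⟩] [0,6,0,1,0,1]]]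

/-- part 9 of `cov1_2` -/
def cov1_2P9 : List (List Cov) := [
  [.rep 0 [] [⟨5,[(0,true),(1,false)]⟩,⟨3,[(0,false)]⟩,⟨1,[(0,false)]⟩] [0,2,2,3,0,0]]]

/-- part 10 of `cov1_2` -/
def cov1_2P10 : List (List Cov) := [
  [.rep 0 [] [⟨13,[(0,false),(1,false),(0,false)]⟩,⟨4,[]⟩,⟨5,[(1,true),(2,false),(1,true)]⟩] [0,4,4,4,0,2]]]

/-- part 11 of `cov1_2` -/
def cov1_2P11 : List (List Cov) := [
  [.rep 0 [] [⟨12,[]⟩,⟨0,[]⟩,⟨8,[(3,true),(3,true)]⟩] [0,6,1,1,2,1]]]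

/-- part 12 of `cov1_2` -/
def cov1_2P12 : List (List Cov) := [
  [.rep 0 [] [⟨8,[(3,true),(3,true)]⟩,⟨7,[]⟩,⟨6,[(4,false),(1,true)]⟩] [0,3,0,2,3,2]]]

/-- part 13 of `cov1_2` -/
def cov1_2P13 : List (List Cov) := [
  [.rep 0 [] [⟨10,[(1,true),(2,false),(1,true)]⟩,⟨11,[(2,true),(1,false)]⟩,⟨3,[]⟩] [0,4,1,1,0,0]]]

/-- certificate data -/
def cov1_2 : List (List Cov) :=
  [cov1_2P0, cov1_2P1, cov1_2P2, cov1_2P3, cov1_2P4, cov1_2P5, cov1_2P6, cov1_2P7, cov1_2P8, cov1_2P9, cov1_2P10, cov1_2P11, cov1_2P12, cov1_2P13].flatten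

/-- part 0 of `cov1_3` -/
def cov1_3P0 : List (List Cov) := [
  [.rep 0 [] [⟨1,[(0,false),(0,false),(0,false)]⟩,⟨0,[]⟩,⟨7,[(0,false),(4,false)]⟩] [15,1,4,0,2,1]]]

/-- part 1 of `cov1_3` -/
def cov1_3P1 : List (List Cov) := [
  [.rep 0 [] [⟨0,[]⟩,⟨5,[(2,false),(1,false),(0,false)]⟩,⟨3,[(0,false)]⟩] [15,3,0,4,0,2]]]

/-- part 2 of `cov1_3` -/
def cov1_3P2 : List (List Cov) := [
  [.rep 0 [] [⟨3,[(3,true),(6,false)]⟩,⟨12,[]⟩,⟨4,[]⟩] [15,2,3,4,3,0]]]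

/-- part 3 of `cov1_3` -/
def cov1_3P3 : List (List Cov) := [
  [.rep 0 [] [⟨2,[(0,true),(2,false),(2,false),(0,false)]⟩,⟨14,[(0,false),(0,false)]⟩,⟨10,[]⟩] [25,3,3,2,3,0]]]

/-- certificate data -/
def cov1_3 : List (List Cov) :=
  [cov1_3P0, cov1_3P1, cov1_3P2, cov1_3P3].flatten

/-- part 0 of `cov1_4` -/
def cov1_4P0 : List (List Cov) := [
  [.rep 0 [] [⟨1,[(0,false)]⟩,⟨6,[(1,false),(0,false)]⟩,⟨5,[(1,false),(0,false)]⟩] [1,3,4,2,1]]]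

/-- part 1 of `cov1_4` -/
def cov1_4P1 : List (List Cov) := [
  [.rep 0 [] [⟨5,[]⟩,⟨4,[(1,false),(0,false)]⟩,⟨3,[(0,false)]⟩] [1,2,3,1,1]]]

/-- part 2 of `cov1_4` -/
def cov1_4P2 : List (List Cov) := [
  [.rep 0 [] [⟨4,[(2,false),(0,false)]⟩,⟨3,[(3,true),(6,false)]⟩,⟨15,[]⟩] [1,4,4,3,1]]]

/-- part 3 of `cov1_4` -/
def cov1_4P3 : List (List Cov) := [
  [.rep 0 [] [⟨0,[]⟩,⟨9,[(2,true),(0,false),(5,true)]⟩,⟨4,[(5,true)]⟩] [1,4,2,3,1]]]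

/-- part 4 of `cov1_4` -/
def cov1_4P4 : List (List Cov) := [
  [.rep 0 [] [⟨14,[(0,false),(0,false)]⟩,⟨19,[]⟩,⟨12,[]⟩] [0,0,4,3,0]]]

/-- part 5 of `cov1_4` -/
def cov1_4P5 : List (List Cov) := [
  [.rep 0 [] [⟨3,[(0,false)]⟩,⟨0,[]⟩,⟨8,[(2,false),(0,true),(2,false)]⟩] [1,1,0,3,0]]]

/-- part 6 of `cov1_4` -/
def cov1_4P6 : List (List Cov) := [
  [.rep 0 [] [⟨10,[(5,true)]⟩,⟨1,[]⟩,⟨7,[(3,false),(2,true)]⟩] [2,2,1,2,2]]]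

/-- part 7 of `cov1_4` -/
def cov1_4P7 : List (List Cov) := [
  [.rep 0 [] [⟨9,[(5,false),(2,true)]⟩,⟨12,[(5,false),(2,true)]⟩,⟨11,[(2,false),(1,false)]⟩] [0,1,3,1,0]]]

/-- part 8 of `cov1_4` -/
def cov1_4P8 : List (List Cov) := [
  [.rep 0 [] [⟨7,[(3,false),(4,false)]⟩,⟨8,[(2,true),(1,false),(2,true)]⟩,⟨9,[(0,false),(5,false),(0,false)]⟩] [0,1,2,2,1]]]

/-- part 9 of `cov1_4` -/
def cov1_4P9 : List (List Cov) := [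
  [.rep 0 [] [⟨12,[]⟩,⟨9,[]⟩,⟨8,[(2,true),(1,false),(2,true)]⟩] [0,5,2,0,0]]]

/-- part 10 of `cov1_4` -/
def cov1_4P10 : List (List Cov) := [
  [.rep 0 [] [⟨6,[(4,true),(1,false)]⟩,⟨11,[(4,false),(2,true)]⟩,⟨2,[]⟩] [2,2,0,0,0]]]

/-- part 11 of `cov1_4` -/
def cov1_4P11 : List (List Cov) := [
  [.rep 0 [] [⟨15,[(1,false),(2,false)]⟩,⟨2,[]⟩,⟨7,[(1,true)]⟩] [0,4,2,2,2]]]

/-- part 12 of `cov1_4` -/
def cov1_4P12 : List (List Cov) := [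
  [.rep 0 [] [⟨8,[(4,true),(0,false),(0,false)]⟩,⟨9,[(2,false),(2,false),(1,false)]⟩,⟨4,[(2,false),(2,false),(1,false)]⟩] [0,1,1,0,1]]]

/-- part 13 of `cov1_4` -/
def cov1_4P13 : List (List Cov) := [
  [.rep 0 [] [⟨2,[(2,false),(0,false)]⟩,⟨4,[(2,false),(0,false)]⟩,⟨2,[(0,false),(0,false),(0,false)]⟩] [0,0,0,3,0]]]

/-- part 14 of `cov1_4` -/
def cov1_4P14 : List (List Cov) := [
  [.rep 0 [] [⟨13,[(0,true),(0,true)]⟩,⟨15,[]⟩,⟨2,[(2,true),(1,false),(0,false)]⟩] [3,2,4,2,0]]]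

/-- part 15 of `cov1_4` -/
def cov1_4P15 : List (List Cov) := [
  [.rep 0 [] [⟨11,[(5,false),(1,true),(2,false)]⟩,⟨26,[(0,true),(2,false),(0,false)]⟩,⟨0,[]⟩] [2,2,3,1,1]]]

/-- certificate data -/
def cov1_4 : List (List Cov) :=
  [cov1_4P0, cov1_4P1, cov1_4P2, cov1_4P3, cov1_4P4, cov1_4P5, cov1_4P6, cov1_4P7, cov1_4P8, cov1_4P9, cov1_4P10, cov1_4P11, cov1_4P12, cov1_4P13, cov1_4P14, cov1_4P15].flatten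

/-- part 0 of `cov1_5` -/
def cov1_5P0 : List (List Cov) := [
  [.rep 0 [] [⟨1,[]⟩,⟨3,[]⟩,⟨1,[]⟩] [0,2,2,1]]]

/-- part 1 of `cov1_5` -/
def cov1_5P1 : List (List Cov) := [
  [.rep 0 [] [⟨2,[]⟩,⟨2,[]⟩,⟨3,[]⟩] [0,19,4,0]]]

/-- part 2 of `cov1_5` -/
def cov1_5P2 : List (List Cov) := [
  [.rep 0 [] [⟨3,[]⟩,⟨0,[]⟩,⟨10,[(4,true),(3,true),(1,false)]⟩] [0,24,1,0]]]

/-- part 3 of `cov1_5` -/
def cov1_5P3 : List (List Cov) := [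
  [.rep 0 [] [⟨0,[]⟩,⟨10,[(4,true),(0,false),(0,false)]⟩,⟨2,[]⟩] [0,0,2,0]]]

/-- part 4 of `cov1_5` -/
def cov1_5P4 : List (List Cov) := [
  [.rep 0 [] [⟨8,[(2,true),(1,false),(2,true)]⟩,⟨7,[(3,false),(4,false)]⟩,⟨9,[]⟩] [0,3,4,1]]]

/-- part 5 of `cov1_5` -/
def cov1_5P5 : List (List Cov) := [
  [.rep 0 [] [⟨11,[(2,true),(1,false)]⟩,⟨14,[(2,true)]⟩,⟨4,[]⟩] [0,20,2,0]]]

/-- part 6 of `cov1_5` -/
def cov1_5P6 : List (List Cov) := [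
  [.rep 0 [] [⟨5,[(1,true),(1,true),(2,false)]⟩,⟨13,[(0,false),(1,false),(0,false)]⟩,⟨5,[]⟩] [0,1,0,0]]]

/-- part 7 of `cov1_5` -/
def cov1_5P7 : List (List Cov) := [
  [.rep 0 [] [⟨15,[(2,true),(0,false),(1,true),(0,false)]⟩,⟨4,[(1,false),(1,false),(2,true),(1,false)]⟩,⟨6,[(2,true),(4,false)]⟩] [0,11,0,1]]]

/-- part 8 of `cov1_5` -/
def cov1_5P8 : List (List Cov) := [
  [.rep 0 [] [⟨9,[(2,false),(2,false),(1,false)]⟩,⟨13,[(2,false),(2,false),(1,false)]⟩,⟨9,[(2,false),(1,false)]⟩] [0,22,4,1]]]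

/-- part 9 of `cov1_5` -/
def cov1_5P9 : List (List Cov) := [
  [.rep 0 [] [⟨13,[]⟩,⟨11,[(2,false),(1,false)]⟩,⟨7,[(5,true),(2,false)]⟩] [0,13,2,0]]]

/-- part 10 of `cov1_5` -/
def cov1_5P10 : List (List Cov) := [
  [.rep 0 [] [⟨6,[(0,false),(1,false),(0,false)]⟩,⟨5,[]⟩,⟨10,[(4,false),(2,true),(1,true)]⟩] [0,12,2,1]]]

/-- part 11 of `cov1_5` -/
def cov1_5P11 : List (List Cov) := [
  [.rep 0 [] [⟨10,[(2,false),(1,false)]⟩,⟨5,[]⟩,⟨6,[(1,false)]⟩] [0,2,0,1]]]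

/-- part 12 of `cov1_5` -/
def cov1_5P12 : List (List Cov) := [
  [.rep 0 [] [⟨14,[(0,false),(3,false),(0,false),(1,true)]⟩,⟨6,[]⟩,⟨7,[(2,true),(0,false),(1,false),(0,false)]⟩] [0,4,1,1]]]

/-- part 13 of `cov1_5` -/
def cov1_5P13 : List (List Cov) := [
  [.rep 0 [] [⟨4,[]⟩,⟨9,[(5,false),(2,true)]⟩,⟨8,[(4,true),(3,false)]⟩] [0,21,1,1]]]

/-- part 14 of `cov1_5` -/
def cov1_5P14 : List (List Cov) := [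
  [.rep 0 [] [⟨7,[(1,false),(1,false)]⟩,⟨15,[(1,false),(2,true)]⟩,⟨3,[(1,false),(1,false),(2,true),(1,false)]⟩] [0,24,3,1]]]

/-- part 15 of `cov1_5` -/
def cov1_5P15 : List (List Cov) := [
  [.rep 0 [] [⟨12,[(2,false),(2,false)]⟩,⟨18,[(4,true),(2,false)]⟩,⟨13,[]⟩] [0,6,1,0]]]

/-- certificate data -/
def cov1_5 : List (List Cov) :=
  [cov1_5P0, cov1_5P1, cov1_5P2, cov1_5P3, cov1_5P4, cov1_5P5, cov1_5P6, cov1_5P7, cov1_5P8, cov1_5P9, cov1_5P10, cov1_5P11, cov1_5P12, cov1_5P13, cov1_5P14, cov1_5P15].flatten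

/-- part 0 of `cov1_6` -/
def cov1_6P0 : List (List Cov) := [
  [.rep 0 [] [⟨22,[]⟩,⟨2,[]⟩,⟨10,[(1,false)]⟩] [0,0,0,0,0]]]

/-- part 1 of `cov1_6` -/
def cov1_6P1 : List (List Cov) := [
  [.rep 0 [] [⟨0,[]⟩,⟨12,[]⟩,⟨22,[]⟩] [0,0,1,3,2]]]

/-- part 2 of `cov1_6` -/
def cov1_6P2 : List (List Cov) := [
  [.rep 0 [] [⟨1,[]⟩,⟨8,[(3,true),(3,true)]⟩,⟨11,[(4,false),(2,true)]⟩] [0,0,4,1,1]]]

/-- part 3 of `cov1_6` -/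
def cov1_6P3 : List (List Cov) := [
  [.rep 0 [] [⟨4,[]⟩,⟨6,[(0,false),(1,false),(0,false)]⟩,⟨11,[(2,true),(1,false)]⟩] [0,0,4,2,2]]]

/-- part 4 of `cov1_6` -/
def cov1_6P4 : List (List Cov) := [
  [.rep 0 [] [⟨5,[]⟩,⟨10,[(2,false),(1,false)]⟩,⟨14,[(2,true)]⟩] [0,0,0,0,0]]]

/-- part 5 of `cov1_6` -/
def cov1_6P5 : List (List Cov) := [
  [.rep 0 [] [⟨14,[(2,true)]⟩,⟨3,[]⟩,⟨13,[(5,false),(1,true),(0,true),(0,true)]⟩] [0,0,1,1,1]]]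

/-- part 6 of `cov1_6` -/
def cov1_6P6 : List (List Cov) := [
  [.rep 0 [] [⟨18,[(4,true),(2,false)]⟩,⟨28,[(4,true),(2,false)]⟩,⟨4,[(1,false),(1,false),(2,true),(1,false)]⟩] [0,0,4,2,2]]]

/-- part 7 of `cov1_6` -/
def cov1_6P7 : List (List Cov) := [
  [.rep 0 [] [⟨26,[(0,true),(2,false),(0,false)]⟩,⟨5,[(2,false),(1,false)]⟩,⟨2,[]⟩] [0,1,4,3,1]]]

/-- part 8 of `cov1_6` -/
def cov1_6P8 : List (List Cov) := [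
  [.rep 0 [] [⟨7,[(3,false),(2,true)]⟩,⟨15,[(1,false),(2,false)]⟩,⟨1,[]⟩] [0,1,1,0,2]]]

/-- part 9 of `cov1_6` -/
def cov1_6P9 : List (List Cov) := [
  [.rep 0 [] [⟨11,[(2,false),(1,false)]⟩,⟨8,[(4,true),(0,false),(0,false)]⟩,⟨13,[(2,false),(2,false),(1,false)]⟩] [0,1,2,1,2]]]

/-- part 10 of `cov1_6` -/
def cov1_6P10 : List (List Cov) := [
  [.rep 0 [] [⟨12,[]⟩,⟨2,[(2,false),(0,false)]⟩,⟨14,[(2,true),(1,false),(0,false)]⟩] [0,1,1,1,0]]]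

/-- part 11 of `cov1_6` -/
def cov1_6P11 : List (List Cov) := [
  [.rep 0 [] [⟨9,[]⟩,⟨4,[]⟩,⟨12,[(5,false),(2,true)]⟩] [0,1,0,1,1]]]

/-- part 12 of `cov1_6` -/
def cov1_6P12 : List (List Cov) := [
  [.rep 0 [] [⟨15,[]⟩,⟨13,[(0,true),(0,true)]⟩,⟨19,[]⟩] [0,0,4,1,1]]]

/-- part 13 of `cov1_6` -/
def cov1_6P13 : List (List Cov) := [
  [.rep 0 [] [⟨6,[]⟩,⟨14,[(0,false),(3,false),(0,false),(1,true)]⟩,⟨18,[(4,true),(2,false)]⟩] [0,0,0,0,0]]]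

/-- part 14 of `cov1_6` -/
def cov1_6P14 : List (List Cov) := [
  [.rep 0 [] [⟨3,[(2,false)]⟩,⟨10,[(1,true),(2,false),(1,true)]⟩,⟨10,[(1,false),(2,true),(1,false)]⟩] [0,0,1,2,1]]]

/-- part 15 of `cov1_6` -/
def cov1_6P15 : List (List Cov) := [
  [.rep 0 [] [⟨19,[]⟩,⟨10,[]⟩,⟨3,[(0,false),(0,false),(0,false)]⟩] [0,0,2,0,2]]]

/-- part 16 of `cov1_6` -/
def cov1_6P16 : List (List Cov) := [
  [.rep 0 [] [⟨17,[(0,true),(0,true)]⟩,⟨17,[(0,true),(0,true)]⟩,⟨25,[]⟩] [0,0,2,0,2]]]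

/-- part 17 of `cov1_6` -/
def cov1_6P17 : List (List Cov) := [
  [.rep 0 [] [⟨25,[(0,false),(0,false)]⟩,⟨29,[(0,false),(0,false)]⟩,⟨0,[(2,true),(0,true),(0,true),(3,false),(0,false),(0,false)]⟩] [0,1,1,3,2]]]

/-- part 18 of `cov1_6` -/
def cov1_6P18 : List (List Cov) := [
  [.rep 0 [] [⟨28,[]⟩,⟨3,[]⟩,⟨14,[(3,false),(0,false),(1,false),(0,false)]⟩] [0,0,2,1,0]]]

/-- part 19 of `cov1_6` -/
def cov1_6P19 : List (List Cov) := [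
  [.rep 0 [] [⟨10,[]⟩,⟨2,[(0,true),(2,false),(2,false),(0,false)]⟩,⟨13,[]⟩] [0,1,0,2,1]]]

/-- part 20 of `cov1_6` -/
def cov1_6P20 : List (List Cov) := [
  [.rep 0 [] [⟨24,[(0,true),(1,false),(0,true)]⟩,⟨20,[(4,false),(0,false),(0,false)]⟩,⟨20,[(0,false),(1,true),(0,false)]⟩] [0,0,3,3,1]]]

/-- part 21 of `cov1_6` -/
def cov1_6P21 : List (List Cov) := [
  [.rep 0 [] [⟨23,[(4,true),(1,false)]⟩,⟨21,[]⟩,⟨21,[(0,true),(1,false),(0,true)]⟩] [0,0,2,0,1]]]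

/-- part 22 of `cov1_6` -/
def cov1_6P22 : List (List Cov) := [
  [.rep 0 [] [⟨2,[]⟩,⟨6,[(4,true),(1,false)]⟩,⟨12,[(4,false),(2,true)]⟩] [0,0,4,0,1]]]

/-- part 23 of `cov1_6` -/
def cov1_6P23 : List (List Cov) := [
  [.rep 0 [] [⟨20,[(4,false),(0,false),(0,false)]⟩,⟨23,[(4,true),(1,false)]⟩,⟨23,[(4,true),(1,false)]⟩] [0,0,3,3,2]]]

/-- part 24 of `cov1_6` -/
def cov1_6P24 : List (List Cov) := [
  [.rep 0 [] [⟨21,[]⟩,⟨24,[(0,true),(1,false),(0,true)]⟩,⟨24,[(1,true),(4,false)]⟩] [0,0,4,0,2]]]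

/-- part 25 of `cov1_6` -/
def cov1_6P25 : List (List Cov) := [
  [.rep 0 [] [⟨29,[]⟩,⟨0,[(1,true),(4,false),(0,false),(2,false),(0,false)]⟩,⟨17,[(0,true),(0,true)]⟩] [0,1,3,2,1]]]

/-- part 26 of `cov1_6` -/
def cov1_6P26 : List (List Cov) := [
  [.rep 0 [] [⟨27,[(2,true),(2,true)]⟩,⟨1,[]⟩,⟨8,[(2,false),(1,true)]⟩] [0,1,3,2,0]]]

/-- part 27 of `cov1_6` -/
def cov1_6P27 : List (List Cov) := [
  [.rep 0 [] [⟨8,[(4,true),(3,false)]⟩,⟨7,[]⟩,⟨11,[(4,false),(0,false),(5,false),(0,false)]⟩] [0,0,4,3,1]]]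

/-- part 28 of `cov1_6` -/
def cov1_6P28 : List (List Cov) := [
  [.rep 0 [] [⟨13,[(2,true),(4,false)]⟩,⟨7,[(1,false),(1,false)]⟩,⟨12,[(1,false),(2,false)]⟩] [0,0,1,0,2]]]

/-- part 29 of `cov1_6` -/
def cov1_6P29 : List (List Cov) := [
  [.rep 0 [] [⟨16,[]⟩,⟨25,[(0,false),(0,false)]⟩,⟨16,[(0,false),(0,false)]⟩] [0,0,3,2,0]]]

/-- certificate data -/
def cov1_6 : List (List Cov) :=
  [cov1_6P0, cov1_6P1, cov1_6P2, cov1_6P3, cov1_6P4, cov1_6P5, cov1_6P6, cov1_6P7, cov1_6P8, cov1_6P9, cov1_6P10, cov1_6P11, cov1_6P12, cov1_6P13, cov1_6P14, cov1_6P15, cov1_6P16, cov1_6P17, cov1_6P18, cov1_6P19, cov1_6P20, cov1_6P21, cov1_6P22, cov1_6P23, cov1_6P24, cov1_6P25, cov1_6P26, cov1_6P27, cov1_6P28, cov1_6P29].flatten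

/-- part 0 of `cov1_7` -/
def cov1_7P0 : List (List Cov) := [
  [.rep 0 [] [⟨2,[]⟩,⟨8,[(4,true),(3,false)]⟩,⟨26,[(0,true),(2,false),(0,false)]⟩] [69,2]]]

/-- part 1 of `cov1_7` -/
def cov1_7P1 : List (List Cov) := [
  [.rep 0 [] [⟨5,[(2,false),(1,false)]⟩,⟨0,[]⟩,⟨15,[(5,true),(0,true),(0,true)]⟩] [68,0]]]

/-- part 2 of `cov1_7` -/
def cov1_7P2 : List (List Cov) := [
  [.rep 0 [] [⟨1,[]⟩,⟨27,[(2,true),(2,true)]⟩,⟨5,[(2,false),(1,false)]⟩] [68,0]]]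

/-- part 3 of `cov1_7` -/
def cov1_7P3 : List (List Cov) := [
  [.rep 0 [] [⟨4,[(1,false),(1,false),(2,true),(1,false)]⟩,⟨13,[(2,true),(4,false)]⟩,⟨15,[(2,false),(1,false),(2,true),(1,false)]⟩] [64,3]]]

/-- part 4 of `cov1_7` -/
def cov1_7P4 : List (List Cov) := [
  [.rep 0 [] [⟨3,[]⟩,⟨12,[(2,false),(2,false)]⟩,⟨28,[(4,true),(2,false)]⟩] [105,0]]]

/-- part 5 of `cov1_7` -/
def cov1_7P5 : List (List Cov) := [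
  [.rep 0 [] [⟨0,[(1,true),(2,true)]⟩,⟨11,[(5,false),(1,true),(2,false)]⟩,⟨27,[(1,false)]⟩] [1,1]]]

/-- part 6 of `cov1_7` -/
def cov1_7P6 : List (List Cov) := [
  [.rep 0 [] [⟨6,[(0,true),(1,false),(2,true),(0,false)]⟩,⟨6,[(0,true),(0,true)]⟩,⟨6,[(2,true),(2,true),(1,true),(0,false),(0,false)]⟩] [116,0]]]

/-- certificate data -/
def cov1_7 : List (List Cov) :=
  [cov1_7P0, cov1_7P1, cov1_7P2, cov1_7P3, cov1_7P4, cov1_7P5, cov1_7P6].flatten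

/-- part 0 of `cov1_8` -/
def cov1_8P0 : List (List Cov) := [
  [.rep 0 [] [⟨0,[(1,true),(4,false),(0,false),(2,false),(0,false)]⟩,⟨16,[]⟩,⟨29,[(0,false),(0,false)]⟩] [72,9,0,1,0,1]]]

/-- part 1 of `cov1_8` -/
def cov1_8P1 : List (List Cov) := [
  [.rep 0 [] [⟨1,[(0,true),(2,false),(0,true)]⟩,⟨1,[(1,true),(0,true),(1,false),(1,false),(0,false)]⟩,⟨1,[(1,false),(0,false),(4,false),(0,true)]⟩] [52,2,1,1,0,1]]]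

/-- certificate data -/
def cov1_8 : List (List Cov) :=
  [cov1_8P0, cov1_8P1].flatten

/-- relation 1 -/
def rel1 : RelCert := ⟨[1,5,0,5,5], 0, 0x1, [cov1_0,cov1_1,cov1_2,cov1_3,cov1_4,cov1_5,cov1_6,cov1_7,cov1_8]⟩

end CfsgLib.HN
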