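import Cfsg.Agent.Lib.DCoset.Check

/-!
A relation on the cosets.
-/

set_option autoImplicit false
set_option linter.style.longLine false

namespace CfsgLib.HN
open CfsgLib.CosetEnum CfsgLib.DCoset CfsgLib.DCoset.Space
/-- part 0 of `cov2_0` -/
def cov2_0P0 : List (List Cov) := [
  [.rep 4 [] [⟨0,[(4,false)]⟩,⟨6,[]⟩,⟨0,[]⟩] [1,0,0,0,0,0],
    .child 0 4,
    .child 0 67,
    .child 1 67,
    .child 2 67,
    .child 3 67,
    .child 4 67,
    .child 0 592,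
    .child 1 592,
    .child 3 592,
    .child 4 592,
    .child 0 464,
    .child 1 464,
    .child 2 464,
    .child 4 464,
    .child 0 122,
    .child 1 122,
    .child 2 122,
    .child 3 122,
    .child 4 122,
    .child 0 408,
    .child 1 408,
    .child 2 408,
    .child 3 408,
    .child 1 32,
    .child 2 32,
    .child 3 32,
    .child 1 39,
    .child 2 39,
    .child 3 39,
    .child 4 39,
    .child 0 204,
    .child 1 204,
    .child 2 204,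
    .child 3 65,
    .child 1 410,
    .child 2 410,
    .child 3 410,
    .child 4 410,
    .child 4 206,
    .child 1 30,
    .child 0 78,
    .child 4 78,
    .child 4 284,
    .child 0 58,
    .child 2 58,
    .child 3 58,
    .child 0 38,
    .child 3 31,
    .child 1 40]]

/-- certificate data -/
def cov2_0 : List (List Cov) :=
  [cov2_0P0].flatten

/-- part 0 of `cov2_1` -/
def cov2_1P0 : List (List Cov) := [
  [.rep 4 [] [⟨5,[(0,true),(4,false),(1,true),(0,false)]⟩,⟨0,[]⟩,⟨1,[]⟩] [0,4,4,0,3,1],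
    .child 0 4,
    .child 1 4,
    .child 0 78,
    .child 1 78,
    .child 2 78,
    .child 3 78,
    .child 4 78,
    .child 0 137,
    .child 1 137,
    .child 3 137,
    .child 4 137,
    .child 0 38,
    .child 1 38,
    .child 3 38,
    .child 4 38,
    .child 1 60,
    .child 2 60,
    .child 1 284,
    .child 2 284,
    .child 4 284,
    .child 0 190,
    .child 2 190,
    .child 3 190,
    .child 0 25,
    .child 1 205,
    .child 2 205,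
    .child 3 205,
    .child 2 16,
    .child 3 59,
    .child 4 59,
    .child 0 410,
    .child 1 410,
    .child 3 410,
    .child 3 101,
    .child 2 27,
    .child 0 194,
    .child 2 194,
    .child 4 26,
    .child 0 39,
    .child 0 40,
    .child 3 40,
    .child 0 212,
    .child 0 24,
    .child 0 31,
    .child 4 67,
    .child 0 192,
    .child 0 122,
    .child 0 392,
    .child 4 464]]

/-- part 1 of `cov2_1` -/
def cov2_1P1 : List (List Cov) := [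
  [.rep 4 [] [⟨7,[(3,true)]⟩,⟨0,[(0,true),(1,false),(0,false)]⟩,⟨3,[]⟩] [2,6,3,4,1,2],
    .child 0 4,
    .child 1 4,
    .child 2 4,
    .child 3 4,
    .child 0 205,
    .child 1 205,
    .child 2 205,
    .child 3 205,
    .child 0 411,
    .child 2 411,
    .child 3 411,
    .child 4 411,
    .child 0 26,
    .child 1 26,
    .child 3 26,
    .child 0 410,
    .child 1 410,
    .child 2 410,
    .child 3 410,
    .child 0 206,
    .child 2 206,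
    .child 3 206,
    .child 2 284,
    .child 3 284,
    .child 4 284,
    .child 1 190,
    .child 4 190,
    .child 0 193,
    .child 4 193,
    .child 1 408,
    .child 4 408,
    .child 0 195,
    .child 1 195,
    .child 3 195,
    .child 4 195,
    .child 0 192,
    .child 1 192,
    .child 2 192,
    .child 1 27,
    .child 0 40,
    .child 1 25,
    .child 0 65,
    .child 1 67,
    .child 2 31,
    .child 0 78,
    .child 0 391,
    .child 0 285,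
    .child 2 33,
    .child 0 37]]

/-- part 2 of `cov2_1` -/
def cov2_1P2 : List (List Cov) := [
  [.rep 4 [] [⟨6,[(1,false),(4,true),(0,false)]⟩,⟨0,[]⟩,⟨0,[(4,false),(0,false),(0,false)]⟩] [8,5,4,0,1,2],
    .child 0 4,
    .child 1 4,
    .child 3 4,
    .child 0 464,
    .child 3 464,
    .child 0 60,
    .child 1 60,
    .child 3 60,
    .child 4 60,
    .child 0 67,
    .child 1 67,
    .child 3 67,
    .child 0 122,
    .child 1 122,
    .child 2 122,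
    .child 1 25,
    .child 0 391,
    .child 1 391,
    .child 0 592,
    .child 1 592,
    .child 3 592,
    .child 1 31,
    .child 2 31,
    .child 1 137,
    .child 1 409,
    .child 2 409,
    .child 4 409,
    .child 4 39,
    .child 3 593,
    .child 4 593,
    .child 0 411,
    .child 2 411,
    .child 4 411,
    .child 1 408,
    .child 2 408,
    .child 0 65,
    .child 2 65,
    .child 2 58,
    .child 0 204,
    .child 2 204,
    .child 0 212,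
    .child 2 15,
    .child 1 399,
    .child 0 30,
    .child 2 30,
    .child 0 59,
    .child 0 14,
    .child 1 191,
    .child 4 191]]

/-- part 3 of `cov2_1` -/
def cov2_1P3 : List (List Cov) := [
  [.rep 4 [] [⟨4,[(1,true),(1,true),(0,false)]⟩,⟨1,[]⟩,⟨2,[]⟩] [49,1,5,0,1,2],
    .child 0 4,
    .child 1 4,
    .child 2 4,
    .child 3 4,
    .child 4 4,
    .child 0 40,
    .child 1 40,
    .child 2 40,
    .child 4 40,
    .child 0 30,
    .child 2 30,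
    .child 3 30,
    .child 4 30,
    .child 0 58,
    .child 1 58,
    .child 2 58,
    .child 3 58,
    .child 4 58,
    .child 0 78,
    .child 1 78,
    .child 2 78,
    .child 3 78,
    .child 4 78,
    .child 0 285,
    .child 1 285,
    .child 3 285,
    .child 1 6,
    .child 2 6,
    .child 0 67,
    .child 0 454,
    .child 1 454,
    .child 3 410,
    .child 0 284,
    .child 2 284,
    .child 3 284,
    .child 0 33,
    .child 1 33,
    .child 0 464,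
    .child 3 409,
    .child 0 16,
    .child 0 60,
    .child 0 191,
    .child 1 191,
    .child 2 191,
    .child 1 31,
    .child 2 27,
    .child 1 399,
    .child 0 411,
    .child 1 25]]

/-- part 4 of `cov2_1` -/
def cov2_1P4 : List (List Cov) := [
  [.rep 4 [] [⟨3,[]⟩,⟨7,[(0,false),(4,false)]⟩,⟨0,[(0,true),(1,false),(0,false)]⟩] [14,0,2,2,2,0],
    .rep 410 [21,19,11,149,77] [⟨8,[(1,true)]⟩,⟨4,[]⟩,⟨0,[]⟩] [23,5,4,4,2,0],
    .child 0 410,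
    .child 1 410,
    .child 2 410,
    .child 3 410,
    .child 0 409,
    .child 1 409,
    .child 3 409,
    .child 0 122,
    .child 1 122,
    .child 2 122,
    .child 3 122,
    .child 0 190,
    .child 1 190,
    .child 2 190,
    .child 3 190,
    .child 0 137,
    .child 1 137,
    .child 2 137,
    .child 0 24,
    .child 0 391,
    .child 2 391,
    .child 1 25,
    .child 2 25,
    .child 3 25,
    .child 0 194,
    .child 0 26,
    .child 1 26,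
    .child 2 26,
    .child 3 26,
    .child 0 27,
    .child 1 191,
    .child 3 191,
    .child 1 31,
    .child 0 60,
    .child 1 6,
    .child 0 32,
    .child 1 38,
    .child 0 59,
    .child 1 59,
    .child 3 59,
    .child 0 30,
    .rep 411 [19,133,61] [⟨9,[(1,true),(0,false),(1,false)]⟩,⟨3,[(0,false)]⟩,⟨0,[(4,false),(1,false),(0,false)]⟩] [43,0,0,3,0,1],
    .child 0 411,
    .child 1 411,
    .child 0 205,
    .child 2 205,
    .child 3 205,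
    .child 0 592]]

/-- part 5 of `cov2_1` -/
def cov2_1P5 : List (List Cov) := [
  [.rep 4 [] [⟨0,[]⟩,⟨0,[(2,false),(0,true),(2,false),(4,false),(0,false)]⟩,⟨6,[]⟩] [34,4,1,2,3,1],
    .rep 410 [21,19,11,149,77] [⟨9,[(4,true),(2,true),(0,true)]⟩,⟨9,[(3,true),(0,false)]⟩,⟨6,[(1,false),(4,true),(0,false)]⟩] [34,4,0,2,0,0],
    .child 0 410,
    .child 1 410,
    .child 2 410,
    .child 3 410,
    .child 0 195,
    .child 1 195,
    .child 2 195,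
    .child 0 409,
    .child 2 409,
    .child 0 137,
    .child 1 137,
    .child 0 60,
    .child 1 60,
    .child 2 60,
    .child 0 212,
    .child 1 212,
    .child 3 212,
    .child 0 14,
    .child 2 14,
    .child 3 14,
    .child 0 285,
    .child 0 193,
    .child 1 193,
    .child 2 193,
    .child 0 38,
    .child 0 392,
    .child 1 392,
    .child 3 392,
    .child 1 40,
    .child 2 40,
    .child 3 40,
    .child 0 32,
    .child 2 32,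
    .child 2 391,
    .child 1 25,
    .child 3 25,
    .child 1 190,
    .child 0 399,
    .child 1 78,
    .child 1 30,
    .child 0 408,
    .rep 411 [19,133,61] [⟨8,[(0,false),(2,false),(0,true)]⟩,⟨0,[(1,false),(0,false)]⟩,⟨6,[(4,true),(0,true)]⟩] [34,6,4,3,0,1],
    .child 0 411,
    .child 3 411,
    .child 1 204,
    .child 1 592,
    .child 2 592,
    .child 0 16]]

/-- part 6 of `cov2_1` -/
def cov2_1P6 : List (List Cov) := [
  [.rep 4 [] [⟨2,[]⟩,⟨4,[]⟩,⟨1,[]⟩] [34,4,3,3,0,2],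
    .rep 410 [21,19,11,149,77] [⟨9,[(5,false),(1,false)]⟩,⟨8,[(3,false),(4,false)]⟩,⟨1,[(0,false)]⟩] [26,6,0,0,0,0],
    .child 0 410,
    .child 1 410,
    .child 2 410,
    .child 3 410,
    .child 0 33,
    .child 2 33,
    .child 3 33,
    .child 0 31,
    .child 1 31,
    .child 0 30,
    .child 1 30,
    .child 0 285,
    .child 0 65,
    .child 2 65,
    .child 3 65,
    .child 0 408,
    .child 1 40,
    .child 0 195,
    .child 1 195,
    .child 2 195,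
    .child 3 195,
    .child 0 464,
    .child 2 464,
    .child 3 464,
    .child 0 399,
    .child 0 38,
    .child 1 38,
    .child 2 38,
    .child 3 39,
    .child 0 14,
    .child 2 14,
    .child 1 26,
    .child 2 26,
    .child 2 193,
    .child 1 66,
    .child 2 284,
    .child 1 24,
    .child 2 60,
    .child 2 25,
    .child 0 122,
    .child 2 78,
    .rep 411 [19,133,61] [⟨8,[(1,true),(0,true),(3,true),(0,true)]⟩,⟨1,[]⟩,⟨1,[]⟩] [40,6,4,0,0,2],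
    .child 0 411,
    .child 1 411,
    .child 0 204,
    .child 1 204,
    .child 0 16,
    .child 1 16]]

/-- part 7 of `cov2_1` -/
def cov2_1P7 : List (List Cov) := [
  [.rep 4 [] [⟨1,[]⟩,⟨5,[(5,false),(1,false),(0,false)]⟩,⟨0,[]⟩] [3,5,2,3,3,2],
    .rep 410 [21,19,11,149,77] [⟨8,[(3,true)]⟩,⟨6,[(1,false),(1,false)]⟩,⟨0,[]⟩] [3,2,4,1,3,1],
    .child 1 410,
    .child 2 410,
    .child 0 137,
    .child 1 137,
    .child 2 137,
    .child 0 40,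
    .child 1 40,
    .child 0 66,
    .child 1 66,
    .child 3 66,
    .child 0 593,
    .child 0 191,
    .child 0 59,
    .child 1 59,
    .child 2 59,
    .child 3 59,
    .child 0 14,
    .child 2 60,
    .child 3 60,
    .child 0 195,
    .child 1 195,
    .child 2 195,
    .child 3 195,
    .child 1 31,
    .child 0 32,
    .child 1 32,
    .child 2 32,
    .child 0 6,
    .child 2 78,
    .child 1 33,
    .child 0 30,
    .child 1 30,
    .child 0 285,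
    .child 1 285,
    .child 2 285,
    .child 3 284,
    .child 2 24,
    .child 0 101,
    .child 0 464,
    .child 0 37,
    .child 1 399,
    .rep 411 [19,133,61] [⟨9,[(2,true),(0,false),(5,true)]⟩,⟨6,[(5,true),(1,false)]⟩,⟨0,[(0,false)]⟩] [3,3,2,0,3,1],
    .child 0 411,
    .child 0 192,
    .child 2 192,
    .child 3 192,
    .child 1 454,
    .child 0 204]]

/-- part 8 of `cov2_1` -/
def cov2_1P8 : List (List Cov) := [
  [.rep 4 [] [⟨4,[]⟩,⟨7,[(2,true),(1,true)]⟩,⟨0,[]⟩] [20,4,0,0,1,1],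
    .child 0 4,
    .child 0 194,
    .child 1 194,
    .child 2 194,
    .child 0 15,
    .rep 410 [21,19,11,149,77] [⟨7,[(3,true)]⟩,⟨2,[(6,false),(3,false)]⟩,⟨0,[]⟩] [11,4,5,2,0,1],
    .child 0 410,
    .child 1 410,
    .child 2 410,
    .child 0 137,
    .child 0 191,
    .rep 195 [197,193,153,77] [⟨10,[(1,false),(4,true),(0,false)]⟩,⟨4,[(2,false),(2,false)]⟩,⟨0,[]⟩] [32,4,4,2,1,2],
    .child 0 195,
    .child 1 195,
    .child 2 195,
    .child 3 195,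
    .child 0 592,
    .child 2 592,
    .child 0 408,
    .child 1 408,
    .child 2 408,
    .child 3 408,
    .child 0 31,
    .child 1 31,
    .child 3 31,
    .child 0 37,
    .child 1 37,
    .child 2 37,
    .child 0 409,
    .child 1 409,
    .child 2 409,
    .child 0 454,
    .child 1 454,
    .child 2 454,
    .child 3 454,
    .child 1 32,
    .child 0 25,
    .child 3 25,
    .child 1 392,
    .child 0 65,
    .child 0 16,
    .child 1 399,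
    .child 1 66,
    .child 2 66,
    .child 1 285,
    .child 2 60,
    .child 1 78,
    .rep 411 [19,133,61] [⟨5,[(2,false),(1,false),(0,false)]⟩,⟨4,[(3,true)]⟩,⟨0,[]⟩] [28,0,5,3,0,1],
    .rep 27 [21,197,193,129,31] [⟨6,[(0,false),(3,false),(0,false)]⟩,⟨8,[(0,false),(4,false)]⟩,⟨0,[(1,false),(0,false)]⟩] [20,3,3,0,2,0]]]

/-- part 9 of `cov2_1` -/
def cov2_1P9 : List (List Cov) := [
  [.rep 4 [] [⟨6,[(5,false),(0,false)]⟩,⟨9,[(2,false),(0,true),(1,true)]⟩,⟨9,[(0,true)]⟩] [8,1,2,2,3,2],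
    .child 0 4,
    .child 1 4,
    .child 3 4,
    .child 2 137,
    .child 0 26,
    .rep 410 [21,19,11,149,77] [⟨10,[(4,false),(3,false)]⟩,⟨5,[(1,true),(1,true),(2,false)]⟩,⟨9,[(1,false),(0,false)]⟩] [12,0,5,1,2,2],
    .child 0 410,
    .child 1 410,
    .child 2 410,
    .child 3 410,
    .child 0 391,
    .child 1 391,
    .child 3 391,
    .child 0 101,
    .child 1 101,
    .child 2 101,
    .child 3 101,
    .child 0 59,
    .child 3 59,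
    .child 0 454,
    .child 1 454,
    .child 2 454,
    .child 1 40,
    .child 3 40,
    .child 0 60,
    .child 1 60,
    .child 2 60,
    .child 0 38,
    .child 2 38,
    .child 3 409,
    .child 2 65,
    .child 3 65,
    .child 2 15,
    .child 0 27,
    .child 1 27,
    .child 2 25,
    .child 0 194,
    .child 1 194,
    .child 2 285,
    .child 0 411,
    .child 2 193,
    .rep 284 [19,15,129,31] [⟨5,[(5,true),(0,false),(0,false)]⟩,⟨8,[(0,true),(2,true)]⟩,⟨9,[]⟩] [41,6,0,0,0,2],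
    .child 1 284,
    .child 2 284,
    .child 0 464,
    .child 1 31,
    .child 2 31,
    .rep 24 [19,193,175,77] [⟨7,[(0,false),(1,true),(0,true)]⟩,⟨1,[(2,false),(1,false),(0,false)]⟩,⟨9,[(5,true),(0,false)]⟩] [12,0,3,2,0,0],
    .rep 592 [21,193,159,63] [⟨4,[(2,false),(0,false)]⟩,⟨6,[(3,false),(1,false)]⟩,⟨9,[(0,false)]⟩] [47,4,3,2,0,2]]]

/-- part 10 of `cov2_1` -/
def cov2_1P10 : List (List Cov) := [
  [.rep 4 [] [⟨9,[]⟩,⟨10,[(2,false),(1,false),(0,true)]⟩,⟨0,[]⟩] [18,4,0,4,0,1],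
    .child 0 4,
    .child 1 4,
    .child 0 16,
    .child 1 16,
    .child 2 194,
    .child 0 410,
    .child 1 410,
    .child 2 101,
    .child 0 284,
    .child 1 284,
    .child 0 26,
    .child 1 26,
    .child 0 60,
    .child 1 60,
    .child 0 40,
    .child 1 40,
    .child 0 38,
    .child 2 38,
    .child 1 592,
    .child 1 65,
    .child 2 66,
    .child 2 14,
    .child 2 58,
    .child 0 212,
    .rep 195 [197,193,153,77] [⟨8,[(0,true),(1,true),(2,false)]⟩,⟨7,[(3,false),(4,true)]⟩,⟨0,[]⟩] [27,1,4,2,3,0],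
    .child 0 195,
    .child 1 195,
    .child 2 195,
    .child 0 15,
    .child 0 190,
    .child 2 190,
    .child 0 37,
    .child 1 37,
    .child 0 24,
    .child 2 24,
    .child 0 30,
    .child 1 30,
    .child 2 30,
    .child 0 39,
    .child 1 33,
    .child 2 33,
    .child 0 67,
    .child 2 67,
    .child 0 78,
    .child 1 78,
    .child 1 192,
    .child 0 32,
    .child 1 32,
    .child 0 454]]

/-- certificate data -/
def cov2_1 : List (List Cov) :=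
  [cov2_1P0, cov2_1P1, cov2_1P2, cov2_1P3, cov2_1P4, cov2_1P5, cov2_1P6, cov2_1P7, cov2_1P8, cov2_1P9, cov2_1P10].flatten

/-- part 0 of `cov2_2` -/
def cov2_2P0 : List (List Cov) := [
  [.rep 4 [] [⟨3,[(0,false)]⟩,⟨1,[(1,true),(2,true),(0,false)]⟩,⟨2,[(0,false)]⟩] [1,6,3,3,3,1],
    .rep 410 [21,19,11,149,77] [⟨12,[(2,false),(1,false)]⟩,⟨1,[(0,false)]⟩,⟨2,[]⟩] [1,2,1,4,3,2],
    .child 0 410,
    .child 1 410,
    .child 2 410,
    .child 3 410,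
    .child 0 37,
    .child 1 37,
    .child 3 37,
    .child 0 190,
    .child 1 190,
    .child 2 190,
    .child 3 190,
    .child 0 122,
    .child 1 122,
    .child 3 122,
    .child 0 137,
    .child 0 206,
    .child 1 206,
    .child 2 206,
    .child 1 191,
    .child 2 191,
    .child 3 191,
    .child 2 59,
    .child 0 408,
    .child 2 408,
    .child 2 31,
    .child 3 31,
    .child 2 67,
    .child 2 60,
    .child 0 38,
    .child 3 38,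
    .child 2 26,
    .child 0 212,
    .child 2 212,
    .child 1 30,
    .child 2 30,
    .child 3 30,
    .child 2 40,
    .child 0 27,
    .child 0 194,
    .child 1 195,
    .child 0 15,
    .rep 411 [19,133,61] [⟨5,[(5,true),(1,false)]⟩,⟨5,[(1,false),(0,false)]⟩,⟨2,[]⟩] [1,3,2,3,0,1],
    .child 0 411,
    .child 1 411,
    .child 0 454,
    .child 1 205,
    .child 2 205,
    .child 0 16]]

/-- part 1 of `cov2_2` -/
def cov2_2P1 : List (List Cov) := [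
  [.rep 4 [] [⟨2,[]⟩,⟨3,[]⟩,⟨1,[(1,true),(2,true),(0,false)]⟩] [1,5,5,1,1,2],
    .rep 410 [21,19,11,149,77] [⟨11,[(0,false),(3,true)]⟩,⟨10,[]⟩,⟨1,[(3,true),(0,false)]⟩] [1,3,5,0,2,2],
    .child 0 410,
    .child 1 410,
    .child 2 410,
    .child 3 410,
    .child 0 65,
    .child 1 65,
    .child 2 65,
    .child 0 392,
    .child 1 392,
    .child 2 392,
    .child 3 392,
    .child 0 33,
    .child 1 33,
    .child 2 33,
    .child 0 39,
    .child 1 39,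
    .child 2 39,
    .child 0 66,
    .child 0 194,
    .child 1 194,
    .child 2 194,
    .child 3 191,
    .child 0 391,
    .child 1 391,
    .child 3 391,
    .child 0 40,
    .child 3 40,
    .child 2 14,
    .child 0 284,
    .child 3 409,
    .child 0 25,
    .child 3 25,
    .child 3 206,
    .child 0 190,
    .child 1 190,
    .child 0 399,
    .child 0 593,
    .child 0 212,
    .child 0 37,
    .child 0 60,
    .child 2 137,
    .rep 411 [19,133,61] [⟨9,[(3,false)]⟩,⟨7,[(5,false),(2,true)]⟩,⟨1,[(0,true),(1,true)]⟩] [1,3,4,0,1,1],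
    .child 0 411,
    .child 2 411,
    .child 3 411,
    .child 0 204,
    .child 0 454,
    .child 1 454]]

/-- part 2 of `cov2_2` -/
def cov2_2P2 : List (List Cov) := [
  [.rep 4 [] [⟨7,[(2,false),(4,false)]⟩,⟨0,[]⟩,⟨4,[(4,false),(0,false)]⟩] [0,3,2,1,3,2],
    .child 0 4,
    .child 1 4,
    .child 2 4,
    .child 3 4,
    .child 0 409,
    .child 2 409,
    .child 3 409,
    .child 0 25,
    .child 1 25,
    .child 3 25,
    .child 0 14,
    .child 1 14,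
    .child 3 14,
    .child 0 137,
    .child 1 137,
    .child 2 137,
    .child 0 285,
    .child 1 285,
    .child 2 285,
    .child 0 16,
    .child 1 16,
    .child 0 190,
    .child 1 190,
    .child 1 284,
    .child 2 284,
    .child 0 191,
    .child 2 191,
    .child 1 454,
    .child 0 27,
    .child 0 464,
    .child 1 31,
    .child 2 31,
    .child 2 193,
    .child 1 24,
    .child 1 78,
    .child 2 32,
    .child 0 66,
    .child 3 66,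
    .child 2 58,
    .child 0 204,
    .child 0 410,
    .rep 26 [201,149,77] [⟨6,[]⟩,⟨9,[(0,false)]⟩,⟨4,[(0,false),(3,false),(0,false)]⟩] [0,1,0,3,2,2],
    .child 0 26,
    .child 1 26,
    .child 0 65,
    .child 1 392,
    .child 2 392,
    .child 3 392,
    .rep 15 [197,193,173,55] [⟨1,[]⟩,⟨2,[]⟩,⟨4,[(0,false),(1,false),(1,false),(0,false)]⟩] [0,1,1,0,3,0]]]

/-- part 3 of `cov2_2` -/
def cov2_2P3 : List (List Cov) := [
  [.rep 4 [] [⟨8,[(3,false),(2,false)]⟩,⟨9,[]⟩,⟨5,[(3,true),(5,true),(0,false)]⟩] [1,2,2,0,0,2],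
    .child 0 4,
    .child 1 4,
    .child 2 4,
    .child 3 4,
    .child 0 454,
    .child 1 454,
    .child 2 454,
    .child 3 454,
    .child 0 285,
    .child 1 285,
    .child 2 285,
    .child 3 285,
    .child 0 190,
    .child 3 190,
    .child 0 59,
    .child 1 59,
    .child 0 39,
    .child 2 39,
    .child 0 65,
    .child 2 65,
    .child 0 212,
    .child 2 212,
    .child 1 193,
    .child 2 67,
    .child 0 32,
    .child 0 410,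
    .child 1 410,
    .child 2 410,
    .child 1 37,
    .child 1 409,
    .child 3 409,
    .child 0 24,
    .child 1 24,
    .child 0 26,
    .child 2 206,
    .child 0 284,
    .child 0 58,
    .child 0 205,
    .child 0 593,
    .child 0 33,
    .child 1 137,
    .rep 191 [199,15,129,31] [⟨4,[(1,true),(0,false)]⟩,⟨0,[]⟩,⟨5,[(1,false)]⟩] [1,4,4,0,0,0],
    .child 0 191,
    .child 1 191,
    .child 3 191,
    .child 2 122,
    .child 1 6,
    .child 0 391,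
    .rep 30 [201,195,173,31] [⟨0,[(0,false)]⟩,⟨1,[]⟩,⟨5,[(0,true),(4,false),(1,true),(0,false)]⟩] [1,3,5,1,1,0]]]

/-- part 4 of `cov2_2` -/
def cov2_2P4 : List (List Cov) := [
  [.rep 4 [] [⟨3,[(0,false)]⟩,⟨0,[(0,true),(1,true)]⟩,⟨9,[(1,false),(5,true),(0,true)]⟩] [0,0,3,1,0,0],
    .rep 410 [21,19,11,149,77] [⟨9,[(1,false),(0,false)]⟩,⟨6,[(5,true),(2,true),(0,false)]⟩,⟨9,[(0,true),(2,false),(5,false)]⟩] [0,2,2,4,2,2],
    .child 0 410,
    .child 1 410,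
    .child 0 464,
    .child 2 25,
    .child 0 67,
    .rep 212 [21,19,15,129,31] [⟨10,[(1,true),(0,false),(1,false)]⟩,⟨0,[]⟩,⟨9,[(5,false),(3,false),(0,false)]⟩] [0,4,3,2,0,0],
    .child 0 212,
    .child 0 32,
    .child 1 32,
    .child 2 32,
    .child 0 193,
    .child 1 193,
    .child 2 193,
    .child 0 195,
    .child 2 195,
    .child 0 31,
    .child 1 31,
    .child 2 6,
    .child 0 408,
    .child 2 408,
    .child 0 24,
    .child 0 40,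
    .child 1 40,
    .child 2 40,
    .child 0 190,
    .child 1 101,
    .child 2 101,
    .child 1 27,
    .child 2 27,
    .child 0 66,
    .child 0 191,
    .child 0 284,
    .child 0 58,
    .child 2 58,
    .child 1 122,
    .child 0 399,
    .child 1 399,
    .child 0 78,
    .child 0 15,
    .child 0 39,
    .child 1 26,
    .rep 411 [19,133,61] [⟨8,[(5,false),(2,false)]⟩,⟨1,[(0,false)]⟩,⟨9,[(5,false),(2,false),(0,false)]⟩] [0,2,5,0,3,0],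
    .child 0 411,
    .child 0 592,
    .child 1 592,
    .child 1 192,
    .child 2 454,
    .rep 16 [199,193,133,61] [⟨6,[(1,false)]⟩,⟨0,[(0,false)]⟩,⟨9,[(0,true),(1,false),(2,true),(0,true)]⟩] [0,5,3,3,1,0]]]

/-- part 5 of `cov2_2` -/
def cov2_2P5 : List (List Cov) := [
  [.rep 4 [] [⟨9,[(1,false),(2,true)]⟩,⟨4,[(0,false),(3,false),(0,false)]⟩,⟨6,[(1,true)]⟩] [1,1,1,4,2,0],
    .rep 410 [21,19,11,149,77] [⟨13,[(5,true),(1,true),(0,true),(0,true)]⟩,⟨3,[(1,true),(0,false)]⟩,⟨6,[(3,true),(1,false)]⟩] [1,3,4,0,2,2],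
    .child 0 410,
    .child 1 410,
    .child 2 410,
    .child 0 65,
    .child 1 65,
    .child 2 65,
    .child 0 60,
    .child 1 60,
    .child 2 60,
    .child 0 58,
    .child 0 24,
    .child 2 24,
    .child 1 464,
    .child 2 464,
    .child 0 392,
    .child 0 190,
    .child 1 190,
    .child 2 190,
    .child 0 408,
    .child 0 78,
    .child 0 137,
    .child 0 59,
    .child 1 59,
    .child 1 37,
    .child 1 191,
    .child 1 399,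
    .child 2 399,
    .child 0 32,
    .child 1 32,
    .child 0 25,
    .child 1 284,
    .child 1 593,
    .child 2 593,
    .child 0 122,
    .child 0 30,
    .rep 195 [197,193,153,77] [⟨7,[(4,false),(1,true),(0,false)]⟩,⟨5,[(1,false),(0,false)]⟩,⟨6,[(0,true),(1,false)]⟩] [1,1,1,4,1,2],
    .child 0 195,
    .child 0 285,
    .child 1 285,
    .child 2 285,
    .child 0 14,
    .rep 411 [19,133,61] [⟨5,[(1,true),(0,false)]⟩,⟨6,[(0,false),(1,true)]⟩,⟨6,[(0,true),(1,false)]⟩] [1,6,5,3,0,0],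
    .child 0 411,
    .child 0 205,
    .child 1 205,
    .child 0 16,
    .child 1 16,
    .rep 454 [197,11,177,115] [⟨0,[]⟩,⟨9,[(0,true),(1,true),(2,false),(0,false)]⟩,⟨6,[(5,true),(1,false)]⟩] [1,3,4,0,2,2]]]

/-- part 6 of `cov2_2` -/
def cov2_2P6 : List (List Cov) := [
  [.rep 4 [] [⟨13,[(5,false)]⟩,⟨11,[(4,false)]⟩,⟨5,[(0,false)]⟩] [0,0,5,3,2,0],
    .child 0 4,
    .child 1 4,
    .child 0 194,
    .child 1 194,
    .child 2 194,
    .child 0 39,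
    .child 0 285,
    .child 1 285,
    .child 2 285,
    .child 0 37,
    .child 1 37,
    .child 2 37,
    .child 0 392,
    .child 0 192,
    .child 1 192,
    .child 2 192,
    .child 1 26,
    .child 2 26,
    .child 0 195,
    .child 0 6,
    .child 0 593,
    .child 0 408,
    .child 1 408,
    .child 2 408,
    .child 0 101,
    .child 1 31,
    .child 2 31,
    .child 1 284,
    .child 0 205,
    .child 2 60,
    .child 1 206,
    .child 2 206,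
    .child 0 67,
    .child 1 67,
    .child 2 67,
    .rep 212 [21,19,15,129,31] [⟨6,[(0,false),(1,true)]⟩,⟨7,[(3,false),(2,false)]⟩,⟨5,[(1,false),(0,false)]⟩] [0,0,5,1,3,2],
    .child 0 212,
    .child 1 30,
    .child 2 30,
    .child 0 16,
    .child 0 65,
    .rep 391 [201,193,149,77] [⟨4,[(1,true)]⟩,⟨3,[(1,false)]⟩,⟨5,[]⟩] [0,0,0,3,1,2],
    .rep 24 [19,193,175,77] [⟨12,[(1,true),(2,false),(0,true)]⟩,⟨12,[]⟩,⟨5,[(1,false),(0,false)]⟩] [0,0,3,2,0,1],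
    .child 0 24,
    .child 1 24,
    .child 1 27,
    .child 1 66,
    .child 0 409,
    .rep 14 [21,201,195,153,77] [⟨2,[]⟩,⟨5,[(0,false)]⟩,⟨5,[(1,false),(0,false)]⟩] [0,0,5,2,1,1]]]

/-- part 7 of `cov2_2` -/
def cov2_2P7 : List (List Cov) := [
  [.rep 4 [] [⟨2,[]⟩,⟨12,[(0,true),(2,false)]⟩,⟨1,[(0,false)]⟩] [0,5,2,2,0,1],
    .rep 410 [21,19,11,149,77] [⟨11,[(5,true),(0,true)]⟩,⟨16,[(0,false),(0,false)]⟩,⟨1,[]⟩] [0,5,1,0,2,2],
    .child 0 410,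
    .child 0 464,
    .child 1 464,
    .child 1 25,
    .rep 212 [21,19,15,129,31] [⟨8,[(1,true),(0,false)]⟩,⟨13,[(3,true),(5,true),(1,true)]⟩,⟨1,[]⟩] [0,0,4,4,1,2],
    .child 0 212,
    .child 0 14,
    .child 1 30,
    .child 0 33,
    .child 0 59,
    .rep 195 [197,193,153,77] [⟨13,[(3,false),(2,false),(1,false)]⟩,⟨18,[(3,false),(0,true)]⟩,⟨1,[]⟩] [0,0,2,1,0,2],
    .child 0 195,
    .child 1 195,
    .child 0 24,
    .child 1 24,
    .child 0 27,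
    .child 1 38,
    .child 0 206,
    .child 0 6,
    .child 1 6,
    .child 0 101,
    .child 0 399,
    .child 1 399,
    .child 1 32,
    .child 0 284,
    .child 0 137,
    .child 1 137,
    .child 1 191,
    .child 0 190,
    .child 0 66,
    .child 0 39,
    .child 1 39,
    .child 1 15,
    .child 0 408,
    .child 0 409,
    .child 1 409,
    .child 1 60,
    .child 1 78,
    .child 0 285,
    .child 0 593,
    .rep 411 [19,133,61] [⟨10,[(4,true),(2,true)]⟩,⟨13,[(2,true),(2,true),(0,false)]⟩,⟨1,[(1,false),(0,false)]⟩] [0,2,1,1,2,1],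
    .child 0 411,
    .child 0 454,
    .child 1 592,
    .child 0 205,
    .child 0 204,
    .rep 391 [201,193,149,77] [⟨5,[(0,true),(1,false)]⟩,⟨13,[(2,false),(0,false)]⟩,⟨1,[(1,false)]⟩] [0,0,0,4,1,0],
    .rep 16 [199,193,133,61] [⟨7,[(3,true),(1,false),(0,false)]⟩,⟨10,[(0,false)]⟩,⟨1,[(1,false),(0,false)]⟩] [0,0,5,2,1,1]]]

/-- part 8 of `cov2_2` -/
def cov2_2P8 : List (List Cov) := [
  [.rep 4 [] [⟨10,[(1,false),(1,false),(5,false)]⟩,⟨12,[(1,false),(3,false),(2,false)]⟩,⟨0,[]⟩] [0,0,4,2,3,2],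
    .child 0 4,
    .child 1 4,
    .child 0 15,
    .child 1 15,
    .child 0 25,
    .child 1 25,
    .child 2 25,
    .child 0 27,
    .child 1 27,
    .child 2 27,
    .child 0 190,
    .child 1 190,
    .child 2 190,
    .child 0 204,
    .child 2 204,
    .child 0 410,
    .child 2 410,
    .child 0 14,
    .child 1 194,
    .child 1 454,
    .child 1 195,
    .child 0 31,
    .child 0 408,
    .child 1 408,
    .child 1 392,
    .child 0 122,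
    .child 1 122,
    .child 0 101,
    .child 1 101,
    .rep 212 [21,19,15,129,31] [⟨7,[(0,false)]⟩,⟨12,[(0,true),(1,false)]⟩,⟨0,[(1,false),(0,false)]⟩] [0,5,5,3,3,0],
    .child 1 212,
    .child 0 137,
    .child 1 137,
    .child 2 137,
    .child 2 6,
    .rep 206 [199,195,173,31] [⟨4,[(4,false)]⟩,⟨10,[(4,true),(1,false),(0,false)]⟩,⟨0,[(0,false)]⟩] [0,0,0,3,1,0],
    .rep 67 [21,19,129,31] [⟨11,[(1,false),(0,false)]⟩,⟨22,[(1,false),(0,false)]⟩,⟨0,[(1,false),(0,false)]⟩] [0,6,5,3,2,2],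
    .rep 191 [199,15,129,31] [⟨12,[(2,false),(0,false)]⟩,⟨17,[(0,true),(0,true)]⟩,⟨0,[]⟩] [0,2,2,3,1,2],
    .child 0 191,
    .child 1 191,
    .child 0 39,
    .child 1 39,
    .rep 284 [19,15,129,31] [⟨3,[]⟩,⟨3,[(3,true),(6,false)]⟩,⟨0,[(1,false)]⟩] [0,5,0,2,1,0],
    .rep 411 [19,133,61] [⟨13,[(5,false),(2,false),(1,true)]⟩,⟨14,[(0,false)]⟩,⟨0,[]⟩] [0,0,3,0,1,1],
    .child 1 411,
    .child 0 285,
    .child 1 285,
    .child 2 285,
    .child 2 193]]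

/-- part 9 of `cov2_2` -/
def cov2_2P9 : List (List Cov) := [
  [.rep 4 [] [⟨11,[(4,false),(2,true)]⟩,⟨2,[(0,false)]⟩,⟨1,[(1,false),(0,false)]⟩] [0,1,0,4,2,2],
    .child 0 4,
    .child 0 137,
    .child 1 137,
    .child 0 26,
    .child 2 26,
    .rep 410 [21,19,11,149,77] [⟨10,[(4,false),(1,false),(4,true),(0,false)]⟩,⟨8,[(1,false),(0,false),(2,true)]⟩,⟨1,[(0,false)]⟩] [0,5,5,4,0,2],
    .child 0 410,
    .child 1 410,
    .child 2 410,
    .child 0 40,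
    .child 1 40,
    .child 2 40,
    .child 0 193,
    .child 1 193,
    .child 2 193,
    .child 1 191,
    .child 1 392,
    .child 2 392,
    .child 0 593,
    .child 0 205,
    .child 1 205,
    .child 2 205,
    .child 0 59,
    .child 1 59,
    .child 2 59,
    .child 0 190,
    .child 1 190,
    .child 2 190,
    .child 0 65,
    .child 1 65,
    .child 2 65,
    .child 0 58,
    .child 2 38,
    .child 1 285,
    .child 0 16,
    .child 1 16,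
    .child 1 204,
    .child 0 194,
    .child 2 399,
    .child 1 6,
    .child 2 195,
    .rep 284 [19,15,129,31] [⟨4,[(4,true),(0,false)]⟩,⟨2,[(1,true),(2,false)]⟩,⟨1,[(1,false)]⟩] [0,2,3,1,1,2],
    .child 0 284,
    .child 1 408,
    .child 2 408,
    .child 0 464,
    .child 1 464,
    .rep 24 [19,193,175,77] [⟨5,[(5,true),(1,false)]⟩,⟨3,[]⟩,⟨1,[(1,false)]⟩] [0,2,1,0,2,1],
    .rep 592 [21,193,159,63] [⟨1,[]⟩,⟨8,[(4,true),(1,true)]⟩,⟨1,[]⟩] [0,0,0,1,3,0]]]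

/-- part 10 of `cov2_2` -/
def cov2_2P10 : List (List Cov) := [
  [.rep 4 [] [⟨4,[(5,true),(0,false)]⟩,⟨8,[(5,false),(0,true)]⟩,⟨5,[(2,false),(0,false),(1,true)]⟩] [0,4,4,3,2,1],
    .rep 410 [21,19,11,149,77] [⟨10,[(2,false),(4,false),(0,true)]⟩,⟨7,[(2,true),(2,true),(1,true),(2,true)]⟩,⟨5,[(1,false),(2,false),(1,false)]⟩] [0,4,4,4,0,2],
    .child 0 410,
    .child 1 410,
    .child 0 284,
    .child 1 284,
    .child 0 392,
    .child 0 26,
    .child 1 26,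
    .child 0 212,
    .child 1 212,
    .rep 195 [197,193,153,77] [⟨13,[(5,true),(1,true),(0,true)]⟩,⟨6,[(3,false),(1,false),(0,false)]⟩,⟨5,[(2,false),(1,false),(1,false)]⟩] [0,6,1,1,1,2],
    .child 0 195,
    .child 1 195,
    .child 0 285,
    .child 1 285,
    .rep 194 [199,11,149,77] [⟨10,[(1,false),(1,false),(0,true)]⟩,⟨7,[(2,false),(1,false),(2,false),(1,true)]⟩,⟨5,[]⟩] [0,4,4,4,0,2],
    .child 0 194,
    .child 1 194,
    .child 0 78,
    .child 1 78,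
    .child 0 408,
    .child 0 65,
    .child 1 65,
    .child 0 25,
    .child 1 25,
    .rep 15 [197,193,173,55] [⟨11,[(2,true)]⟩,⟨6,[(2,false),(3,true)]⟩,⟨5,[(1,false),(3,false)]⟩] [0,3,0,0,3,1],
    .child 0 15,
    .child 1 15,
    .child 0 32,
    .child 0 122,
    .rep 411 [19,133,61] [⟨13,[(1,true),(3,true),(0,true)]⟩,⟨4,[(2,false),(1,false),(0,false)]⟩,⟨5,[(1,false),(0,false)]⟩] [0,3,0,2,0,0],
    .child 0 411,
    .child 1 411,
    .child 0 592,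
    .child 0 205,
    .rep 190 [201,195,149,77] [⟨8,[(2,false),(4,false)]⟩,⟨10,[(4,true),(2,false),(1,false)]⟩,⟨5,[(2,false),(0,false),(1,true)]⟩] [0,4,4,4,0,2],
    .child 0 190,
    .child 1 190,
    .child 0 593,
    .child 0 37,
    .rep 391 [201,193,149,77] [⟨13,[(1,false),(0,true),(1,false)]⟩,⟨13,[(4,true),(3,false),(0,true)]⟩,⟨5,[(1,true),(2,false)]⟩] [0,3,0,0,3,1],
    .child 0 391,
    .child 0 27,
    .child 1 27,
    .child 0 24,
    .rep 204 [17,15,183,65] [⟨12,[(5,true),(1,true)]⟩,⟨9,[(1,false),(0,false)]⟩,⟨5,[(1,false),(1,false),(0,false)]⟩] [0,5,0,1,0,1],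
    .rep 399 [17,11,151,69] [⟨7,[(2,false),(4,false)]⟩,⟨7,[(0,false),(2,false)]⟩,⟨5,[(0,false)]⟩] [0,5,0,1,0,1],
    .rep 14 [21,201,195,153,77] [⟨9,[(4,false),(0,false)]⟩,⟨10,[(3,false)]⟩,⟨5,[(2,false),(2,false),(1,false)]⟩] [0,6,1,3,2,0],
    .rep 454 [197,11,177,115] [⟨10,[(5,false),(0,false),(3,false)]⟩,⟨9,[(2,false),(2,false),(0,false)]⟩,⟨5,[(0,false),(1,true),(1,true)]⟩] [0,4,4,3,2,1]]]

/-- part 11 of `cov2_2` -/
def cov2_2P11 : List (List Cov) := [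
  [.rep 4 [] [⟨1,[(0,false)]⟩,⟨9,[(0,false),(1,true),(2,false),(0,false)]⟩,⟨8,[(0,true),(0,true)]⟩] [0,0,1,3,0,1],
    .rep 410 [21,19,11,149,77] [⟨12,[(5,true),(0,true)]⟩,⟨3,[(3,false)]⟩,⟨8,[(1,false)]⟩] [0,6,4,3,2,1],
    .child 0 410,
    .child 0 14,
    .child 1 14,
    .child 0 137,
    .child 0 191,
    .rep 212 [21,19,15,129,31] [⟨7,[(0,true),(4,true)]⟩,⟨6,[(1,false),(0,true)]⟩,⟨8,[(4,false),(0,false)]⟩] [0,0,4,1,2,1],
    .child 0 212,
    .child 1 212,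
    .child 1 284,
    .child 0 38,
    .rep 195 [197,193,153,77] [⟨10,[(2,true),(1,false)]⟩,⟨5,[(0,false),(3,false)]⟩,⟨8,[(4,false)]⟩] [0,4,0,2,0,0],
    .child 0 195,
    .child 1 195,
    .child 0 24,
    .child 1 24,
    .child 0 37,
    .child 0 58,
    .child 1 58,
    .child 0 78,
    .child 0 399,
    .child 1 399,
    .child 0 408,
    .child 1 408,
    .child 0 206,
    .child 0 31,
    .child 1 31,
    .child 0 59,
    .child 1 59,
    .child 0 65,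
    .child 0 67,
    .child 0 33,
    .child 1 33,
    .child 0 66,
    .child 0 190,
    .child 0 285,
    .child 0 122,
    .child 1 122,
    .child 0 39,
    .child 0 392,
    .child 1 30,
    .rep 411 [19,133,61] [⟨8,[(0,true),(1,true)]⟩,⟨8,[(0,false),(4,false)]⟩,⟨8,[(0,false),(4,false)]⟩] [0,4,2,4,0,2],
    .rep 204 [17,15,183,65] [⟨13,[(1,true),(2,false)]⟩,⟨1,[]⟩,⟨8,[(4,true),(1,true),(0,false)]⟩] [0,4,3,4,0,0],
    .child 1 204,
    .child 0 454,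
    .child 0 592,
    .child 0 192,
    .child 0 205,
    .rep 27 [21,197,193,129,31] [⟨9,[(2,true)]⟩,⟨5,[(0,true),(4,false),(1,true),(0,false)]⟩,⟨8,[(0,false),(4,false)]⟩] [0,5,4,0,2,0]]]

/-- part 12 of `cov2_2` -/
def cov2_2P12 : List (List Cov) := [
  [.rep 4 [] [⟨11,[(0,false),(2,true)]⟩,⟨11,[(1,true),(0,true)]⟩,⟨6,[(1,true),(0,false)]⟩] [0,4,4,3,3,1],
    .child 0 4,
    .child 1 4,
    .child 0 27,
    .child 0 212,
    .child 1 15,
    .rep 410 [21,19,11,149,77] [⟨10,[(5,false),(1,true),(2,true)]⟩,⟨4,[(0,false)]⟩,⟨6,[(0,true)]⟩] [0,0,5,3,2,2],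
    .child 0 410,
    .child 2 410,
    .child 1 6,
    .child 1 192,
    .child 2 59,
    .rep 195 [197,193,153,77] [⟨13,[(1,false),(0,false),(0,false)]⟩,⟨7,[(4,false),(1,true)]⟩,⟨6,[(4,true),(1,false)]⟩] [0,6,3,1,3,0],
    .child 0 195,
    .child 2 195,
    .child 0 30,
    .child 1 30,
    .child 2 30,
    .child 0 31,
    .child 1 31,
    .child 1 409,
    .child 2 204,
    .child 1 464,
    .child 1 37,
    .child 0 25,
    .child 1 25,
    .child 2 25,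
    .child 0 40,
    .child 2 40,
    .child 0 14,
    .child 1 14,
    .child 0 137,
    .child 1 137,
    .child 0 454,
    .child 1 454,
    .child 2 454,
    .child 2 78,
    .child 0 101,
    .child 1 408,
    .child 0 65,
    .child 1 190,
    .child 0 122,
    .rep 67 [21,19,129,31] [⟨8,[(3,true),(1,false),(0,false)]⟩,⟨7,[(3,false),(0,true)]⟩,⟨6,[(5,false),(1,false),(0,false)]⟩] [0,0,4,0,1,0],
    .child 0 67,
    .child 0 33,
    .child 1 33,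
    .child 2 24,
    .rep 284 [19,15,129,31] [⟨12,[(3,false),(2,false),(0,false)]⟩,⟨2,[(1,false),(0,false)]⟩,⟨6,[(0,true)]⟩] [0,2,1,0,0,0],
    .rep 411 [19,133,61] [⟨6,[(1,true),(0,false)]⟩,⟨5,[(3,true),(1,false)]⟩,⟨6,[(1,false),(0,true)]⟩] [0,5,4,0,2,0],
    .rep 193 [21,201,193,173,55] [⟨0,[]⟩,⟨8,[(5,false),(0,true),(2,false)]⟩,⟨6,[(1,false),(1,false)]⟩] [0,6,1,1,2,1]]]

/-- part 13 of `cov2_2` -/
def cov2_2P13 : List (List Cov) := [
  [.rep 4 [] [⟨11,[(2,true),(1,false)]⟩,⟨14,[(4,true),(2,false)]⟩,⟨3,[(4,false),(0,false)]⟩] [0,4,3,3,1,1],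
    .rep 410 [21,19,11,149,77] [⟨13,[(1,false),(1,false),(4,false),(0,true)]⟩,⟨20,[(0,false),(2,true),(0,true)]⟩,⟨3,[(3,true),(1,false)]⟩] [0,4,4,0,1,0],
    .child 0 410,
    .child 1 410,
    .child 0 15,
    .child 1 15,
    .child 0 191,
    .child 0 193,
    .child 1 193,
    .child 0 78,
    .child 1 78,
    .rep 212 [21,19,15,129,31] [⟨13,[(0,true),(4,true),(1,false)]⟩,⟨21,[(4,true),(1,false),(1,false)]⟩,⟨3,[(2,false),(1,false)]⟩] [0,4,1,4,2,1],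
    .child 0 212,
    .child 1 212,
    .child 0 31,
    .child 1 31,
    .child 0 38,
    .child 0 24,
    .child 1 24,
    .child 0 58,
    .child 1 58,
    .rep 195 [197,193,153,77] [⟨10,[(3,true),(0,false),(3,true)]⟩,⟨10,[(2,true),(0,false)]⟩,⟨3,[(4,false),(1,false),(0,false)]⟩] [0,4,4,0,1,0],
    .child 0 195,
    .child 1 195,
    .child 0 392,
    .child 1 392,
    .rep 206 [199,195,173,31] [⟨10,[(4,true),(1,true),(0,true)]⟩,⟨14,[(2,true),(1,false)]⟩,⟨3,[(0,true),(2,false)]⟩] [0,4,3,3,1,1],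
    .child 0 206,
    .child 1 206,
    .child 0 122,
    .child 0 66,
    .rep 411 [19,133,61] [⟨12,[]⟩,⟨18,[(2,true),(2,true)]⟩,⟨3,[(0,false)]⟩] [0,4,2,0,3,2],
    .child 0 411,
    .child 0 192,
    .child 1 192,
    .child 0 592,
    .rep 39 [21,201,11,153,77] [⟨10,[(1,false),(0,true),(4,false)]⟩,⟨12,[(1,false),(2,false),(1,false),(1,false)]⟩,⟨3,[(4,false),(1,false),(0,false)]⟩] [0,4,0,2,3,1],
    .child 0 39,
    .child 1 39,
    .child 0 464,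
    .child 1 464,
    .rep 190 [201,195,149,77] [⟨7,[(5,false),(1,false)]⟩,⟨11,[(4,true)]⟩,⟨3,[(3,false)]⟩] [0,4,3,3,1,1],
    .child 0 190,
    .child 1 190,
    .child 0 37,
    .child 0 399,
    .rep 40 [201,193,13,77] [⟨13,[(3,false),(2,false),(0,false)]⟩,⟨19,[(0,false)]⟩,⟨3,[(0,true)]⟩] [0,4,0,4,3,0],
    .rep 204 [17,15,183,65] [⟨8,[(5,false)]⟩,⟨12,[(1,false),(3,false),(0,true)]⟩,⟨3,[]⟩] [0,4,4,3,0,1],
    .rep 60 [21,197,11,149,77] [⟨6,[]⟩,⟨13,[(4,true),(3,true),(0,true)]⟩,⟨3,[(1,true),(0,false)]⟩] [0,4,4,0,1,0],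
    .rep 205 [17,195,191,61] [⟨5,[(3,true),(1,false)]⟩,⟨12,[(5,false),(0,false)]⟩,⟨3,[(4,true)]⟩] [0,4,0,2,3,1]]]

/-- certificate data -/
def cov2_2 : List (List Cov) :=
  [cov2_2P0, cov2_2P1, cov2_2P2, cov2_2P3, cov2_2P4, cov2_2P5, cov2_2P6, cov2_2P7, cov2_2P8, cov2_2P9, cov2_2P10, cov2_2P11, cov2_2P12, cov2_2P13].flatten

/-- part 0 of `cov2_3` -/
def cov2_3P0 : List (List Cov) := [
  [.rep 4 [] [⟨0,[(1,true),(2,true),(0,false)]⟩,⟨3,[]⟩,⟨7,[]⟩] [15,1,0,2,2,0],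
    .rep 410 [21,19,11,149,77] [⟨2,[(0,false),(3,false),(2,false),(0,false)]⟩,⟨0,[(1,false)]⟩,⟨7,[(0,false),(4,false)]⟩] [15,6,4,4,1,2],
    .child 0 410,
    .child 1 410,
    .child 2 410,
    .child 3 410,
    .child 0 38,
    .child 1 38,
    .child 2 38,
    .child 3 38,
    .child 0 58,
    .child 2 58,
    .child 0 408,
    .child 3 408,
    .child 1 137,
    .child 2 137,
    .child 3 60,
    .child 0 122,
    .child 2 122,
    .child 0 32,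
    .child 1 32,
    .child 3 195,
    .child 0 212,
    .child 2 212,
    .child 3 212,
    .child 1 33,
    .child 0 65,
    .child 0 26,
    .child 2 26,
    .child 3 26,
    .child 0 31,
    .child 0 66,
    .child 3 66,
    .child 3 59,
    .child 0 24,
    .child 0 285,
    .child 1 285,
    .child 0 78,
    .child 0 191,
    .child 0 40,
    .child 0 37,
    .child 0 391,
    .child 2 206,
    .rep 411 [19,133,61] [⟨1,[(1,false)]⟩,⟨9,[(4,false),(0,false)]⟩,⟨7,[(5,false),(2,true)]⟩] [15,5,4,1,3,1],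
    .child 0 411,
    .child 1 411,
    .child 2 411,
    .child 2 204,
    .child 3 205,
    .child 0 192]]

/-- part 1 of `cov2_3` -/
def cov2_3P1 : List (List Cov) := [
  [.rep 4 [] [⟨3,[(3,true),(0,false),(5,false),(0,false)]⟩,⟨0,[]⟩,⟨3,[]⟩] [15,2,2,1,0,2],
    .child 0 4,
    .child 1 4,
    .child 2 4,
    .child 3 4,
    .child 0 408,
    .child 1 408,
    .child 2 408,
    .child 3 408,
    .child 0 14,
    .child 2 14,
    .child 0 399,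
    .child 1 399,
    .child 2 399,
    .child 0 59,
    .child 1 59,
    .child 2 59,
    .child 0 137,
    .child 1 137,
    .child 2 137,
    .child 0 32,
    .child 2 32,
    .child 0 33,
    .child 1 33,
    .child 2 33,
    .child 3 33,
    .child 1 411,
    .child 0 40,
    .child 2 40,
    .child 3 40,
    .child 1 206,
    .child 0 65,
    .child 3 65,
    .child 1 194,
    .child 3 194,
    .child 3 37,
    .child 3 25,
    .child 3 101,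
    .child 2 16,
    .child 0 192,
    .child 3 192,
    .child 0 410,
    .rep 191 [199,15,129,31] [⟨0,[(2,true),(1,false)]⟩,⟨9,[(2,false),(2,false),(0,false)]⟩,⟨3,[(0,false)]⟩] [15,4,5,0,1,0],
    .child 0 191,
    .child 2 191,
    .child 3 191,
    .child 2 592,
    .child 0 391,
    .child 2 391,
    .rep 30 [201,195,173,31] [⟨1,[(0,true),(1,false),(0,false)]⟩,⟨2,[(0,false)]⟩,⟨3,[]⟩] [15,3,2,0,3,2]]]

/-- part 2 of `cov2_3` -/
def cov2_3P2 : List (List Cov) := [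
  [.rep 4 [] [⟨0,[(0,false),(0,false),(0,false)]⟩,⟨8,[(3,false),(0,false)]⟩,⟨4,[(2,false)]⟩] [15,6,0,1,1,1],
    .child 0 4,
    .rep 410 [21,19,11,149,77] [⟨2,[(6,false),(2,true),(1,false)]⟩,⟨2,[(1,false),(2,false)]⟩,⟨4,[(0,false),(0,false)]⟩] [25,2,5,3,1,2],
    .child 0 410,
    .child 1 410,
    .child 2 410,
    .child 1 25,
    .rep 212 [21,19,15,129,31] [⟨3,[(0,true),(1,false),(2,true)]⟩,⟨7,[(2,false),(0,false),(0,false)]⟩,⟨4,[(0,true),(0,true)]⟩] [15,2,2,2,2,2],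
    .child 0 212,
    .child 1 212,
    .child 2 212,
    .child 3 212,
    .child 1 593,
    .child 2 593,
    .child 0 193,
    .child 1 193,
    .child 2 193,
    .child 3 193,
    .child 1 59,
    .child 2 59,
    .child 3 59,
    .child 1 101,
    .child 1 14,
    .child 2 14,
    .child 1 409,
    .child 2 409,
    .child 1 24,
    .child 2 24,
    .child 2 408,
    .child 1 15,
    .child 1 40,
    .child 0 195,
    .child 1 195,
    .child 3 65,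
    .child 2 60,
    .child 1 30,
    .child 1 33,
    .rep 206 [199,195,173,31] [⟨2,[(1,false),(2,true),(6,false),(0,false)]⟩,⟨9,[(2,true),(1,true),(0,false)]⟩,⟨4,[(0,true)]⟩] [15,2,3,4,3,0],
    .child 0 206,
    .child 1 206,
    .child 2 206,
    .child 3 206,
    .child 1 204,
    .child 2 204,
    .child 0 284,
    .child 2 284,
    .child 0 39,
    .child 1 39,
    .child 0 191,
    .rep 16 [199,193,133,61] [⟨3,[(1,false),(0,true),(6,false),(0,false)]⟩,⟨12,[(0,false)]⟩,⟨4,[(2,false),(0,true)]⟩] [25,0,0,2,1,0]]]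

/-- part 3 of `cov2_3` -/
def cov2_3P3 : List (List Cov) := [
  [.rep 4 [] [⟨2,[(2,false),(5,true),(1,true),(0,false)]⟩,⟨11,[(0,true),(1,false),(0,true),(1,false)]⟩,⟨10,[]⟩] [15,4,3,4,1,1],
    .child 0 4,
    .child 1 4,
    .child 2 4,
    .child 0 205,
    .child 1 205,
    .child 0 193,
    .child 1 193,
    .child 2 193,
    .child 0 122,
    .child 1 122,
    .child 0 40,
    .child 2 40,
    .child 1 192,
    .child 1 30,
    .child 0 137,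
    .child 2 137,
    .child 1 60,
    .child 0 39,
    .child 1 39,
    .child 2 39,
    .child 0 409,
    .child 1 409,
    .child 2 409,
    .child 2 27,
    .child 1 66,
    .child 2 59,
    .child 2 16,
    .child 2 593,
    .child 1 195,
    .rep 410 [21,19,11,149,77] [⟨3,[(0,false),(1,false),(5,false)]⟩,⟨25,[(1,false),(0,false)]⟩,⟨10,[(0,false)]⟩] [25,1,1,1,1,1],
    .child 0 410,
    .child 1 410,
    .child 2 410,
    .child 2 38,
    .rep 194 [199,11,149,77] [⟨3,[(3,true),(2,true),(1,false)]⟩,⟨14,[(4,true),(0,true)]⟩,⟨10,[(0,false)]⟩] [25,3,3,2,3,0],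
    .child 0 194,
    .child 1 194,
    .child 0 454,
    .child 1 454,
    .child 2 14,
    .child 0 33,
    .child 1 33,
    .child 0 284,
    .child 1 284,
    .child 0 32,
    .child 0 592,
    .rep 101 [21,201,193,153,77] [⟨1,[(1,false),(1,false)]⟩,⟨11,[(3,false),(4,false)]⟩,⟨10,[]⟩] [15,5,3,0,1,0],
    .child 1 101,
    .rep 37 [199,15,149,77] [⟨2,[(1,false),(3,true),(4,false),(0,false)]⟩,⟨13,[(2,false),(0,true)]⟩,⟨10,[(0,false)]⟩] [15,5,4,1,1,0]]]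

/-- certificate data -/
def cov2_3 : List (List Cov) :=
  [cov2_3P0, cov2_3P1, cov2_3P2, cov2_3P3].flatten

/-- part 0 of `cov2_4` -/
def cov2_4P0 : List (List Cov) := [
  [.rep 4 [] [⟨13,[]⟩,⟨1,[(1,false)]⟩,⟨5,[(1,true),(0,false)]⟩] [1,0,2,1,1],
    .child 0 4,
    .child 0 194,
    .child 1 194,
    .child 1 38,
    .child 0 284,
    .rep 410 [21,19,11,149,77] [⟨6,[(4,false),(1,true)]⟩,⟨6,[(0,true),(1,false)]⟩,⟨5,[(1,false),(1,false)]⟩] [1,2,2,3,2],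
    .child 1 410,
    .child 0 137,
    .child 1 137,
    .child 0 40,
    .child 1 40,
    .rep 195 [197,193,153,77] [⟨12,[(0,false),(2,false),(0,true)]⟩,⟨3,[(4,true)]⟩,⟨5,[]⟩] [1,3,3,3,2],
    .child 1 195,
    .child 2 195,
    .child 0 392,
    .child 1 392,
    .child 2 392,
    .child 0 285,
    .child 1 285,
    .child 0 205,
    .child 1 205,
    .child 2 205,
    .child 0 78,
    .child 1 78,
    .child 0 26,
    .child 1 26,
    .child 1 65,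
    .child 2 65,
    .child 1 25,
    .child 0 101,
    .child 1 101,
    .child 2 101,
    .child 1 58,
    .child 2 58,
    .child 2 60,
    .child 1 16,
    .child 1 59,
    .child 2 59,
    .child 1 409,
    .child 1 32,
    .child 1 67,
    .child 1 39,
    .child 0 31,
    .child 0 592,
    .child 1 592,
    .child 0 30,
    .child 1 206,
    .rep 411 [19,133,61] [⟨5,[(1,false)]⟩,⟨2,[]⟩,⟨5,[(0,false)]⟩] [1,0,2,1,2],
    .rep 27 [21,197,193,129,31] [⟨3,[(0,false)]⟩,⟨1,[(1,false)]⟩,⟨5,[(1,false)]⟩] [1,2,2,2,0]]]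

/-- part 1 of `cov2_4` -/
def cov2_4P1 : List (List Cov) := [
  [.rep 4 [] [⟨5,[(0,false)]⟩,⟨4,[(1,true)]⟩,⟨3,[(1,false)]⟩] [1,4,4,0,1],
    .rep 410 [21,19,11,149,77] [⟨14,[(2,true),(1,false),(0,false)]⟩,⟨2,[]⟩,⟨3,[]⟩] [1,4,3,0,0],
    .child 0 410,
    .child 1 410,
    .child 0 391,
    .child 1 391,
    .child 1 67,
    .rep 212 [21,19,15,129,31] [⟨9,[(1,false),(1,false),(0,false)]⟩,⟨9,[(0,true)]⟩,⟨3,[]⟩] [1,1,3,3,1],
    .child 0 212,
    .child 1 212,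
    .child 2 212,
    .child 0 399,
    .child 1 399,
    .child 2 399,
    .child 0 190,
    .child 1 190,
    .child 2 190,
    .child 0 78,
    .child 0 24,
    .child 2 24,
    .child 0 409,
    .child 1 409,
    .child 2 409,
    .child 1 59,
    .child 0 32,
    .child 1 32,
    .child 2 32,
    .child 1 191,
    .child 0 593,
    .child 1 593,
    .child 1 6,
    .child 1 285,
    .child 1 38,
    .child 0 122,
    .child 1 40,
    .child 1 58,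
    .child 0 26,
    .child 0 408,
    .child 1 408,
    .child 0 193,
    .child 0 27,
    .child 0 37,
    .child 1 101,
    .rep 411 [19,133,61] [⟨10,[(4,true),(0,false)]⟩,⟨15,[]⟩,⟨3,[(1,false)]⟩] [1,5,0,3,1],
    .child 0 411,
    .child 2 411,
    .child 1 204,
    .child 0 592,
    .child 0 192,
    .rep 16 [199,193,133,61] [⟨1,[(1,false),(0,false)]⟩,⟨5,[(1,false)]⟩,⟨3,[]⟩] [1,3,1,0,2]]]

/-- part 2 of `cov2_4` -/
def cov2_4P2 : List (List Cov) := [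
  [.rep 4 [] [⟨3,[(0,false)]⟩,⟨10,[(5,false)]⟩,⟨15,[]⟩] [3,5,4,1,1],
    .child 0 4,
    .rep 410 [21,19,11,149,77] [⟨7,[(0,false),(2,false),(0,false)]⟩,⟨10,[(0,false),(1,false),(1,false)]⟩,⟨15,[(0,false)]⟩] [3,3,0,1,0],
    .child 0 410,
    .child 1 410,
    .child 3 410,
    .child 0 454,
    .child 1 454,
    .child 0 24,
    .child 1 24,
    .child 3 24,
    .child 0 65,
    .child 2 592,
    .child 0 206,
    .rep 212 [21,19,15,129,31] [⟨15,[(5,true),(0,false),(3,false)]⟩,⟨2,[(2,true),(0,true),(2,false),(1,true)]⟩,⟨15,[]⟩] [3,4,4,3,0],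
    .child 0 212,
    .child 1 212,
    .child 2 212,
    .child 3 212,
    .child 0 67,
    .child 2 67,
    .child 3 67,
    .child 0 15,
    .child 1 15,
    .child 2 15,
    .child 1 78,
    .child 3 78,
    .child 1 284,
    .child 2 284,
    .child 3 392,
    .child 1 391,
    .child 3 391,
    .child 2 31,
    .child 2 409,
    .child 3 409,
    .child 0 27,
    .child 1 137,
    .child 3 137,
    .child 0 195,
    .child 2 194,
    .child 2 191,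
    .child 0 26,
    .child 1 66,
    .child 2 464,
    .rep 190 [201,195,149,77] [⟨13,[(2,true)]⟩,⟨17,[(0,true)]⟩,⟨15,[(0,false)]⟩] [3,5,4,1,0],
    .child 0 190,
    .child 2 190,
    .child 3 190,
    .child 2 399,
    .rep 204 [17,15,183,65] [⟨14,[]⟩,⟨19,[(0,false)]⟩,⟨15,[(0,false)]⟩] [3,5,4,2,1]]]

/-- part 3 of `cov2_4` -/
def cov2_4P3 : List (List Cov) := [
  [.rep 4 [] [⟨2,[(0,true)]⟩,⟨1,[]⟩,⟨4,[(5,true),(0,false)]⟩] [1,0,0,1,2],
    .child 0 4,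
    .child 1 4,
    .child 2 4,
    .child 0 60,
    .child 1 59,
    .rep 410 [21,19,11,149,77] [⟨8,[(5,true),(4,false),(2,false)]⟩,⟨5,[(2,false),(0,false),(1,true)]⟩,⟨4,[(0,false)]⟩] [1,3,0,2,1],
    .child 0 410,
    .child 1 410,
    .child 0 205,
    .child 1 205,
    .child 1 32,
    .child 2 32,
    .child 0 195,
    .child 1 195,
    .child 0 137,
    .child 1 137,
    .child 2 137,
    .child 1 16,
    .child 2 16,
    .child 0 58,
    .child 0 122,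
    .child 1 122,
    .child 1 40,
    .child 1 101,
    .child 2 101,
    .child 0 33,
    .child 0 25,
    .child 0 206,
    .child 0 194,
    .child 2 194,
    .child 1 592,
    .child 2 592,
    .child 1 392,
    .child 2 392,
    .child 0 67,
    .child 1 78,
    .child 0 454,
    .child 1 24,
    .child 2 24,
    .child 1 391,
    .child 1 65,
    .rep 212 [21,19,15,129,31] [⟨10,[(5,true),(1,false)]⟩,⟨0,[(0,false)]⟩,⟨4,[(4,false)]⟩] [1,4,3,3,2],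
    .child 0 212,
    .child 1 212,
    .child 0 285,
    .child 1 285,
    .child 1 464,
    .rep 190 [201,195,149,77] [⟨0,[(0,false)]⟩,⟨5,[(1,false)]⟩,⟨4,[(3,true)]⟩] [1,3,0,0,1],
    .rep 204 [17,15,183,65] [⟨3,[(1,false),(0,false)]⟩,⟨5,[]⟩,⟨4,[(1,true)]⟩] [1,3,3,1,1]]]

/-- part 4 of `cov2_4` -/
def cov2_4P4 : List (List Cov) := [
  [.rep 4 [] [⟨5,[(0,false)]⟩,⟨12,[(1,true),(0,true)]⟩,⟨12,[]⟩] [2,0,4,0,1],
    .child 0 4,
    .rep 410 [21,19,11,149,77] [⟨14,[(0,false)]⟩,⟨16,[(0,true)]⟩,⟨12,[(0,false)]⟩] [2,0,4,1,1],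
    .child 0 410,
    .child 1 410,
    .child 0 391,
    .child 0 392,
    .rep 212 [21,19,15,129,31] [⟨11,[(5,true),(3,false)]⟩,⟨8,[(3,false),(2,false),(0,false)]⟩,⟨12,[]⟩] [0,0,0,1,2],
    .child 0 212,
    .child 1 212,
    .child 0 58,
    .child 1 58,
    .child 0 6,
    .child 1 26,
    .child 0 65,
    .child 0 193,
    .child 1 193,
    .child 0 60,
    .child 0 40,
    .child 1 40,
    .child 0 59,
    .child 1 59,
    .child 0 31,
    .child 0 593,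
    .child 1 593,
    .child 0 27,
    .child 1 27,
    .child 0 33,
    .child 0 194,
    .child 0 24,
    .child 0 38,
    .child 1 38,
    .child 0 66,
    .child 0 32,
    .child 0 190,
    .child 1 190,
    .child 0 137,
    .rep 206 [199,195,173,31] [⟨8,[(5,false),(2,false),(0,false)]⟩,⟨11,[(2,false),(1,true),(0,false)]⟩,⟨12,[(0,false)]⟩] [2,0,2,0,0],
    .child 0 206,
    .child 0 192,
    .child 0 39,
    .child 1 39,
    .child 0 411,
    .child 1 411,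
    .child 0 284,
    .child 0 399,
    .child 1 399,
    .child 0 78,
    .child 0 205,
    .rep 16 [199,193,133,61] [⟨4,[(2,false),(0,true)]⟩,⟨3,[(3,true),(2,false),(1,false)]⟩,⟨12,[(0,false)]⟩] [0,0,2,2,2]]]

/-- part 5 of `cov2_4` -/
def cov2_4P5 : List (List Cov) := [
  [.rep 4 [] [⟨1,[(0,false)]⟩,⟨1,[]⟩,⟨8,[(1,true),(2,true),(1,false)]⟩] [1,3,2,2,2],
    .rep 410 [21,19,11,149,77] [⟨7,[(4,false),(0,false)]⟩,⟨0,[]⟩,⟨8,[(1,false),(0,false),(4,false)]⟩] [1,5,2,3,2],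
    .child 0 410,
    .child 1 410,
    .child 1 194,
    .child 2 194,
    .child 0 212,
    .child 1 212,
    .child 2 212,
    .child 0 409,
    .child 1 409,
    .child 2 409,
    .child 1 40,
    .child 1 392,
    .child 2 392,
    .child 0 58,
    .child 1 58,
    .child 0 408,
    .child 1 193,
    .child 0 26,
    .child 1 26,
    .child 2 26,
    .child 1 65,
    .child 1 122,
    .child 0 27,
    .child 1 27,
    .child 0 67,
    .child 1 67,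
    .child 1 191,
    .child 1 78,
    .child 1 33,
    .child 1 32,
    .child 1 59,
    .child 0 190,
    .child 1 37,
    .child 2 30,
    .child 2 206,
    .rep 195 [197,193,153,77] [⟨4,[(2,false),(0,true)]⟩,⟨0,[]⟩,⟨8,[(3,false),(0,false)]⟩] [1,3,2,2,2],
    .child 0 195,
    .child 1 101,
    .child 2 101,
    .child 0 14,
    .child 2 14,
    .rep 411 [19,133,61] [⟨6,[(4,false),(0,false)]⟩,⟨0,[]⟩,⟨8,[(0,false),(1,false),(3,false),(0,false)]⟩] [1,3,3,1,0],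
    .child 0 411,
    .child 1 411,
    .child 2 411,
    .child 1 192,
    .child 0 592,
    .rep 454 [197,11,177,115] [⟨0,[(1,false)]⟩,⟨6,[(4,true),(0,true)]⟩,⟨8,[(0,false),(4,false)]⟩] [1,5,4,1,0]]]

/-- part 6 of `cov2_4` -/
def cov2_4P6 : List (List Cov) := [
  [.rep 4 [] [⟨5,[(0,false)]⟩,⟨6,[(3,false),(1,false),(0,false)]⟩,⟨7,[(3,false),(2,false)]⟩] [2,4,0,0,0],
    .rep 410 [21,19,11,149,77] [⟨6,[(0,false)]⟩,⟨8,[(2,false),(1,false),(0,false)]⟩,⟨7,[(5,true),(0,false)]⟩] [2,3,3,2,2],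
    .child 0 410,
    .child 1 410,
    .child 2 464,
    .child 0 67,
    .rep 212 [21,19,15,129,31] [⟨7,[(2,true),(1,true),(0,true)]⟩,⟨5,[(0,false)]⟩,⟨7,[(5,false),(0,true),(0,true)]⟩] [2,5,2,1,2],
    .child 0 212,
    .child 1 212,
    .child 2 212,
    .child 0 59,
    .child 2 59,
    .rep 195 [197,193,153,77] [⟨11,[(2,false),(0,true),(0,true)]⟩,⟨3,[(2,true),(1,false)]⟩,⟨7,[(4,false)]⟩] [2,5,1,2,0],
    .child 0 195,
    .child 1 195,
    .child 2 195,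
    .child 2 6,
    .child 0 39,
    .child 2 39,
    .child 0 399,
    .child 1 399,
    .child 2 399,
    .child 0 60,
    .child 1 60,
    .child 2 60,
    .child 0 285,
    .child 2 285,
    .child 0 593,
    .child 1 593,
    .child 2 593,
    .child 0 409,
    .child 2 409,
    .child 0 27,
    .child 2 408,
    .child 1 193,
    .child 2 193,
    .child 0 38,
    .child 1 122,
    .child 2 101,
    .child 0 15,
    .child 0 194,
    .child 0 284,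
    .rep 411 [19,133,61] [⟨12,[(0,false),(5,false)]⟩,⟨0,[(1,false),(0,false)]⟩,⟨7,[(2,false),(4,false),(0,false)]⟩] [2,1,3,3,1],
    .child 0 411,
    .child 1 411,
    .child 2 411,
    .child 0 204,
    .child 2 204,
    .rep 391 [201,193,149,77] [⟨0,[(1,false)]⟩,⟨4,[(2,false),(0,true)]⟩,⟨7,[(4,false),(2,true)]⟩] [2,2,4,2,0],
    .rep 16 [199,193,133,61] [⟨10,[(1,true),(0,true)]⟩,⟨1,[(1,false),(0,false)]⟩,⟨7,[(0,true),(2,false)]⟩] [2,5,2,1,2]]]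

/-- part 7 of `cov2_4` -/
def cov2_4P7 : List (List Cov) := [
  [.rep 4 [] [⟨5,[(0,false)]⟩,⟨13,[(5,false),(2,true)]⟩,⟨11,[(4,false)]⟩] [0,1,1,1,2],
    .rep 410 [21,19,11,149,77] [⟨11,[(2,false),(0,false),(0,false)]⟩,⟨23,[(0,true),(1,false)]⟩,⟨11,[(0,false)]⟩] [0,1,2,1,1],
    .child 0 410,
    .child 1 410,
    .child 0 24,
    .child 1 24,
    .child 0 399,
    .child 0 195,
    .child 1 195,
    .child 0 40,
    .child 1 40,
    .rep 212 [21,19,15,129,31] [⟨9,[(2,false),(0,true)]⟩,⟨11,[(4,true),(3,false)]⟩,⟨11,[(1,true),(0,true)]⟩] [0,1,1,1,2],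
    .child 0 212,
    .child 0 38,
    .child 1 38,
    .child 0 15,
    .rep 26 [201,149,77] [⟨7,[(2,false),(1,true),(0,false)]⟩,⟨13,[(0,false),(2,false)]⟩,⟨11,[(4,false),(0,false)]⟩] [0,1,0,2,0],
    .child 0 26,
    .child 0 14,
    .child 0 60,
    .child 1 60,
    .rep 194 [199,11,149,77] [⟨6,[(1,false),(0,true)]⟩,⟨11,[(1,false),(3,false),(0,true)]⟩,⟨11,[(1,false),(0,false)]⟩] [0,1,1,1,2],
    .rep 137 [19,11,149,77] [⟨11,[(1,false),(0,false),(0,false)]⟩,⟨24,[(2,false),(1,false),(0,false)]⟩,⟨11,[(1,true),(0,false)]⟩] [0,1,2,1,1],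
    .child 0 137,
    .child 1 137,
    .child 0 285,
    .child 1 285,
    .child 0 6,
    .child 0 190,
    .child 1 190,
    .child 0 593,
    .child 1 593,
    .rep 191 [199,15,129,31] [⟨12,[(0,true),(1,false)]⟩,⟨18,[(0,false),(3,false),(0,false)]⟩,⟨11,[]⟩] [0,1,3,1,0],
    .child 0 191,
    .child 1 191,
    .child 0 193,
    .child 1 193,
    .rep 411 [19,133,61] [⟨7,[(5,false),(2,true),(0,false)]⟩,⟨11,[(0,false),(1,false)]⟩,⟨11,[(1,true)]⟩] [0,1,0,2,0],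
    .rep 101 [21,201,193,153,77] [⟨8,[(5,true),(4,false),(0,false)]⟩,⟨14,[(1,true),(1,true),(3,false)]⟩,⟨11,[(2,false),(1,false)]⟩] [0,1,1,2,1],
    .child 0 101,
    .child 1 101,
    .child 0 59,
    .child 1 59,
    .rep 204 [17,15,183,65] [⟨15,[(0,true),(4,false),(0,false)]⟩,⟨2,[(2,true),(0,true),(0,true),(0,true)]⟩,⟨11,[(2,false),(0,false)]⟩] [0,1,0,2,0],
    .child 0 204,
    .child 1 204,
    .child 0 16,
    .child 0 592,
    .rep 409 [197,173,57] [⟨2,[(1,true),(2,false)]⟩,⟨12,[(0,true),(1,false),(0,false)]⟩,⟨11,[(2,false),(0,false)]⟩] [0,1,1,2,1],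
    .rep 192 [21,197,133,61] [⟨9,[(5,false),(0,true),(1,false)]⟩,⟨10,[(4,true),(1,false),(0,false)]⟩,⟨11,[(2,true),(0,false)]⟩] [0,1,0,0,2]]]

/-- part 8 of `cov2_4` -/
def cov2_4P8 : List (List Cov) := [
  [.rep 4 [] [⟨12,[(2,true),(0,false)]⟩,⟨7,[(1,false),(1,false),(0,false)]⟩,⟨9,[(0,true),(0,true),(1,false)]⟩] [0,2,4,3,2],
    .child 0 4,
    .child 0 191,
    .child 0 409,
    .child 1 409,
    .rep 410 [21,19,11,149,77] [⟨15,[(4,true),(1,false)]⟩,⟨0,[(1,false),(0,true)]⟩,⟨9,[(1,false)]⟩] [0,0,3,3,1],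
    .child 0 410,
    .child 1 410,
    .child 0 592,
    .child 1 592,
    .child 0 60,
    .child 0 27,
    .child 1 27,
    .child 0 399,
    .child 1 399,
    .rep 212 [21,19,15,129,31] [⟨12,[(1,false),(3,false),(0,false)]⟩,⟨2,[(0,false)]⟩,⟨9,[(3,false),(1,false),(0,false)]⟩] [0,3,4,2,1],
    .rep 195 [197,193,153,77] [⟨8,[(0,true),(1,true),(2,false)]⟩,⟨4,[(2,false),(1,false),(0,false)]⟩,⟨9,[(0,false),(2,true)]⟩] [0,5,0,3,1],
    .child 0 195,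
    .child 0 32,
    .child 1 32,
    .child 0 411,
    .rep 194 [199,11,149,77] [⟨15,[(3,false),(2,false),(1,true)]⟩,⟨0,[(0,true),(0,true),(2,true),(0,false)]⟩,⟨9,[(0,true),(2,true),(0,true)]⟩] [0,1,1,1,2],
    .child 0 194,
    .child 1 194,
    .child 0 464,
    .child 1 464,
    .child 0 66,
    .child 0 6,
    .child 1 6,
    .child 0 205,
    .child 1 205,
    .rep 15 [197,193,173,55] [⟨7,[(2,true),(0,false),(2,false)]⟩,⟨8,[(0,false),(1,false)]⟩,⟨9,[(2,true),(1,false),(0,true)]⟩] [0,0,3,3,1],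
    .child 0 15,
    .child 0 285,
    .child 0 37,
    .child 1 37,
    .rep 39 [21,201,11,153,77] [⟨11,[(0,false),(2,true),(0,false)]⟩,⟨11,[(1,true),(0,true)]⟩,⟨9,[(1,false),(0,true),(1,true)]⟩] [0,0,1,3,0],
    .child 0 39,
    .child 1 39,
    .child 0 392,
    .child 0 24,
    .rep 59 [21,19,149,77] [⟨9,[(2,true),(0,true),(1,true)]⟩,⟨9,[(4,false),(1,true),(0,false)]⟩,⟨9,[(0,false),(1,true)]⟩] [0,2,4,3,2],
    .child 0 59,
    .child 1 59,
    .child 0 16,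
    .child 0 14,
    .rep 391 [201,193,149,77] [⟨4,[(2,false),(0,false)]⟩,⟨2,[(1,false),(6,true),(0,false)]⟩,⟨9,[(5,false),(2,false),(0,true)]⟩] [0,2,3,0,1],
    .rep 65 [201,11,149,77] [⟨10,[(2,true),(1,false),(0,false)]⟩,⟨11,[(2,false),(0,false)]⟩,⟨9,[(2,true),(1,true),(0,false)]⟩] [0,2,4,3,2],
    .rep 192 [21,197,133,61] [⟨9,[(3,false),(0,false)]⟩,⟨3,[]⟩,⟨9,[(0,false),(0,false)]⟩] [0,0,1,3,0],
    .rep 31 [21,11,149,77] [⟨3,[]⟩,⟨9,[(0,false),(2,true),(0,true)]⟩,⟨9,[(0,true)]⟩] [0,3,4,2,1]]]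

/-- part 9 of `cov2_4` -/
def cov2_4P9 : List (List Cov) := [
  [.rep 4 [] [⟨15,[(4,true),(1,false)]⟩,⟨3,[(2,true),(0,false),(2,true),(0,true)]⟩,⟨8,[(1,false),(2,true)]⟩] [0,5,2,2,1],
    .child 0 4,
    .child 1 4,
    .child 0 67,
    .child 1 67,
    .child 0 190,
    .child 0 592,
    .child 1 592,
    .child 0 31,
    .child 1 31,
    .rep 410 [21,19,11,149,77] [⟨12,[(0,true),(1,false),(1,false)]⟩,⟨13,[(3,false),(2,true),(1,false)]⟩,⟨8,[(2,false),(1,false),(1,false)]⟩] [0,2,2,0,2],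
    .child 0 410,
    .child 1 410,
    .child 0 66,
    .child 0 284,
    .rep 195 [197,193,153,77] [⟨9,[(2,false),(0,true),(1,true)]⟩,⟨7,[(0,false),(5,true)]⟩,⟨8,[(1,true),(1,true),(0,false)]⟩] [0,3,4,3,0],
    .child 0 195,
    .child 1 195,
    .child 0 205,
    .child 0 24,
    .rep 26 [201,149,77] [⟨11,[(3,false),(1,true),(3,false)]⟩,⟨13,[(2,false),(4,false),(1,false)]⟩,⟨8,[(2,false),(1,true),(1,true)]⟩] [0,5,2,2,1],
    .child 0 26,
    .child 1 26,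
    .child 0 392,
    .child 0 411,
    .rep 194 [199,11,149,77] [⟨8,[(1,false),(0,false)]⟩,⟨9,[(0,false),(2,true),(2,true)]⟩,⟨8,[(1,true),(1,true),(0,false)]⟩] [0,1,4,0,2],
    .child 0 194,
    .child 1 194,
    .child 0 39,
    .child 0 137,
    .rep 15 [197,193,173,55] [⟨1,[(0,false)]⟩,⟨10,[(5,true),(4,true),(0,true)]⟩,⟨8,[(1,false),(0,false),(2,true)]⟩] [0,5,2,2,1],
    .rep 206 [199,195,173,31] [⟨7,[(2,false),(0,false)]⟩,⟨7,[(2,true),(2,true),(1,true),(2,true)]⟩,⟨8,[]⟩] [0,5,2,2,1],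
    .child 0 206,
    .child 0 30,
    .child 0 464,
    .child 1 464,
    .rep 101 [21,201,193,153,77] [⟨15,[(1,false),(0,true),(1,false),(0,false)]⟩,⟨3,[(2,true),(1,true),(2,true)]⟩,⟨8,[(2,false),(2,false)]⟩] [0,5,2,0,0],
    .child 0 101,
    .child 1 101,
    .child 0 37,
    .child 1 37,
    .child 0 40,
    .child 0 38,
    .child 1 38,
    .child 0 27,
    .child 1 27,
    .rep 59 [21,19,149,77] [⟨13,[(2,false),(0,true)]⟩,⟨5,[(1,false),(0,false)]⟩,⟨8,[(0,false),(1,false),(2,true)]⟩] [0,3,4,3,0],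
    .rep 193 [21,201,193,173,55] [⟨10,[(0,false)]⟩,⟨4,[(0,false),(0,false)]⟩,⟨8,[(0,false),(1,false),(1,false)]⟩] [0,5,2,0,0],
    .rep 6 [19,11,149,53] [⟨8,[(0,true),(3,false)]⟩,⟨3,[]⟩,⟨8,[(1,false)]⟩] [0,1,4,0,2],
    .rep 408 [21,19,195,149,77] [⟨7,[(4,false),(1,true),(0,false)]⟩,⟨6,[(2,true),(2,true),(1,false),(0,false)]⟩,⟨8,[(1,false),(2,false),(1,false),(0,false)]⟩] [0,5,2,0,0]]]

/-- part 10 of `cov2_4` -/
def cov2_4P10 : List (List Cov) := [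
  [.rep 4 [] [⟨9,[(0,true)]⟩,⟨12,[(5,false),(0,true),(1,false)]⟩,⟨2,[(0,false)]⟩] [2,4,3,3,2],
    .child 0 4,
    .child 1 4,
    .child 2 4,
    .child 0 24,
    .child 1 24,
    .rep 410 [21,19,11,149,77] [⟨15,[(0,false),(0,false),(5,true)]⟩,⟨4,[(1,true),(2,true)]⟩,⟨2,[]⟩] [2,4,4,0,1],
    .child 0 410,
    .child 1 410,
    .child 2 410,
    .child 0 25,
    .child 1 25,
    .child 2 25,
    .child 0 6,
    .child 1 6,
    .child 2 6,
    .child 0 101,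
    .child 1 101,
    .child 0 284,
    .child 0 190,
    .child 0 39,
    .child 1 39,
    .child 2 39,
    .child 0 205,
    .child 0 122,
    .child 1 122,
    .child 0 408,
    .child 1 408,
    .child 2 408,
    .child 0 58,
    .child 2 58,
    .child 1 212,
    .child 1 38,
    .child 0 399,
    .child 0 14,
    .child 1 27,
    .rep 195 [197,193,153,77] [⟨10,[(1,false),(0,false)]⟩,⟨25,[(1,true)]⟩,⟨2,[(1,false)]⟩] [2,5,2,2,1],
    .child 0 195,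
    .child 2 195,
    .child 0 593,
    .child 2 593,
    .rep 15 [197,193,173,55] [⟨8,[(0,true),(1,true),(2,false)]⟩,⟨10,[(1,true),(1,true),(0,false)]⟩,⟨2,[]⟩] [2,1,4,1,0],
    .child 0 15,
    .child 1 15,
    .child 1 40,
    .child 1 391,
    .child 0 37,
    .rep 78 [21,19,195,185,77] [⟨6,[(1,false),(0,true)]⟩,⟨12,[(2,true),(0,false)]⟩,⟨2,[(1,false),(0,false)]⟩] [2,3,1,1,1],
    .rep 65 [201,11,149,77] [⟨3,[(1,false)]⟩,⟨14,[(2,false)]⟩,⟨2,[(1,false)]⟩] [2,4,4,0,1],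
    .rep 592 [21,193,159,63] [⟨1,[(0,false)]⟩,⟨11,[(4,true),(3,false)]⟩,⟨2,[(0,false)]⟩] [2,4,1,1,1]]]

/-- part 11 of `cov2_4` -/
def cov2_4P11 : List (List Cov) := [
  [.rep 4 [] [⟨12,[(5,true),(2,true)]⟩,⟨24,[(4,false),(1,true),(0,false)]⟩,⟨7,[(1,false),(4,true),(0,false)]⟩] [2,4,2,3,2],
    .child 0 4,
    .child 1 4,
    .child 1 32,
    .rep 410 [21,19,11,149,77] [⟨6,[(5,false)]⟩,⟨13,[(1,true),(5,false),(4,true)]⟩,⟨7,[(4,false),(1,true)]⟩] [2,4,2,3,2],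
    .child 0 410,
    .rep 212 [21,19,15,129,31] [⟨15,[(4,false),(0,false),(2,false)]⟩,⟨1,[(2,false),(0,false),(2,true)]⟩,⟨7,[(1,false),(0,false)]⟩] [0,4,2,2,2],
    .child 0 212,
    .rep 195 [197,193,153,77] [⟨11,[(2,true),(5,true),(1,false),(0,true)]⟩,⟨25,[(1,false)]⟩,⟨7,[(0,true),(0,true)]⟩] [0,4,2,2,2],
    .rep 26 [201,149,77] [⟨15,[(0,false),(5,true),(2,false)]⟩,⟨4,[(1,false),(1,false),(2,true),(1,false)]⟩,⟨7,[(2,true),(2,true)]⟩] [0,4,2,1,0],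
    .child 0 26,
    .child 1 26,
    .child 1 30,
    .rep 194 [199,11,149,77] [⟨11,[(4,true),(2,true),(0,true)]⟩,⟨23,[(0,false),(2,true)]⟩,⟨7,[(1,true),(0,false)]⟩] [2,4,2,3,2],
    .child 1 194,
    .rep 15 [197,193,173,55] [⟨11,[(2,false),(5,true),(0,true)]⟩,⟨8,[(1,true),(0,false)]⟩,⟨7,[(1,false),(0,false)]⟩] [0,4,2,2,2],
    .child 0 15,
    .child 1 15,
    .child 1 191,
    .rep 206 [199,195,173,31] [⟨7,[(0,true),(5,false),(0,false)]⟩,⟨12,[(1,true),(1,true),(3,false)]⟩,⟨7,[(2,true),(2,true)]⟩] [0,4,2,1,0],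
    .child 0 206,
    .child 1 206,
    .child 1 285,
    .rep 67 [21,19,129,31] [⟨7,[(5,false),(1,false)]⟩,⟨12,[(3,false),(2,false)]⟩,⟨7,[(2,false),(2,false)]⟩] [2,4,2,3,2],
    .child 0 67,
    .child 1 67,
    .child 1 65,
    .rep 284 [19,15,129,31] [⟨8,[(5,true),(4,false),(1,false)]⟩,⟨14,[(1,false),(1,false),(3,false)]⟩,⟨7,[(2,false)]⟩] [2,4,2,0,1],
    .child 0 284,
    .rep 39 [21,201,11,153,77] [⟨11,[(3,false),(4,false),(2,false),(0,false)]⟩,⟨24,[(3,true),(1,true),(0,false)]⟩,⟨7,[(3,false),(0,false)]⟩] [2,4,2,3,2],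
    .child 0 39,
    .rep 78 [21,19,195,185,77] [⟨15,[(2,false),(5,true),(0,false)]⟩,⟨1,[(2,false),(0,true),(2,true)]⟩,⟨7,[(2,true),(1,false),(0,false)]⟩] [0,4,2,1,0],
    .child 1 78,
    .rep 59 [21,19,149,77] [⟨13,[(0,true),(0,true)]⟩,⟨8,[(1,true),(3,true)]⟩,⟨7,[(1,false),(3,false),(0,false)]⟩] [0,4,2,1,0],
    .rep 392 [21,201,149,77] [⟨15,[(5,true),(2,true),(4,false),(0,false)]⟩,⟨4,[(0,false),(2,true),(0,true)]⟩,⟨7,[(0,false),(0,false)]⟩] [2,4,2,3,2],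
    .child 0 392,
    .child 1 392,
    .child 1 27,
    .rep 204 [17,15,183,65] [⟨9,[(5,false)]⟩,⟨12,[(2,false),(0,true)]⟩,⟨7,[(2,true),(1,false),(0,false)]⟩] [0,4,2,1,0],
    .child 0 204,
    .rep 24 [19,193,175,77] [⟨4,[]⟩,⟨3,[(0,false),(6,true),(1,false),(0,false)]⟩,⟨7,[(2,false),(1,true)]⟩] [2,4,2,3,2],
    .rep 66 [21,201,153,55] [⟨12,[(1,true),(2,false)]⟩,⟨23,[(1,true),(0,false)]⟩,⟨7,[(3,false),(0,false)]⟩] [2,4,2,0,1],
    .child 0 66,
    .child 1 66,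
    .child 1 593,
    .rep 464 [21,201,11,173,55] [⟨11,[(4,true),(3,false),(0,false)]⟩,⟨21,[(0,false),(4,true)]⟩,⟨7,[(3,false),(1,true),(0,false)]⟩] [2,4,2,3,2],
    .child 1 464,
    .rep 14 [21,201,195,153,77] [⟨11,[(3,false),(5,false),(2,true),(0,false)]⟩,⟨20,[(0,false),(0,false),(0,false)]⟩,⟨7,[(4,false),(0,true)]⟩] [0,4,2,1,0],
    .child 0 14,
    .rep 408 [21,19,195,149,77] [⟨15,[(5,true),(0,true)]⟩,⟨2,[(1,true),(2,false),(1,true),(0,false)]⟩,⟨7,[(2,true),(1,false),(0,false)]⟩] [0,4,2,1,0]]]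

/-- part 12 of `cov2_4` -/
def cov2_4P12 : List (List Cov) := [
  [.rep 4 [] [⟨12,[(1,true),(0,true)]⟩,⟨9,[(4,false),(0,false)]⟩,⟨4,[(2,true),(0,false)]⟩] [0,5,0,0,0],
    .child 0 4,
    .child 1 4,
    .child 0 409,
    .child 1 409,
    .rep 410 [21,19,11,149,77] [⟨11,[(0,true),(2,false),(0,false)]⟩,⟨6,[(2,false),(2,false)]⟩,⟨4,[(1,false),(1,false)]⟩] [0,5,0,0,0],
    .child 0 410,
    .child 1 410,
    .child 1 14,
    .child 0 39,
    .child 1 39,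
    .child 0 408,
    .child 1 408,
    .child 0 16,
    .child 1 16,
    .rep 212 [21,19,15,129,31] [⟨11,[(3,false),(4,true),(2,false)]⟩,⟨6,[]⟩,⟨4,[(2,true),(1,false),(2,true)]⟩] [0,5,1,2,2],
    .child 0 212,
    .child 1 212,
    .child 1 204,
    .child 0 411,
    .child 1 411,
    .child 0 60,
    .child 1 60,
    .child 0 194,
    .child 1 194,
    .rep 195 [197,193,153,77] [⟨9,[(2,false),(0,true),(2,false)]⟩,⟨8,[(4,false),(1,false),(0,false)]⟩,⟨4,[(1,true),(0,false),(2,false)]⟩] [0,1,3,1,0],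
    .child 0 195,
    .child 1 195,
    .child 0 38,
    .child 1 38,
    .rep 137 [19,11,149,77] [⟨12,[(5,true),(2,false),(0,true)]⟩,⟨5,[(1,false)]⟩,⟨4,[(1,true),(0,false)]⟩] [0,1,1,0,1],
    .rep 15 [197,193,173,55] [⟨7,[(3,false),(1,false),(0,false)]⟩,⟨7,[(2,false),(2,false)]⟩,⟨4,[(2,false),(2,false)]⟩] [0,5,1,2,2],
    .child 0 15,
    .child 1 78,
    .child 0 37,
    .child 1 37,
    .rep 206 [199,195,173,31] [⟨8,[(5,true),(4,false),(0,false)]⟩,⟨7,[(2,true)]⟩,⟨4,[(1,false),(2,false),(2,false)]⟩] [0,1,3,1,0],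
    .child 0 206,
    .child 1 206,
    .child 1 59,
    .child 0 392,
    .rep 284 [19,15,129,31] [⟨15,[(1,true),(2,false),(4,true)]⟩,⟨3,[(2,true),(1,true)]⟩,⟨4,[(2,true),(2,true),(1,true)]⟩] [0,4,3,2,1],
    .child 0 284,
    .child 1 284,
    .child 1 25,
    .child 0 122,
    .rep 285 [21,197,193,153,77] [⟨0,[]⟩,⟨10,[(1,false),(0,true),(5,true),(0,true)]⟩,⟨4,[(1,true),(2,true)]⟩] [0,5,1,2,2],
    .rep 65 [201,11,149,77] [⟨8,[(0,true),(3,false),(1,false)]⟩,⟨6,[(1,true),(1,true),(0,false)]⟩,⟨4,[(2,true),(2,true),(0,false)]⟩] [0,3,0,2,0],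
    .rep 58 [197,195,189,95] [⟨6,[(5,true),(0,true)]⟩,⟨10,[(4,true),(3,true),(1,true)]⟩,⟨4,[(0,false)]⟩] [0,4,3,2,1],
    .rep 192 [21,197,133,61] [⟨14,[(2,false),(0,false)]⟩,⟨4,[(1,true),(0,false)]⟩,⟨4,[(1,true),(1,true),(0,false)]⟩] [0,3,0,2,0]]]

/-- part 13 of `cov2_4` -/
def cov2_4P13 : List (List Cov) := [
  [.rep 4 [] [⟨9,[(2,false),(5,false),(0,true)]⟩,⟨4,[(0,true)]⟩,⟨2,[(5,false),(3,false),(1,false)]⟩] [2,0,1,2,2],
    .child 0 4,
    .child 0 194,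
    .child 1 194,
    .child 1 40,
    .child 0 391,
    .child 0 206,
    .child 0 66,
    .child 0 204,
    .child 1 137,
    .child 1 122,
    .child 0 33,
    .rep 410 [21,19,11,149,77] [⟨11,[(0,false),(5,true),(0,false)]⟩,⟨10,[]⟩,⟨2,[(6,true),(4,false),(1,true)]⟩] [0,0,2,3,1],
    .child 0 410,
    .child 1 410,
    .child 0 67,
    .child 1 67,
    .child 0 284,
    .child 1 593,
    .child 0 27,
    .child 0 6,
    .child 1 6,
    .child 0 399,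
    .child 0 16,
    .child 1 16,
    .child 1 37,
    .child 0 32,
    .child 0 31,
    .child 1 31,
    .child 1 78,
    .child 0 411,
    .child 0 60,
    .child 0 212,
    .child 1 26,
    .child 0 58,
    .child 0 14,
    .child 0 464,
    .child 0 30,
    .child 1 30,
    .child 0 285,
    .child 0 192,
    .child 0 392,
    .rep 195 [197,193,153,77] [⟨2,[(1,false),(2,false)]⟩,⟨4,[(0,false),(0,false)]⟩,⟨2,[(4,true),(1,true),(0,true)]⟩] [2,0,2,1,2],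
    .child 0 195,
    .child 1 195,
    .child 0 191,
    .child 0 24,
    .rep 59 [21,19,149,77] [⟨0,[]⟩,⟨7,[(0,false),(4,false)]⟩,⟨2,[(3,true),(4,false)]⟩] [0,0,3,3,2],
    .child 0 59,
    .rep 408 [21,19,195,149,77] [⟨13,[(2,false),(0,true)]⟩,⟨10,[(0,false)]⟩,⟨2,[(5,false),(2,false),(1,false)]⟩] [0,0,1,1,1]]]

/-- part 14 of `cov2_4` -/
def cov2_4P14 : List (List Cov) := [
  [.rep 4 [] [⟨4,[(2,false),(0,true)]⟩,⟨2,[(4,true),(1,true),(0,true)]⟩,⟨2,[(1,true),(2,false)]⟩] [3,4,4,3,1],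
    .child 0 4,
    .child 1 4,
    .child 0 27,
    .child 1 212,
    .rep 410 [21,19,11,149,77] [⟨15,[(0,true),(4,false),(0,false)]⟩,⟨0,[(2,true),(2,true),(0,true)]⟩,⟨2,[(1,true),(0,false)]⟩] [1,4,4,2,1],
    .child 0 410,
    .child 1 410,
    .child 2 410,
    .child 0 39,
    .child 1 39,
    .child 2 39,
    .child 0 16,
    .child 1 16,
    .child 2 16,
    .child 1 32,
    .child 0 6,
    .child 2 6,
    .child 0 593,
    .child 1 593,
    .child 2 593,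
    .child 0 408,
    .child 0 40,
    .child 2 40,
    .child 1 391,
    .child 2 391,
    .child 0 592,
    .child 1 399,
    .child 1 66,
    .child 0 37,
    .child 1 454,
    .child 2 454,
    .child 1 192,
    .child 2 30,
    .child 0 14,
    .rep 194 [199,11,149,77] [⟨1,[(0,false)]⟩,⟨4,[(4,false),(0,false)]⟩,⟨2,[]⟩] [1,3,0,0,2],
    .child 0 194,
    .rep 67 [21,19,129,31] [⟨12,[(0,false),(2,false)]⟩,⟨11,[(2,false),(0,false)]⟩,⟨2,[(0,false),(0,false)]⟩] [1,4,4,1,1],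
    .child 0 67,
    .child 1 67,
    .child 2 67,
    .child 0 464,
    .child 1 464,
    .child 2 464,
    .child 0 33,
    .child 1 33,
    .child 0 24,
    .child 1 24,
    .child 0 60,
    .rep 411 [19,133,61] [⟨2,[]⟩,⟨2,[(2,true),(1,false),(0,false)]⟩,⟨2,[(2,true),(1,false),(0,false)]⟩] [3,5,4,3,2]]]

/-- part 15 of `cov2_4` -/
def cov2_4P15 : List (List Cov) := [
  [.rep 4 [] [⟨10,[]⟩,⟨28,[(1,true),(1,true)]⟩,⟨0,[(2,false),(1,false)]⟩] [2,2,3,1,1],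
    .child 0 4,
    .rep 410 [21,19,11,149,77] [⟨8,[]⟩,⟨15,[(2,true),(2,true),(1,false),(2,true)]⟩,⟨0,[(0,false),(1,false),(0,true)]⟩] [0,3,4,3,0],
    .child 0 410,
    .child 1 410,
    .child 1 58,
    .rep 212 [21,19,15,129,31] [⟨9,[(0,true),(5,false),(0,false)]⟩,⟨15,[(4,false),(2,false),(5,true)]⟩,⟨0,[(0,false),(1,false),(0,true),(0,true)]⟩] [0,4,0,1,2],
    .child 0 212,
    .child 1 212,
    .child 1 60,
    .rep 195 [197,193,153,77] [⟨11,[(4,false),(2,true),(0,true)]⟩,⟨26,[(0,false),(4,true)]⟩,⟨0,[(0,true),(1,true),(1,true)]⟩] [2,2,3,1,1],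
    .child 1 195,
    .rep 194 [199,11,149,77] [⟨14,[(2,true)]⟩,⟨27,[(3,false),(0,true),(0,true)]⟩,⟨0,[(2,true),(0,true),(2,false),(1,true)]⟩] [2,2,3,1,1],
    .rep 137 [19,11,149,77] [⟨8,[(5,true),(0,false),(0,false)]⟩,⟨15,[(1,false),(1,false)]⟩,⟨0,[(2,true)]⟩] [2,2,3,1,1],
    .child 0 137,
    .child 1 137,
    .child 1 193,
    .rep 15 [197,193,173,55] [⟨9,[]⟩,⟨15,[(0,false),(2,false),(0,false)]⟩,⟨0,[(2,true),(1,false),(0,false),(1,false)]⟩] [2,4,2,0,1],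
    .child 0 15,
    .child 1 15,
    .child 1 25,
    .rep 67 [21,19,129,31] [⟨15,[(2,false),(0,false)]⟩,⟨5,[(2,true),(0,false),(1,true)]⟩,⟨0,[(1,false),(2,false),(0,true)]⟩] [0,3,4,3,0],
    .child 1 67,
    .rep 191 [199,15,129,31] [⟨2,[(0,false)]⟩,⟨15,[(0,false),(5,false)]⟩,⟨0,[(2,true),(2,true),(0,true)]⟩] [2,4,2,0,1],
    .rep 411 [19,133,61] [⟨7,[(5,false)]⟩,⟨15,[(1,false),(2,false),(2,false)]⟩,⟨0,[(1,false),(2,false)]⟩] [2,2,3,1,1],
    .child 0 411,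
    .rep 101 [21,201,193,153,77] [⟨11,[(0,false),(5,false)]⟩,⟨27,[(3,false),(2,false),(0,false)]⟩,⟨0,[(1,true),(2,false),(1,true),(0,false)]⟩] [2,2,3,1,1],
    .rep 285 [21,197,193,153,77] [⟨11,[(2,true),(4,false),(0,false)]⟩,⟨26,[(1,false),(0,false)]⟩,⟨0,[(2,false),(0,true),(2,true)]⟩] [0,4,0,1,2],
    .child 0 285,
    .rep 78 [21,19,195,185,77] [⟨15,[(0,true),(2,false)]⟩,⟨5,[(0,false),(2,true),(0,false),(0,false)]⟩,⟨0,[(0,true),(2,true),(1,false)]⟩] [2,2,3,1,1],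
    .child 1 78,
    .rep 190 [201,195,149,77] [⟨15,[(0,true),(2,true)]⟩,⟨5,[(1,true),(2,false),(0,true)]⟩,⟨0,[(0,false),(1,false)]⟩] [0,4,0,1,2],
    .child 0 190,
    .rep 392 [21,201,149,77] [⟨15,[(0,false),(5,true),(2,false)]⟩,⟨6,[(0,false),(2,false),(0,false)]⟩,⟨0,[(2,false),(0,true),(1,false),(0,true)]⟩] [0,4,0,1,2],
    .child 0 392,
    .child 1 392,
    .child 1 32,
    .rep 391 [201,193,149,77] [⟨11,[(2,true),(5,true),(1,false),(0,true)]⟩,⟨28,[(0,false),(1,true),(0,true)]⟩,⟨0,[(1,false),(1,false),(2,true),(1,false)]⟩] [0,3,4,3,0],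
    .child 0 391,
    .child 1 391,
    .child 1 204,
    .rep 24 [19,193,175,77] [⟨11,[(5,true),(1,false),(2,true),(0,true)]⟩,⟨28,[(0,true),(0,true),(1,false)]⟩,⟨0,[(2,true),(2,true),(1,true)]⟩] [0,4,0,1,2],
    .child 0 24,
    .child 1 24,
    .child 1 205,
    .rep 464 [21,201,11,173,55] [⟨15,[(1,false),(2,true),(0,true)]⟩,⟨5,[(1,false),(2,true),(0,true)]⟩,⟨0,[(2,false),(0,true),(0,true),(0,true)]⟩] [0,4,0,1,2],
    .child 0 464,
    .rep 27 [21,197,193,129,31] [⟨12,[(2,false),(0,false),(0,false)]⟩,⟨27,[(3,true),(0,false)]⟩,⟨0,[(2,true),(0,true),(0,true),(0,true)]⟩] [0,4,0,1,2],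
    .child 0 27,
    .rep 454 [197,11,177,115] [⟨15,[(2,true),(5,true),(0,true)]⟩,⟨5,[(1,true),(0,false),(1,false)]⟩,⟨0,[(2,false),(2,false),(0,false)]⟩] [0,3,4,3,0]]]

/-- certificate data -/
def cov2_4 : List (List Cov) :=
  [cov2_4P0, cov2_4P1, cov2_4P2, cov2_4P3, cov2_4P4, cov2_4P5, cov2_4P6, cov2_4P7, cov2_4P8, cov2_4P9, cov2_4P10, cov2_4P11, cov2_4P12, cov2_4P13, cov2_4P14, cov2_4P15].flatten

/-- part 0 of `cov2_5` -/
def cov2_5P0 : List (List Cov) := [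
  [.rep 4 [] [⟨10,[(0,false),(1,true),(0,false)]⟩,⟨9,[(1,true)]⟩,⟨1,[]⟩] [0,7,1,0],
    .child 0 4,
    .child 0 6,
    .child 1 6,
    .child 2 6,
    .child 0 191,
    .child 1 191,
    .child 2 191,
    .child 0 38,
    .child 2 38,
    .child 0 206,
    .child 1 206,
    .child 2 206,
    .child 0 40,
    .child 2 40,
    .child 0 60,
    .child 2 60,
    .child 1 59,
    .child 2 59,
    .child 0 58,
    .child 1 58,
    .child 2 408,
    .child 0 66,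
    .child 2 212,
    .child 0 14,
    .rep 195 [197,193,153,77] [⟨9,[(2,true),(1,true),(2,true)]⟩,⟨6,[(1,false),(0,false)]⟩,⟨1,[]⟩] [0,21,4,0],
    .child 0 195,
    .child 1 195,
    .child 2 195,
    .child 0 391,
    .child 2 391,
    .child 0 27,
    .child 2 27,
    .child 0 122,
    .child 0 137,
    .child 1 137,
    .child 0 392,
    .child 1 392,
    .child 0 32,
    .child 1 32,
    .child 0 193,
    .child 1 193,
    .child 1 411,
    .child 2 411,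
    .child 1 25,
    .child 0 78,
    .child 2 78,
    .child 0 67,
    .child 0 190,
    .child 2 33]]

/-- part 1 of `cov2_5` -/
def cov2_5P1 : List (List Cov) := [
  [.rep 4 [] [⟨8,[(2,false),(2,false)]⟩,⟨8,[(2,true),(4,true),(0,false)]⟩,⟨3,[]⟩] [0,6,1,0],
    .child 0 4,
    .child 1 4,
    .child 2 4,
    .child 0 32,
    .child 1 32,
    .child 0 67,
    .child 1 67,
    .child 0 25,
    .child 0 464,
    .child 0 411,
    .child 1 411,
    .child 0 14,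
    .child 1 14,
    .child 2 14,
    .child 0 58,
    .child 2 58,
    .child 0 122,
    .child 1 122,
    .child 0 193,
    .child 1 193,
    .child 0 206,
    .child 0 408,
    .child 1 65,
    .child 1 78,
    .rep 410 [21,19,11,149,77] [⟨11,[(1,true),(2,true)]⟩,⟨5,[(1,true),(0,false)]⟩,⟨3,[]⟩] [0,15,2,0],
    .child 0 410,
    .child 0 204,
    .child 1 204,
    .child 2 204,
    .child 0 592,
    .child 1 592,
    .child 2 592,
    .child 0 399,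
    .child 1 399,
    .child 2 399,
    .child 0 409,
    .child 1 409,
    .child 0 284,
    .child 1 284,
    .child 1 38,
    .child 1 24,
    .child 2 24,
    .child 1 15,
    .child 2 15,
    .child 0 195,
    .child 0 192,
    .child 1 192,
    .child 0 101,
    .child 0 191]]

/-- part 2 of `cov2_5` -/
def cov2_5P2 : List (List Cov) := [
  [.rep 4 [] [⟨5,[(1,true),(1,true)]⟩,⟨9,[(1,false),(0,false)]⟩,⟨10,[(0,true),(5,false),(0,false)]⟩] [0,13,3,1],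
    .child 0 4,
    .child 0 206,
    .child 1 206,
    .child 2 206,
    .child 0 30,
    .child 1 30,
    .child 2 30,
    .child 0 78,
    .child 1 78,
    .child 2 78,
    .child 0 32,
    .child 1 32,
    .child 0 190,
    .child 1 190,
    .child 0 60,
    .child 1 60,
    .child 2 60,
    .child 0 33,
    .child 1 31,
    .child 1 37,
    .child 0 408,
    .child 0 59,
    .child 2 59,
    .child 0 193,
    .rep 410 [21,19,11,149,77] [⟨4,[(1,true),(2,false),(2,false)]⟩,⟨0,[]⟩,⟨10,[(1,false),(1,false),(0,false),(0,false)]⟩] [0,17,1,1],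
    .child 0 410,
    .child 1 410,
    .child 0 40,
    .child 1 40,
    .child 0 191,
    .child 2 191,
    .child 0 15,
    .child 1 15,
    .child 2 15,
    .child 0 137,
    .child 0 285,
    .child 1 285,
    .child 2 285,
    .child 0 593,
    .child 0 101,
    .child 0 212,
    .child 0 194,
    .child 0 391,
    .child 1 391,
    .child 0 16,
    .child 1 6,
    .child 0 39,
    .child 2 192,
    .child 0 409]]

/-- part 3 of `cov2_5` -/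
def cov2_5P3 : List (List Cov) := [
  [.rep 4 [] [⟨13,[(2,true),(1,true),(2,true)]⟩,⟨4,[(1,false)]⟩,⟨2,[]⟩] [0,12,1,0],
    .child 0 4,
    .child 1 4,
    .child 0 58,
    .child 1 58,
    .child 2 58,
    .child 0 14,
    .child 1 14,
    .child 0 60,
    .child 1 60,
    .child 0 78,
    .child 0 16,
    .child 1 16,
    .child 0 285,
    .child 1 285,
    .child 2 285,
    .child 0 26,
    .child 2 26,
    .child 0 408,
    .child 1 191,
    .child 2 191,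
    .child 0 38,
    .child 2 38,
    .child 0 204,
    .child 1 194,
    .rep 410 [21,19,11,149,77] [⟨6,[]⟩,⟨9,[(2,true),(0,false)]⟩,⟨2,[]⟩] [0,6,0,1],
    .child 0 410,
    .child 0 66,
    .child 1 66,
    .child 2 66,
    .child 0 67,
    .child 1 67,
    .child 2 67,
    .child 0 190,
    .child 1 190,
    .child 2 190,
    .child 0 192,
    .child 1 192,
    .child 1 30,
    .child 2 30,
    .child 1 411,
    .child 2 411,
    .child 0 284,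
    .child 1 464,
    .child 2 464,
    .child 0 31,
    .child 1 409,
    .child 2 409,
    .child 0 593,
    .child 0 25]]

/-- part 4 of `cov2_5` -/
def cov2_5P4 : List (List Cov) := [
  [.rep 4 [] [⟨2,[]⟩,⟨6,[(2,true),(2,true),(1,false)]⟩,⟨9,[(2,true),(0,false)]⟩] [0,21,0,0],
    .rep 410 [21,19,11,149,77] [⟨7,[(0,false),(1,false),(0,false)]⟩,⟨7,[(3,false),(2,false),(2,false),(0,false)]⟩,⟨9,[(2,true),(2,true),(1,false)]⟩] [0,23,0,1],
    .child 0 410,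
    .child 1 410,
    .child 0 195,
    .child 1 195,
    .child 0 40,
    .child 0 408,
    .child 1 408,
    .child 0 32,
    .child 1 32,
    .rep 212 [21,19,15,129,31] [⟨12,[(3,false),(2,true)]⟩,⟨13,[(1,true),(0,true)]⟩,⟨9,[(2,true),(2,true),(1,false)]⟩] [0,21,0,0],
    .child 0 212,
    .child 1 212,
    .child 0 15,
    .child 0 38,
    .rep 26 [201,149,77] [⟨8,[(1,false),(0,false),(2,true)]⟩,⟨8,[(5,false),(1,true),(0,true)]⟩,⟨9,[(0,false),(2,true),(2,true)]⟩] [0,1,2,0],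
    .child 0 26,
    .child 0 60,
    .child 0 25,
    .child 1 25,
    .rep 194 [199,11,149,77] [⟨10,[(2,true),(0,false),(1,false)]⟩,⟨5,[(4,false),(0,false)]⟩,⟨9,[(1,true),(2,true),(0,false)]⟩] [0,21,0,0],
    .rep 137 [19,11,149,77] [⟨7,[(1,false),(2,false),(1,false),(1,false)]⟩,⟨7,[(3,false),(2,false),(1,true),(0,false)]⟩,⟨9,[(1,false)]⟩] [0,23,3,1],
    .child 0 137,
    .child 1 137,
    .child 0 190,
    .child 1 190,
    .child 0 593,
    .child 0 392,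
    .child 1 392,
    .child 0 391,
    .child 1 391,
    .rep 191 [199,15,129,31] [⟨12,[(2,false),(1,true),(3,false)]⟩,⟨9,[]⟩,⟨9,[(2,false),(0,false)]⟩] [0,15,4,0],
    .child 0 191,
    .child 0 31,
    .child 1 31,
    .child 0 65,
    .rep 411 [19,133,61] [⟨6,[(0,false),(1,false),(1,false)]⟩,⟨1,[]⟩,⟨9,[(2,true),(2,true),(1,false)]⟩] [0,1,2,0],
    .rep 101 [21,201,193,153,77] [⟨13,[(1,true),(1,true),(2,true),(0,false)]⟩,⟨6,[(3,false),(2,true),(2,true)]⟩,⟨9,[(2,false),(1,true),(1,true)]⟩] [0,3,2,0],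
    .child 0 101,
    .child 0 122,
    .child 1 122,
    .child 0 78,
    .rep 204 [17,15,183,65] [⟨14,[(1,false),(2,false),(1,false),(2,false)]⟩,⟨6,[(1,true),(0,true)]⟩,⟨9,[(2,false)]⟩] [0,21,0,0],
    .child 0 204,
    .child 1 204,
    .child 0 16,
    .child 1 16,
    .rep 409 [197,173,57] [⟨5,[(1,true),(1,true),(0,false)]⟩,⟨10,[(4,true),(0,true),(2,false)]⟩,⟨9,[(2,false),(2,false),(0,false)]⟩] [0,3,2,0],
    .rep 192 [21,197,133,61] [⟨11,[(2,true),(1,false),(0,false)]⟩,⟨4,[(4,false),(0,false)]⟩,⟨9,[(1,true),(0,false),(2,false)]⟩] [0,21,1,1]]]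

/-- part 5 of `cov2_5` -/
def cov2_5P5 : List (List Cov) := [
  [.rep 4 [] [⟨2,[]⟩,⟨13,[(2,false),(1,true),(1,true)]⟩,⟨4,[(1,false)]⟩] [0,20,2,1],
    .rep 410 [21,19,11,149,77] [⟨12,[(3,false),(1,false)]⟩,⟨24,[(4,false),(3,false),(2,false)]⟩,⟨4,[(2,true),(1,false)]⟩] [0,20,4,1],
    .child 0 410,
    .child 1 410,
    .child 1 31,
    .child 0 284,
    .child 1 284,
    .child 0 206,
    .child 1 206,
    .child 0 26,
    .child 1 26,
    .rep 195 [197,193,153,77] [⟨7,[(3,false),(1,true),(2,false)]⟩,⟨14,[(0,false),(1,false),(3,false)]⟩,⟨4,[(4,false),(1,false),(0,false)]⟩] [0,20,2,0],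
    .child 0 195,
    .child 1 195,
    .child 1 39,
    .child 0 6,
    .rep 194 [199,11,149,77] [⟨12,[(2,false),(2,false),(1,false),(1,false)]⟩,⟨23,[(2,true),(4,true)]⟩,⟨4,[(3,true),(1,false)]⟩] [0,20,3,0],
    .child 0 194,
    .child 1 194,
    .child 1 30,
    .child 0 78,
    .child 1 78,
    .child 0 191,
    .child 1 191,
    .child 0 65,
    .child 1 65,
    .rep 15 [197,193,173,55] [⟨10,[(2,false),(1,true),(1,true),(0,false)]⟩,⟨8,[(3,false)]⟩,⟨4,[(2,true),(1,false)]⟩] [0,20,4,1],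
    .child 0 15,
    .child 1 32,
    .child 0 58,
    .child 1 58,
    .rep 411 [19,133,61] [⟨15,[(3,false),(1,true),(2,true)]⟩,⟨4,[(0,true),(2,true),(1,true),(0,false),(0,false)]⟩,⟨4,[(0,false)]⟩] [0,20,4,1],
    .child 0 411,
    .child 1 592,
    .child 0 192,
    .child 1 192,
    .rep 190 [201,195,149,77] [⟨7,[(2,false),(2,false),(1,true),(1,true)]⟩,⟨12,[(1,true),(0,false),(1,false)]⟩,⟨4,[(0,false)]⟩] [0,20,1,1],
    .child 1 190,
    .child 0 59,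
    .child 1 59,
    .child 0 593,
    .rep 391 [201,193,149,77] [⟨5,[(2,true),(0,false)]⟩,⟨13,[(0,false),(2,true),(1,true)]⟩,⟨4,[(1,false),(0,true)]⟩] [0,20,3,1],
    .child 0 391,
    .child 1 391,
    .child 1 409,
    .child 0 27,
    .rep 204 [17,15,183,65] [⟨9,[(0,false)]⟩,⟨11,[(2,false),(0,false)]⟩,⟨4,[(4,false),(0,false)]⟩] [0,20,1,0],
    .rep 399 [17,11,151,69] [⟨8,[(2,false),(1,false),(1,false),(0,false)]⟩,⟨10,[(4,false),(0,false)]⟩,⟨4,[]⟩] [0,20,4,1],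
    .rep 14 [21,201,195,153,77] [⟨13,[(2,true),(0,false)]⟩,⟨14,[(3,false)]⟩,⟨4,[(1,true),(0,false)]⟩] [0,20,0,1],
    .rep 454 [197,11,177,115] [⟨4,[(2,false),(2,false),(0,false)]⟩,⟨14,[(0,false)]⟩,⟨4,[(1,false),(0,false)]⟩] [0,20,1,0]]]

/-- part 6 of `cov2_5` -/
def cov2_5P6 : List (List Cov) := [
  [.rep 4 [] [⟨14,[(2,false),(1,true),(1,true)]⟩,⟨20,[(2,true),(0,false),(0,false)]⟩,⟨5,[]⟩] [0,1,0,0],
    .child 0 4,
    .child 1 4,
    .child 0 408,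
    .child 1 408,
    .child 0 32,
    .child 0 454,
    .child 1 454,
    .child 0 67,
    .child 1 67,
    .rep 410 [21,19,11,149,77] [⟨6,[(0,false),(1,true)]⟩,⟨14,[(0,false),(3,false),(2,true),(0,false)]⟩,⟨5,[(0,false)]⟩] [0,18,1,1],
    .child 0 410,
    .child 1 410,
    .child 0 204,
    .child 1 204,
    .rep 212 [21,19,15,129,31] [⟨15,[(2,false),(2,false),(1,false)]⟩,⟨4,[(1,false),(2,true),(0,true),(1,false)]⟩,⟨5,[(2,false),(1,false),(0,false)]⟩] [0,5,0,0],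
    .child 0 212,
    .child 0 16,
    .child 0 59,
    .child 1 59,
    .rep 26 [201,149,77] [⟨14,[(2,false),(1,false)]⟩,⟨21,[(4,false)]⟩,⟨5,[(2,false)]⟩] [0,16,0,0],
    .child 0 26,
    .child 1 26,
    .child 0 190,
    .child 1 190,
    .child 0 137,
    .child 0 464,
    .child 1 464,
    .child 0 27,
    .child 1 27,
    .rep 15 [197,193,173,55] [⟨11,[(2,true),(0,false)]⟩,⟨18,[(1,true),(1,true),(0,false)]⟩,⟨5,[(0,true),(2,false)]⟩] [0,5,0,0],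
    .child 0 15,
    .child 0 285,
    .child 0 40,
    .child 1 40,
    .rep 191 [199,15,129,31] [⟨12,[(1,false),(2,false)]⟩,⟨14,[(0,true)]⟩,⟨5,[(1,false),(0,false)]⟩] [0,1,0,0],
    .child 0 191,
    .child 1 191,
    .child 0 6,
    .child 0 60,
    .rep 411 [19,133,61] [⟨15,[(1,true),(3,false),(2,false),(2,false)]⟩,⟨2,[(0,false),(1,false),(0,false)]⟩,⟨5,[(4,true)]⟩] [0,16,0,0],
    .child 0 411,
    .child 0 25,
    .child 0 39,
    .child 1 39,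
    .rep 391 [201,193,149,77] [⟨8,[(0,false),(1,true),(1,true)]⟩,⟨13,[(2,false),(0,false)]⟩,⟨5,[(0,false),(1,true)]⟩] [0,3,0,0],
    .rep 65 [201,11,149,77] [⟨4,[(1,true),(1,true),(0,false)]⟩,⟨12,[(0,true)]⟩,⟨5,[(1,false)]⟩] [0,5,0,0],
    .rep 38 [21,199,11,149,77] [⟨13,[(0,false),(2,false),(2,false)]⟩,⟨22,[(0,false)]⟩,⟨5,[(3,false)]⟩] [0,7,0,0],
    .rep 37 [199,15,149,77] [⟨9,[(1,true),(1,true),(2,true),(0,false)]⟩,⟨10,[(1,false),(1,false),(0,false)]⟩,⟨5,[(4,false),(0,false)]⟩] [0,1,0,0],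
    .rep 30 [201,195,173,31] [⟨3,[]⟩,⟨11,[(3,false),(2,false)]⟩,⟨5,[(1,true),(0,false)]⟩] [0,4,0,0]]]

/-- part 7 of `cov2_5` -/
def cov2_5P7 : List (List Cov) := [
  [.rep 4 [] [⟨10,[(1,false),(2,false),(1,false)]⟩,⟨23,[(4,false),(1,true)]⟩,⟨6,[(4,true)]⟩] [0,11,0,1],
    .child 0 4,
    .rep 410 [21,19,11,149,77] [⟨5,[(3,false),(1,true)]⟩,⟨11,[(4,true)]⟩,⟨6,[(4,false)]⟩] [0,24,0,1],
    .rep 212 [21,19,15,129,31] [⟨7,[(1,false),(3,false),(0,false),(1,true)]⟩,⟨14,[(2,true),(0,false),(2,false)]⟩,⟨6,[(3,true),(1,true),(0,true)]⟩] [0,11,0,1],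
    .child 0 212,
    .rep 195 [197,193,153,77] [⟨15,[(3,false),(1,false),(1,false),(2,true),(0,false)]⟩,⟨4,[(1,true),(0,false),(2,false),(1,true)]⟩,⟨6,[(2,false),(1,true),(0,false)]⟩] [0,24,0,1],
    .rep 26 [201,149,77] [⟨14,[(1,true),(0,false),(2,false),(2,false)]⟩,⟨21,[(4,true),(3,false),(2,false)]⟩,⟨6,[(2,false),(3,true)]⟩] [0,11,0,1],
    .child 0 26,
    .rep 194 [199,11,149,77] [⟨12,[(2,false),(1,true),(0,false)]⟩,⟨18,[(1,false),(4,false),(0,true)]⟩,⟨6,[(1,false),(0,false)]⟩] [0,24,0,1],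
    .child 0 194,
    .rep 137 [19,11,149,77] [⟨15,[(1,true),(0,false),(2,false),(1,true)]⟩,⟨4,[(2,true),(2,true),(1,true),(0,false)]⟩,⟨6,[(1,false),(1,false),(0,false)]⟩] [0,11,0,1],
    .child 0 137,
    .rep 15 [197,193,173,55] [⟨15,[(2,true),(1,true),(2,true),(1,true),(0,false)]⟩,⟨2,[(1,true),(2,false),(2,false)]⟩,⟨6,[(4,true),(2,false)]⟩] [0,11,0,1],
    .child 0 15,
    .rep 206 [199,195,173,31] [⟨4,[]⟩,⟨11,[(3,false),(4,false)]⟩,⟨6,[(2,true),(2,true)]⟩] [0,11,0,1],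
    .child 0 206,
    .rep 67 [21,19,129,31] [⟨12,[(2,false),(0,false),(1,true),(1,true)]⟩,⟨18,[(3,true),(1,true),(0,false)]⟩,⟨6,[(1,true),(4,false),(0,false)]⟩] [0,24,0,1],
    .child 0 67,
    .rep 191 [199,15,129,31] [⟨15,[(2,false),(2,false),(1,true),(0,false)]⟩,⟨4,[(2,false),(1,false),(2,false),(0,true)]⟩,⟨6,[(4,true),(0,false)]⟩] [0,24,0,1],
    .child 0 191,
    .rep 284 [19,15,129,31] [⟨12,[(0,false),(1,false),(3,false)]⟩,⟨24,[(0,true),(1,false),(0,false)]⟩,⟨6,[(4,true),(2,false)]⟩] [0,11,0,1],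
    .child 0 284,
    .rep 39 [21,201,11,153,77] [⟨14,[(1,true),(0,false),(2,false),(1,true)]⟩,⟨24,[(4,false),(1,true)]⟩,⟨6,[(1,false)]⟩] [0,11,0,1],
    .child 0 39,
    .rep 101 [21,201,193,153,77] [⟨4,[(2,false),(2,false),(1,true)]⟩,⟨11,[(4,false),(3,false),(4,false)]⟩,⟨6,[(2,false),(2,false)]⟩] [0,24,0,1],
    .child 0 101,
    .rep 78 [21,19,195,185,77] [⟨14,[(0,false),(1,true),(1,true)]⟩,⟨17,[(0,true)]⟩,⟨6,[(4,true),(0,true)]⟩] [0,11,0,1],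
    .rep 190 [201,195,149,77] [⟨10,[(0,false),(1,true),(0,false)]⟩,⟨24,[(3,false),(1,false)]⟩,⟨6,[(3,false)]⟩] [0,11,0,1],
    .child 0 190,
    .rep 40 [201,193,13,77] [⟨7,[(3,false),(1,false),(1,false),(2,true),(0,false)]⟩,⟨10,[]⟩,⟨6,[(0,false),(3,true)]⟩] [0,24,0,1],
    .rep 391 [201,193,149,77] [⟨15,[(1,true),(0,false),(1,true)]⟩,⟨2,[(1,true),(1,true)]⟩,⟨6,[(3,false),(1,true)]⟩] [0,24,0,1],
    .child 0 391,
    .rep 65 [201,11,149,77] [⟨5,[(1,false),(2,false),(1,false)]⟩,⟨13,[(1,true),(3,false),(0,false)]⟩,⟨6,[(1,true),(0,false),(3,true)]⟩] [0,11,0,1],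
    .rep 204 [17,15,183,65] [⟨11,[(1,true),(1,true)]⟩,⟨14,[(1,true),(0,false)]⟩,⟨6,[(4,true),(0,false)]⟩] [0,24,0,1],
    .rep 37 [199,15,149,77] [⟨13,[(2,true),(2,true),(1,false)]⟩,⟨8,[(3,false),(1,true),(0,false)]⟩,⟨6,[(2,true)]⟩] [0,11,0,1],
    .rep 60 [21,197,11,149,77] [⟨9,[(2,true),(1,true),(2,true)]⟩,⟨14,[(3,false),(1,false)]⟩,⟨6,[(1,true),(0,true)]⟩] [0,11,0,1],
    .rep 409 [197,173,57] [⟨12,[(2,true),(0,false)]⟩,⟨23,[(3,true),(4,true)]⟩,⟨6,[(1,false),(0,false),(0,false)]⟩] [0,11,0,1],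
    .child 0 409,
    .rep 464 [21,201,11,173,55] [⟨14,[(0,false),(2,false)]⟩,⟨23,[(3,false),(2,true),(1,false)]⟩,⟨6,[(2,false),(1,true)]⟩] [0,24,0,1],
    .child 0 464,
    .rep 193 [21,201,193,173,55] [⟨14,[(1,false),(2,false),(1,true),(1,true),(0,false)]⟩,⟨20,[(4,false),(1,true)]⟩,⟨6,[(1,true),(3,true)]⟩] [0,11,0,1],
    .child 0 193,
    .rep 27 [21,197,193,129,31] [⟨12,[(0,false),(2,false),(2,false)]⟩,⟨18,[(0,false),(3,false)]⟩,⟨6,[(3,false),(2,true),(0,false)]⟩] [0,11,0,1],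
    .rep 25 [201,15,129,31] [⟨7,[(1,false),(2,false),(1,false),(0,false)]⟩,⟨12,[(0,false),(2,true)]⟩,⟨6,[(0,true),(4,false)]⟩] [0,24,0,1],
    .child 0 25,
    .rep 33 [21,17,15,133,27] [⟨7,[(1,true),(0,false),(1,false),(1,false)]⟩,⟨12,[(0,false),(1,false),(3,false),(2,false)]⟩,⟨6,[(4,true),(0,false)]⟩] [0,11,0,1],
    .child 0 33,
    .rep 593 [21,19,195,173,75] [⟨9,[(2,true),(2,true)]⟩,⟨13,[(1,true),(0,false),(2,false)]⟩,⟨6,[(4,false),(3,true)]⟩] [0,24,0,1],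
    .rep 408 [21,19,195,149,77] [⟨7,[(1,true),(3,false),(0,false)]⟩,⟨14,[(1,false),(1,false),(0,false)]⟩,⟨6,[(1,true),(4,false),(0,true)]⟩] [0,24,0,1],
    .child 0 408]]

/-- part 8 of `cov2_5` -/
def cov2_5P8 : List (List Cov) := [
  [.rep 4 [] [⟨12,[(1,false),(2,false)]⟩,⟨8,[(3,false),(1,true)]⟩,⟨9,[(0,false)]⟩] [0,15,4,1],
    .child 0 4,
    .child 0 193,
    .child 1 193,
    .child 0 58,
    .rep 410 [21,19,11,149,77] [⟨14,[(1,false),(1,false),(2,false),(2,false)]⟩,⟨20,[(3,false),(2,false)]⟩,⟨9,[(4,true),(0,false)]⟩] [0,2,4,1],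
    .child 0 410,
    .child 1 410,
    .child 0 137,
    .child 1 137,
    .child 0 67,
    .child 0 26,
    .child 1 26,
    .child 0 204,
    .child 1 204,
    .rep 212 [21,19,15,129,31] [⟨11,[(1,true),(2,false),(0,false)]⟩,⟨22,[]⟩,⟨9,[(4,false),(0,false)]⟩] [0,18,2,0],
    .rep 195 [197,193,153,77] [⟨9,[(1,true),(0,false)]⟩,⟨12,[(1,true),(2,false)]⟩,⟨9,[]⟩] [0,18,2,1],
    .child 0 195,
    .child 0 206,
    .child 0 190,
    .child 1 190,
    .rep 194 [199,11,149,77] [⟨14,[(0,false),(3,false),(0,false),(1,true)]⟩,⟨21,[(0,true),(1,false),(0,false)]⟩,⟨9,[(1,true),(0,false)]⟩] [0,13,3,0],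
    .child 0 194,
    .child 1 194,
    .child 0 101,
    .child 1 101,
    .child 0 38,
    .child 0 454,
    .child 1 454,
    .child 0 25,
    .child 1 25,
    .rep 15 [197,193,173,55] [⟨15,[(1,true),(3,false)]⟩,⟨4,[(0,false),(0,false),(2,false),(0,false)]⟩,⟨9,[(4,true),(1,false)]⟩] [0,2,4,0],
    .child 0 15,
    .child 0 40,
    .child 1 40,
    .child 0 78,
    .rep 39 [21,201,11,153,77] [⟨15,[(1,true),(0,false),(1,false),(0,false)]⟩,⟨1,[(0,true),(0,true),(2,true)]⟩,⟨9,[(2,false),(1,false),(0,false)]⟩] [0,13,3,1],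
    .child 0 39,
    .child 1 39,
    .child 0 593,
    .child 0 122,
    .rep 59 [21,19,149,77] [⟨4,[(0,false),(2,true)]⟩,⟨12,[(5,true),(1,true),(0,true)]⟩,⟨9,[(0,false)]⟩] [0,18,2,1],
    .child 0 59,
    .child 1 59,
    .child 0 33,
    .child 0 30,
    .rep 391 [201,193,149,77] [⟨6,[(1,false),(1,false),(0,false)]⟩,⟨13,[(2,false),(2,false),(0,false)]⟩,⟨9,[(1,true),(0,false)]⟩] [0,22,4,1],
    .rep 65 [201,11,149,77] [⟨5,[(1,true),(2,false),(2,false),(0,false)]⟩,⟨12,[(0,false),(0,false)]⟩,⟨9,[(2,true),(1,false),(0,false)]⟩] [0,13,3,0],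
    .rep 192 [21,197,133,61] [⟨1,[]⟩,⟨10,[(1,true),(3,false),(1,false)]⟩,⟨9,[(1,true)]⟩] [0,22,4,0],
    .rep 31 [21,11,149,77] [⟨10,[(0,false)]⟩,⟨14,[(1,false),(0,true)]⟩,⟨9,[(4,false)]⟩] [0,22,4,0]]]

/-- part 9 of `cov2_5` -/
def cov2_5P9 : List (List Cov) := [
  [.rep 4 [] [⟨12,[(2,false),(0,false),(1,true),(0,false)]⟩,⟨7,[]⟩,⟨7,[(5,false)]⟩] [0,20,3,1],
    .child 0 4,
    .child 1 4,
    .child 0 454,
    .child 1 454,
    .child 0 66,
    .child 0 285,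
    .child 1 285,
    .child 0 392,
    .child 1 392,
    .rep 410 [21,19,11,149,77] [⟨5,[(0,false)]⟩,⟨7,[(5,false),(0,true),(0,true)]⟩,⟨7,[(2,true),(0,false),(2,false)]⟩] [0,0,0,1],
    .rep 212 [21,19,15,129,31] [⟨12,[(2,true),(1,false),(2,true)]⟩,⟨7,[(2,true)]⟩,⟨7,[(2,true),(5,true),(2,true)]⟩] [0,11,3,0],
    .child 0 212,
    .child 1 212,
    .child 0 399,
    .child 1 399,
    .child 0 24,
    .child 0 206,
    .child 1 206,
    .child 0 59,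
    .child 1 59,
    .rep 195 [197,193,153,77] [⟨8,[(2,false),(1,false),(0,false)]⟩,⟨9,[(0,true),(1,true),(0,false),(0,false)]⟩,⟨7,[(5,true),(2,false),(0,false)]⟩] [0,13,2,0],
    .child 0 195,
    .child 1 195,
    .child 0 37,
    .child 0 193,
    .rep 26 [201,149,77] [⟨10,[(0,false),(1,false),(1,false)]⟩,⟨15,[(0,false)]⟩,⟨7,[(4,true),(1,true),(0,true)]⟩] [0,11,3,1],
    .rep 137 [19,11,149,77] [⟨7,[(2,false),(1,false),(2,false),(1,false)]⟩,⟨8,[]⟩,⟨7,[(0,true),(3,false)]⟩] [0,19,2,0],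
    .child 0 137,
    .child 1 137,
    .child 0 191,
    .child 0 411,
    .rep 15 [197,193,173,55] [⟨13,[(1,false),(0,false)]⟩,⟨11,[(4,false),(0,false)]⟩,⟨7,[(3,false),(1,false),(0,true)]⟩] [0,19,2,0],
    .child 0 15,
    .child 0 409,
    .child 0 592,
    .child 1 592,
    .rep 284 [19,15,129,31] [⟨7,[(2,false),(2,false),(1,true)]⟩,⟨4,[(2,false),(2,false)]⟩,⟨7,[(2,false),(0,false),(1,false)]⟩] [0,11,3,1],
    .child 0 284,
    .child 0 391,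
    .child 0 58,
    .child 1 58,
    .rep 78 [21,19,195,185,77] [⟨15,[(1,false),(2,false),(2,false),(1,false)]⟩,⟨0,[(1,false),(2,false)]⟩,⟨7,[(5,false),(1,false)]⟩] [0,20,3,0],
    .child 0 78,
    .child 1 78,
    .child 0 204,
    .child 0 6,
    .rep 27 [21,197,193,129,31] [⟨11,[(0,false),(1,false)]⟩,⟨11,[(1,true)]⟩,⟨7,[(0,false)]⟩] [0,11,3,0],
    .rep 33 [21,17,15,133,27] [⟨6,[(2,true),(2,true),(1,false),(0,false)]⟩,⟨8,[(1,false),(2,false),(1,false),(0,false)]⟩,⟨7,[(5,false),(1,false),(0,true)]⟩] [0,0,0,0],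
    .rep 593 [21,19,195,173,75] [⟨0,[]⟩,⟨8,[(1,false),(0,false),(4,false)]⟩,⟨7,[(2,false)]⟩] [0,11,3,0]]]

/-- part 10 of `cov2_5` -/
def cov2_5P10 : List (List Cov) := [
  [.rep 4 [] [⟨10,[(0,false),(1,true),(1,true)]⟩,⟨3,[(2,false),(1,false),(0,false)]⟩,⟨10,[(1,true),(4,false),(2,false),(0,false)]⟩] [0,12,2,1],
    .child 0 4,
    .child 1 4,
    .child 0 33,
    .child 1 33,
    .rep 410 [21,19,11,149,77] [⟨7,[(2,false),(1,false),(2,false),(1,true)]⟩,⟨5,[(2,false),(1,true)]⟩,⟨10,[(1,true),(4,false),(0,false)]⟩] [0,9,2,0],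
    .child 0 410,
    .child 1 410,
    .child 0 16,
    .child 1 16,
    .child 0 411,
    .child 0 391,
    .child 1 391,
    .child 0 284,
    .child 1 284,
    .rep 212 [21,19,15,129,31] [⟨14,[(1,true),(2,true)]⟩,⟨3,[(0,true),(2,false)]⟩,⟨10,[(1,false),(5,false),(0,false)]⟩] [0,21,3,1],
    .child 0 212,
    .child 1 212,
    .child 0 285,
    .child 0 26,
    .rep 195 [197,193,153,77] [⟨5,[(2,false),(2,false),(0,false)]⟩,⟨8,[(1,false),(1,false)]⟩,⟨10,[(3,true),(1,false),(0,true),(0,true)]⟩] [0,21,3,1],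
    .child 0 195,
    .child 1 195,
    .child 0 25,
    .child 0 15,
    .rep 137 [19,11,149,77] [⟨7,[(2,false),(1,true),(2,true)]⟩,⟨5,[(3,false),(2,false)]⟩,⟨10,[(3,true),(1,false),(1,false),(0,false)]⟩] [0,21,3,1],
    .child 0 137,
    .child 1 137,
    .child 0 399,
    .child 1 399,
    .child 0 593,
    .child 0 592,
    .child 1 592,
    .child 0 39,
    .child 1 39,
    .rep 67 [21,19,129,31] [⟨12,[(1,false),(2,false)]⟩,⟨0,[]⟩,⟨10,[(0,true),(0,true),(1,false)]⟩] [0,11,3,1],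
    .child 0 67,
    .child 1 67,
    .child 0 30,
    .child 0 101,
    .rep 191 [199,15,129,31] [⟨4,[(1,true),(0,false),(2,false)]⟩,⟨6,[(0,true)]⟩,⟨10,[(4,true),(0,false),(0,false)]⟩] [0,12,2,1],
    .rep 78 [21,19,195,185,77] [⟨12,[(1,true),(3,false),(2,false),(2,false)]⟩,⟨3,[(4,false),(1,false),(0,false)]⟩,⟨10,[(3,false),(1,true),(0,true)]⟩] [0,17,2,0],
    .child 0 78,
    .child 1 78,
    .child 0 38,
    .child 0 392,
    .rep 190 [201,195,149,77] [⟨0,[]⟩,⟨9,[(0,true),(1,false),(0,false)]⟩,⟨10,[(5,true),(4,false),(0,false)]⟩] [0,21,3,1],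
    .rep 66 [21,201,153,55] [⟨9,[(1,true),(1,true),(0,false)]⟩,⟨5,[(0,false),(1,true),(1,true)]⟩,⟨10,[(4,true),(0,true),(2,false)]⟩] [0,10,2,0],
    .rep 205 [17,195,191,61] [⟨8,[(0,false)]⟩,⟨1,[(0,false)]⟩,⟨10,[(0,true),(5,true),(1,true)]⟩] [0,10,2,0],
    .rep 408 [21,19,195,149,77] [⟨13,[(0,false),(2,false),(2,false)]⟩,⟨1,[(1,false),(0,false)]⟩,⟨10,[(3,true),(2,false),(1,false)]⟩] [0,9,2,0]]]

/-- part 11 of `cov2_5` -/
def cov2_5P11 : List (List Cov) := [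
  [.rep 4 [] [⟨15,[(2,false),(1,true),(1,true)]⟩,⟨3,[(0,true),(2,false),(0,false),(0,false)]⟩,⟨6,[(2,true),(1,false)]⟩] [0,11,1,1],
    .child 0 4,
    .child 1 4,
    .child 1 24,
    .child 0 60,
    .child 1 60,
    .child 0 15,
    .child 1 15,
    .child 0 192,
    .child 1 192,
    .rep 410 [21,19,11,149,77] [⟨1,[]⟩,⟨9,[(1,true),(1,true)]⟩,⟨6,[(1,false),(0,false)]⟩] [0,19,0,0],
    .rep 212 [21,19,15,129,31] [⟨15,[(1,true),(2,true),(2,true)]⟩,⟨3,[(2,true),(2,true),(0,false)]⟩,⟨6,[(0,false),(1,false),(0,false)]⟩] [0,7,4,0],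
    .child 0 212,
    .child 1 212,
    .child 1 66,
    .child 0 32,
    .child 1 32,
    .child 0 38,
    .child 1 38,
    .child 0 101,
    .child 1 101,
    .rep 195 [197,193,153,77] [⟨7,[(1,false),(3,false),(2,false),(1,false)]⟩,⟨6,[]⟩,⟨6,[(2,true),(1,false),(0,false)]⟩] [0,4,1,0],
    .child 0 195,
    .child 1 193,
    .child 0 37,
    .child 1 37,
    .rep 194 [199,11,149,77] [⟨14,[(2,false),(0,false),(1,false),(0,false)]⟩,⟨13,[(2,false),(3,true),(1,false),(0,false)]⟩,⟨6,[(2,false),(1,false)]⟩] [0,21,3,0],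
    .child 0 194,
    .child 1 194,
    .child 0 205,
    .child 1 205,
    .rep 137 [19,11,149,77] [⟨4,[(1,true),(2,true),(0,false)]⟩,⟨8,[(4,true),(1,true),(0,false)]⟩,⟨6,[(1,true),(1,true),(0,false)]⟩] [0,19,0,0],
    .rep 206 [199,195,173,31] [⟨11,[(2,true),(0,false)]⟩,⟨13,[(4,true),(3,false),(0,false)]⟩,⟨6,[(2,true),(1,false)]⟩] [0,4,1,0],
    .child 0 206,
    .child 1 206,
    .child 1 392,
    .child 0 58,
    .rep 191 [199,15,129,31] [⟨14,[(1,false),(1,false),(3,false)]⟩,⟨5,[(0,false)]⟩,⟨6,[(1,false),(1,false),(0,false)]⟩] [0,4,1,0],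
    .child 1 191,
    .child 0 593,
    .child 1 593,
    .child 0 14,
    .rep 284 [19,15,129,31] [⟨6,[(2,false),(1,true),(0,false)]⟩,⟨7,[(1,true),(1,true),(2,false),(2,false)]⟩,⟨6,[]⟩] [0,21,3,0],
    .child 0 284,
    .child 1 284,
    .child 0 65,
    .child 1 65,
    .rep 285 [21,197,193,153,77] [⟨9,[(1,true),(0,false)]⟩,⟨2,[]⟩,⟨6,[(0,false),(1,true),(0,false)]⟩] [0,18,3,0],
    .rep 27 [21,197,193,129,31] [⟨8,[(0,false),(2,true),(1,false)]⟩,⟨7,[(5,false),(1,false),(0,true)]⟩,⟨6,[(2,true),(2,true),(1,false),(0,false)]⟩] [0,4,1,0],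
    .rep 122 [13,77] [⟨13,[(0,false),(2,false)]⟩,⟨9,[(1,true),(0,false)]⟩,⟨6,[(2,true),(0,false),(1,false)]⟩] [0,18,3,0]]]

/-- part 12 of `cov2_5` -/
def cov2_5P12 : List (List Cov) := [
  [.rep 4 [] [⟨10,[(3,false),(1,false)]⟩,⟨6,[(2,true),(2,true),(0,false)]⟩,⟨7,[(2,false),(2,false),(0,false),(1,true)]⟩] [0,4,0,0],
    .rep 410 [21,19,11,149,77] [⟨7,[(2,false),(1,false),(1,false),(0,false)]⟩,⟨7,[(0,false),(2,false),(1,true)]⟩,⟨7,[(1,true),(2,false),(1,true),(2,false),(0,false)]⟩] [0,4,1,1],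
    .child 0 410,
    .rep 212 [21,19,15,129,31] [⟨15,[(0,false),(2,true)]⟩,⟨3,[(1,false),(0,true),(2,true)]⟩,⟨7,[(1,true),(2,false),(2,false),(1,true),(0,false)]⟩] [0,4,1,1],
    .child 0 212,
    .rep 195 [197,193,153,77] [⟨5,[(1,false)]⟩,⟨10,[(1,false),(4,true),(0,false)]⟩,⟨7,[(3,false)]⟩] [0,4,0,0],
    .child 0 195,
    .rep 26 [201,149,77] [⟨14,[(1,true),(0,false),(1,true),(1,true)]⟩,⟨13,[(4,true),(0,true)]⟩,⟨7,[(2,true),(1,true),(0,false)]⟩] [0,4,0,0],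
    .child 0 26,
    .rep 137 [19,11,149,77] [⟨14,[(3,false),(0,false),(1,false)]⟩,⟨13,[(4,false),(3,false),(0,false)]⟩,⟨7,[(3,false),(1,true),(2,false),(0,false)]⟩] [0,4,1,1],
    .child 0 137,
    .rep 15 [197,193,173,55] [⟨14,[(2,true),(1,false),(0,false)]⟩,⟨6,[(1,true),(4,false),(0,true)]⟩,⟨7,[(0,false),(1,false),(3,false)]⟩] [0,4,0,0],
    .child 0 15,
    .rep 206 [199,195,173,31] [⟨12,[(1,false),(1,false),(2,false),(1,true),(0,false)]⟩,⟨13,[(4,true),(1,false),(0,true)]⟩,⟨7,[(2,false),(2,false),(1,true),(0,false)]⟩] [0,4,0,0],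
    .child 0 206,
    .rep 191 [199,15,129,31] [⟨12,[(1,true),(2,false),(1,true),(1,true),(0,false)]⟩,⟨6,[(0,false)]⟩,⟨7,[(2,false),(1,true),(0,false)]⟩] [0,4,0,0],
    .child 0 191,
    .rep 284 [19,15,129,31] [⟨5,[(2,true),(1,true)]⟩,⟨10,[(3,true),(1,false),(1,false),(0,false)]⟩,⟨7,[(0,false),(1,true),(0,false),(1,false)]⟩] [0,4,1,1],
    .child 0 284,
    .rep 411 [19,133,61] [⟨15,[(1,true),(2,false),(0,false),(1,true)]⟩,⟨3,[(1,false),(1,false),(1,false),(0,true)]⟩,⟨7,[(2,false),(2,false),(1,false),(0,false)]⟩] [0,4,0,0],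
    .child 0 411,
    .rep 39 [21,201,11,153,77] [⟨7,[(3,false),(1,true),(0,false)]⟩,⟨9,[(2,true),(1,false)]⟩,⟨7,[(1,false),(3,false),(2,false)]⟩] [0,4,0,0],
    .child 0 39,
    .rep 101 [21,201,193,153,77] [⟨15,[(0,false),(2,true),(1,false),(2,true)]⟩,⟨3,[(0,false),(1,true),(1,true),(1,true)]⟩,⟨7,[(1,true),(2,true),(0,false)]⟩] [0,4,0,0],
    .child 0 101,
    .rep 285 [21,197,193,153,77] [⟨7,[(0,false),(1,false),(2,true)]⟩,⟨7,[(0,false),(1,false),(1,false)]⟩,⟨7,[(0,false),(2,true),(2,true)]⟩] [0,4,1,1],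
    .child 0 285,
    .rep 190 [201,195,149,77] [⟨9,[(1,false),(1,false)]⟩,⟨7,[(2,false),(2,false),(1,false)]⟩,⟨7,[(2,false),(0,false)]⟩] [0,4,1,1],
    .child 0 190,
    .rep 59 [21,19,149,77] [⟨9,[(2,true)]⟩,⟨7,[(2,false),(1,false),(1,false),(3,false)]⟩,⟨7,[(3,false),(2,false),(1,true),(0,false)]⟩] [0,4,0,0],
    .child 0 59,
    .rep 40 [201,193,13,77] [⟨4,[(2,false)]⟩,⟨8,[(4,false),(0,false)]⟩,⟨7,[(3,false),(1,true)]⟩] [0,4,0,0],
    .rep 391 [201,193,149,77] [⟨12,[(0,false),(1,false)]⟩,⟨6,[(0,true),(4,false)]⟩,⟨7,[(0,false),(2,true),(1,false),(2,true)]⟩] [0,4,0,0],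
    .child 0 391,
    .rep 204 [17,15,183,65] [⟨8,[(2,true),(1,true)]⟩,⟨7,[(0,true),(3,false)]⟩,⟨7,[(1,true),(1,true),(2,false),(2,false)]⟩] [0,4,0,0],
    .rep 60 [21,197,11,149,77] [⟨6,[(3,false),(1,false)]⟩,⟨6,[(1,true),(0,false)]⟩,⟨7,[(3,false),(1,true)]⟩] [0,4,1,1],
    .rep 66 [21,201,153,55] [⟨12,[(1,false),(2,true),(1,false),(0,false)]⟩,⟨13,[(1,false),(3,false),(0,false)]⟩,⟨7,[(1,true),(1,true),(2,true),(0,false)]⟩] [0,4,0,0],
    .child 0 66,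
    .rep 464 [21,201,11,173,55] [⟨7,[(0,false),(1,false),(1,false),(3,false)]⟩,⟨9,[(2,true),(2,true),(1,false)]⟩,⟨7,[(2,true),(0,false),(1,true),(1,true),(0,false)]⟩] [0,4,0,0],
    .child 0 464,
    .rep 399 [17,11,151,69] [⟨10,[(2,false),(2,false),(1,true)]⟩,⟨13,[(1,true),(4,false),(0,false)]⟩,⟨7,[(0,false),(2,true),(2,true)]⟩] [0,4,0,0],
    .rep 30 [201,195,173,31] [⟨4,[(2,false),(1,true),(1,true)]⟩,⟨7,[(2,true),(1,true),(0,false)]⟩,⟨7,[(3,false),(2,false),(2,false)]⟩] [0,4,1,1],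
    .rep 58 [197,195,189,95] [⟨14,[(2,true),(2,true),(1,true),(1,true),(0,false)]⟩,⟨6,[(3,true),(1,true),(0,true)]⟩,⟨7,[(1,true),(1,true),(0,false),(2,false)]⟩] [0,4,0,0],
    .child 0 58,
    .rep 32 [19,129,31] [⟨12,[(1,false),(3,false),(2,false),(1,false),(0,false)]⟩,⟨4,[(0,false)]⟩,⟨7,[(1,false)]⟩] [0,4,1,1],
    .rep 205 [17,195,191,61] [⟨14,[(2,false),(0,false),(1,false)]⟩,⟨4,[(4,false),(1,false),(0,false)]⟩,⟨7,[(0,false),(1,false),(2,true),(0,false)]⟩] [0,4,1,1],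
    .rep 192 [21,197,133,61] [⟨15,[(0,false),(2,true),(2,true),(1,true)]⟩,⟨3,[(2,false),(0,false),(1,true)]⟩,⟨7,[(1,false),(2,false),(1,false),(0,false)]⟩] [0,4,1,1],
    .child 0 192,
    .rep 122 [13,77] [⟨15,[(0,false),(1,false),(1,false)]⟩,⟨3,[(1,false),(1,false),(1,false),(2,false),(0,false)]⟩,⟨7,[(2,false),(0,false),(1,false)]⟩] [0,4,0,0],
    .rep 592 [21,193,159,63] [⟨7,[(2,true),(2,true),(0,false)]⟩,⟨7,[(1,false),(2,true),(0,false)]⟩,⟨7,[(1,false),(2,true),(0,false)]⟩] [0,4,0,0]]]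

/-- part 13 of `cov2_5` -/
def cov2_5P13 : List (List Cov) := [
  [.rep 4 [] [⟨4,[(2,false),(0,false)]⟩,⟨9,[(5,true),(3,false),(0,false)]⟩,⟨8,[(0,false),(4,false),(1,false)]⟩] [0,21,1,1],
    .child 0 4,
    .child 0 195,
    .child 0 6,
    .child 1 6,
    .rep 410 [21,19,11,149,77] [⟨7,[(1,true),(2,false),(2,false)]⟩,⟨4,[(1,false),(2,false),(2,false)]⟩,⟨8,[(4,false),(0,false)]⟩] [0,23,3,1],
    .child 0 410,
    .child 1 410,
    .child 0 206,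
    .child 1 206,
    .rep 212 [21,19,15,129,31] [⟨15,[(2,true),(0,false),(1,false),(0,false)]⟩,⟨0,[(2,true)]⟩,⟨8,[(4,false),(3,false),(1,false)]⟩] [0,3,4,1],
    .child 0 212,
    .child 1 212,
    .child 0 464,
    .child 1 464,
    .child 0 192,
    .child 0 391,
    .child 1 391,
    .child 0 60,
    .child 1 60,
    .rep 26 [201,149,77] [⟨9,[(1,false),(0,false)]⟩,⟨8,[(2,false),(1,true),(0,false)]⟩,⟨8,[(2,true),(5,true),(1,false),(0,false)]⟩] [0,21,1,1],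
    .child 0 26,
    .child 1 26,
    .child 0 67,
    .child 1 67,
    .rep 194 [199,11,149,77] [⟨14,[(2,false),(1,false),(2,false)]⟩,⟨7,[(2,false)]⟩,⟨8,[(0,false),(5,true),(0,false)]⟩] [0,23,0,1],
    .child 0 194,
    .child 0 33,
    .child 0 191,
    .child 1 191,
    .rep 137 [19,11,149,77] [⟨15,[(2,true)]⟩,⟨0,[(0,true),(1,true),(2,true),(0,false)]⟩,⟨8,[(4,true),(0,false),(0,false)]⟩] [0,3,2,0],
    .child 0 137,
    .child 1 137,
    .child 0 592,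
    .child 1 592,
    .child 0 15,
    .child 0 78,
    .child 1 78,
    .child 0 399,
    .child 1 399,
    .rep 411 [19,133,61] [⟨14,[(2,false),(2,false),(1,false)]⟩,⟨11,[(2,false),(1,false)]⟩,⟨8,[(3,false),(4,false),(0,false)]⟩] [0,21,0,0],
    .child 0 411,
    .child 0 58,
    .child 0 30,
    .child 1 30,
    .rep 39 [21,201,11,153,77] [⟨11,[(2,true),(0,false)]⟩,⟨12,[(0,false)]⟩,⟨8,[(1,false),(2,false),(0,false)]⟩] [0,21,0,0],
    .rep 101 [21,201,193,153,77] [⟨5,[(1,false),(0,false)]⟩,⟨4,[(0,false)]⟩,⟨8,[(5,true),(0,false)]⟩] [0,3,2,0],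
    .rep 38 [21,199,11,149,77] [⟨10,[(2,true),(2,true),(0,false)]⟩,⟨2,[]⟩,⟨8,[(3,false),(0,false)]⟩] [0,1,2,0],
    .rep 37 [199,15,149,77] [⟨3,[]⟩,⟨8,[(1,true),(2,true)]⟩,⟨8,[(2,true),(4,true),(0,false)]⟩] [0,15,4,0],
    .rep 454 [197,11,177,115] [⟨6,[(2,true),(2,true),(0,false)]⟩,⟨4,[(2,true),(2,true),(0,false)]⟩,⟨8,[(4,true),(1,true),(0,false)]⟩] [0,23,0,1]]]

/-- part 14 of `cov2_5` -/
def cov2_5P14 : List (List Cov) := [
  [.rep 4 [] [⟨7,[(1,false),(1,false),(2,true),(1,true),(0,false)]⟩,⟨15,[(3,false),(1,true),(0,false),(1,false)]⟩,⟨3,[(2,false),(2,false),(1,true),(0,true)]⟩] [0,24,3,1],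
    .child 0 4,
    .rep 410 [21,19,11,149,77] [⟨6,[]⟩,⟨15,[(2,false),(2,false),(1,false)]⟩,⟨3,[(0,true),(0,true),(2,true),(0,false)]⟩] [0,15,1,1],
    .child 0 410,
    .rep 212 [21,19,15,129,31] [⟨15,[(0,false),(1,false),(3,false),(1,true)]⟩,⟨5,[(0,true),(2,true),(0,false)]⟩,⟨3,[(1,true),(1,true),(2,false),(1,false)]⟩] [0,24,3,1],
    .child 0 212,
    .rep 195 [197,193,153,77] [⟨12,[(1,true),(0,false),(3,false)]⟩,⟨28,[(4,true),(3,false),(0,true)]⟩,⟨3,[(2,false),(1,false),(2,false),(0,true)]⟩] [0,15,1,1],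
    .child 0 195,
    .rep 26 [201,149,77] [⟨7,[(2,true),(2,true),(0,false),(1,false)]⟩,⟨15,[(2,true),(0,false),(1,false),(1,false)]⟩,⟨3,[(0,true),(1,false),(1,false),(1,false)]⟩] [0,15,1,1],
    .child 0 26,
    .rep 194 [199,11,149,77] [⟨13,[(2,true),(2,true)]⟩,⟨28,[(1,false),(1,false),(1,false)]⟩,⟨3,[(0,false),(0,false),(2,false),(0,false)]⟩] [0,15,1,1],
    .rep 15 [197,193,173,55] [⟨14,[(2,false),(2,false),(0,false),(1,true)]⟩,⟨26,[(1,false),(1,false)]⟩,⟨3,[(0,false),(2,false),(0,true)]⟩] [0,15,1,1],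
    .child 0 15,
    .rep 206 [199,195,173,31] [⟨7,[(2,true),(0,false)]⟩,⟨15,[(2,false),(2,false),(1,true),(1,true),(0,false)]⟩,⟨3,[(2,false),(0,false),(1,true)]⟩] [0,24,3,1],
    .child 0 206,
    .rep 67 [21,19,129,31] [⟨15,[(1,true),(1,true),(0,false),(2,false)]⟩,⟨5,[(0,true),(1,true),(1,true),(0,false)]⟩,⟨3,[(1,true),(2,true)]⟩] [0,24,3,1],
    .rep 191 [199,15,129,31] [⟨11,[(2,false)]⟩,⟨28,[(4,true),(1,false),(0,false)]⟩,⟨3,[(1,true),(0,false),(2,false),(1,true)]⟩] [0,15,1,1],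
    .rep 284 [19,15,129,31] [⟨7,[(2,true),(1,false),(2,true),(0,false)]⟩,⟨15,[(1,false),(1,false),(0,false)]⟩,⟨3,[(2,true),(2,true),(1,false),(0,false)]⟩] [0,15,1,1],
    .child 0 284,
    .rep 411 [19,133,61] [⟨15,[(1,true),(1,true),(3,false),(0,false)]⟩,⟨6,[(2,true),(1,false),(0,false)]⟩,⟨3,[(0,true),(2,true),(1,true),(2,true)]⟩] [0,15,1,1],
    .child 0 411,
    .rep 101 [21,201,193,153,77] [⟨7,[(1,false),(1,false),(0,false)]⟩,⟨15,[(1,true),(3,false),(0,false)]⟩,⟨3,[(1,false),(1,false),(1,false),(2,false),(0,false)]⟩] [0,24,3,1],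
    .rep 78 [21,19,195,185,77] [⟨14,[(2,false),(1,false),(2,false),(1,false),(0,false)]⟩,⟨28,[(0,false),(3,false)]⟩,⟨3,[(2,false),(0,false),(0,false),(0,false)]⟩] [0,15,1,1],
    .rep 190 [201,195,149,77] [⟨12,[(1,false),(1,false),(2,false),(2,false),(0,false)]⟩,⟨27,[(3,false),(1,false)]⟩,⟨3,[]⟩] [0,15,1,1],
    .child 0 190,
    .rep 59 [21,19,149,77] [⟨15,[(0,false),(3,false)]⟩,⟨6,[(0,false),(0,false),(2,true),(0,false)]⟩,⟨3,[(0,false),(0,false),(2,true),(0,false)]⟩] [0,24,3,1],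
    .child 0 59,
    .rep 392 [21,201,149,77] [⟨14,[(1,false),(2,false),(0,false)]⟩,⟨28,[(1,false),(4,false),(0,true)]⟩,⟨3,[(0,false),(1,true),(0,true),(0,true)]⟩] [0,24,3,1],
    .child 0 392,
    .rep 391 [201,193,149,77] [⟨8,[(1,false)]⟩,⟨15,[(3,false),(2,false)]⟩,⟨3,[(2,true),(1,true),(2,true)]⟩] [0,24,3,1],
    .child 0 391,
    .rep 38 [21,199,11,149,77] [⟨8,[(2,true),(1,true),(2,true)]⟩,⟨15,[(1,false),(2,false),(1,false)]⟩,⟨3,[(0,false),(1,true),(0,true)]⟩] [0,15,1,1],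
    .child 0 38,
    .rep 204 [17,15,183,65] [⟨14,[(0,false),(1,false),(2,true)]⟩,⟨26,[(4,false),(0,true),(0,true)]⟩,⟨3,[(0,true),(1,false),(1,false),(0,true)]⟩] [0,15,1,1],
    .child 0 204,
    .rep 37 [199,15,149,77] [⟨14,[(2,false),(1,true),(2,true),(0,false)]⟩,⟨28,[(3,true),(1,true),(0,false)]⟩,⟨3,[(2,false),(0,true),(1,false)]⟩] [0,24,3,1],
    .child 0 37,
    .rep 66 [21,201,153,55] [⟨12,[(3,false),(2,true),(0,false),(1,false)]⟩,⟨28,[(2,true),(0,false)]⟩,⟨3,[(2,true),(1,true),(2,true),(0,false)]⟩] [0,24,3,1],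
    .child 0 66,
    .rep 193 [21,201,193,173,55] [⟨15,[(1,true),(2,false),(2,false),(0,false)]⟩,⟨5,[(0,true),(1,false),(1,false),(0,true)]⟩,⟨3,[(1,false),(1,false),(2,true),(1,false)]⟩] [0,15,1,1],
    .child 0 193,
    .rep 399 [17,11,151,69] [⟨13,[(2,true),(1,true),(2,true)]⟩,⟨26,[(2,true),(1,true),(0,false)]⟩,⟨3,[(2,false),(0,false),(0,false)]⟩] [0,24,3,1],
    .rep 30 [201,195,173,31] [⟨4,[(2,true),(2,true),(1,false)]⟩,⟨15,[(5,false),(0,true),(0,true)]⟩,⟨3,[(1,true),(2,false),(1,false),(2,false)]⟩] [0,24,3,1],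
    .rep 32 [19,129,31] [⟨12,[(2,false),(0,false),(1,false)]⟩,⟨28,[(0,true),(2,false),(1,true)]⟩,⟨3,[(1,false),(2,true),(0,true),(1,false)]⟩] [0,24,3,1],
    .rep 205 [17,195,191,61] [⟨6,[(1,true),(1,true)]⟩,⟨15,[(1,true),(3,false),(2,false),(1,true)]⟩,⟨3,[(0,true),(2,false),(0,false),(0,false)]⟩] [0,15,1,1],
    .child 0 205,
    .rep 192 [21,197,133,61] [⟨12,[(0,false),(2,true),(1,false)]⟩,⟨27,[(2,true),(1,true)]⟩,⟨3,[(1,false),(1,false)]⟩] [0,15,1,1],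
    .child 0 192,
    .rep 122 [13,77] [⟨10,[(2,false),(1,false)]⟩,⟨28,[(4,true),(3,false),(0,false)]⟩,⟨3,[(0,true),(2,true),(1,true),(0,false),(0,false)]⟩] [0,24,3,1],
    .rep 592 [21,193,159,63] [⟨11,[(2,true)]⟩,⟨27,[(3,true),(1,false)]⟩,⟨3,[(0,false),(1,true),(1,true),(0,false)]⟩] [0,24,3,1]]]

/-- part 15 of `cov2_5` -/
def cov2_5P15 : List (List Cov) := [
  [.rep 4 [] [⟨7,[(1,false),(2,false),(2,false),(1,false),(0,false)]⟩,⟨12,[(1,false),(1,false),(2,false),(2,false),(0,false)]⟩,⟨13,[(4,true),(1,false),(0,true)]⟩] [0,17,4,0],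
    .child 0 4,
    .rep 410 [21,19,11,149,77] [⟨12,[(1,true),(1,true),(0,false)]⟩,⟨16,[(0,false)]⟩,⟨13,[(0,false),(3,false)]⟩] [0,6,1,0],
    .rep 212 [21,19,15,129,31] [⟨14,[(1,true),(1,true),(2,false),(0,false)]⟩,⟨18,[(4,false),(0,true)]⟩,⟨13,[(4,true),(0,false)]⟩] [0,6,1,0],
    .child 0 212,
    .rep 195 [197,193,153,77] [⟨8,[(2,false),(1,false)]⟩,⟨12,[(5,true),(4,false),(0,false)]⟩,⟨13,[(4,false),(2,true),(1,false)]⟩] [0,17,4,0],
    .rep 26 [201,149,77] [⟨15,[(2,true),(1,true),(0,false)]⟩,⟨4,[(0,false),(1,true),(0,true),(0,true)]⟩,⟨13,[(4,true),(1,false),(0,false)]⟩] [0,6,1,0],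
    .child 0 26,
    .rep 194 [199,11,149,77] [⟨7,[(2,true),(1,false),(2,true),(0,false)]⟩,⟨14,[(1,true),(1,true),(0,false)]⟩,⟨13,[(4,false),(2,true),(0,false)]⟩] [0,17,4,0],
    .child 0 194,
    .rep 137 [19,11,149,77] [⟨14,[(0,false),(2,true),(2,true),(1,false)]⟩,⟨8,[(4,false)]⟩,⟨13,[(4,true),(1,false)]⟩] [0,6,1,0],
    .child 0 137,
    .rep 15 [197,193,173,55] [⟨11,[(1,false),(2,true)]⟩,⟨20,[(1,false),(3,false)]⟩,⟨13,[(3,true),(1,false)]⟩] [0,17,4,0],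
    .child 0 15,
    .rep 206 [199,195,173,31] [⟨12,[(1,false),(2,true),(2,true),(1,false),(0,false)]⟩,⟨23,[(2,false),(2,false)]⟩,⟨13,[(2,false),(4,true)]⟩] [0,17,4,0],
    .child 0 206,
    .rep 67 [21,19,129,31] [⟨14,[(2,true),(0,false),(1,false),(1,false)]⟩,⟨22,[]⟩,⟨13,[(2,false),(4,true)]⟩] [0,17,4,0],
    .rep 191 [199,15,129,31] [⟨8,[(2,false),(1,false),(1,false)]⟩,⟨11,[(0,true),(5,false),(0,true)]⟩,⟨13,[(2,true)]⟩] [0,17,4,0],
    .rep 284 [19,15,129,31] [⟨12,[(0,false),(1,false),(2,true)]⟩,⟨24,[]⟩,⟨13,[(4,false),(0,false),(0,false)]⟩] [0,6,1,0],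
    .child 0 284,
    .rep 411 [19,133,61] [⟨14,[(1,false),(3,false),(1,true),(0,false)]⟩,⟨8,[(2,false)]⟩,⟨13,[(2,true),(1,false)]⟩] [0,17,4,0],
    .child 0 411,
    .rep 101 [21,201,193,153,77] [⟨15,[(1,false),(1,false),(2,true),(0,false)]⟩,⟨1,[(2,false),(2,false)]⟩,⟨13,[(2,true),(4,true)]⟩] [0,6,1,0],
    .child 0 101,
    .rep 285 [21,197,193,153,77] [⟨13,[(2,false)]⟩,⟨21,[(4,true),(3,false),(0,false)]⟩,⟨13,[(4,false)]⟩] [0,17,4,0],
    .child 0 285,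
    .rep 78 [21,19,195,185,77] [⟨15,[(2,false),(0,false),(1,false)]⟩,⟨4,[(2,false),(0,false),(0,false),(0,false)]⟩,⟨13,[(3,true),(0,true)]⟩] [0,17,4,0],
    .rep 59 [21,19,149,77] [⟨11,[(3,false),(2,false),(1,false)]⟩,⟨21,[(3,false),(1,true)]⟩,⟨13,[(2,false),(4,false),(1,false)]⟩] [0,17,4,0],
    .child 0 59,
    .rep 392 [21,201,149,77] [⟨7,[(2,true),(1,false),(0,false)]⟩,⟨12,[(1,true),(0,false),(2,false)]⟩,⟨13,[(1,false),(3,false),(0,false)]⟩] [0,17,4,0],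
    .child 0 392,
    .rep 65 [201,11,149,77] [⟨7,[(1,false),(1,false),(2,true),(0,false)]⟩,⟨14,[(2,false),(2,false),(0,false),(1,true)]⟩,⟨13,[(4,true),(0,true)]⟩] [0,17,4,0],
    .child 0 65,
    .rep 38 [21,199,11,149,77] [⟨13,[(1,false),(2,false),(2,false)]⟩,⟨20,[(0,true)]⟩,⟨13,[(1,true),(1,true)]⟩] [0,6,1,0],
    .child 0 38,
    .rep 204 [17,15,183,65] [⟨12,[(1,false),(2,false),(2,false),(0,false)]⟩,⟨20,[(2,true),(1,false),(1,false)]⟩,⟨13,[]⟩] [0,6,1,0],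
    .child 0 204,
    .rep 60 [21,197,11,149,77] [⟨14,[(0,false),(2,true),(1,false)]⟩,⟨18,[(0,true),(2,false)]⟩,⟨13,[(0,true)]⟩] [0,6,1,0],
    .child 0 60,
    .rep 193 [21,201,193,173,55] [⟨15,[(0,false),(3,false),(0,false),(1,true),(0,false)]⟩,⟨4,[(1,true),(2,true),(0,false)]⟩,⟨13,[(2,true),(1,true),(0,true)]⟩] [0,6,1,0],
    .child 0 193,
    .rep 30 [201,195,173,31] [⟨15,[(2,true),(1,false),(2,true),(0,false)]⟩,⟨1,[(0,false),(2,true),(0,true)]⟩,⟨13,[(1,true),(1,true)]⟩] [0,17,4,0],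
    .child 0 30,
    .rep 27 [21,197,193,129,31] [⟨7,[(3,false),(1,false),(1,false),(2,true),(0,false)]⟩,⟨10,[(0,false),(1,true),(1,true),(0,false)]⟩,⟨13,[(1,true),(0,false),(3,true)]⟩] [0,6,1,0],
    .rep 25 [201,15,129,31] [⟨9,[(2,true),(2,true),(1,true)]⟩,⟨12,[(2,false),(1,true)]⟩,⟨13,[(1,true),(0,true)]⟩] [0,6,1,0],
    .rep 16 [199,193,133,61] [⟨6,[(1,true)]⟩,⟨14,[(2,false),(1,false)]⟩,⟨13,[(2,false),(3,true),(1,false),(0,false)]⟩] [0,6,1,0],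
    .rep 593 [21,19,195,173,75] [⟨6,[(2,false),(2,false),(1,true)]⟩,⟨11,[(2,false),(2,false),(0,false)]⟩,⟨13,[(2,true),(2,true),(0,false)]⟩] [0,6,1,0],
    .rep 6 [19,11,149,53] [⟨12,[(1,true),(0,false),(1,true)]⟩,⟨21,[(3,false),(1,false)]⟩,⟨13,[(1,false),(4,true)]⟩] [0,6,1,0],
    .child 0 6,
    .rep 408 [21,19,195,149,77] [⟨5,[(3,false),(1,true)]⟩,⟨13,[(1,false),(0,false),(2,false)]⟩,⟨13,[(4,false),(3,false),(0,false)]⟩] [0,17,4,0]]]

/-- certificate data -/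
def cov2_5 : List (List Cov) :=
  [cov2_5P0, cov2_5P1, cov2_5P2, cov2_5P3, cov2_5P4, cov2_5P5, cov2_5P6, cov2_5P7, cov2_5P8, cov2_5P9, cov2_5P10, cov2_5P11, cov2_5P12, cov2_5P13, cov2_5P14, cov2_5P15].flatten

/-- part 0 of `cov2_6` -/
def cov2_6P0 : List (List Cov) := [
  [.rep 4 [] [⟨15,[]⟩,⟨3,[(1,false)]⟩,⟨10,[(5,true)]⟩] [0,0,1,3,1],
    .rep 410 [21,19,11,149,77] [⟨11,[(2,true),(0,false)]⟩,⟨9,[(2,true),(1,true),(0,false)]⟩,⟨10,[(4,true),(1,false),(0,false)]⟩] [0,0,0,0,0],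
    .child 0 410,
    .child 0 137,
    .child 0 593,
    .child 0 40,
    .child 1 40,
    .rep 212 [21,19,15,129,31] [⟨25,[(1,false)]⟩,⟨2,[(1,false)]⟩,⟨10,[(4,false),(0,true)]⟩] [0,0,3,3,0],
    .child 0 212,
    .child 1 212,
    .child 0 15,
    .child 0 284,
    .rep 195 [197,193,153,77] [⟨28,[(3,true),(2,true)]⟩,⟨0,[(2,false),(1,false)]⟩,⟨10,[(1,false)]⟩] [0,0,0,1,1],
    .child 0 195,
    .child 1 195,
    .child 0 392,
    .child 1 392,
    .child 0 285,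
    .child 0 78,
    .child 0 26,
    .child 0 25,
    .child 0 60,
    .child 1 60,
    .child 0 59,
    .child 1 59,
    .child 0 32,
    .child 1 32,
    .child 1 66,
    .child 0 190,
    .child 0 33,
    .child 1 33,
    .child 0 37,
    .child 0 399,
    .child 0 67,
    .child 0 409,
    .child 0 408,
    .child 1 408,
    .child 0 39,
    .child 0 206,
    .child 1 122,
    .child 1 30,
    .child 1 391,
    .rep 411 [19,133,61] [⟨1,[(1,false),(0,false)]⟩,⟨7,[(0,true),(2,false)]⟩,⟨10,[(0,false)]⟩] [0,0,0,2,0],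
    .rep 204 [17,15,183,65] [⟨4,[(2,true)]⟩,⟨8,[(0,false),(1,false),(1,false)]⟩,⟨10,[(4,false),(0,false)]⟩] [0,0,0,1,0],
    .child 0 204,
    .child 0 205,
    .child 1 205,
    .child 0 454,
    .child 0 16,
    .rep 27 [21,197,193,129,31] [⟨0,[(0,false)]⟩,⟨4,[(4,false)]⟩,⟨10,[(2,true),(1,false),(0,false)]⟩] [0,0,1,3,0]]]

/-- part 1 of `cov2_6` -/
def cov2_6P1 : List (List Cov) := [
  [.rep 4 [] [⟨5,[(3,false)]⟩,⟨13,[(1,true),(2,false),(0,false)]⟩,⟨22,[(0,false)]⟩] [0,0,4,0,0],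
    .child 0 4,
    .child 1 4,
    .child 0 38,
    .child 0 194,
    .child 0 212,
    .rep 410 [21,19,11,149,77] [⟨9,[(4,true),(0,false)]⟩,⟨11,[(1,true),(0,false),(1,false)]⟩,⟨22,[]⟩] [0,0,1,1,0],
    .child 0 410,
    .child 0 59,
    .child 1 59,
    .child 0 192,
    .child 0 66,
    .rep 195 [197,193,153,77] [⟨13,[(2,true),(4,false)]⟩,⟨14,[(2,false),(2,false),(1,false),(1,false),(0,false)]⟩,⟨22,[]⟩] [0,0,2,3,0],
    .child 0 195,
    .child 0 137,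
    .child 1 137,
    .child 1 101,
    .child 0 191,
    .child 0 592,
    .child 0 78,
    .child 1 78,
    .child 0 37,
    .child 1 37,
    .child 1 206,
    .child 0 454,
    .child 0 26,
    .child 0 190,
    .child 0 58,
    .child 0 204,
    .child 1 204,
    .child 1 593,
    .child 1 392,
    .child 1 25,
    .child 0 14,
    .child 0 30,
    .child 0 399,
    .child 0 464,
    .child 1 464,
    .child 1 65,
    .child 1 16,
    .child 1 31,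
    .child 0 391,
    .rep 67 [21,19,129,31] [⟨29,[(0,false),(0,false)]⟩,⟨0,[(1,false),(0,true),(3,false),(0,true),(0,true)]⟩,⟨22,[]⟩] [0,0,2,0,1],
    .child 1 67,
    .child 0 285,
    .child 0 33,
    .child 1 33,
    .rep 284 [19,15,129,31] [⟨0,[(1,false),(0,false)]⟩,⟨11,[(3,false),(2,false),(0,false)]⟩,⟨22,[(1,false),(0,false)]⟩] [0,0,0,1,1],
    .rep 411 [19,133,61] [⟨19,[]⟩,⟨22,[]⟩,⟨22,[(0,false)]⟩] [0,0,0,1,1],
    .rep 193 [21,201,193,173,55] [⟨22,[(0,false)]⟩,⟨19,[]⟩,⟨22,[]⟩] [0,0,0,2,0]]]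

/-- part 2 of `cov2_6` -/
def cov2_6P2 : List (List Cov) := [
  [.rep 4 [] [⟨14,[(2,false)]⟩,⟨3,[(4,false),(0,false)]⟩,⟨11,[(3,true),(4,true)]⟩] [0,0,3,2,0],
    .child 1 4,
    .child 0 32,
    .child 0 137,
    .child 0 30,
    .child 0 24,
    .rep 410 [21,19,11,149,77] [⟨6,[(2,false),(4,true),(2,false)]⟩,⟨5,[(1,false),(3,false)]⟩,⟨11,[(4,false),(2,true)]⟩] [0,0,0,1,2],
    .child 0 410,
    .child 1 410,
    .child 0 399,
    .child 1 399,
    .child 0 33,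
    .child 0 27,
    .child 1 27,
    .child 0 411,
    .child 0 101,
    .child 1 101,
    .child 0 122,
    .child 1 122,
    .child 0 58,
    .child 0 205,
    .child 1 205,
    .child 0 392,
    .child 0 16,
    .child 1 14,
    .child 0 191,
    .child 1 191,
    .child 1 454,
    .child 1 204,
    .child 0 38,
    .child 0 31,
    .child 0 464,
    .child 0 25,
    .child 0 212,
    .child 0 408,
    .child 1 408,
    .rep 195 [197,193,153,77] [⟨16,[(1,true)]⟩,⟨1,[(1,false)]⟩,⟨11,[(0,true),(1,true)]⟩] [0,0,4,1,2],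
    .child 0 195,
    .child 1 195,
    .child 1 67,
    .child 0 194,
    .rep 15 [197,193,173,55] [⟨11,[(1,true),(0,false)]⟩,⟨6,[(1,true),(0,false)]⟩,⟨11,[(2,false),(0,true)]⟩] [0,0,3,3,1],
    .child 0 15,
    .child 0 40,
    .child 1 40,
    .child 0 285,
    .child 0 391,
    .rep 78 [21,19,195,185,77] [⟨22,[(1,false),(0,false)]⟩,⟨0,[(1,false),(0,false)]⟩,⟨11,[(3,false),(2,false),(0,false)]⟩] [0,0,0,3,0],
    .rep 65 [201,11,149,77] [⟨2,[(0,false)]⟩,⟨1,[(1,false),(0,false)]⟩,⟨11,[(4,true),(3,false)]⟩] [0,0,3,0,2],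
    .rep 592 [21,193,159,63] [⟨10,[]⟩,⟨1,[(3,true),(0,false)]⟩,⟨11,[(3,true),(2,false)]⟩] [0,0,1,1,1]]]

/-- part 3 of `cov2_6` -/
def cov2_6P3 : List (List Cov) := [
  [.rep 4 [] [⟨22,[]⟩,⟨9,[(4,false),(0,false)]⟩,⟨11,[(1,true),(0,false),(1,false)]⟩] [0,0,4,0,1],
    .rep 410 [21,19,11,149,77] [⟨21,[(3,true),(4,true),(1,true)]⟩,⟨13,[(2,false),(4,false),(1,false)]⟩,⟨11,[(1,true)]⟩] [0,0,0,0,0],
    .child 0 410,
    .child 1 410,
    .child 0 15,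
    .child 1 15,
    .child 0 194,
    .child 0 193,
    .child 1 193,
    .child 0 191,
    .child 1 191,
    .rep 212 [21,19,15,129,31] [⟨20,[(4,false),(0,false),(0,false)]⟩,⟨13,[(4,true)]⟩,⟨11,[(1,true),(1,true)]⟩] [0,0,0,3,1],
    .child 0 212,
    .child 1 212,
    .child 0 31,
    .child 1 31,
    .child 0 25,
    .child 0 24,
    .child 1 24,
    .child 0 38,
    .child 1 38,
    .rep 195 [197,193,153,77] [⟨18,[(0,true)]⟩,⟨5,[(0,true),(2,false)]⟩,⟨11,[(1,false),(0,false)]⟩] [0,0,3,3,0],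
    .child 0 195,
    .child 1 195,
    .child 0 392,
    .child 0 409,
    .rep 206 [199,195,173,31] [⟨14,[(3,true),(1,false),(0,false)]⟩,⟨6,[(0,true),(0,true),(0,true)]⟩,⟨11,[(3,false)]⟩] [0,0,1,1,1],
    .child 0 206,
    .child 1 206,
    .child 0 408,
    .child 0 66,
    .rep 411 [19,133,61] [⟨27,[(3,true),(1,false)]⟩,⟨3,[(0,false),(1,true),(1,true),(0,false)]⟩,⟨11,[(3,false),(2,false),(2,false)]⟩] [0,0,4,2,2],
    .child 0 411,
    .child 1 411,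
    .child 0 192,
    .child 1 192,
    .rep 39 [21,201,11,153,77] [⟨28,[(1,true),(3,true),(0,false)]⟩,⟨3,[(1,true),(0,false),(2,false),(1,true)]⟩,⟨11,[(1,true),(1,true)]⟩] [0,0,4,0,1],
    .child 0 39,
    .child 1 39,
    .child 0 464,
    .child 0 65,
    .rep 190 [201,195,149,77] [⟨13,[(0,true)]⟩,⟨6,[(2,true),(1,false)]⟩,⟨11,[(2,false),(1,false),(0,false)]⟩] [0,0,1,0,2],
    .child 0 190,
    .child 0 593,
    .child 0 37,
    .child 1 37,
    .rep 40 [201,193,13,77] [⟨12,[(0,false)]⟩,⟨8,[(1,false),(2,false),(0,false)]⟩,⟨11,[(2,false),(1,true),(0,false)]⟩] [0,0,3,2,0],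
    .rep 204 [17,15,183,65] [⟨4,[(4,false),(0,false)]⟩,⟨9,[(1,true),(0,false),(2,false)]⟩,⟨11,[(2,false),(0,false)]⟩] [0,0,3,3,0],
    .rep 60 [21,197,11,149,77] [⟨11,[(1,true)]⟩,⟨7,[(0,false)]⟩,⟨11,[(0,false),(1,false)]⟩] [0,0,2,1,2],
    .rep 205 [17,195,191,61] [⟨5,[(1,true),(0,false)]⟩,⟨3,[]⟩,⟨11,[(2,true),(1,false)]⟩] [0,0,4,0,1]]]

/-- part 4 of `cov2_6` -/
def cov2_6P4 : List (List Cov) := [
  [.rep 4 [] [⟨5,[(1,false),(0,true)]⟩,⟨12,[(1,false),(0,false),(2,true),(0,false)]⟩,⟨14,[(0,true)]⟩] [0,0,3,3,0],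
    .child 0 4,
    .child 0 206,
    .child 1 206,
    .child 0 33,
    .rep 410 [21,19,11,149,77] [⟨23,[(3,false),(1,true)]⟩,⟨23,[(0,true),(4,false),(1,false)]⟩,⟨14,[(3,true),(1,false)]⟩] [0,0,4,0,1],
    .child 0 410,
    .child 1 410,
    .child 0 65,
    .child 1 65,
    .child 0 284,
    .child 0 16,
    .child 1 16,
    .child 0 194,
    .child 1 194,
    .rep 212 [21,19,15,129,31] [⟨6,[(4,false),(3,false),(0,false)]⟩,⟨11,[(3,false)]⟩,⟨14,[(1,false),(0,false)]⟩] [0,0,2,2,1],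
    .child 0 212,
    .child 1 212,
    .child 0 26,
    .child 0 464,
    .rep 195 [197,193,153,77] [⟨26,[(2,true),(1,false)]⟩,⟨4,[(0,true),(1,true),(0,true)]⟩,⟨14,[(2,true),(0,false)]⟩] [0,0,3,3,0],
    .child 0 195,
    .child 1 195,
    .child 0 15,
    .child 0 24,
    .rep 137 [19,11,149,77] [⟨24,[]⟩,⟨24,[(4,true),(3,false),(0,true)]⟩,⟨14,[(3,true),(1,false)]⟩] [0,0,0,0,0],
    .child 0 137,
    .child 1 137,
    .child 0 58,
    .child 1 58,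
    .child 0 39,
    .child 0 399,
    .child 1 399,
    .child 0 454,
    .child 1 454,
    .rep 67 [21,19,129,31] [⟨28,[(2,false),(0,false)]⟩,⟨1,[(0,false),(1,false),(0,false)]⟩,⟨14,[(1,true)]⟩] [0,0,3,3,0],
    .child 0 67,
    .child 1 67,
    .child 0 101,
    .child 0 27,
    .rep 191 [199,15,129,31] [⟨3,[(4,false),(0,false)]⟩,⟨11,[(3,true),(4,true)]⟩,⟨14,[(3,false)]⟩] [0,0,0,0,0],
    .rep 78 [21,19,195,185,77] [⟨18,[(4,false),(1,true),(0,false)]⟩,⟨18,[(0,true),(2,false),(1,true)]⟩,⟨14,[(1,true),(0,false)]⟩] [0,0,4,0,1],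
    .child 0 78,
    .child 1 78,
    .child 0 392,
    .child 0 14,
    .rep 190 [201,195,149,77] [⟨9,[(4,false)]⟩,⟨10,[(2,true),(1,false),(2,true),(0,false)]⟩,⟨14,[(1,false),(0,true)]⟩] [0,0,2,1,2],
    .rep 66 [21,201,153,55] [⟨10,[(0,false)]⟩,⟨3,[(1,false),(5,false),(0,true)]⟩,⟨14,[(1,true),(0,false)]⟩] [0,0,0,0,0],
    .rep 205 [17,195,191,61] [⟨4,[(1,true),(0,false)]⟩,⟨13,[(1,true),(2,true),(1,true),(0,false)]⟩,⟨14,[(3,false)]⟩] [0,0,1,0,2],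
    .rep 408 [21,19,195,149,77] [⟨0,[]⟩,⟨13,[(1,false),(5,false),(1,false)]⟩,⟨14,[(0,false)]⟩] [0,0,4,0,1]]]

/-- part 5 of `cov2_6` -/
def cov2_6P5 : List (List Cov) := [
  [.rep 4 [] [⟨20,[(0,false),(0,false)]⟩,⟨3,[(3,true),(1,false)]⟩,⟨13,[(2,false),(1,true),(0,false)]⟩] [0,0,3,2,0],
    .child 0 4,
    .child 1 4,
    .child 1 6,
    .child 0 192,
    .child 1 192,
    .child 0 15,
    .child 1 15,
    .child 0 409,
    .child 1 409,
    .rep 410 [21,19,11,149,77] [⟨3,[(1,true),(0,false)]⟩,⟨6,[(3,true),(1,false)]⟩,⟨13,[(4,true),(2,false),(1,false),(0,false)]⟩] [0,0,4,2,2],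
    .rep 212 [21,19,15,129,31] [⟨21,[(4,false)]⟩,⟨3,[(2,false),(1,false)]⟩,⟨13,[(5,true),(1,false),(0,false)]⟩] [0,0,4,0,1],
    .child 0 212,
    .child 1 212,
    .child 1 78,
    .child 0 101,
    .child 1 101,
    .child 0 38,
    .child 1 38,
    .child 0 391,
    .child 1 391,
    .rep 195 [197,193,153,77] [⟨4,[(0,false),(1,true)]⟩,⟨5,[(2,true),(1,false),(0,false)]⟩,⟨13,[(1,false),(4,true),(1,true),(0,true)]⟩] [0,0,4,2,2],
    .child 1 195,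
    .child 0 37,
    .child 1 37,
    .child 0 16,
    .rep 194 [199,11,149,77] [⟨6,[(1,true),(0,false),(3,true)]⟩,⟨5,[(2,false),(1,false),(1,false)]⟩,⟨13,[(0,false),(1,false),(5,false)]⟩] [0,0,0,3,1],
    .child 0 194,
    .child 1 194,
    .child 0 30,
    .child 1 30,
    .rep 137 [19,11,149,77] [⟨14,[(0,false)]⟩,⟨0,[]⟩,⟨13,[(1,false),(5,false),(1,false)]⟩] [0,0,0,3,1],
    .rep 206 [199,195,173,31] [⟨18,[(1,false),(1,false),(0,false)]⟩,⟨1,[]⟩,⟨13,[(1,false),(4,true),(2,false)]⟩] [0,0,0,3,1],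
    .child 0 206,
    .child 1 206,
    .child 1 592,
    .child 0 392,
    .rep 191 [199,15,129,31] [⟨7,[(4,false),(1,true)]⟩,⟨6,[(4,true),(1,false)]⟩,⟨13,[(1,true),(1,true),(0,true),(0,true)]⟩] [0,0,2,1,2],
    .child 0 191,
    .child 1 191,
    .child 1 40,
    .child 0 593,
    .rep 284 [19,15,129,31] [⟨13,[(0,true),(0,true),(0,true)]⟩,⟨5,[(1,true),(2,false)]⟩,⟨13,[(1,false),(0,false),(2,false)]⟩] [0,0,3,3,0],
    .child 0 284,
    .child 1 284,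
    .child 0 190,
    .child 1 190,
    .rep 285 [21,197,193,153,77] [⟨11,[(4,false)]⟩,⟨5,[(0,false)]⟩,⟨13,[(5,true),(2,true)]⟩] [0,0,4,0,1],
    .rep 27 [21,197,193,129,31] [⟨1,[]⟩,⟨8,[(4,true),(1,true),(0,false)]⟩,⟨13,[(0,false),(5,false),(1,false),(0,true)]⟩] [0,0,3,3,0],
    .rep 122 [13,77] [⟨19,[(0,false)]⟩,⟨3,[(0,true)]⟩,⟨13,[(1,true),(1,true),(0,false)]⟩] [0,0,2,1,2]]]

/-- part 6 of `cov2_6` -/
def cov2_6P6 : List (List Cov) := [
  [.rep 4 [] [⟨2,[]⟩,⟨15,[(5,true),(3,false)]⟩,⟨4,[(1,true),(1,true),(0,false),(0,false)]⟩] [0,0,4,2,2],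
    .rep 410 [21,19,11,149,77] [⟨13,[(1,true),(4,false),(0,false)]⟩,⟨15,[(2,true),(1,true),(2,true),(0,false)]⟩,⟨4,[(2,false),(0,true),(1,false)]⟩] [0,0,4,3,2],
    .child 0 410,
    .rep 212 [21,19,15,129,31] [⟨23,[(1,true),(4,true)]⟩,⟨28,[(2,false),(1,false)]⟩,⟨4,[(0,true),(2,false)]⟩] [0,0,4,2,2],
    .child 0 212,
    .rep 195 [197,193,153,77] [⟨24,[(4,false),(3,true),(1,false)]⟩,⟨28,[(3,false),(1,false),(1,false)]⟩,⟨4,[(1,false),(2,false),(0,false)]⟩] [0,0,4,2,2],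
    .child 0 195,
    .rep 26 [201,149,77] [⟨6,[(4,false),(2,true),(0,false)]⟩,⟨15,[(2,false),(1,false),(0,false)]⟩,⟨4,[(0,false),(1,false),(0,false),(0,false)]⟩] [0,0,4,2,2],
    .child 0 26,
    .rep 137 [19,11,149,77] [⟨6,[(2,false),(0,false)]⟩,⟨15,[(3,false),(2,false),(0,false),(1,true)]⟩,⟨4,[(2,true),(2,true),(1,true),(0,false)]⟩] [0,0,4,2,2],
    .child 0 137,
    .rep 15 [197,193,173,55] [⟨7,[(2,false),(0,false),(0,false)]⟩,⟨15,[(2,true),(5,true),(0,true)]⟩,⟨4,[(1,false),(2,false),(2,false)]⟩] [0,0,4,2,2],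
    .child 0 15,
    .rep 206 [199,195,173,31] [⟨18,[(1,false),(4,false),(0,false)]⟩,⟨26,[(4,true),(2,false)]⟩,⟨4,[]⟩] [0,0,4,2,2],
    .child 0 206,
    .rep 191 [199,15,129,31] [⟨28,[(1,false),(1,false),(0,true)]⟩,⟨6,[(1,false),(2,true),(0,true),(1,false)]⟩,⟨4,[(1,true),(0,false),(1,false)]⟩] [0,0,4,3,2],
    .child 0 191,
    .rep 284 [19,15,129,31] [⟨23,[(1,false)]⟩,⟨28,[(1,false),(3,false),(1,false)]⟩,⟨4,[(1,false),(0,true)]⟩] [0,0,4,2,2],
    .child 0 284,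
    .rep 411 [19,133,61] [⟨20,[]⟩,⟨28,[(4,false),(0,true),(0,true)]⟩,⟨4,[(2,false),(0,true),(2,true)]⟩] [0,0,4,3,2],
    .child 0 411,
    .rep 39 [21,201,11,153,77] [⟨23,[(2,false),(1,true)]⟩,⟨27,[(3,true),(1,false),(0,false)]⟩,⟨4,[(2,false)]⟩] [0,0,4,2,2],
    .child 0 39,
    .rep 101 [21,201,193,153,77] [⟨24,[(2,false),(4,false),(3,true)]⟩,⟨28,[(3,false)]⟩,⟨4,[(2,true),(0,false)]⟩] [0,0,4,3,2],
    .child 0 101,
    .rep 285 [21,197,193,153,77] [⟨13,[(1,false),(0,false)]⟩,⟨15,[(0,false),(1,false),(2,true)]⟩,⟨4,[(0,false),(1,true),(0,true),(0,true)]⟩] [0,0,4,3,2],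
    .child 0 285,
    .rep 190 [201,195,149,77] [⟨27,[(4,false),(2,true)]⟩,⟨5,[(0,true),(2,true),(0,false),(0,false)]⟩,⟨4,[(0,true),(2,true),(1,true),(0,true)]⟩] [0,0,4,2,2],
    .child 0 190,
    .rep 59 [21,19,149,77] [⟨27,[(0,false),(0,false)]⟩,⟨5,[(2,true),(1,true),(0,true)]⟩,⟨4,[(2,true),(2,true)]⟩] [0,0,4,3,2],
    .child 0 59,
    .rep 40 [201,193,13,77] [⟨18,[(1,false),(0,true)]⟩,⟨27,[(2,false),(1,false)]⟩,⟨4,[(2,true),(1,true)]⟩] [0,0,4,3,2],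
    .rep 391 [201,193,149,77] [⟨28,[(0,true)]⟩,⟨6,[(0,true),(1,false)]⟩,⟨4,[(1,false),(2,false),(0,false)]⟩] [0,0,4,3,2],
    .child 0 391,
    .rep 204 [17,15,183,65] [⟨26,[(3,false),(2,true)]⟩,⟨5,[(0,false),(0,false),(2,true),(0,false)]⟩,⟨4,[(0,true),(1,true),(2,true),(0,false)]⟩] [0,0,4,2,2],
    .rep 60 [21,197,11,149,77] [⟨4,[(0,true),(2,false)]⟩,⟨15,[(3,false),(2,false),(1,false)]⟩,⟨4,[(0,true),(2,true),(1,true),(0,false),(0,false)]⟩] [0,0,4,2,2],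
    .rep 66 [21,201,153,55] [⟨18,[(2,false),(1,true),(0,false)]⟩,⟨26,[]⟩,⟨4,[(2,false),(1,false),(1,false),(2,true)]⟩] [0,0,4,3,2],
    .child 0 66,
    .rep 464 [21,201,11,173,55] [⟨24,[(2,false),(2,false)]⟩,⟨27,[(3,true),(0,false)]⟩,⟨4,[(2,true),(0,false),(2,true),(0,true)]⟩] [0,0,4,2,2],
    .child 0 464,
    .rep 399 [17,11,151,69] [⟨5,[(4,false),(1,false),(0,false)]⟩,⟨15,[(1,false),(2,false),(1,false)]⟩,⟨4,[(1,false),(2,true),(0,true),(1,false)]⟩] [0,0,4,3,2],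
    .rep 30 [201,195,173,31] [⟨9,[(2,false),(1,false)]⟩,⟨15,[(1,false),(1,false),(2,false),(2,false)]⟩,⟨4,[(0,false),(0,false),(2,false),(0,false)]⟩] [0,0,4,2,2],
    .rep 58 [197,195,189,95] [⟨7,[(3,false),(1,true)]⟩,⟨15,[(4,false),(2,false),(0,false)]⟩,⟨4,[(2,true),(1,true),(1,true)]⟩] [0,0,4,3,2],
    .child 0 58,
    .rep 32 [19,129,31] [⟨14,[(4,true),(0,false)]⟩,⟨26,[(4,true),(1,false)]⟩,⟨4,[(0,true),(1,true),(0,true)]⟩] [0,0,4,3,2],
    .rep 205 [17,195,191,61] [⟨6,[(2,false),(3,true),(1,false),(0,false)]⟩,⟨15,[(2,false),(2,false),(0,false),(1,true)]⟩,⟨4,[(1,true),(0,false),(2,false),(1,true)]⟩] [0,0,4,3,2],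
    .rep 192 [21,197,133,61] [⟨21,[(4,false),(1,true)]⟩,⟨28,[(4,true),(1,false)]⟩,⟨4,[(2,true),(1,true),(1,true),(0,false)]⟩] [0,0,4,2,2],
    .child 0 192,
    .rep 122 [13,77] [⟨25,[(0,false)]⟩,⟨28,[(0,true),(0,true),(0,true)]⟩,⟨4,[(2,true),(2,true),(0,true)]⟩] [0,0,4,2,2],
    .rep 592 [21,193,159,63] [⟨13,[(3,false),(2,true),(0,false)]⟩,⟨15,[(1,false),(1,false),(0,false)]⟩,⟨4,[(2,false),(0,false),(0,false),(0,false)]⟩] [0,0,4,2,2]]]

/-- part 7 of `cov2_6` -/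
def cov2_6P7 : List (List Cov) := [
  [.rep 4 [] [⟨28,[(4,true),(2,false)]⟩,⟨5,[(2,true),(2,true),(1,false)]⟩,⟨2,[(1,true),(2,true),(2,true),(0,false)]⟩] [0,1,4,1,2],
    .child 0 4,
    .child 1 4,
    .child 1 32,
    .rep 410 [21,19,11,149,77] [⟨5,[(2,true),(1,false)]⟩,⟨15,[(3,false),(2,false),(2,false)]⟩,⟨2,[(0,false),(1,false),(0,false)]⟩] [0,1,4,3,1],
    .child 0 410,
    .rep 212 [21,19,15,129,31] [⟨8,[(2,true),(0,true)]⟩,⟨27,[(0,false),(1,true)]⟩,⟨2,[(0,true),(1,true),(1,true)]⟩] [0,1,4,1,2],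
    .child 0 212,
    .rep 195 [197,193,153,77] [⟨16,[(1,false)]⟩,⟨26,[(2,true),(1,true)]⟩,⟨2,[(2,false),(2,false),(0,false)]⟩] [0,0,3,3,0],
    .rep 26 [201,149,77] [⟨6,[(2,true),(4,false),(1,true)]⟩,⟨15,[(1,true),(0,false),(2,false),(2,false)]⟩,⟨2,[]⟩] [0,0,3,0,2],
    .child 0 26,
    .child 1 26,
    .child 1 30,
    .rep 194 [199,11,149,77] [⟨20,[(3,true),(0,false)]⟩,⟨26,[(4,false),(1,true),(0,false)]⟩,⟨2,[(1,true),(2,false),(0,false)]⟩] [0,0,3,3,0],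
    .child 1 194,
    .rep 15 [197,193,173,55] [⟨26,[(3,true),(4,true),(0,false)]⟩,⟨6,[(1,true),(0,true),(0,true),(1,false)]⟩,⟨2,[(0,true),(2,false),(0,true)]⟩] [0,0,3,3,0],
    .child 0 15,
    .child 1 15,
    .child 1 191,
    .rep 206 [199,195,173,31] [⟨23,[(0,true),(4,false),(1,false)]⟩,⟨28,[(4,false),(3,false)]⟩,⟨2,[(0,false),(1,false),(0,true)]⟩] [0,0,3,0,2],
    .child 0 206,
    .child 1 206,
    .child 1 285,
    .rep 67 [21,19,129,31] [⟨24,[(1,true),(3,true),(0,false)]⟩,⟨28,[(1,true)]⟩,⟨2,[(2,true)]⟩] [0,0,3,3,0],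
    .child 0 67,
    .child 1 67,
    .child 1 65,
    .rep 284 [19,15,129,31] [⟨11,[(2,false),(1,false),(0,false)]⟩,⟨15,[(4,true),(2,false)]⟩,⟨2,[(2,true),(0,true),(0,true),(0,true)]⟩] [0,1,4,1,2],
    .child 0 284,
    .rep 39 [21,201,11,153,77] [⟨21,[(4,true),(3,false),(0,true)]⟩,⟨26,[(4,true),(0,false)]⟩,⟨2,[(0,true),(2,true),(1,false)]⟩] [0,1,4,3,1],
    .child 0 39,
    .rep 78 [21,19,195,185,77] [⟨8,[(0,false),(0,false),(0,false)]⟩,⟨27,[(3,false),(0,false)]⟩,⟨2,[(2,false),(0,true),(2,true)]⟩] [0,0,3,0,2],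
    .child 1 78,
    .rep 59 [21,19,149,77] [⟨15,[]⟩,⟨15,[(5,true),(3,false),(1,true)]⟩,⟨2,[(2,true),(0,true),(2,false),(1,true)]⟩] [0,0,3,0,2],
    .rep 392 [21,201,149,77] [⟨6,[(4,true),(3,true)]⟩,⟨15,[(2,true),(0,false),(2,false)]⟩,⟨2,[(1,true),(1,true)]⟩] [0,1,4,3,1],
    .child 0 392,
    .child 1 392,
    .child 1 27,
    .rep 204 [17,15,183,65] [⟨18,[(1,true),(1,true)]⟩,⟨28,[(1,false),(0,true)]⟩,⟨2,[(1,false),(2,false)]⟩] [0,1,4,1,2],
    .child 0 204,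
    .rep 24 [19,193,175,77] [⟨26,[(2,true),(0,true)]⟩,⟨5,[(1,true),(1,true),(0,true)]⟩,⟨2,[(2,true),(2,true),(0,true)]⟩] [0,1,4,3,1],
    .rep 66 [21,201,153,55] [⟨28,[(0,false),(0,false),(1,true)]⟩,⟨5,[(1,true),(2,false),(1,true)]⟩,⟨2,[(2,true),(1,false),(0,false),(1,false)]⟩] [0,0,3,3,0],
    .child 0 66,
    .child 1 66,
    .child 1 593,
    .rep 464 [21,201,11,173,55] [⟨24,[(1,true),(1,true),(0,true)]⟩,⟨26,[(3,true),(1,true),(0,false)]⟩,⟨2,[(1,true),(0,true)]⟩] [0,0,3,0,2],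
    .child 1 464,
    .rep 14 [21,201,195,153,77] [⟨23,[(3,false),(2,false),(0,false)]⟩,⟨26,[(3,true),(1,true),(0,false)]⟩,⟨2,[(1,false),(2,false),(0,true)]⟩] [0,0,3,0,2],
    .child 0 14,
    .rep 408 [21,19,195,149,77] [⟨7,[(2,false),(0,false)]⟩,⟨15,[(0,false),(4,true),(1,true)]⟩,⟨2,[(1,true),(2,false),(1,true),(0,false)]⟩] [0,0,3,3,0]]]

/-- part 8 of `cov2_6` -/
def cov2_6P8 : List (List Cov) := [
  [.rep 4 [] [⟨13,[(1,true),(4,true),(2,true)]⟩,⟨15,[(2,true),(2,true),(0,false),(1,false),(1,false)]⟩,⟨1,[(0,true),(0,true),(1,true)]⟩] [0,0,1,0,1],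
    .child 0 4,
    .child 1 4,
    .child 1 58,
    .rep 410 [21,19,11,149,77] [⟨19,[]⟩,⟨26,[(2,true),(1,false)]⟩,⟨1,[(2,true),(2,true),(0,true)]⟩] [0,0,2,1,2],
    .rep 195 [197,193,153,77] [⟨28,[(4,true),(3,false)]⟩,⟨5,[(0,true),(2,false),(0,false)]⟩,⟨1,[(1,true),(1,true),(2,false),(0,false)]⟩] [0,1,1,0,2],
    .child 0 195,
    .rep 26 [201,149,77] [⟨26,[(0,false),(4,true)]⟩,⟨5,[(0,false),(1,true),(2,false),(2,false)]⟩,⟨1,[(1,true),(2,false),(1,true),(0,false)]⟩] [0,0,2,1,2],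
    .rep 194 [199,11,149,77] [⟨7,[(4,false),(0,true)]⟩,⟨15,[(2,true),(0,true),(1,false)]⟩,⟨1,[(1,false),(1,false),(0,false)]⟩] [0,0,2,1,2],
    .child 0 194,
    .rep 137 [19,11,149,77] [⟨21,[(0,false),(0,false),(0,false)]⟩,⟨26,[(3,true),(4,true),(0,false)]⟩,⟨1,[(2,true),(1,true),(0,true)]⟩] [0,1,1,0,2],
    .child 0 137,
    .child 1 137,
    .child 1 205,
    .rep 15 [197,193,173,55] [⟨27,[(2,true),(0,true)]⟩,⟨5,[(2,false),(0,false),(2,true)]⟩,⟨1,[(2,true),(0,true),(2,false),(1,true)]⟩] [0,0,1,0,1],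
    .rep 206 [199,195,173,31] [⟨7,[(3,false),(1,true),(0,false)]⟩,⟨15,[(0,true),(5,true),(2,false)]⟩,⟨1,[(2,false),(0,false),(2,true)]⟩] [0,0,2,1,2],
    .child 1 206,
    .rep 284 [19,15,129,31] [⟨18,[(1,true),(1,true)]⟩,⟨28,[(3,false),(1,false),(0,true)]⟩,⟨1,[(0,false),(1,false),(2,true),(0,true)]⟩] [0,1,1,0,2],
    .child 0 284,
    .child 1 284,
    .child 1 32,
    .rep 411 [19,133,61] [⟨20,[(1,true),(0,false)]⟩,⟨27,[(1,true),(0,false)]⟩,⟨1,[(2,false),(0,true),(0,true),(0,true)]⟩] [0,0,2,1,2],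
    .child 0 411,
    .rep 39 [21,201,11,153,77] [⟨27,[(3,true),(1,false),(0,false)]⟩,⟨6,[(2,true),(0,false),(0,false)]⟩,⟨1,[(2,false),(1,false),(0,false),(0,false)]⟩] [0,0,1,0,1],
    .child 0 39,
    .child 1 39,
    .child 1 190,
    .rep 101 [21,201,193,153,77] [⟨20,[(4,true),(2,true),(0,true)]⟩,⟨26,[(0,true),(4,false)]⟩,⟨1,[(0,false),(1,false),(2,false)]⟩] [0,1,1,0,2],
    .child 0 101,
    .child 1 101,
    .child 1 24,
    .rep 285 [21,197,193,153,77] [⟨18,[(2,false),(4,false),(1,false)]⟩,⟨28,[(4,true),(1,true),(0,false)]⟩,⟨1,[(1,true),(2,false),(2,false)]⟩] [0,0,2,1,2],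
    .child 0 285,
    .child 1 285,
    .child 1 40,
    .rep 78 [21,19,195,185,77] [⟨13,[(3,false),(2,true)]⟩,⟨15,[(1,true),(3,false),(2,false),(2,false),(0,false)]⟩,⟨1,[(0,false),(2,true),(0,true)]⟩] [0,0,1,0,1],
    .child 0 78,
    .child 1 78,
    .child 1 391,
    .rep 392 [21,201,149,77] [⟨9,[(1,true),(0,false)]⟩,⟨15,[(2,false),(2,false),(1,true)]⟩,⟨1,[(0,true),(0,true),(2,true)]⟩] [0,0,2,1,2],
    .child 0 392,
    .rep 65 [201,11,149,77] [⟨21,[(1,true),(4,true),(0,false)]⟩,⟨27,[(4,true),(0,false)]⟩,⟨1,[(1,true),(0,false),(1,false)]⟩] [0,1,2,1,1],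
    .child 1 65,
    .rep 37 [199,15,149,77] [⟨24,[(3,true),(1,true),(0,false)]⟩,⟨27,[(2,true),(0,true)]⟩,⟨1,[(2,true),(0,false),(1,true)]⟩] [0,0,1,0,1],
    .child 1 37,
    .rep 60 [21,197,11,149,77] [⟨14,[(4,true),(2,false)]⟩,⟨28,[(3,false),(0,true)]⟩,⟨1,[(0,false),(1,false),(0,false)]⟩] [0,1,2,1,1],
    .child 0 60,
    .rep 409 [197,173,57] [⟨17,[(0,true),(0,true)]⟩,⟨27,[(3,false)]⟩,⟨1,[(2,false),(2,false),(0,false)]⟩] [0,0,1,0,1],
    .rep 27 [21,197,193,129,31] [⟨23,[(1,false),(4,true),(0,false)]⟩,⟨27,[(0,false)]⟩,⟨1,[(0,false),(1,false)]⟩] [0,0,2,1,2],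
    .child 0 27]]

/-- part 9 of `cov2_6` -/
def cov2_6P9 : List (List Cov) := [
  [.rep 4 [] [⟨28,[(4,true),(2,false)]⟩,⟨3,[(0,false),(0,false),(2,false),(0,false)]⟩,⟨13,[(2,true),(1,false),(2,true)]⟩] [0,1,3,1,1],
    .child 0 4,
    .child 1 4,
    .child 0 6,
    .child 1 6,
    .rep 410 [21,19,11,149,77] [⟨26,[(1,false),(1,false),(0,false)]⟩,⟨3,[(2,false),(0,false),(0,false)]⟩,⟨13,[(2,true),(2,true)]⟩] [0,1,0,1,1],
    .child 0 410,
    .child 1 410,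
    .child 0 24,
    .child 0 206,
    .rep 212 [21,19,15,129,31] [⟨21,[(1,true),(4,false),(0,false)]⟩,⟨13,[(4,false)]⟩,⟨13,[(2,false)]⟩] [0,1,3,1,1],
    .child 0 212,
    .child 1 212,
    .child 0 391,
    .child 1 391,
    .child 0 193,
    .child 0 16,
    .child 1 16,
    .child 0 284,
    .child 1 284,
    .rep 26 [201,149,77] [⟨11,[(2,false),(1,false),(0,false)]⟩,⟨7,[(1,true),(2,false),(0,false)]⟩,⟨13,[(1,false),(0,false)]⟩] [0,1,4,0,2],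
    .child 0 26,
    .child 1 26,
    .child 0 31,
    .child 0 67,
    .rep 194 [199,11,149,77] [⟨8,[(1,false),(0,true)]⟩,⟨6,[(2,false),(4,false),(1,false)]⟩,⟨13,[(2,false),(1,true)]⟩] [0,1,4,0,2],
    .child 0 194,
    .child 1 194,
    .child 0 191,
    .child 1 191,
    .rep 137 [19,11,149,77] [⟨20,[(0,true),(3,false)]⟩,⟨13,[(1,false),(0,false),(0,false)]⟩,⟨13,[(1,true),(2,false),(2,false)]⟩] [0,1,2,3,1],
    .child 0 137,
    .child 1 137,
    .child 0 78,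
    .child 1 78,
    .child 0 122,
    .child 0 27,
    .child 1 27,
    .child 0 408,
    .child 1 408,
    .rep 411 [19,133,61] [⟨6,[(4,true),(1,true)]⟩,⟨9,[(2,false),(1,true),(1,true)]⟩,⟨13,[(1,true),(0,false)]⟩] [0,1,1,0,0],
    .child 0 411,
    .child 1 411,
    .child 0 30,
    .child 1 30,
    .rep 39 [21,201,11,153,77] [⟨9,[(2,false),(0,false)]⟩,⟨6,[(2,true),(0,false),(1,false)]⟩,⟨13,[(2,false),(2,false),(0,false)]⟩] [0,1,1,2,1],
    .rep 101 [21,201,193,153,77] [⟨4,[(4,true)]⟩,⟨2,[]⟩,⟨13,[(1,true),(2,true)]⟩] [0,1,4,0,2],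
    .rep 38 [21,199,11,149,77] [⟨22,[(1,false),(0,false)]⟩,⟨5,[]⟩,⟨13,[(1,true),(2,false),(0,false)]⟩] [0,1,3,1,1],
    .rep 37 [199,15,149,77] [⟨14,[(2,true),(1,false)]⟩,⟨4,[(1,true),(0,false)]⟩,⟨13,[(1,true),(2,true),(1,true),(0,false)]⟩] [0,1,1,0,0],
    .rep 454 [197,11,177,115] [⟨1,[(0,false)]⟩,⟨10,[(0,true),(0,true)]⟩,⟨13,[(2,true),(2,true),(0,false)]⟩] [0,1,4,0,2]]]

/-- part 10 of `cov2_6` -/
def cov2_6P10 : List (List Cov) := [
  [.rep 4 [] [⟨27,[(1,false)]⟩,⟨0,[(2,true),(0,true),(2,false),(1,true)]⟩,⟨14,[(1,true),(2,false)]⟩] [0,1,0,3,1],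
    .child 0 4,
    .child 1 4,
    .child 0 67,
    .child 1 67,
    .child 0 15,
    .child 1 122,
    .child 0 193,
    .child 0 66,
    .child 1 66,
    .child 0 409,
    .child 0 59,
    .child 1 59,
    .child 0 391,
    .child 1 391,
    .child 0 39,
    .child 0 26,
    .child 1 26,
    .child 0 137,
    .child 1 137,
    .child 0 78,
    .child 0 58,
    .child 0 593,
    .child 0 285,
    .child 1 285,
    .child 0 190,
    .child 0 205,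
    .child 0 30,
    .child 1 30,
    .child 0 16,
    .rep 410 [21,19,11,149,77] [⟨16,[(3,false),(0,true)]⟩,⟨12,[(0,false)]⟩,⟨14,[(1,false),(0,false)]⟩] [0,0,3,1,2],
    .child 0 410,
    .child 1 410,
    .child 1 204,
    .child 0 65,
    .rep 194 [199,11,149,77] [⟨4,[(1,false),(0,true)]⟩,⟨4,[(1,true),(1,true),(0,false)]⟩,⟨14,[(0,false)]⟩] [0,0,0,2,2],
    .child 0 194,
    .child 0 592,
    .child 1 592,
    .child 0 191,
    .child 1 191,
    .child 0 408,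
    .child 0 31,
    .child 1 31,
    .child 0 454,
    .child 0 14,
    .child 0 33,
    .rep 101 [21,201,193,153,77] [⟨2,[]⟩,⟨3,[]⟩,⟨14,[(2,false)]⟩] [0,1,3,3,2],
    .child 0 101,
    .rep 37 [199,15,149,77] [⟨19,[(0,false)]⟩,⟨15,[(0,false)]⟩,⟨14,[(2,true),(1,false),(0,false)]⟩] [0,0,2,2,2]]]

/-- part 11 of `cov2_6` -/
def cov2_6P11 : List (List Cov) := [
  [.rep 4 [] [⟨9,[(1,true),(0,true)]⟩,⟨4,[(2,true),(0,false)]⟩,⟨12,[(4,true),(2,false),(1,false),(0,false)]⟩] [0,1,0,1,1],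
    .child 0 4,
    .child 0 31,
    .child 0 193,
    .child 1 193,
    .rep 410 [21,19,11,149,77] [⟨24,[(2,true),(0,true)]⟩,⟨7,[(1,false),(4,true),(0,false)]⟩,⟨12,[(1,false),(2,true)]⟩] [0,1,0,1,1],
    .child 0 410,
    .child 1 410,
    .child 0 67,
    .child 1 67,
    .child 0 14,
    .child 0 26,
    .child 1 26,
    .child 0 205,
    .child 1 205,
    .rep 212 [21,19,15,129,31] [⟨23,[(0,true),(3,false)]⟩,⟨7,[(3,false),(0,false)]⟩,⟨12,[(4,true),(2,false)]⟩] [0,1,0,2,0],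
    .child 0 212,
    .child 1 212,
    .child 0 32,
    .child 1 32,
    .child 0 204,
    .child 0 101,
    .child 1 101,
    .child 0 593,
    .child 1 593,
    .rep 195 [197,193,153,77] [⟨18,[(3,false),(1,true)]⟩,⟨11,[]⟩,⟨12,[(1,false),(2,false),(0,true)]⟩] [0,1,4,3,0],
    .child 0 195,
    .child 0 399,
    .child 0 33,
    .child 1 33,
    .rep 137 [19,11,149,77] [⟨3,[(1,false)]⟩,⟨5,[]⟩,⟨12,[(5,true),(2,false),(0,true)]⟩] [0,1,0,1,1],
    .rep 15 [197,193,173,55] [⟨13,[(4,false),(3,true)]⟩,⟨8,[(2,false),(1,false),(1,false)]⟩,⟨12,[(5,false),(0,true)]⟩] [0,1,2,1,2],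
    .child 0 15,
    .child 1 15,
    .child 0 391,
    .child 1 391,
    .rep 206 [199,195,173,31] [⟨27,[(0,false),(1,true)]⟩,⟨0,[(2,true),(0,true),(0,true),(0,true)]⟩,⟨12,[(5,true),(2,true)]⟩] [0,1,3,2,0],
    .child 0 206,
    .child 1 206,
    .child 0 592,
    .child 0 59,
    .rep 284 [19,15,129,31] [⟨7,[(0,false),(3,true)]⟩,⟨9,[(0,false),(5,false),(0,false)]⟩,⟨12,[(2,false),(0,true)]⟩] [0,1,2,3,1],
    .child 0 284,
    .child 1 284,
    .child 0 25,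
    .child 0 454,
    .rep 285 [21,197,193,153,77] [⟨5,[(4,true)]⟩,⟨4,[(1,true),(0,false)]⟩,⟨12,[(0,true)]⟩] [0,1,0,1,1],
    .rep 65 [201,11,149,77] [⟨0,[(0,false)]⟩,⟨7,[(0,true),(1,true)]⟩,⟨12,[(1,false),(2,false),(0,false)]⟩] [0,1,3,2,0],
    .rep 58 [197,195,189,95] [⟨2,[(1,false),(0,false)]⟩,⟨9,[(1,false),(0,true)]⟩,⟨12,[(5,false),(0,true),(1,false)]⟩] [0,1,4,0,2],
    .rep 192 [21,197,133,61] [⟨11,[(1,true),(0,false)]⟩,⟨2,[(0,false),(0,false)]⟩,⟨12,[(0,true),(0,true)]⟩] [0,1,2,3,1]]]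

/-- part 12 of `cov2_6` -/
def cov2_6P12 : List (List Cov) := [
  [.rep 4 [] [⟨3,[(1,false),(0,true)]⟩,⟨13,[(1,true),(1,true),(0,false)]⟩,⟨19,[(0,false)]⟩] [0,1,4,2,1],
    .child 0 4,
    .child 0 391,
    .child 1 391,
    .child 0 40,
    .child 0 137,
    .child 0 193,
    .child 1 193,
    .child 0 122,
    .child 1 122,
    .child 1 206,
    .child 0 33,
    .rep 410 [21,19,11,149,77] [⟨26,[(1,true),(4,true)]⟩,⟨1,[(2,true),(2,true),(0,true)]⟩,⟨19,[]⟩] [0,0,0,1,2],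
    .child 0 410,
    .child 1 410,
    .child 0 37,
    .child 1 37,
    .child 0 78,
    .child 0 101,
    .child 1 101,
    .child 0 593,
    .child 0 592,
    .child 1 592,
    .child 0 454,
    .child 0 6,
    .child 0 26,
    .child 1 26,
    .child 0 30,
    .child 1 30,
    .child 0 16,
    .child 0 14,
    .child 1 14,
    .child 0 409,
    .child 1 409,
    .child 1 38,
    .child 0 65,
    .child 0 285,
    .child 1 411,
    .child 0 31,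
    .child 1 32,
    .child 0 192,
    .child 0 190,
    .rep 195 [197,193,153,77] [⟨29,[(1,false),(0,false)]⟩,⟨0,[(0,false),(3,false),(0,false),(3,false),(0,false)]⟩,⟨19,[(0,false)]⟩] [0,0,1,2,2],
    .child 0 195,
    .child 0 24,
    .child 1 24,
    .child 1 191,
    .rep 59 [21,19,149,77] [⟨22,[(1,false)]⟩,⟨22,[(0,false)]⟩,⟨19,[]⟩] [0,1,4,0,1],
    .child 0 59,
    .rep 408 [21,19,195,149,77] [⟨15,[(0,false)]⟩,⟨14,[(2,true),(1,false),(0,false)]⟩,⟨19,[(0,false)]⟩] [0,0,4,0,1]]]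

/-- part 13 of `cov2_6` -/
def cov2_6P13 : List (List Cov) := [
  [.rep 4 [] [⟨21,[(2,false),(4,false),(3,true)]⟩,⟨23,[(0,true)]⟩,⟨18,[(2,true),(1,false),(1,false)]⟩] [0,0,1,1,2],
    .child 0 4,
    .rep 410 [21,19,11,149,77] [⟨21,[(4,false),(3,true),(1,false)]⟩,⟨20,[(0,false),(1,true)]⟩,⟨18,[(1,false),(3,false),(1,false)]⟩] [0,0,1,1,2],
    .child 0 410,
    .rep 212 [21,19,15,129,31] [⟨26,[(4,true)]⟩,⟨4,[(1,false),(1,false)]⟩,⟨18,[(1,true),(0,true)]⟩] [0,0,0,0,0],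
    .child 0 212,
    .rep 195 [197,193,153,77] [⟨18,[(4,true),(3,false),(0,false)]⟩,⟨18,[(4,true),(3,false),(0,false)]⟩,⟨18,[(4,true),(3,false),(0,false)]⟩] [0,0,0,0,0],
    .child 0 195,
    .rep 26 [201,149,77] [⟨20,[(2,false),(3,true)]⟩,⟨24,[(4,true),(0,true)]⟩,⟨18,[(0,false),(3,false),(0,false)]⟩] [0,0,1,1,2],
    .child 0 26,
    .rep 194 [199,11,149,77] [⟨11,[]⟩,⟨12,[(1,false),(2,false),(0,true)]⟩,⟨18,[(4,true),(2,false)]⟩] [0,0,0,0,0],
    .rep 15 [197,193,173,55] [⟨8,[(3,false),(2,false)]⟩,⟨21,[(4,false),(0,false)]⟩,⟨18,[(2,true),(1,false),(1,false)]⟩] [0,0,1,1,2],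
    .child 0 15,
    .rep 206 [199,195,173,31] [⟨24,[(3,false),(1,false)]⟩,⟨20,[(1,true),(1,true),(0,false)]⟩,⟨18,[(2,false),(1,false)]⟩] [0,0,1,1,2],
    .child 0 206,
    .rep 67 [21,19,129,31] [⟨1,[]⟩,⟨13,[(1,false),(4,true),(2,false)]⟩,⟨18,[(2,false),(0,false)]⟩] [0,0,1,1,2],
    .rep 191 [199,15,129,31] [⟨18,[(0,true),(2,false),(1,true)]⟩,⟨14,[(1,true),(0,false)]⟩,⟨18,[(4,false),(1,true),(0,false)]⟩] [0,0,1,1,2],
    .rep 284 [19,15,129,31] [⟨23,[(0,true),(0,true),(1,false)]⟩,⟨21,[(3,true),(1,false),(0,true)]⟩,⟨18,[(4,true),(2,true)]⟩] [0,0,1,1,2],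
    .child 0 284,
    .rep 411 [19,133,61] [⟨13,[(0,true)]⟩,⟨14,[(1,false),(0,false)]⟩,⟨18,[(1,false),(1,false),(0,true)]⟩] [0,0,0,0,0],
    .child 0 411,
    .rep 101 [21,201,193,153,77] [⟨29,[(0,false)]⟩,⟨0,[(1,false),(0,false),(0,false),(0,false)]⟩,⟨18,[(1,false),(0,false)]⟩] [0,0,0,0,0],
    .rep 78 [21,19,195,185,77] [⟨6,[(3,false),(2,true),(0,false)]⟩,⟨12,[(3,false),(0,false),(1,true)]⟩,⟨18,[(0,false),(3,false)]⟩] [0,0,0,0,0],
    .rep 190 [201,195,149,77] [⟨28,[(1,false),(4,false),(0,false)]⟩,⟨1,[(1,true),(2,false),(2,false)]⟩,⟨18,[(2,false),(4,false),(1,false)]⟩] [0,0,0,0,0],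
    .child 0 190,
    .rep 59 [21,19,149,77] [⟨13,[(0,false)]⟩,⟨14,[(0,false),(1,true)]⟩,⟨18,[(4,false),(0,true)]⟩] [0,0,1,1,2],
    .child 0 59,
    .rep 392 [21,201,149,77] [⟨6,[(1,false),(0,false)]⟩,⟨12,[(1,true),(2,true),(0,false)]⟩,⟨18,[(1,false),(4,false),(0,true)]⟩] [0,0,0,0,0],
    .child 0 392,
    .rep 391 [201,193,149,77] [⟨20,[(1,true),(4,true)]⟩,⟨8,[(4,false),(0,true)]⟩,⟨18,[(1,true),(0,true),(0,true)]⟩] [0,0,0,0,0],
    .child 0 391,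
    .rep 38 [21,199,11,149,77] [⟨21,[(4,false),(3,false),(1,false)]⟩,⟨8,[(2,true),(0,true)]⟩,⟨18,[(0,false),(1,true),(0,false)]⟩] [0,0,1,1,2],
    .child 0 38,
    .rep 204 [17,15,183,65] [⟨8,[(2,false),(3,true)]⟩,⟨20,[(2,false),(1,false),(0,false)]⟩,⟨18,[(0,true),(0,true),(1,false)]⟩] [0,0,0,0,0],
    .child 0 204,
    .rep 37 [199,15,149,77] [⟨6,[(1,true),(4,false),(0,false)]⟩,⟨12,[(0,false),(1,true)]⟩,⟨18,[(3,true),(1,true),(0,false)]⟩] [0,0,0,0,0],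
    .child 0 37,
    .rep 66 [21,201,153,55] [⟨18,[(4,true),(3,false),(0,true)]⟩,⟨18,[(2,true),(0,true)]⟩,⟨18,[(2,true),(0,true)]⟩] [0,0,1,1,2],
    .child 0 66,
    .rep 193 [21,201,193,173,55] [⟨26,[(0,true),(0,true)]⟩,⟨4,[(2,true),(0,false),(2,false),(0,true)]⟩,⟨18,[(4,true),(1,false),(0,false)]⟩] [0,0,1,1,2],
    .child 0 193,
    .rep 399 [17,11,151,69] [⟨27,[(2,false),(1,false)]⟩,⟨4,[(2,true),(1,true)]⟩,⟨18,[(1,false),(3,false),(0,false)]⟩] [0,0,1,1,2],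
    .rep 30 [201,195,173,31] [⟨28,[(1,false),(0,true)]⟩,⟨2,[(1,false),(2,false)]⟩,⟨18,[(1,false),(1,false),(1,false)]⟩] [0,0,1,1,2],
    .rep 32 [19,129,31] [⟨14,[(1,true),(0,false)]⟩,⟨18,[(4,false),(1,true),(0,false)]⟩,⟨18,[(0,true),(2,false),(1,true)]⟩] [0,0,1,1,2],
    .rep 205 [17,195,191,61] [⟨20,[(0,false),(2,true),(0,true)]⟩,⟨21,[(3,false),(2,true),(0,false)]⟩,⟨18,[(3,false)]⟩] [0,0,0,0,0],
    .child 0 205,
    .rep 192 [21,197,133,61] [⟨28,[(3,false),(1,false),(0,true)]⟩,⟨1,[(0,false),(1,false),(2,true),(0,true)]⟩,⟨18,[(4,false),(2,false),(1,false)]⟩] [0,0,0,0,0],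
    .child 0 192,
    .rep 122 [13,77] [⟨5,[(0,true),(2,false)]⟩,⟨11,[(1,false),(0,false)]⟩,⟨18,[(1,true),(1,true),(0,false)]⟩] [0,0,1,1,2],
    .rep 592 [21,193,159,63] [⟨3,[(0,false)]⟩,⟨12,[(3,false),(2,true)]⟩,⟨18,[(4,false),(3,false)]⟩] [0,0,1,1,2]]]

/-- part 14 of `cov2_6` -/
def cov2_6P14 : List (List Cov) := [
  [.rep 4 [] [⟨5,[(0,true)]⟩,⟨9,[(1,true),(2,true),(0,false)]⟩,⟨10,[(1,false),(1,false),(0,false)]⟩] [0,0,1,2,1],
    .rep 410 [21,19,11,149,77] [⟨24,[(3,false),(1,true)]⟩,⟨6,[(3,false)]⟩,⟨10,[(1,true),(2,false),(1,true)]⟩] [0,0,3,3,2],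
    .child 0 410,
    .child 1 410,
    .child 1 391,
    .child 0 101,
    .child 1 101,
    .child 0 39,
    .child 1 39,
    .child 0 27,
    .child 1 27,
    .rep 195 [197,193,153,77] [⟨3,[(1,true),(0,false)]⟩,⟨10,[(1,false),(2,false),(0,true)]⟩,⟨10,[(2,true),(1,false),(2,true),(0,false)]⟩] [0,0,2,2,2],
    .child 0 195,
    .child 1 195,
    .child 1 65,
    .child 0 194,
    .rep 26 [201,149,77] [⟨8,[(4,false),(1,true)]⟩,⟨4,[(3,false)]⟩,⟨10,[(1,true),(0,false)]⟩] [0,0,2,0,1],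
    .child 0 26,
    .child 1 26,
    .child 0 32,
    .child 1 32,
    .rep 15 [197,193,173,55] [⟨23,[(4,true),(1,true)]⟩,⟨6,[(4,true)]⟩,⟨10,[(2,true),(2,true),(1,false)]⟩] [0,0,4,3,2],
    .child 0 15,
    .child 1 15,
    .child 1 60,
    .child 0 399,
    .child 1 399,
    .child 0 409,
    .child 1 409,
    .child 0 58,
    .child 1 58,
    .rep 206 [199,195,173,31] [⟨28,[(0,false),(0,false),(0,false)]⟩,⟨3,[(0,true),(2,true),(1,true),(0,false),(0,false)]⟩,⟨10,[(1,true)]⟩] [0,0,1,2,1],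
    .child 1 206,
    .child 0 408,
    .child 1 408,
    .child 0 122,
    .rep 411 [19,133,61] [⟨6,[(0,true),(2,false),(2,false)]⟩,⟨7,[(2,false),(2,false),(0,false),(1,true)]⟩,⟨10,[]⟩] [0,0,0,1,1],
    .child 0 411,
    .child 1 204,
    .child 0 192,
    .child 1 192,
    .rep 78 [21,19,195,185,77] [⟨14,[(3,true),(1,false),(0,false)]⟩,⟨9,[(4,false)]⟩,⟨10,[(2,true),(1,false),(2,true),(0,false)]⟩] [0,0,2,0,1],
    .rep 190 [201,195,149,77] [⟨13,[(1,false),(0,true)]⟩,⟨7,[(0,false),(2,true),(2,true)]⟩,⟨10,[(0,false),(1,true),(1,true),(0,false)]⟩] [0,0,0,1,1],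
    .child 0 190,
    .child 1 190,
    .child 0 193,
    .child 1 193,
    .rep 66 [21,201,153,55] [⟨15,[(0,false)]⟩,⟨7,[(1,true),(0,true)]⟩,⟨10,[(0,false),(1,false),(1,false)]⟩] [0,0,1,1,2],
    .rep 205 [17,195,191,61] [⟨9,[(2,true),(1,false)]⟩,⟨1,[]⟩,⟨10,[(2,false),(2,false),(1,false)]⟩] [0,0,0,1,1],
    .rep 592 [21,193,159,63] [⟨2,[]⟩,⟨8,[(0,false),(3,false)]⟩,⟨10,[(1,true),(1,true),(0,false)]⟩] [0,0,2,0,1]]]

/-- part 15 of `cov2_6` -/
def cov2_6P15 : List (List Cov) := [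
  [.rep 4 [] [⟨25,[(2,false),(0,false)]⟩,⟨10,[(0,false)]⟩,⟨3,[(6,false),(3,true),(1,false)]⟩] [0,0,1,0,1],
    .child 0 4,
    .child 1 4,
    .child 1 15,
    .child 0 27,
    .rep 410 [21,19,11,149,77] [⟨7,[(2,true),(1,false)]⟩,⟨4,[(0,true),(0,true)]⟩,⟨3,[(6,true),(4,false),(1,true)]⟩] [0,1,3,0,2],
    .child 0 410,
    .child 1 410,
    .child 0 58,
    .child 1 58,
    .child 0 399,
    .child 1 206,
    .child 0 37,
    .child 0 205,
    .child 1 205,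
    .child 0 192,
    .child 0 195,
    .child 1 195,
    .child 1 26,
    .child 0 31,
    .child 0 6,
    .child 1 6,
    .child 1 137,
    .child 0 204,
    .child 0 14,
    .child 0 593,
    .child 1 16,
    .child 0 191,
    .child 0 65,
    .child 0 408,
    .child 0 66,
    .child 1 66,
    .child 0 32,
    .child 0 30,
    .child 0 454,
    .rep 194 [199,11,149,77] [⟨0,[(1,false)]⟩,⟨3,[]⟩,⟨3,[]⟩] [0,0,1,0,2],
    .child 0 194,
    .rep 67 [21,19,129,31] [⟨14,[(2,true),(1,false),(0,false)]⟩,⟨10,[(0,false)]⟩,⟨3,[(1,false),(5,false),(0,true)]⟩] [0,0,3,3,2],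
    .child 0 67,
    .child 1 67,
    .child 0 122,
    .child 0 193,
    .child 0 33,
    .child 1 33,
    .child 1 464,
    .child 0 24,
    .child 0 101,
    .child 0 78,
    .child 1 78,
    .rep 411 [19,133,61] [⟨12,[(0,false)]⟩,⟨4,[(2,false),(0,true)]⟩,⟨3,[(3,true),(2,false),(1,false)]⟩] [0,0,2,3,0]]]

/-- part 16 of `cov2_6` -/
def cov2_6P16 : List (List Cov) := [
  [.rep 4 [] [⟨2,[]⟩,⟨10,[(4,false),(0,false)]⟩,⟨25,[]⟩] [0,0,1,2,0],
    .child 0 4,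
    .rep 410 [21,19,11,149,77] [⟨23,[(4,true),(2,false)]⟩,⟨24,[(3,true),(1,true),(0,true)]⟩,⟨25,[(2,true)]⟩] [0,0,3,3,1],
    .child 0 410,
    .child 1 410,
    .child 0 392,
    .child 1 392,
    .child 0 30,
    .child 1 30,
    .child 2 30,
    .child 0 65,
    .child 1 65,
    .child 0 32,
    .child 0 190,
    .rep 212 [21,19,15,129,31] [⟨7,[(2,true)]⟩,⟨11,[(4,false),(2,false),(0,false)]⟩,⟨25,[(1,false)]⟩] [0,1,1,0,2],
    .child 0 212,
    .child 2 212,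
    .child 1 67,
    .child 0 6,
    .child 0 137,
    .rep 195 [197,193,153,77] [⟨28,[(0,false),(1,true),(1,true)]⟩,⟨4,[(2,true),(2,true),(0,true)]⟩,⟨25,[(1,false),(0,false)]⟩] [0,1,4,1,0],
    .child 0 195,
    .child 1 195,
    .child 2 195,
    .child 1 16,
    .child 0 191,
    .child 1 191,
    .child 0 15,
    .child 1 15,
    .child 0 592,
    .child 1 592,
    .child 2 592,
    .rep 26 [201,149,77] [⟨24,[(4,false),(2,false)]⟩,⟨23,[(1,false),(3,false),(0,false)]⟩,⟨25,[(2,true)]⟩] [0,0,4,0,0],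
    .child 0 26,
    .child 1 26,
    .child 2 26,
    .child 0 31,
    .child 1 31,
    .child 2 31,
    .child 0 38,
    .child 1 38,
    .child 2 38,
    .child 0 60,
    .child 1 60,
    .rep 206 [199,195,173,31] [⟨10,[(0,false)]⟩,⟨3,[(4,false),(1,false)]⟩,⟨25,[(0,true)]⟩] [0,0,3,3,1],
    .rep 40 [201,193,13,77] [⟨16,[(0,false)]⟩,⟨17,[(2,false),(0,false)]⟩,⟨25,[(0,true)]⟩] [0,1,4,2,1],
    .child 0 40,
    .child 0 33,
    .child 1 33,
    .rep 205 [17,195,191,61] [⟨29,[(1,false),(0,false)]⟩,⟨0,[(2,false),(1,false),(0,true),(4,false),(0,false),(0,false)]⟩,⟨25,[(1,false),(0,false)]⟩] [0,1,1,1,2]]]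

/-- part 17 of `cov2_6` -/
def cov2_6P17 : List (List Cov) := [
  [.rep 4 [] [⟨22,[]⟩,⟨29,[(1,true)]⟩,⟨0,[(0,true),(1,false),(3,false),(0,false),(0,false)]⟩] [0,1,1,2,2],
    .child 1 4,
    .rep 410 [21,19,11,149,77] [⟨20,[]⟩,⟨29,[(1,false)]⟩,⟨0,[(4,false),(2,false),(3,false),(0,false)]⟩] [0,1,1,0,2],
    .child 0 410,
    .child 1 410,
    .child 0 593,
    .child 0 58,
    .child 1 58,
    .child 1 39,
    .child 0 32,
    .child 1 32,
    .child 0 65,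
    .child 1 65,
    .child 0 30,
    .rep 212 [21,19,15,129,31] [⟨8,[(3,true),(1,false)]⟩,⟨29,[(1,false)]⟩,⟨0,[(3,false),(2,false),(1,false),(0,false)]⟩] [0,1,1,3,0],
    .child 0 212,
    .child 0 409,
    .child 1 409,
    .child 1 137,
    .child 0 6,
    .rep 195 [197,193,153,77] [⟨18,[(4,true),(3,false),(0,false)]⟩,⟨29,[(0,false)]⟩,⟨0,[(1,false),(0,false),(0,false),(0,false)]⟩] [0,1,1,1,1],
    .child 0 195,
    .child 1 195,
    .child 0 25,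
    .child 1 25,
    .child 0 192,
    .child 1 192,
    .child 1 59,
    .child 0 454,
    .child 1 454,
    .child 0 592,
    .child 1 592,
    .rep 26 [201,149,77] [⟨21,[(2,false),(4,true)]⟩,⟨29,[(0,false),(0,false)]⟩,⟨0,[(0,true),(0,true),(1,true),(0,false),(1,false)]⟩] [0,0,2,2,1],
    .child 0 26,
    .child 1 26,
    .child 0 27,
    .child 1 27,
    .child 0 464,
    .child 1 464,
    .child 0 38,
    .child 1 38,
    .child 0 399,
    .child 1 399,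
    .child 0 391,
    .rep 206 [199,195,173,31] [⟨19,[(0,false)]⟩,⟨29,[(3,false),(0,true)]⟩,⟨0,[(0,false),(3,false),(0,false),(3,false),(0,false)]⟩] [0,1,1,0,2],
    .rep 40 [201,193,13,77] [⟨29,[(3,false),(0,true)]⟩,⟨1,[(0,false),(1,true),(0,false)]⟩,⟨0,[(2,true),(0,true),(4,false),(2,false),(0,false)]⟩] [0,0,2,1,0],
    .child 0 40,
    .child 1 40,
    .child 0 122,
    .rep 205 [17,195,191,61] [⟨25,[(2,false),(0,false)]⟩,⟨29,[(2,false),(0,false)]⟩,⟨0,[(2,false),(1,false),(0,true),(4,false),(0,false),(0,false)]⟩] [0,1,1,1,2]]]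

/-- part 18 of `cov2_6` -/
def cov2_6P18 : List (List Cov) := [
  [.rep 4 [] [⟨21,[(4,false)]⟩,⟨9,[(0,false)]⟩,⟨14,[(0,false),(3,false),(0,false)]⟩] [0,0,2,1,0],
    .child 0 4,
    .rep 410 [21,19,11,149,77] [⟨23,[(2,false),(3,true),(1,false)]⟩,⟨6,[(2,false),(1,true)]⟩,⟨14,[(2,true),(2,true),(1,true),(0,false)]⟩] [0,0,1,0,2],
    .child 0 410,
    .rep 212 [21,19,15,129,31] [⟨8,[(1,false)]⟩,⟨13,[(4,false),(0,false),(0,false)]⟩,⟨14,[(1,true),(3,false),(0,false)]⟩] [0,0,2,1,0],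
    .child 0 212,
    .rep 195 [197,193,153,77] [⟨21,[(0,false),(3,true),(0,false)]⟩,⟨5,[(2,false)]⟩,⟨14,[(1,true),(1,true)]⟩] [0,0,1,0,2],
    .child 0 195,
    .rep 26 [201,149,77] [⟨21,[(1,false)]⟩,⟨6,[(3,false),(2,true),(1,false)]⟩,⟨14,[(3,false),(1,true),(2,false),(0,false)]⟩] [0,0,2,1,0],
    .child 0 26,
    .rep 194 [199,11,149,77] [⟨26,[(3,false),(1,false)]⟩,⟨3,[(2,true),(1,true),(1,true),(1,true)]⟩,⟨14,[(0,false),(1,false),(1,false),(3,false)]⟩] [0,0,2,1,0],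
    .child 0 194,
    .rep 137 [19,11,149,77] [⟨26,[(4,false)]⟩,⟨3,[(0,false),(2,false),(0,true)]⟩,⟨14,[(1,true),(3,false),(1,true),(1,true),(0,false)]⟩] [0,0,1,0,2],
    .child 0 137,
    .rep 15 [197,193,173,55] [⟨20,[(1,true)]⟩,⟨5,[(1,true)]⟩,⟨14,[(1,false),(3,false),(2,false),(2,false)]⟩] [0,0,2,1,0],
    .child 0 15,
    .rep 67 [21,19,129,31] [⟨13,[(4,true),(0,false)]⟩,⟨7,[(1,true),(3,false),(2,false),(2,false),(0,false)]⟩,⟨14,[(1,true),(1,true),(0,false)]⟩] [0,0,2,1,0],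
    .child 0 67,
    .rep 284 [19,15,129,31] [⟨28,[(2,true),(1,false),(1,false),(0,false)]⟩,⟨3,[(2,false),(0,false),(0,false),(0,false)]⟩,⟨14,[(0,false),(1,true),(1,true)]⟩] [0,0,2,1,0],
    .rep 285 [21,197,193,153,77] [⟨13,[(2,true),(0,true)]⟩,⟨7,[(2,true),(1,true),(0,false)]⟩,⟨14,[(2,false),(2,false),(0,false),(1,true)]⟩] [0,0,1,0,2],
    .child 0 285,
    .rep 78 [21,19,195,185,77] [⟨6,[(0,true),(2,false),(1,true)]⟩,⟨7,[(2,true),(1,true),(0,false)]⟩,⟨14,[(1,false),(1,false),(0,false)]⟩] [0,0,1,0,2],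
    .child 0 78,
    .rep 190 [201,195,149,77] [⟨6,[(1,false),(4,false),(0,false)]⟩,⟨7,[(1,true),(1,true),(2,false),(0,false)]⟩,⟨14,[(1,false),(3,false),(0,false)]⟩] [0,0,1,0,2],
    .child 0 190,
    .rep 59 [21,19,149,77] [⟨7,[(1,true)]⟩,⟨8,[(1,false),(0,false),(0,false)]⟩,⟨14,[(1,false),(1,false),(3,false),(1,false)]⟩] [0,0,2,1,0],
    .rep 40 [201,193,13,77] [⟨20,[(4,true),(1,false),(1,false)]⟩,⟨9,[(4,true),(0,false)]⟩,⟨14,[(1,false),(1,false),(3,false),(1,false)]⟩] [0,0,1,0,2],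
    .child 0 40,
    .rep 391 [201,193,149,77] [⟨4,[(2,false),(1,false),(0,false)]⟩,⟨7,[(1,true),(3,false),(2,false)]⟩,⟨14,[(0,false),(1,false),(3,false)]⟩] [0,0,2,1,0],
    .rep 65 [201,11,149,77] [⟨8,[(2,false),(1,true)]⟩,⟨13,[(3,true)]⟩,⟨14,[(2,false),(0,false),(1,false)]⟩] [0,0,1,0,2],
    .child 0 65,
    .rep 24 [19,193,175,77] [⟨11,[(4,true),(1,false)]⟩,⟨8,[(4,false),(0,false)]⟩,⟨14,[(1,true),(1,true),(2,true)]⟩] [0,0,1,0,2],
    .rep 37 [199,15,149,77] [⟨18,[(0,false),(3,true)]⟩,⟨13,[(4,true),(0,false)]⟩,⟨14,[(1,true),(0,false),(1,false),(1,false)]⟩] [0,0,1,0,2],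
    .child 0 37,
    .rep 409 [197,173,57] [⟨28,[(3,true),(1,true),(0,false)]⟩,⟨3,[(1,false),(2,false),(0,true)]⟩,⟨14,[(0,false),(1,false),(2,true),(1,false)]⟩] [0,0,2,1,0],
    .child 0 409,
    .rep 66 [21,201,153,55] [⟨13,[(2,false),(1,true),(0,false)]⟩,⟨6,[(2,false),(1,false)]⟩,⟨14,[(2,true),(1,false),(2,true)]⟩] [0,0,2,1,0],
    .rep 464 [21,201,11,173,55] [⟨18,[(3,false),(0,true)]⟩,⟨13,[(0,true)]⟩,⟨14,[(1,false),(0,false)]⟩] [0,0,1,0,2],
    .child 0 464,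
    .rep 193 [21,201,193,173,55] [⟨22,[]⟩,⟨13,[(3,false),(2,true),(2,true)]⟩,⟨14,[(2,false),(2,false),(1,false),(1,false),(0,false)]⟩] [0,0,2,1,0],
    .rep 399 [17,11,151,69] [⟨28,[(2,false),(1,false),(0,false)]⟩,⟨3,[(1,true),(2,true),(0,false)]⟩,⟨14,[(2,true),(1,true),(1,true),(0,false)]⟩] [0,0,2,1,0],
    .child 0 399,
    .rep 58 [197,195,189,95] [⟨20,[(3,false),(2,false)]⟩,⟨6,[(0,false),(2,true),(0,true)]⟩,⟨14,[(0,false),(1,true),(0,false),(1,false),(0,false)]⟩] [0,0,2,1,0],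
    .child 0 58,
    .rep 33 [21,17,15,133,27] [⟨5,[(2,false),(0,false)]⟩,⟨6,[(2,false),(2,false),(0,false)]⟩,⟨14,[(0,false),(2,true),(0,false)]⟩] [0,0,1,0,2],
    .rep 205 [17,195,191,61] [⟨6,[(0,false),(1,true)]⟩,⟨9,[(2,false)]⟩,⟨14,[(2,true),(1,true)]⟩] [0,0,2,1,0],
    .rep 192 [21,197,133,61] [⟨24,[(4,true),(3,false),(2,false)]⟩,⟨6,[(2,true),(2,true)]⟩,⟨14,[(1,true),(1,true),(2,true),(0,false)]⟩] [0,0,2,1,0],
    .child 0 192,
    .rep 14 [21,201,195,153,77] [⟨17,[(2,false),(0,false)]⟩,⟨6,[(4,false),(0,true)]⟩,⟨14,[(2,true),(0,false),(1,true)]⟩] [0,0,2,1,0],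
    .rep 408 [21,19,195,149,77] [⟨3,[(0,false)]⟩,⟨10,[(3,false),(5,false),(0,false)]⟩,⟨14,[(1,false),(2,true),(2,true)]⟩] [0,0,1,0,2]]]

/-- part 19 of `cov2_6` -/
def cov2_6P19 : List (List Cov) := [
  [.rep 4 [] [⟨5,[(1,false),(0,false)]⟩,⟨8,[(0,false),(1,false),(2,true)]⟩,⟨13,[(2,false),(0,false)]⟩] [0,0,1,0,2],
    .child 0 4,
    .child 1 4,
    .child 1 16,
    .child 0 14,
    .child 0 399,
    .child 0 206,
    .child 1 206,
    .child 0 6,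
    .child 1 6,
    .child 0 195,
    .child 0 78,
    .rep 410 [21,19,11,149,77] [⟨8,[(2,true)]⟩,⟨7,[(1,false),(3,false),(0,false)]⟩,⟨13,[]⟩] [0,1,1,3,0],
    .child 0 410,
    .child 1 410,
    .child 0 192,
    .child 1 192,
    .child 0 58,
    .child 0 391,
    .child 1 391,
    .child 0 27,
    .child 0 30,
    .child 1 30,
    .child 1 205,
    .child 0 204,
    .child 0 409,
    .child 1 409,
    .child 0 66,
    .child 1 66,
    .child 0 24,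
    .child 1 464,
    .child 0 212,
    .child 1 212,
    .child 0 411,
    .child 1 37,
    .child 0 592,
    .child 1 137,
    .child 1 25,
    .child 1 392,
    .child 0 193,
    .child 0 15,
    .child 0 593,
    .rep 26 [201,149,77] [⟨17,[(0,false)]⟩,⟨15,[(0,false)]⟩,⟨13,[(0,true)]⟩] [0,1,3,0,1],
    .child 0 26,
    .child 1 26,
    .child 0 31,
    .child 1 31,
    .rep 67 [21,19,129,31] [⟨1,[(1,false)]⟩,⟨5,[(1,true),(0,false)]⟩,⟨13,[(0,true)]⟩] [0,0,1,3,2],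
    .child 0 67,
    .rep 39 [21,201,11,153,77] [⟨10,[(0,false)]⟩,⟨2,[(5,false),(2,false),(1,false)]⟩,⟨13,[(2,false),(0,true)]⟩] [0,0,4,3,0]]]

/-- part 20 of `cov2_6` -/
def cov2_6P20 : List (List Cov) := [
  [.rep 4 [] [⟨28,[(2,true),(2,true)]⟩,⟨4,[(2,false),(0,true),(2,true)]⟩,⟨20,[(1,false),(3,false)]⟩] [0,1,3,0,0],
    .child 0 4,
    .rep 410 [21,19,11,149,77] [⟨21,[(3,true),(1,false),(0,true)]⟩,⟨23,[(0,true),(2,false)]⟩,⟨20,[(0,false),(2,true),(1,false)]⟩] [0,1,3,0,0],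
    .child 0 410,
    .rep 212 [21,19,15,129,31] [⟨27,[(0,false),(3,true)]⟩,⟨1,[(2,false),(0,true),(0,true),(0,true)]⟩,⟨20,[(0,true),(4,false)]⟩] [0,0,3,3,1],
    .rep 195 [197,193,153,77] [⟨8,[(3,true),(1,false),(0,false)]⟩,⟨18,[(4,false),(2,true)]⟩,⟨20,[(4,true),(1,false)]⟩] [0,0,3,3,1],
    .child 0 195,
    .rep 26 [201,149,77] [⟨9,[(2,false),(1,false),(0,false)]⟩,⟨14,[(2,false),(1,false),(2,true)]⟩,⟨20,[(3,false),(2,false)]⟩] [0,1,3,0,0],
    .child 0 26,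
    .rep 194 [199,11,149,77] [⟨18,[(3,false),(1,false)]⟩,⟨24,[(3,false),(1,false)]⟩,⟨20,[(1,true),(1,true),(0,false)]⟩] [0,0,3,3,1],
    .child 0 194,
    .rep 137 [19,11,149,77] [⟨3,[(2,false)]⟩,⟨13,[(4,true),(2,false),(1,false),(0,false)]⟩,⟨20,[(3,true)]⟩] [0,1,3,0,0],
    .child 0 137,
    .rep 15 [197,193,173,55] [⟨21,[(4,true),(3,false),(0,false)]⟩,⟨24,[(2,true),(1,true),(0,true)]⟩,⟨20,[(2,false),(3,true),(0,true)]⟩] [0,0,3,3,1],
    .child 0 15,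
    .rep 206 [199,195,173,31] [⟨7,[(0,true),(3,false)]⟩,⟨11,[(0,false),(5,true),(2,true)]⟩,⟨20,[(4,false),(2,true),(0,false)]⟩] [0,0,3,3,1],
    .rep 67 [21,19,129,31] [⟨26,[(1,false),(1,false),(0,false)]⟩,⟨2,[(1,true),(2,false),(0,false)]⟩,⟨20,[(0,false),(3,false)]⟩] [0,1,3,0,0],
    .rep 191 [199,15,129,31] [⟨18,[(1,false),(4,false),(0,false),(0,false)]⟩,⟨8,[(2,false),(3,true)]⟩,⟨20,[(2,false),(1,false),(0,false)]⟩] [0,0,3,3,1],
    .child 0 191,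
    .rep 284 [19,15,129,31] [⟨13,[(1,true),(4,true),(2,true)]⟩,⟨11,[(1,false),(1,false)]⟩,⟨20,[(2,true)]⟩] [0,1,3,0,0],
    .child 0 284,
    .rep 411 [19,133,61] [⟨5,[(3,false)]⟩,⟨14,[(1,false),(2,true)]⟩,⟨20,[(4,true),(2,false)]⟩] [0,0,3,3,1],
    .child 0 411,
    .rep 39 [21,201,11,153,77] [⟨23,[(0,true),(1,false)]⟩,⟨8,[(0,true),(3,false)]⟩,⟨20,[(4,false),(2,true),(0,true)]⟩] [0,0,3,3,1],
    .rep 101 [21,201,193,153,77] [⟨6,[(0,false),(0,false),(1,true)]⟩,⟨14,[(0,false),(1,true),(0,false),(1,false),(0,false)]⟩,⟨20,[(0,true),(0,true)]⟩] [0,1,3,0,0],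
    .child 0 101,
    .rep 59 [21,19,149,77] [⟨21,[(4,true),(3,true),(0,false)]⟩,⟨18,[(3,false)]⟩,⟨20,[(0,false),(2,true),(0,true)]⟩] [0,0,3,3,1],
    .child 0 59,
    .rep 392 [21,201,149,77] [⟨18,[(1,false)]⟩,⟨21,[(4,false),(3,true),(1,false)]⟩,⟨20,[(0,false),(1,true)]⟩] [0,1,3,0,0],
    .child 0 392,
    .rep 40 [201,193,13,77] [⟨20,[(2,true),(1,true),(0,false)]⟩,⟨24,[(1,true),(4,false),(0,false)]⟩,⟨20,[(0,true),(4,false)]⟩] [0,1,3,0,0],
    .rep 65 [201,11,149,77] [⟨23,[(1,false),(0,false)]⟩,⟨21,[(1,false),(3,false),(0,false)]⟩,⟨20,[(0,true),(4,false)]⟩] [0,1,3,0,0],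
    .child 0 65,
    .rep 204 [17,15,183,65] [⟨13,[(3,false),(2,true)]⟩,⟨12,[(3,false),(2,false),(2,false),(0,false)]⟩,⟨20,[(3,false),(2,true)]⟩] [0,0,3,3,1],
    .child 0 204,
    .rep 60 [21,197,11,149,77] [⟨24,[(0,false),(0,false),(0,false)]⟩,⟨18,[(0,false),(3,false),(0,false)]⟩,⟨20,[(0,false),(1,true),(0,false)]⟩] [0,1,3,0,0],
    .child 0 60,
    .rep 409 [197,173,57] [⟨26,[(0,false),(4,true)]⟩,⟨1,[(0,true),(0,true),(2,true),(0,false)]⟩,⟨20,[(4,false),(1,true),(0,false)]⟩] [0,1,3,0,0],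
    .child 0 409,
    .rep 66 [21,201,153,55] [⟨24,[(3,false),(1,false),(0,true)]⟩,⟨24,[(0,false)]⟩,⟨20,[(4,false),(1,true),(0,false)]⟩] [0,1,3,0,0],
    .child 0 66,
    .rep 193 [21,201,193,173,55] [⟨24,[(4,false),(2,true),(0,true)]⟩,⟨21,[(1,false),(1,false),(0,true)]⟩,⟨20,[(4,true),(0,false)]⟩] [0,1,3,0,0],
    .child 0 193,
    .rep 399 [17,11,151,69] [⟨24,[(1,true),(3,true),(0,false)]⟩,⟨16,[(0,false),(0,false)]⟩,⟨20,[(4,false),(1,true)]⟩] [0,1,3,0,0],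
    .rep 32 [19,129,31] [⟨17,[]⟩,⟨24,[(4,true),(1,false),(1,false)]⟩,⟨20,[(0,false),(2,true)]⟩] [0,1,3,0,0],
    .rep 205 [17,195,191,61] [⟨29,[(1,true)]⟩,⟨0,[(0,false)]⟩,⟨20,[(2,false),(1,true)]⟩] [0,0,3,3,1],
    .rep 192 [21,197,133,61] [⟨13,[(0,false),(2,true),(0,true)]⟩,⟨13,[(2,true),(1,true)]⟩,⟨20,[(1,false),(1,false),(0,false)]⟩] [0,0,3,3,1],
    .child 0 192,
    .rep 122 [13,77] [⟨24,[(1,false),(1,false),(0,true)]⟩,⟨20,[(0,true),(4,false)]⟩,⟨20,[(2,true),(0,true)]⟩] [0,1,3,0,0],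
    .rep 31 [21,11,149,77] [⟨8,[(0,true),(1,false)]⟩,⟨23,[(0,false),(1,true)]⟩,⟨20,[(4,true),(0,false)]⟩] [0,1,3,0,0]]]

/-- part 21 of `cov2_6` -/
def cov2_6P21 : List (List Cov) := [
  [.rep 4 [] [⟨18,[(4,true),(2,false)]⟩,⟨23,[(3,true),(2,true)]⟩,⟨21,[(4,true),(0,true)]⟩] [0,0,2,0,1],
    .child 0 4,
    .rep 410 [21,19,11,149,77] [⟨23,[(0,false),(4,true)]⟩,⟨23,[(0,true)]⟩,⟨21,[(4,true),(3,false),(0,false)]⟩] [0,1,3,1,2],
    .child 0 410,
    .rep 212 [21,19,15,129,31] [⟨27,[(3,false),(0,true)]⟩,⟨1,[(1,true),(0,false),(1,false)]⟩,⟨21,[(1,true),(1,true),(0,false)]⟩] [0,0,2,0,1],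
    .rep 195 [197,193,153,77] [⟨8,[(4,true),(1,false),(0,false)]⟩,⟨18,[(1,true),(3,true)]⟩,⟨21,[(2,false),(2,false)]⟩] [0,0,2,0,1],
    .child 0 195,
    .rep 26 [201,149,77] [⟨18,[(3,true)]⟩,⟨8,[(3,false),(2,false)]⟩,⟨21,[(4,false),(0,false)]⟩] [0,0,2,0,1],
    .child 0 26,
    .rep 194 [199,11,149,77] [⟨28,[(0,true),(1,false),(0,false)]⟩,⟨4,[(2,true),(1,true),(1,true),(0,false)]⟩,⟨21,[(1,true),(3,true)]⟩] [0,0,2,0,1],
    .child 0 194,
    .rep 137 [19,11,149,77] [⟨18,[(4,false),(2,false)]⟩,⟨20,[(3,true),(1,false),(1,false)]⟩,⟨21,[(3,false),(2,true),(0,false)]⟩] [0,0,2,0,1],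
    .child 0 137,
    .rep 15 [197,193,173,55] [⟨24,[(0,false),(3,false)]⟩,⟨20,[(2,false),(3,true),(0,true)]⟩,⟨21,[(0,false),(0,false),(0,false)]⟩] [0,1,3,1,2],
    .child 0 15,
    .rep 206 [199,195,173,31] [⟨8,[(3,false),(1,false),(0,true)]⟩,⟨24,[(4,true),(3,false),(0,true)]⟩,⟨21,[(0,true)]⟩] [0,0,2,0,1],
    .rep 67 [21,19,129,31] [⟨24,[(4,true),(1,false),(0,true)]⟩,⟨8,[(4,false),(0,true)]⟩,⟨21,[(4,true),(0,false)]⟩] [0,0,2,0,1],
    .rep 191 [199,15,129,31] [⟨9,[(0,false)]⟩,⟨14,[(1,false),(3,false),(2,false)]⟩,⟨21,[(1,false),(1,false)]⟩] [0,0,2,0,1],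
    .child 0 191,
    .rep 284 [19,15,129,31] [⟨20,[(4,true),(3,false),(0,true)]⟩,⟨18,[(1,false),(3,false),(1,false)]⟩,⟨21,[(2,false),(4,true)]⟩] [0,0,2,0,1],
    .child 0 284,
    .rep 411 [19,133,61] [⟨5,[(3,true),(1,false)]⟩,⟨14,[(1,false),(2,true),(2,true),(1,false)]⟩,⟨21,[(4,false)]⟩] [0,1,3,1,2],
    .child 0 411,
    .rep 39 [21,201,11,153,77] [⟨26,[(3,false),(0,true)]⟩,⟨2,[(0,true),(2,true),(1,false)]⟩,⟨21,[(0,true),(2,false)]⟩] [0,1,3,1,2],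
    .rep 101 [21,201,193,153,77] [⟨6,[(1,false),(4,true)]⟩,⟨14,[(3,false),(0,false)]⟩,⟨21,[]⟩] [0,1,3,1,2],
    .child 0 101,
    .rep 59 [21,19,149,77] [⟨13,[(4,true),(3,false),(1,false)]⟩,⟨11,[(1,false)]⟩,⟨21,[(4,true),(2,false)]⟩] [0,1,3,1,2],
    .child 0 59,
    .rep 392 [21,201,149,77] [⟨3,[(1,true)]⟩,⟨13,[(1,true),(5,false),(1,true),(0,false)]⟩,⟨21,[(3,false),(1,false)]⟩] [0,1,3,1,2],
    .child 0 392,
    .rep 40 [201,193,13,77] [⟨23,[(0,true),(3,false)]⟩,⟨16,[(1,false)]⟩,⟨21,[(4,false),(3,false),(1,false)]⟩] [0,1,3,1,2],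
    .rep 65 [201,11,149,77] [⟨20,[(2,true),(1,false),(1,false),(0,false)]⟩,⟨23,[(0,false),(1,true),(1,true)]⟩,⟨21,[(1,false),(3,false),(0,false)]⟩] [0,0,2,0,1],
    .child 0 65,
    .rep 204 [17,15,183,65] [⟨23,[(1,true),(0,true)]⟩,⟨18,[(0,true),(1,false),(0,false)]⟩,⟨21,[(4,false),(2,false)]⟩] [0,0,2,0,1],
    .child 0 204,
    .rep 60 [21,197,11,149,77] [⟨13,[(2,true),(4,true)]⟩,⟨12,[(0,false),(1,true),(0,false),(1,false),(0,false)]⟩,⟨21,[(3,false),(1,false)]⟩] [0,1,3,1,2],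
    .child 0 60,
    .rep 409 [197,173,57] [⟨13,[(3,false),(2,true),(1,false)]⟩,⟨13,[(2,false)]⟩,⟨21,[(3,true),(1,false),(0,true)]⟩] [0,0,2,0,1],
    .child 0 409,
    .rep 66 [21,201,153,55] [⟨20,[(3,false),(0,true)]⟩,⟨24,[(1,false),(3,false),(0,false)]⟩,⟨21,[(1,false),(1,false),(0,true)]⟩] [0,0,2,0,1],
    .child 0 66,
    .rep 193 [21,201,193,173,55] [⟨23,[(2,false),(0,false),(2,true)]⟩,⟨20,[(0,false),(2,true),(1,false)]⟩,⟨21,[(0,true),(4,false)]⟩] [0,0,2,0,1],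
    .child 0 193,
    .rep 399 [17,11,151,69] [⟨21,[(3,true),(1,true),(0,true)]⟩,⟨23,[(4,true),(0,false)]⟩,⟨21,[(1,true),(4,false),(0,false)]⟩] [0,1,3,1,2],
    .rep 32 [19,129,31] [⟨17,[(3,false)]⟩,⟨23,[(2,true),(4,true)]⟩,⟨21,[(1,false),(0,false)]⟩] [0,0,2,0,1],
    .rep 205 [17,195,191,61] [⟨23,[(3,false),(0,true)]⟩,⟨21,[(1,true),(4,false),(0,false)]⟩,⟨21,[(2,true),(0,true)]⟩] [0,0,2,0,1],
    .rep 192 [21,197,133,61] [⟨26,[(0,false),(4,true)]⟩,⟨1,[(2,true),(1,true),(0,true)]⟩,⟨21,[(4,true),(0,false)]⟩] [0,1,3,1,2],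
    .child 0 192,
    .rep 122 [13,77] [⟨29,[(2,true)]⟩,⟨0,[(2,true),(3,false),(2,false),(0,true)]⟩,⟨21,[(3,true),(1,true)]⟩] [0,0,2,0,1],
    .rep 31 [21,11,149,77] [⟨7,[(1,false),(4,true),(0,false)]⟩,⟨11,[(0,false),(2,true)]⟩,⟨21,[(0,false),(4,true)]⟩] [0,1,3,1,2]]]

/-- part 22 of `cov2_6` -/
def cov2_6P22 : List (List Cov) := [
  [.rep 4 [] [⟨3,[]⟩,⟨8,[(1,false)]⟩,⟨12,[(1,true),(0,true)]⟩] [0,0,4,0,0],
    .child 0 4,
    .child 0 60,
    .child 0 190,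
    .child 0 399,
    .child 1 399,
    .rep 410 [21,19,11,149,77] [⟨9,[(1,true),(0,false)]⟩,⟨5,[(1,false),(1,false),(0,false)]⟩,⟨12,[(0,false),(0,false)]⟩] [0,0,2,0,0],
    .child 0 410,
    .child 0 411,
    .child 0 40,
    .child 0 191,
    .child 1 14,
    .rep 212 [21,19,15,129,31] [⟨18,[(2,false)]⟩,⟨3,[(0,false)]⟩,⟨12,[(3,false),(2,true)]⟩] [0,0,3,3,1],
    .child 0 212,
    .child 1 212,
    .child 0 32,
    .child 1 32,
    .child 0 464,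
    .child 0 101,
    .child 0 194,
    .child 0 67,
    .child 1 67,
    .child 0 454,
    .child 1 454,
    .child 1 39,
    .child 0 24,
    .child 1 24,
    .child 0 408,
    .child 0 392,
    .child 0 15,
    .child 0 16,
    .child 0 206,
    .child 0 391,
    .child 1 391,
    .child 1 285,
    .child 0 65,
    .child 1 65,
    .child 1 284,
    .child 1 592,
    .child 1 193,
    .child 1 192,
    .child 0 409,
    .rep 78 [21,19,195,185,77] [⟨17,[(1,false)]⟩,⟨0,[(1,false)]⟩,⟨12,[(2,false),(0,false)]⟩] [0,0,3,3,1],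
    .child 0 78,
    .child 1 78,
    .child 1 31,
    .child 0 25,
    .rep 204 [17,15,183,65] [⟨12,[]⟩,⟨5,[(1,false),(0,false)]⟩,⟨12,[(1,true),(0,true)]⟩] [0,0,1,0,1],
    .rep 27 [21,197,193,129,31] [⟨1,[(0,false)]⟩,⟨2,[]⟩,⟨12,[(0,false)]⟩] [0,0,2,1,0],
    .rep 593 [21,19,195,173,75] [⟨2,[(1,false),(0,false)]⟩,⟨6,[(0,true)]⟩,⟨12,[(2,true),(0,false)]⟩] [0,0,0,0,2]]]

/-- part 23 of `cov2_6` -/
def cov2_6P23 : List (List Cov) := [
  [.rep 4 [] [⟨6,[(4,false),(1,false)]⟩,⟨14,[(2,false),(2,false),(1,false),(0,false)]⟩,⟨23,[(0,true),(4,false),(0,false)]⟩] [0,1,0,0,2],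
    .child 0 4,
    .rep 410 [21,19,11,149,77] [⟨13,[(3,true),(2,true)]⟩,⟨12,[(1,false),(2,false),(2,false),(0,false)]⟩,⟨23,[(1,true)]⟩] [0,1,0,0,2],
    .child 0 410,
    .rep 212 [21,19,15,129,31] [⟨21,[(1,false),(0,true)]⟩,⟨18,[(2,false),(4,false),(1,false)]⟩,⟨23,[(0,true),(0,true),(1,false)]⟩] [0,1,0,0,2],
    .child 0 212,
    .rep 26 [201,149,77] [⟨6,[(2,false),(4,true),(2,false)]⟩,⟨10,[(1,false),(2,false),(1,false)]⟩,⟨23,[(2,false),(4,true),(2,false)]⟩] [0,1,0,0,2],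
    .child 0 26,
    .rep 194 [199,11,149,77] [⟨8,[(1,false),(4,true),(0,false)]⟩,⟨20,[(4,false),(2,true),(0,true)]⟩,⟨23,[(0,false)]⟩] [0,0,3,3,2],
    .rep 137 [19,11,149,77] [⟨27,[(1,true),(0,false)]⟩,⟨4,[(2,false)]⟩,⟨23,[(1,false)]⟩] [0,0,3,3,2],
    .child 0 137,
    .rep 15 [197,193,173,55] [⟨23,[(0,true),(0,true),(0,true)]⟩,⟨23,[(0,true),(1,false)]⟩,⟨23,[(0,true),(1,false)]⟩] [0,1,0,0,2],
    .child 0 15,
    .rep 206 [199,195,173,31] [⟨28,[(4,false),(3,false)]⟩,⟨4,[(0,false),(0,false),(2,true),(0,false)]⟩,⟨23,[(3,true)]⟩] [0,0,3,3,2],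
    .child 0 206,
    .rep 67 [21,19,129,31] [⟨28,[(0,false),(1,true),(0,true)]⟩,⟨2,[(0,true),(1,true),(2,true),(0,false)]⟩,⟨23,[(0,false)]⟩] [0,0,3,3,2],
    .child 0 67,
    .rep 191 [199,15,129,31] [⟨18,[(0,false),(0,false),(1,true)]⟩,⟨21,[(4,false),(2,false)]⟩,⟨23,[(0,true)]⟩] [0,1,0,0,2],
    .child 0 191,
    .rep 284 [19,15,129,31] [⟨21,[(2,false),(1,false),(0,false)]⟩,⟨23,[(0,false),(0,false),(0,false)]⟩,⟨23,[(2,false),(1,true),(0,true)]⟩] [0,1,0,0,2],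
    .child 0 284,
    .rep 411 [19,133,61] [⟨7,[(4,true),(1,false),(0,false)]⟩,⟨12,[(4,true),(2,false)]⟩,⟨23,[(2,false),(0,false),(2,true)]⟩] [0,0,3,3,2],
    .child 0 411,
    .rep 39 [21,201,11,153,77] [⟨27,[(1,false),(3,false),(0,false)]⟩,⟨1,[(1,true),(0,true)]⟩,⟨23,[(1,false),(3,false),(0,false)]⟩] [0,1,0,0,2],
    .rep 101 [21,201,193,153,77] [⟨25,[(0,false),(0,false)]⟩,⟨24,[(3,false)]⟩,⟨23,[(1,false),(3,false),(0,false)]⟩] [0,0,3,3,2],
    .rep 285 [21,197,193,153,77] [⟨23,[(0,false),(0,false),(0,false)]⟩,⟨21,[(4,true),(3,false),(0,false)]⟩,⟨23,[(0,false),(0,false),(0,false)]⟩] [0,1,0,0,2],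
    .child 0 285,
    .rep 190 [201,195,149,77] [⟨28,[(1,false),(4,false)]⟩,⟨4,[(1,true),(0,true),(2,true)]⟩,⟨23,[(4,false),(1,true)]⟩] [0,1,0,0,2],
    .child 0 190,
    .rep 59 [21,19,149,77] [⟨26,[(4,true),(0,true)]⟩,⟨2,[(2,true),(0,false),(1,true)]⟩,⟨23,[(4,false),(1,false),(0,false)]⟩] [0,0,3,3,2],
    .rep 392 [21,201,149,77] [⟨21,[(4,true),(0,true)]⟩,⟨20,[(0,true),(4,false)]⟩,⟨23,[(0,false),(1,true),(1,true)]⟩] [0,1,0,0,2],
    .child 0 392,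
    .rep 40 [201,193,13,77] [⟨20,[(1,true),(0,false)]⟩,⟨8,[(0,false)]⟩,⟨23,[(0,false),(1,true)]⟩] [0,1,0,0,2],
    .rep 65 [201,11,149,77] [⟨11,[(2,false),(0,false)]⟩,⟨11,[(2,false),(1,false)]⟩,⟨23,[(4,true),(0,false)]⟩] [0,0,3,3,2],
    .child 0 65,
    .rep 204 [17,15,183,65] [⟨4,[]⟩,⟨12,[(3,false)]⟩,⟨23,[(2,true),(4,true)]⟩] [0,1,0,0,2],
    .child 0 204,
    .rep 60 [21,197,11,149,77] [⟨23,[(2,true),(0,true)]⟩,⟨14,[(3,true),(1,false)]⟩,⟨23,[]⟩] [0,0,3,3,2],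
    .child 0 60,
    .rep 409 [197,173,57] [⟨14,[(1,true)]⟩,⟨23,[]⟩,⟨23,[(3,false),(1,false),(0,true)]⟩] [0,1,0,0,2],
    .child 0 409,
    .rep 464 [21,201,11,173,55] [⟨7,[(2,true),(1,false),(0,false)]⟩,⟨11,[(2,false),(0,true),(2,false)]⟩,⟨23,[(4,false),(0,false)]⟩] [0,1,0,0,2],
    .rep 193 [21,201,193,173,55] [⟨16,[(2,true)]⟩,⟨21,[(1,false)]⟩,⟨23,[(3,false),(0,false)]⟩] [0,0,3,3,2],
    .rep 399 [17,11,151,69] [⟨20,[(4,false),(2,true),(0,true)]⟩,⟨21,[(0,true),(4,false)]⟩,⟨23,[(0,true),(2,false)]⟩] [0,1,0,0,2],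
    .child 0 399,
    .rep 58 [197,195,189,95] [⟨6,[(2,false),(1,true)]⟩,⟨12,[(1,false),(2,true),(0,false)]⟩,⟨23,[(2,true),(4,false)]⟩] [0,0,3,3,2],
    .child 0 58,
    .rep 32 [19,129,31] [⟨24,[(4,false),(3,true),(0,true)]⟩,⟨25,[(2,true)]⟩,⟨23,[(1,false),(4,true)]⟩] [0,0,3,3,2],
    .rep 6 [19,11,149,53] [⟨21,[(3,true),(0,false)]⟩,⟨21,[(2,true),(0,true)]⟩,⟨23,[(4,true),(0,false)]⟩] [0,1,0,0,2],
    .rep 454 [197,11,177,115] [⟨21,[(0,false),(3,true)]⟩,⟨17,[(2,true)]⟩,⟨23,[(2,false),(3,true)]⟩] [0,1,0,0,2]]]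

/-- part 24 of `cov2_6` -/
def cov2_6P24 : List (List Cov) := [
  [.rep 4 [] [⟨6,[(2,true),(0,true),(1,false),(0,false)]⟩,⟨14,[(3,false),(2,false),(0,false),(1,true)]⟩,⟨24,[(4,false),(1,true)]⟩] [0,0,4,0,2],
    .child 0 4,
    .rep 410 [21,19,11,149,77] [⟨20,[(4,true),(1,true),(0,false)]⟩,⟨18,[(2,false),(1,false)]⟩,⟨24,[(0,true),(1,false),(0,true)]⟩] [0,1,0,3,2],
    .child 0 410,
    .rep 212 [21,19,15,129,31] [⟨13,[(0,false),(2,true),(0,true)]⟩,⟨12,[(1,false),(3,false),(1,false),(0,false)]⟩,⟨24,[(4,true),(3,false),(2,false)]⟩] [0,0,4,0,2],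
    .child 0 212,
    .rep 26 [201,149,77] [⟨6,[(4,true),(3,false),(1,false)]⟩,⟨10,[]⟩,⟨24,[(0,true),(1,false),(0,false)]⟩] [0,1,0,3,2],
    .child 0 26,
    .rep 194 [199,11,149,77] [⟨7,[(0,false),(1,true)]⟩,⟨11,[(2,true),(0,false),(2,true)]⟩,⟨24,[(4,true),(0,false)]⟩] [0,1,0,3,2],
    .rep 137 [19,11,149,77] [⟨11,[(4,true),(0,false)]⟩,⟨11,[(2,true),(4,true),(2,true)]⟩,⟨24,[(4,false),(0,false)]⟩] [0,1,0,3,2],
    .child 0 137,
    .rep 15 [197,193,173,55] [⟨20,[(0,true),(3,false)]⟩,⟨21,[(0,false),(0,false),(0,false)]⟩,⟨24,[(2,true),(1,true),(0,true)]⟩] [0,0,4,0,2],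
    .child 0 15,
    .rep 206 [199,195,173,31] [⟨18,[(4,false),(0,true),(0,true)]⟩,⟨20,[(2,false),(3,true)]⟩,⟨24,[(4,true),(0,true)]⟩] [0,0,4,0,2],
    .child 0 206,
    .rep 67 [21,19,129,31] [⟨28,[(3,true)]⟩,⟨2,[(1,true),(2,true),(1,false)]⟩,⟨24,[(0,false),(3,false)]⟩] [0,0,4,0,2],
    .child 0 67,
    .rep 191 [199,15,129,31] [⟨28,[(1,true)]⟩,⟨4,[(0,false),(0,false),(2,true),(0,true)]⟩,⟨24,[(4,false),(3,false),(1,false)]⟩] [0,0,4,0,2],
    .child 0 191,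
    .rep 284 [19,15,129,31] [⟨21,[(0,false),(3,false)]⟩,⟨20,[(4,true),(0,false)]⟩,⟨24,[(1,false),(3,false),(0,false)]⟩] [0,0,4,0,2],
    .child 0 284,
    .rep 411 [19,133,61] [⟨6,[(2,true),(2,true)]⟩,⟨12,[(0,false),(2,false),(1,true)]⟩,⟨24,[(0,true),(1,false),(0,false)]⟩] [0,0,4,0,2],
    .child 0 411,
    .rep 39 [21,201,11,153,77] [⟨27,[(3,false),(1,false),(0,true)]⟩,⟨1,[(1,false),(2,false),(0,true)]⟩,⟨24,[(2,true),(1,true),(0,true)]⟩] [0,1,0,3,2],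
    .rep 101 [21,201,193,153,77] [⟨20,[(2,true),(2,true),(0,false)]⟩,⟨20,[(2,true),(0,true)]⟩,⟨24,[(1,true),(4,false),(0,false)]⟩] [0,0,4,0,2],
    .rep 285 [21,197,193,153,77] [⟨24,[(0,true),(4,false)]⟩,⟨20,[(4,true),(1,true),(0,false)]⟩,⟨24,[(4,true),(3,false),(0,false)]⟩] [0,0,4,0,2],
    .child 0 285,
    .rep 190 [201,195,149,77] [⟨14,[(3,false)]⟩,⟨24,[(4,false),(3,false),(2,false)]⟩,⟨24,[(4,true),(3,false),(0,true)]⟩] [0,1,0,3,2],
    .child 0 190,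
    .rep 59 [21,19,149,77] [⟨21,[(4,true),(1,false),(0,true)]⟩,⟨8,[(3,false),(1,true),(0,false)]⟩,⟨24,[(4,true),(3,false),(0,true)]⟩] [0,1,0,3,2],
    .rep 392 [21,201,149,77] [⟨24,[(4,true),(0,false)]⟩,⟨24,[(1,true),(0,false)]⟩,⟨24,[(1,true),(0,false)]⟩] [0,1,0,3,2],
    .child 0 392,
    .rep 40 [201,193,13,77] [⟨26,[(3,true),(4,true),(0,false)]⟩,⟨2,[(1,true),(0,true)]⟩,⟨24,[(0,true)]⟩] [0,1,0,3,2],
    .rep 65 [201,11,149,77] [⟨27,[(1,false),(3,false),(0,false)]⟩,⟨4,[(0,false),(2,true),(2,true),(0,true)]⟩,⟨24,[(4,true),(3,true)]⟩] [0,1,0,3,2],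
    .child 0 65,
    .rep 204 [17,15,183,65] [⟨24,[(3,false),(2,true),(0,false)]⟩,⟨14,[(2,true)]⟩,⟨24,[(3,false),(4,false),(3,false)]⟩] [0,1,0,3,2],
    .child 0 204,
    .rep 60 [21,197,11,149,77] [⟨4,[(1,true)]⟩,⟨12,[(3,false),(1,true),(2,true),(1,true)]⟩,⟨24,[(4,false),(3,false),(2,false)]⟩] [0,0,4,0,2],
    .child 0 60,
    .rep 409 [197,173,57] [⟨28,[(4,false),(2,false)]⟩,⟨4,[(0,false),(1,true)]⟩,⟨24,[(0,true),(1,false),(0,true)]⟩] [0,0,4,0,2],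
    .child 0 409,
    .rep 464 [21,201,11,173,55] [⟨8,[(1,false),(4,true),(0,false)]⟩,⟨21,[(4,true),(0,false)]⟩,⟨24,[(0,true),(4,false)]⟩] [0,0,4,0,2],
    .rep 193 [21,201,193,173,55] [⟨23,[(4,false),(3,true),(0,true)]⟩,⟨25,[(2,true)]⟩,⟨24,[(1,true),(4,false)]⟩] [0,0,4,0,2],
    .rep 399 [17,11,151,69] [⟨20,[(0,false),(0,false),(0,false)]⟩,⟨24,[(1,true),(0,true)]⟩,⟨24,[(3,true),(4,true),(0,false)]⟩] [0,0,4,0,2],
    .child 0 399,
    .rep 58 [197,195,189,95] [⟨7,[(4,true),(0,false)]⟩,⟨12,[(0,false),(2,false),(0,true)]⟩,⟨24,[(1,false),(3,false),(0,false)]⟩] [0,0,4,0,2],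
    .child 0 58,
    .rep 32 [19,129,31] [⟨16,[(2,true)]⟩,⟨20,[(3,true),(1,false),(1,false)]⟩,⟨24,[(1,false),(0,false)]⟩] [0,0,4,0,2],
    .rep 6 [19,11,149,53] [⟨25,[(1,false)]⟩,⟨23,[(1,false),(4,false)]⟩,⟨24,[(3,true),(1,true),(0,true)]⟩] [0,0,4,0,2],
    .rep 454 [197,11,177,115] [⟨20,[(0,false),(1,true),(1,true)]⟩,⟨17,[(1,false)]⟩,⟨24,[(1,false),(0,false),(0,false)]⟩] [0,1,0,3,2]]]

/-- part 25 of `cov2_6` -/
def cov2_6P25 : List (List Cov) := [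
  [.rep 4 [] [⟨24,[(3,true),(1,true)]⟩,⟨20,[(0,false),(2,true)]⟩,⟨17,[(1,false)]⟩] [0,1,3,2,1],
    .child 0 4,
    .child 1 4,
    .child 2 4,
    .child 0 206,
    .child 2 206,
    .child 0 195,
    .child 0 26,
    .child 1 26,
    .child 0 399,
    .child 1 399,
    .child 2 399,
    .rep 410 [21,19,11,149,77] [⟨23,[(2,false),(1,true)]⟩,⟨21,[(1,false),(0,false)]⟩,⟨17,[(2,true)]⟩] [0,1,3,2,0],
    .child 0 410,
    .child 1 410,
    .child 2 410,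
    .child 0 190,
    .child 2 190,
    .child 0 411,
    .child 0 205,
    .child 1 205,
    .child 0 24,
    .child 1 24,
    .child 2 24,
    .rep 212 [21,19,15,129,31] [⟨25,[(0,false)]⟩,⟨16,[(0,true)]⟩,⟨17,[(0,true)]⟩] [0,1,3,0,2],
    .child 0 212,
    .child 0 14,
    .child 1 14,
    .rep 194 [199,11,149,77] [⟨6,[(0,false),(1,true)]⟩,⟨14,[(2,true),(0,false),(1,true)]⟩,⟨17,[(0,true)]⟩] [0,1,3,2,0],
    .child 0 194,
    .child 1 194,
    .child 0 192,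
    .child 1 192,
    .child 2 192,
    .child 0 39,
    .child 1 39,
    .child 2 39,
    .child 1 15,
    .child 2 40,
    .child 2 193,
    .rep 191 [199,15,129,31] [⟨27,[(3,false)]⟩,⟨1,[(2,false),(2,false),(0,false)]⟩,⟨17,[]⟩] [0,0,0,3,0],
    .child 0 191,
    .child 2 191,
    .child 1 592,
    .child 0 6,
    .child 0 60,
    .rep 59 [21,19,149,77] [⟨0,[]⟩,⟨12,[(1,false),(0,false)]⟩,⟨17,[(1,false)]⟩] [0,1,3,0,1],
    .child 0 59,
    .rep 391 [201,193,149,77] [⟨17,[(2,false),(0,false)]⟩,⟨17,[(2,false),(0,false)]⟩,⟨17,[(2,false),(0,false)]⟩] [0,1,3,3,2],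
    .rep 30 [201,195,173,31] [⟨15,[(0,false)]⟩,⟨13,[(0,true)]⟩,⟨17,[(3,true),(0,false)]⟩] [0,1,3,3,0]]]

/-- part 26 of `cov2_6` -/
def cov2_6P26 : List (List Cov) := [
  [.rep 4 [] [⟨9,[(0,false)]⟩,⟨12,[(3,false),(2,true),(1,true)]⟩,⟨8,[(3,false),(1,true)]⟩] [0,0,0,3,1],
    .child 0 4,
    .rep 410 [21,19,11,149,77] [⟨20,[(2,false),(4,false),(0,true)]⟩,⟨23,[(0,false)]⟩,⟨8,[(0,true),(3,false)]⟩] [0,1,3,2,0],
    .child 1 410,
    .rep 212 [21,19,15,129,31] [⟨18,[(2,false),(4,false)]⟩,⟨20,[(4,true),(1,false)]⟩,⟨8,[(4,false),(0,true)]⟩] [0,1,2,3,0],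
    .child 0 212,
    .child 1 212,
    .child 1 39,
    .rep 195 [197,193,153,77] [⟨18,[(0,false),(1,true),(0,false)]⟩,⟨21,[(4,false),(3,false),(1,false)]⟩,⟨8,[(2,true),(0,true)]⟩] [0,0,0,3,1],
    .child 0 195,
    .child 1 195,
    .child 1 26,
    .rep 194 [199,11,149,77] [⟨21,[(4,true),(3,true),(0,false)]⟩,⟨18,[(2,true),(1,false),(1,false)]⟩,⟨8,[(3,true)]⟩] [0,0,1,3,2],
    .child 0 194,
    .child 1 194,
    .child 1 205,
    .rep 137 [19,11,149,77] [⟨23,[(4,false),(3,true),(0,false)]⟩,⟨20,[(4,true),(0,false)]⟩,⟨8,[(0,false)]⟩] [0,1,2,3,0],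
    .child 1 137,
    .rep 15 [197,193,173,55] [⟨13,[(3,true),(1,false)]⟩,⟨14,[(3,false),(1,true),(2,true),(1,true),(0,false)]⟩,⟨8,[(0,true),(0,true)]⟩] [0,0,1,3,2],
    .child 0 15,
    .child 1 15,
    .child 1 60,
    .rep 206 [199,195,173,31] [⟨13,[(2,true),(0,true),(1,false),(0,false)]⟩,⟨14,[(1,true),(3,false),(0,false)]⟩,⟨8,[(2,false)]⟩] [0,0,0,3,1],
    .child 0 206,
    .child 1 206,
    .child 1 59,
    .rep 67 [21,19,129,31] [⟨21,[(4,false),(3,false),(0,false)]⟩,⟨24,[(0,true),(4,false)]⟩,⟨8,[(4,false),(0,true)]⟩] [0,1,3,2,0],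
    .child 0 67,
    .rep 284 [19,15,129,31] [⟨24,[(4,false),(3,true),(0,true)]⟩,⟨21,[(0,true)]⟩,⟨8,[(3,false),(1,true),(0,false)]⟩] [0,0,0,3,1],
    .child 0 284,
    .rep 411 [19,133,61] [⟨20,[(4,false),(1,false),(0,false)]⟩,⟨18,[(4,false),(3,false)]⟩,⟨8,[(4,false),(1,false)]⟩] [0,0,0,3,1],
    .child 0 411,
    .child 1 411,
    .child 1 40,
    .rep 285 [21,197,193,153,77] [⟨12,[]⟩,⟨11,[(4,false)]⟩,⟨8,[(3,false),(2,false),(0,false)]⟩] [0,0,1,3,2],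
    .rep 78 [21,19,195,185,77] [⟨27,[(2,true),(0,true)]⟩,⟨2,[(1,false),(1,false),(0,false)]⟩,⟨8,[(4,false),(0,true)]⟩] [0,0,1,3,2],
    .child 0 78,
    .rep 190 [201,195,149,77] [⟨6,[(2,false),(3,true)]⟩,⟨13,[(2,false),(1,true)]⟩,⟨8,[(0,true),(3,false)]⟩] [0,1,3,2,0],
    .child 0 190,
    .rep 38 [21,199,11,149,77] [⟨7,[(1,true),(0,true)]⟩,⟨11,[(2,false),(0,false)]⟩,⟨8,[(1,true),(0,false)]⟩] [0,0,0,3,1],
    .child 0 38,
    .child 1 38,
    .child 1 32,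
    .rep 204 [17,15,183,65] [⟨4,[(2,false)]⟩,⟨10,[(0,false),(1,false)]⟩,⟨8,[(3,false),(0,true),(0,true)]⟩] [0,1,3,2,0],
    .child 0 204,
    .rep 27 [21,197,193,129,31] [⟨27,[(3,true),(0,false)]⟩,⟨2,[(2,false),(0,false),(2,true)]⟩,⟨8,[(0,false),(3,true)]⟩] [0,0,0,3,1],
    .child 1 27,
    .rep 25 [201,15,129,31] [⟨8,[(4,false),(0,true)]⟩,⟨8,[(4,false),(0,false)]⟩,⟨8,[(4,false),(0,false)]⟩] [0,1,3,2,0],
    .rep 16 [199,193,133,61] [⟨7,[(2,true),(0,true)]⟩,⟨13,[]⟩,⟨8,[(0,false),(0,false)]⟩] [0,0,1,3,2],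
    .rep 593 [21,19,195,173,75] [⟨29,[(0,false),(0,false)]⟩,⟨0,[(2,true),(1,false),(0,false)]⟩,⟨8,[(2,true),(1,false)]⟩] [0,1,2,3,0]]]

/-- part 27 of `cov2_6` -/
def cov2_6P27 : List (List Cov) := [
  [.rep 4 [] [⟨20,[(4,false),(0,true)]⟩,⟨7,[(4,false),(0,true)]⟩,⟨11,[(2,false),(0,true)]⟩] [0,0,3,3,0],
    .child 0 4,
    .rep 410 [21,19,11,149,77] [⟨28,[(2,false),(2,false)]⟩,⟨0,[(2,false),(1,false),(1,false)]⟩,⟨11,[(4,true),(0,true),(1,false)]⟩] [0,0,4,3,1],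
    .child 0 410,
    .child 1 410,
    .child 1 205,
    .rep 212 [21,19,15,129,31] [⟨23,[(4,true),(0,false)]⟩,⟨11,[(2,false),(1,true),(0,false)]⟩,⟨11,[(2,true),(0,false),(1,true),(0,false)]⟩] [0,1,0,0,0],
    .child 0 212,
    .child 1 212,
    .child 1 192,
    .rep 26 [201,149,77] [⟨28,[(1,false),(0,false),(0,false)]⟩,⟨0,[(2,true),(2,true),(1,true)]⟩,⟨11,[(3,false),(1,false),(0,false)]⟩] [0,0,4,3,1],
    .child 0 26,
    .child 1 26,
    .child 1 40,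
    .rep 194 [199,11,149,77] [⟨6,[(0,false),(0,false),(1,true)]⟩,⟨4,[(2,true)]⟩,⟨11,[(4,true),(2,false),(4,true)]⟩] [0,1,4,1,2],
    .child 0 194,
    .child 1 194,
    .child 1 399,
    .rep 15 [197,193,173,55] [⟨8,[(4,true),(1,false),(0,false)]⟩,⟨7,[(3,true),(0,true)]⟩,⟨11,[(2,false),(0,false),(1,false)]⟩] [0,0,4,3,1],
    .child 0 15,
    .child 1 15,
    .child 1 464,
    .rep 67 [21,19,129,31] [⟨24,[(1,true),(4,false),(0,false)]⟩,⟨11,[(1,true),(0,false)]⟩,⟨11,[(2,true),(4,true),(2,true)]⟩] [0,1,0,0,0],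
    .child 0 67,
    .child 1 67,
    .child 1 59,
    .rep 191 [199,15,129,31] [⟨11,[(4,true),(0,false)]⟩,⟨9,[(5,true),(0,true)]⟩,⟨11,[(4,false),(2,false),(5,true)]⟩] [0,1,0,0,0],
    .child 0 191,
    .rep 39 [21,201,11,153,77] [⟨21,[(0,false),(3,true)]⟩,⟨7,[(3,false),(1,true),(0,false)]⟩,⟨11,[(2,false),(5,false),(0,true)]⟩] [0,1,4,1,2],
    .child 1 39,
    .rep 101 [21,201,193,153,77] [⟨13,[(3,true),(1,false)]⟩,⟨8,[(2,false),(1,true),(1,true)]⟩,⟨11,[(1,false),(0,true),(0,true)]⟩] [0,0,4,3,1],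
    .child 0 101,
    .rep 78 [21,19,195,185,77] [⟨26,[(4,false),(1,false),(0,false)]⟩,⟨0,[(2,false),(0,false),(2,true)]⟩,⟨11,[(2,true),(5,false),(2,true),(0,false)]⟩] [0,0,3,3,0],
    .child 0 78,
    .rep 392 [21,201,149,77] [⟨6,[(2,true),(1,false)]⟩,⟨4,[(2,false),(2,false),(1,false)]⟩,⟨11,[(3,false),(2,true),(1,false)]⟩] [0,0,3,3,0],
    .child 0 392,
    .child 1 392,
    .child 1 24,
    .rep 38 [21,199,11,149,77] [⟨23,[(1,true),(4,false),(0,false)]⟩,⟨7,[(1,true),(0,false)]⟩,⟨11,[(2,false),(0,true),(2,false)]⟩] [0,0,3,3,0],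
    .child 1 38,
    .rep 60 [21,197,11,149,77] [⟨24,[(4,true),(3,false),(0,true)]⟩,⟨7,[(3,false),(0,false)]⟩,⟨11,[(2,true),(5,false),(0,true)]⟩] [0,0,4,3,1],
    .child 0 60,
    .rep 30 [201,195,173,31] [⟨8,[(2,true),(0,true)]⟩,⟨12,[]⟩,⟨11,[(4,true),(3,false)]⟩] [0,0,3,3,0],
    .rep 27 [21,197,193,129,31] [⟨3,[(4,true)]⟩,⟨7,[(5,false)]⟩,⟨11,[(4,false),(3,false),(2,true)]⟩] [0,0,4,3,1],
    .child 0 27,
    .rep 25 [201,15,129,31] [⟨26,[(4,true),(0,true)]⟩,⟨0,[(1,false),(1,false),(0,false)]⟩,⟨11,[(2,true),(0,true),(5,true)]⟩] [0,1,4,1,2],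
    .child 1 25,
    .rep 593 [21,19,195,173,75] [⟨25,[]⟩,⟨7,[(0,true),(0,true)]⟩,⟨11,[(4,false),(2,false),(0,false)]⟩] [0,0,4,3,1],
    .rep 6 [19,11,149,53] [⟨27,[(2,true),(0,true)]⟩,⟨0,[(1,true),(2,false),(1,true),(0,false)]⟩,⟨11,[(4,true),(1,true),(0,true)]⟩] [0,0,4,3,1],
    .rep 454 [197,11,177,115] [⟨10,[]⟩,⟨2,[(3,true),(3,true),(1,true)]⟩,⟨11,[(0,true),(0,true),(2,false)]⟩] [0,0,4,3,1]]]

/-- part 28 of `cov2_6` -/
def cov2_6P28 : List (List Cov) := [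
  [.rep 4 [] [⟨20,[(2,false),(3,true)]⟩,⟨13,[]⟩,⟨12,[(0,false),(3,false)]⟩] [0,0,2,1,0],
    .child 0 4,
    .rep 410 [21,19,11,149,77] [⟨23,[(4,true),(1,true)]⟩,⟨4,[(4,true)]⟩,⟨12,[(2,false),(2,false)]⟩] [0,0,1,0,2],
    .child 0 410,
    .rep 212 [21,19,15,129,31] [⟨23,[(3,false),(2,true)]⟩,⟨6,[(1,false),(0,false),(0,false)]⟩,⟨12,[(1,false),(2,true),(0,false)]⟩] [0,0,1,0,2],
    .child 0 212,
    .rep 195 [197,193,153,77] [⟨18,[(2,false),(1,false),(0,false)]⟩,⟨6,[(2,true),(1,true),(0,false)]⟩,⟨12,[(1,false),(0,false)]⟩] [0,0,2,1,0],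
    .child 0 195,
    .rep 26 [201,149,77] [⟨14,[(4,true),(0,false)]⟩,⟨5,[(2,false),(1,false),(0,false)]⟩,⟨12,[(3,false),(0,false),(1,true),(0,false)]⟩] [0,0,2,1,0],
    .rep 194 [199,11,149,77] [⟨7,[(0,true),(2,false),(0,false)]⟩,⟨7,[(2,false),(4,true)]⟩,⟨12,[(2,true),(1,false),(2,true)]⟩] [0,0,1,0,2],
    .child 0 194,
    .rep 137 [19,11,149,77] [⟨24,[(4,false),(3,true),(1,false)]⟩,⟨13,[(4,false),(2,true),(1,false)]⟩,⟨12,[(1,false),(3,false),(1,false),(0,false)]⟩] [0,0,1,0,2],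
    .child 0 137,
    .rep 15 [197,193,173,55] [⟨9,[(2,false)]⟩,⟨9,[(0,false),(2,true)]⟩,⟨12,[(1,false),(2,false),(1,true)]⟩] [0,0,2,1,0],
    .rep 67 [21,19,129,31] [⟨13,[(0,true),(2,false),(1,true)]⟩,⟨7,[(0,false),(1,true),(0,false),(1,false),(0,false)]⟩,⟨12,[(2,false),(2,false),(0,false),(1,true)]⟩] [0,0,1,0,2],
    .child 0 67,
    .rep 191 [199,15,129,31] [⟨28,[(3,false),(1,false),(0,false)]⟩,⟨3,[(1,false),(2,true),(0,true),(1,false)]⟩,⟨12,[(1,false),(0,false),(2,true),(2,true)]⟩] [0,0,1,0,2],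
    .rep 284 [19,15,129,31] [⟨23,[(4,true),(3,true)]⟩,⟨13,[(2,false),(4,true)]⟩,⟨12,[(1,false),(3,false),(2,false),(0,false)]⟩] [0,0,2,1,0],
    .child 0 284,
    .rep 411 [19,133,61] [⟨6,[(0,false)]⟩,⟨7,[(0,false),(2,true),(1,false),(2,true)]⟩,⟨12,[(0,false),(2,true)]⟩] [0,0,1,0,2],
    .child 0 411,
    .rep 39 [21,201,11,153,77] [⟨24,[(0,false),(3,true),(0,false)]⟩,⟨4,[(2,true),(1,false)]⟩,⟨12,[(3,false),(1,true),(2,true),(1,true)]⟩] [0,0,1,0,2],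
    .child 0 39,
    .rep 285 [21,197,193,153,77] [⟨4,[(2,false),(0,false)]⟩,⟨7,[(2,true),(1,false)]⟩,⟨12,[(1,true),(0,false),(1,false)]⟩] [0,0,2,1,0],
    .rep 78 [21,19,195,185,77] [⟨28,[(0,true)]⟩,⟨3,[(2,true),(1,true),(2,true),(0,false)]⟩,⟨12,[(2,false),(0,false),(1,false),(1,false)]⟩] [0,0,2,1,0],
    .child 0 78,
    .rep 190 [201,195,149,77] [⟨13,[(0,false),(1,true)]⟩,⟨9,[(2,true),(2,true),(1,false)]⟩,⟨12,[(2,false),(1,true)]⟩] [0,0,1,0,2],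
    .rep 59 [21,19,149,77] [⟨18,[(1,false),(4,true),(0,false)]⟩,⟨6,[(1,false),(4,false),(0,false)]⟩,⟨12,[(1,false),(2,false),(1,false),(2,false),(0,false)]⟩] [0,0,1,0,2],
    .child 0 59,
    .rep 392 [21,201,149,77] [⟨6,[(2,true),(0,false)]⟩,⟨7,[(0,false),(2,true)]⟩,⟨12,[(1,false),(2,false),(1,true),(0,false)]⟩] [0,0,1,0,2],
    .child 0 392,
    .rep 40 [201,193,13,77] [⟨28,[(0,true),(0,true),(0,true)]⟩,⟨3,[(2,false),(1,false),(2,false),(0,true)]⟩,⟨12,[(1,false),(3,false),(2,false),(0,false)]⟩] [0,0,1,0,2],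
    .child 0 40,
    .rep 65 [201,11,149,77] [⟨18,[(2,true),(1,false),(1,false),(0,false)]⟩,⟨6,[(3,false),(2,true),(0,false)]⟩,⟨12,[(3,false),(0,false),(1,true)]⟩] [0,0,2,1,0],
    .rep 38 [21,199,11,149,77] [⟨27,[(2,false),(3,true)]⟩,⟨3,[(1,true),(0,true),(2,false),(0,false)]⟩,⟨12,[(1,false),(3,false),(0,false)]⟩] [0,0,1,0,2],
    .child 0 38,
    .rep 204 [17,15,183,65] [⟨24,[(4,false)]⟩,⟨6,[(2,true),(4,false),(1,true)]⟩,⟨12,[(1,true),(0,false),(2,false),(2,false)]⟩] [0,0,2,1,0],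
    .child 0 204,
    .rep 60 [21,197,11,149,77] [⟨7,[(4,false),(1,false)]⟩,⟨7,[(5,true),(1,false)]⟩,⟨12,[(1,false),(2,false),(1,true),(1,true)]⟩] [0,0,1,0,2],
    .child 0 60,
    .rep 409 [197,173,57] [⟨8,[(4,true),(3,false)]⟩,⟨9,[(1,true),(0,true)]⟩,⟨12,[(2,false),(1,true),(3,false),(1,false)]⟩] [0,0,2,1,0],
    .rep 30 [201,195,173,31] [⟨13,[(1,false),(4,false),(0,false)]⟩,⟨7,[(2,false),(2,false),(1,true),(0,false)]⟩,⟨12,[(1,false),(1,false),(2,false),(2,false),(0,false)]⟩] [0,0,2,1,0],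
    .child 0 30,
    .rep 58 [197,195,189,95] [⟨21,[(1,false),(0,false),(0,false)]⟩,⟨13,[(1,false),(4,true)]⟩,⟨12,[(1,true),(0,false),(1,false)]⟩] [0,0,1,0,2],
    .child 0 58,
    .rep 32 [19,129,31] [⟨27,[(4,false),(2,true)]⟩,⟨3,[(2,true),(2,true),(1,false)]⟩,⟨12,[(2,true),(2,true),(1,false),(0,false)]⟩] [0,0,1,0,2],
    .child 0 32,
    .rep 25 [201,15,129,31] [⟨3,[(2,false),(1,false),(0,false)]⟩,⟨10,[(4,false),(1,true),(0,true)]⟩,⟨12,[(3,false),(2,false),(1,true)]⟩] [0,0,1,0,2],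
    .rep 192 [21,197,133,61] [⟨0,[]⟩,⟨10,[(4,false),(1,true),(1,true)]⟩,⟨12,[(1,false),(3,false),(2,false)]⟩] [0,0,2,1,0],
    .rep 408 [21,19,195,149,77] [⟨16,[(1,false),(0,false)]⟩,⟨13,[(3,false),(1,false),(0,false)]⟩,⟨12,[(2,true),(0,false),(1,true)]⟩] [0,0,1,0,2]]]

/-- part 29 of `cov2_6` -/
def cov2_6P29 : List (List Cov) := [
  [.rep 4 [] [⟨1,[]⟩,⟨11,[(2,true),(5,true),(0,true)]⟩,⟨16,[]⟩] [0,0,2,0,2],
    .child 0 4,
    .rep 410 [21,19,11,149,77] [⟨20,[(1,true),(4,false)]⟩,⟨24,[(1,false),(0,false)]⟩,⟨16,[(0,false),(0,false)]⟩] [0,1,0,3,1],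
    .child 0 410,
    .child 1 410,
    .child 2 410,
    .child 2 65,
    .child 0 194,
    .child 2 194,
    .child 1 67,
    .child 1 33,
    .child 1 190,
    .child 1 38,
    .child 2 137,
    .rep 212 [21,19,15,129,31] [⟨21,[(4,false),(3,false),(2,false)]⟩,⟨23,[(3,false),(0,false)]⟩,⟨16,[(1,false)]⟩] [0,0,2,0,2],
    .child 0 212,
    .child 1 212,
    .child 2 212,
    .child 2 25,
    .child 0 191,
    .child 2 191,
    .child 1 59,
    .child 1 392,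
    .child 1 122,
    .child 1 40,
    .child 2 284,
    .rep 195 [197,193,153,77] [⟨17,[(3,true),(0,false)]⟩,⟨25,[(2,false),(0,false)]⟩,⟨16,[(1,false),(0,false)]⟩] [0,0,4,3,2],
    .child 0 195,
    .child 1 195,
    .child 2 195,
    .rep 15 [197,193,173,55] [⟨26,[(1,true),(4,true)]⟩,⟨2,[(2,false),(2,false),(0,false)]⟩,⟨16,[]⟩] [0,1,4,1,0],
    .child 0 15,
    .child 1 15,
    .child 2 15,
    .child 1 206,
    .child 1 193,
    .rep 411 [19,133,61] [⟨13,[(0,true),(2,false),(1,true)]⟩,⟨12,[(2,true),(0,false),(1,true)]⟩,⟨16,[(0,false)]⟩] [0,1,2,3,2],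
    .child 0 411,
    .child 1 411,
    .child 2 411,
    .child 1 409,
    .child 2 409,
    .child 0 192,
    .child 1 192,
    .child 2 192,
    .child 1 391,
    .child 1 66,
    .child 1 205,
    .rep 6 [19,11,149,53] [⟨12,[(0,false)]⟩,⟨14,[(0,false)]⟩,⟨16,[(0,true)]⟩] [0,1,2,1,1],
    .rep 454 [197,11,177,115] [⟨16,[(1,false),(0,false)]⟩,⟨16,[(2,false),(0,false)]⟩,⟨16,[(2,false),(0,false)]⟩] [0,0,3,0,1]]]

/-- certificate data -/
def cov2_6 : List (List Cov) :=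
  [cov2_6P0, cov2_6P1, cov2_6P2, cov2_6P3, cov2_6P4, cov2_6P5, cov2_6P6, cov2_6P7, cov2_6P8, cov2_6P9, cov2_6P10, cov2_6P11, cov2_6P12, cov2_6P13, cov2_6P14, cov2_6P15, cov2_6P16, cov2_6P17, cov2_6P18, cov2_6P19, cov2_6P20, cov2_6P21, cov2_6P22, cov2_6P23, cov2_6P24, cov2_6P25, cov2_6P26, cov2_6P27, cov2_6P28, cov2_6P29].flatten

/-- part 0 of `cov2_7` -/
def cov2_7P0 : List (List Cov) := [
  [.rep 4 [] [⟨4,[(0,false),(1,true),(1,true),(0,false)]⟩,⟨14,[(2,true),(0,false)]⟩,⟨26,[(4,true),(1,false)]⟩] [68,0],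
    .child 0 4,
    .rep 410 [21,19,11,149,77] [⟨1,[(0,false),(1,false),(0,true),(0,true)]⟩,⟨21,[(4,true),(0,false)]⟩,⟨26,[(1,false),(0,true)]⟩] [0,0],
    .child 0 410,
    .child 1 410,
    .child 1 31,
    .rep 212 [21,19,15,129,31] [⟨3,[(0,false),(2,false),(0,true)]⟩,⟨14,[(1,true),(3,false),(1,true),(1,true),(0,false)]⟩,⟨26,[(0,true),(2,false),(0,false)]⟩] [0,0],
    .child 0 212,
    .child 1 212,
    .child 1 26,
    .rep 195 [197,193,153,77] [⟨0,[(2,false),(0,false),(2,true)]⟩,⟨11,[(2,true),(5,false),(2,true),(0,false)]⟩,⟨26,[(4,false),(1,false),(0,false)]⟩] [69,2],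
    .child 0 195,
    .rep 194 [199,11,149,77] [⟨1,[(2,true),(2,true),(0,true)]⟩,⟨19,[]⟩,⟨26,[(1,true),(4,true)]⟩] [69,2],
    .rep 137 [19,11,149,77] [⟨1,[(2,true),(1,false),(0,false),(1,false)]⟩,⟨20,[(4,true),(1,true),(0,false)]⟩,⟨26,[(1,true),(0,false)]⟩] [69,2],
    .child 0 137,
    .child 1 137,
    .child 1 65,
    .rep 15 [197,193,173,55] [⟨3,[(2,true),(2,true)]⟩,⟨14,[(2,true),(1,true),(0,false)]⟩,⟨26,[(4,false),(0,true),(0,true)]⟩] [69,2],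
    .child 0 15,
    .child 1 15,
    .child 1 206,
    .rep 67 [21,19,129,31] [⟨2,[(0,true),(2,true),(1,false)]⟩,⟨21,[(0,true),(2,false)]⟩,⟨26,[(4,true),(0,false)]⟩] [31,1],
    .child 0 67,
    .rep 191 [199,15,129,31] [⟨5,[(1,true),(1,true),(0,true)]⟩,⟨2,[(2,true),(2,true),(0,true)]⟩,⟨26,[(0,false),(4,true)]⟩] [31,1],
    .rep 411 [19,133,61] [⟨5,[(0,false),(0,false),(2,true),(0,false)]⟩,⟨4,[(0,true),(1,true),(2,true),(0,false)]⟩,⟨26,[(2,false),(2,false)]⟩] [69,2],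
    .child 0 411,
    .rep 101 [21,201,193,153,77] [⟨5,[(0,false),(1,true),(2,false),(2,false)]⟩,⟨1,[(1,true),(2,false),(1,true),(0,false)]⟩,⟨26,[(4,true),(0,true)]⟩] [69,2],
    .rep 285 [21,197,193,153,77] [⟨0,[(2,false),(0,true),(2,true)]⟩,⟨11,[(2,true),(5,false),(0,false)]⟩,⟨26,[(3,true),(1,false),(0,false)]⟩] [69,2],
    .child 1 285,
    .rep 78 [21,19,195,185,77] [⟨2,[(1,true),(0,true)]⟩,⟨24,[(0,true)]⟩,⟨26,[(3,true),(1,true),(0,false)]⟩] [0,0],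
    .child 0 78,
    .rep 190 [201,195,149,77] [⟨2,[(2,false),(0,true),(0,true),(0,true)]⟩,⟨20,[(0,false),(3,false)]⟩,⟨26,[(4,false),(1,true),(0,false)]⟩] [31,1],
    .child 1 190,
    .rep 392 [21,201,149,77] [⟨6,[(0,false),(1,true),(0,false)]⟩,⟨2,[(0,true),(2,false),(0,true)]⟩,⟨26,[(2,false),(0,false)]⟩] [68,0],
    .child 0 392,
    .child 1 392,
    .child 1 37,
    .rep 391 [201,193,149,77] [⟨4,[(2,true),(2,true),(1,false)]⟩,⟨18,[(3,true),(1,false),(0,false)]⟩,⟨26,[(0,true),(0,true)]⟩] [31,1],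
    .child 0 391,
    .child 1 391,
    .child 1 592,
    .rep 24 [19,193,175,77] [⟨4,[(2,false),(1,false),(0,false),(0,false)]⟩,⟨18,[(1,false),(0,false)]⟩,⟨26,[]⟩] [68,0],
    .child 0 24,
    .child 1 24,
    .child 1 16,
    .rep 464 [21,201,11,173,55] [⟨2,[(1,false),(2,false),(0,true)]⟩,⟨23,[(4,false),(1,false),(0,false)]⟩,⟨26,[(3,true),(1,true),(0,false)]⟩] [68,0],
    .child 1 464,
    .rep 27 [21,197,193,129,31] [⟨3,[(0,true),(1,true),(2,true),(0,false)]⟩,⟨13,[(2,true),(2,true)]⟩,⟨26,[(0,true),(2,false)]⟩] [69,2],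
    .child 0 27,
    .rep 454 [197,11,177,115] [⟨2,[(2,false),(2,false),(0,false)]⟩,⟨16,[]⟩,⟨26,[(2,true),(1,true)]⟩] [31,1]]]

/-- part 1 of `cov2_7` -/
def cov2_7P1 : List (List Cov) := [
  [.rep 4 [] [⟨3,[(2,true),(1,true)]⟩,⟨4,[(2,true),(2,true),(1,true)]⟩,⟨15,[(5,false),(0,true),(0,true)]⟩] [68,0],
    .child 0 4,
    .rep 410 [21,19,11,149,77] [⟨5,[(1,false),(2,false),(0,true)]⟩,⟨0,[(1,false),(2,false),(0,true)]⟩,⟨15,[(4,false),(5,false),(2,false),(0,true)]⟩] [0,0],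
    .child 1 410,
    .rep 212 [21,19,15,129,31] [⟨3,[(0,false),(1,true),(0,true)]⟩,⟨8,[(2,true),(2,true),(1,false)]⟩,⟨15,[(1,true),(0,true),(0,true)]⟩] [68,0],
    .child 0 212,
    .child 1 212,
    .child 1 39,
    .rep 195 [197,193,153,77] [⟨3,[(1,true),(2,false),(1,false)]⟩,⟨8,[(2,false),(2,false)]⟩,⟨15,[(4,true),(2,true)]⟩] [31,1],
    .child 0 195,
    .child 1 195,
    .child 1 26,
    .rep 194 [199,11,149,77] [⟨0,[(0,false),(1,false),(0,true),(0,true)]⟩,⟨9,[(2,false)]⟩,⟨15,[(5,true),(1,true)]⟩] [31,1],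
    .child 0 194,
    .child 1 194,
    .child 1 205,
    .rep 137 [19,11,149,77] [⟨5,[(0,true),(2,false)]⟩,⟨0,[(1,true),(0,false),(1,false)]⟩,⟨15,[(3,false),(0,true),(5,true)]⟩] [69,2],
    .child 1 137,
    .rep 15 [197,193,173,55] [⟨4,[(1,true),(1,true),(2,true)]⟩,⟨7,[(2,false),(0,false),(0,false)]⟩,⟨15,[(5,true),(0,true),(3,false)]⟩] [31,1],
    .child 0 15,
    .child 1 15,
    .child 1 60,
    .rep 206 [199,195,173,31] [⟨4,[(0,false),(2,true),(0,true)]⟩,⟨7,[(0,false),(0,false)]⟩,⟨15,[(2,false),(5,true),(0,true)]⟩] [31,1],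
    .child 0 206,
    .child 1 206,
    .child 1 59,
    .rep 67 [21,19,129,31] [⟨5,[(2,true),(0,true)]⟩,⟨0,[(1,true),(0,true)]⟩,⟨15,[(3,false),(1,false),(0,false)]⟩] [69,2],
    .child 0 67,
    .rep 284 [19,15,129,31] [⟨5,[(1,false),(2,true),(0,true)]⟩,⟨0,[(2,false),(0,true),(0,true),(0,true)]⟩,⟨15,[(4,true),(2,false),(0,true)]⟩] [68,0],
    .child 0 284,
    .rep 411 [19,133,61] [⟨0,[(0,false),(1,true)]⟩,⟨9,[(1,false),(0,true),(0,true)]⟩,⟨15,[(4,true),(0,true),(0,true)]⟩] [68,0],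
    .child 0 411,
    .child 1 411,
    .child 1 40,
    .rep 285 [21,197,193,153,77] [⟨0,[(2,true),(2,true),(0,true)]⟩,⟨2,[(1,true),(0,false)]⟩,⟨15,[(2,false),(4,true),(0,false)]⟩] [69,2],
    .rep 78 [21,19,195,185,77] [⟨1,[(2,false),(0,false),(2,true)]⟩,⟨7,[(1,false),(0,false)]⟩,⟨15,[(5,false),(0,false),(2,false)]⟩] [69,2],
    .child 0 78,
    .rep 190 [201,195,149,77] [⟨2,[(2,true),(0,true),(0,true),(0,true)]⟩,⟨11,[(2,false),(0,false)]⟩,⟨15,[(5,true),(2,false),(5,true)]⟩] [69,2],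
    .child 0 190,
    .rep 38 [21,199,11,149,77] [⟨6,[]⟩,⟨0,[(0,true),(2,true),(0,false)]⟩,⟨15,[(5,true),(0,true),(2,false)]⟩] [68,0],
    .child 0 38,
    .child 1 38,
    .child 1 32,
    .rep 204 [17,15,183,65] [⟨4,[(1,true),(2,true)]⟩,⟨2,[]⟩,⟨15,[(2,false),(5,true),(0,true),(0,true)]⟩] [68,0],
    .child 0 204,
    .rep 27 [21,197,193,129,31] [⟨1,[(1,false),(1,false),(0,false)]⟩,⟨7,[(4,false),(0,true)]⟩,⟨15,[(0,true),(3,false),(1,false)]⟩] [0,0],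
    .child 1 27,
    .rep 25 [201,15,129,31] [⟨2,[(1,true),(2,false),(1,true),(0,false)]⟩,⟨7,[(2,true),(1,false),(0,false)]⟩,⟨15,[(0,false),(4,true),(1,true)]⟩] [31,1],
    .rep 16 [199,193,133,61] [⟨2,[(2,true),(0,true),(2,false),(1,true)]⟩,⟨15,[]⟩,⟨15,[(2,false),(4,true),(1,false)]⟩] [69,2],
    .rep 593 [21,19,195,173,75] [⟨5,[(1,true),(0,false),(1,false)]⟩,⟨0,[(2,false),(2,false),(0,false)]⟩,⟨15,[(5,true),(2,true),(4,false),(0,false)]⟩] [69,2]]]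

/-- part 2 of `cov2_7` -/
def cov2_7P2 : List (List Cov) := [
  [.rep 4 [] [⟨0,[(1,true),(2,false),(0,false)]⟩,⟨15,[(4,true),(2,false),(0,true)]⟩,⟨5,[(1,false),(0,false),(1,true)]⟩] [31,1],
    .child 0 4,
    .rep 410 [21,19,11,149,77] [⟨3,[(1,true),(1,true),(2,true)]⟩,⟨15,[(3,false),(1,true),(2,false),(0,false)]⟩,⟨5,[(0,true),(1,false),(1,false),(0,true)]⟩] [31,1],
    .child 0 410,
    .child 1 410,
    .child 1 411,
    .rep 212 [21,19,15,129,31] [⟨4,[(0,false),(2,false),(0,true)]⟩,⟨27,[(3,false),(0,true),(0,true)]⟩,⟨5,[(1,false),(1,false),(0,false)]⟩] [31,1],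
    .child 0 212,
    .child 1 212,
    .child 1 16,
    .rep 26 [201,149,77] [⟨3,[(1,true),(1,true),(2,false),(1,false)]⟩,⟨15,[(1,false),(1,false),(2,true),(1,true),(0,false)]⟩,⟨5,[(0,true),(2,true),(0,false)]⟩] [0,0],
    .child 0 26,
    .child 1 26,
    .child 1 284,
    .rep 194 [199,11,149,77] [⟨2,[(0,true),(0,true),(2,true),(0,false)]⟩,⟨28,[(3,false),(0,true),(0,true)]⟩,⟨5,[(2,false),(2,false)]⟩] [31,1],
    .child 0 194,
    .child 1 194,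
    .child 1 37,
    .rep 15 [197,193,173,55] [⟨6,[(0,true),(0,true)]⟩,⟨6,[(0,false)]⟩,⟨5,[(0,false),(0,false),(1,true)]⟩] [68,0],
    .child 0 15,
    .child 1 15,
    .child 1 193,
    .rep 67 [21,19,129,31] [⟨4,[(1,false),(0,false),(0,false)]⟩,⟨27,[(4,false),(1,true)]⟩,⟨5,[(1,false),(2,true),(0,false)]⟩] [0,0],
    .child 0 67,
    .child 1 67,
    .child 1 190,
    .rep 191 [199,15,129,31] [⟨1,[(1,true),(1,true),(2,false),(0,false)]⟩,⟨28,[(1,true),(0,true),(0,true)]⟩,⟨5,[(0,true),(2,false),(0,false)]⟩] [0,0],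
    .child 1 191,
    .rep 39 [21,201,11,153,77] [⟨0,[(1,true),(0,false),(1,false)]⟩,⟨15,[(3,false),(0,true),(5,true)]⟩,⟨5,[(0,false),(2,true),(0,false),(0,false)]⟩] [69,2],
    .child 0 39,
    .rep 101 [21,201,193,153,77] [⟨4,[(2,false),(0,false),(0,false)]⟩,⟨26,[(2,false),(2,false)]⟩,⟨5,[(0,false),(0,false),(2,true),(0,false)]⟩] [68,0],
    .child 1 101,
    .rep 78 [21,19,195,185,77] [⟨5,[(2,false),(2,false),(0,false)]⟩,⟨5,[(1,false),(0,false)]⟩,⟨5,[(2,false),(2,false),(0,false)]⟩] [31,1],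
    .child 0 78,
    .rep 392 [21,201,149,77] [⟨2,[(1,true),(2,true),(2,true),(0,false)]⟩,⟨28,[(4,true),(1,false)]⟩,⟨5,[(2,true),(2,true),(1,false)]⟩] [0,0],
    .child 0 392,
    .child 1 392,
    .child 1 32,
    .rep 38 [21,199,11,149,77] [⟨0,[(0,false),(1,false)]⟩,⟨15,[(0,false),(5,false),(3,false)]⟩,⟨5,[(2,true),(0,true)]⟩] [68,0],
    .child 0 38,
    .rep 60 [21,197,11,149,77] [⟨0,[(1,false),(2,false),(0,true)]⟩,⟨15,[(4,false),(5,false),(2,false),(0,true)]⟩,⟨5,[(1,false),(2,false),(0,true)]⟩] [0,0],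
    .child 0 60,
    .rep 30 [201,195,173,31] [⟨2,[(2,true),(2,true),(0,true)]⟩,⟨26,[(0,false),(4,true)]⟩,⟨5,[(1,true),(1,true),(0,true)]⟩] [68,0],
    .rep 27 [21,197,193,129,31] [⟨3,[(1,true),(1,true),(0,false),(0,false)]⟩,⟨15,[(0,false)]⟩,⟨5,[(0,true),(1,true),(1,true),(0,false)]⟩] [31,1],
    .child 1 27,
    .rep 25 [201,15,129,31] [⟨5,[(2,false),(0,true),(1,true)]⟩,⟨5,[(2,false),(0,false),(1,false)]⟩,⟨5,[(2,false),(0,true),(1,true)]⟩] [68,0],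
    .child 0 25,
    .rep 593 [21,19,195,173,75] [⟨0,[(2,false),(2,false),(0,false)]⟩,⟨15,[(5,true),(2,true),(4,false),(0,false)]⟩,⟨5,[(1,true),(0,false),(1,false)]⟩] [69,2],
    .rep 6 [19,11,149,53] [⟨1,[(1,true),(2,false),(1,true),(0,false)]⟩,⟨26,[(4,true),(0,true)]⟩,⟨5,[(0,false),(1,true),(2,false),(2,false)]⟩] [69,2],
    .rep 454 [197,11,177,115] [⟨1,[(2,true),(0,true),(2,false),(1,true)]⟩,⟨27,[(4,false),(0,true)]⟩,⟨5,[(2,false),(0,false),(2,true)]⟩] [0,0]]]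

/-- part 3 of `cov2_7` -/
def cov2_7P3 : List (List Cov) := [
  [.rep 4 [] [⟨5,[(2,false),(1,false)]⟩,⟨3,[(1,false),(1,false),(2,true),(1,false)]⟩,⟨15,[(3,false),(2,false),(2,false),(0,false)]⟩] [105,0],
    .child 0 4,
    .rep 410 [21,19,11,149,77] [⟨3,[(2,true),(2,true),(0,true)]⟩,⟨7,[(2,false),(0,false),(1,false)]⟩,⟨15,[(1,true),(3,false),(0,false)]⟩] [64,3],
    .rep 212 [21,19,15,129,31] [⟨6,[(1,false),(0,false),(1,false)]⟩,⟨3,[(2,false),(0,true),(1,false)]⟩,⟨15,[(3,false),(1,true),(0,false)]⟩] [64,3],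
    .child 0 212,
    .rep 195 [197,193,153,77] [⟨4,[(2,false),(0,false),(2,true),(1,false)]⟩,⟨9,[(4,true),(1,false)]⟩,⟨15,[(2,false),(1,true),(2,false),(1,true)]⟩] [105,0],
    .rep 26 [201,149,77] [⟨4,[(0,true),(1,false),(1,false),(2,true)]⟩,⟨13,[(4,true),(1,false),(0,false)]⟩,⟨15,[(1,true),(2,false),(1,true),(0,false)]⟩] [105,0],
    .child 0 26,
    .rep 194 [199,11,149,77] [⟨4,[(0,false),(0,false),(2,false),(0,true)]⟩,⟨6,[(2,true),(0,true)]⟩,⟨15,[(1,true),(1,true),(2,true),(0,false)]⟩] [105,0],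
    .child 0 194,
    .rep 137 [19,11,149,77] [⟨2,[(1,false),(1,false),(2,true),(1,false)]⟩,⟨6,[(1,true),(3,true)]⟩,⟨15,[(1,true),(0,false),(2,false),(2,false)]⟩] [64,3],
    .child 0 137,
    .rep 15 [197,193,173,55] [⟨3,[(0,false),(1,true)]⟩,⟨6,[(1,true),(2,false),(1,true)]⟩,⟨15,[(1,false),(2,true)]⟩] [105,0],
    .child 0 15,
    .rep 206 [199,195,173,31] [⟨3,[(2,false),(0,true),(2,true)]⟩,⟨7,[(1,true),(1,true),(0,false),(1,false)]⟩,⟨15,[(2,false),(2,false),(1,true),(1,true),(0,false)]⟩] [64,3],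
    .child 0 206,
    .rep 67 [21,19,129,31] [⟨2,[(2,false),(1,false)]⟩,⟨5,[(2,false),(1,false)]⟩,⟨15,[(1,true),(2,false),(1,true),(1,true)]⟩] [105,0],
    .rep 191 [199,15,129,31] [⟨0,[(0,true),(0,true),(2,true)]⟩,⟨7,[(5,false),(1,false)]⟩,⟨15,[(1,false),(2,false),(2,false),(1,true)]⟩] [64,3],
    .rep 284 [19,15,129,31] [⟨3,[(1,true),(0,true),(1,true)]⟩,⟨7,[(2,false),(2,false),(1,false),(0,false)]⟩,⟨15,[(2,true),(2,true),(0,false)]⟩] [64,3],
    .child 0 284,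
    .rep 411 [19,133,61] [⟨2,[(2,false)]⟩,⟨6,[(2,false),(3,true)]⟩,⟨15,[(0,false),(3,false),(1,true)]⟩] [64,3],
    .child 0 411,
    .rep 101 [21,201,193,153,77] [⟨0,[(1,true),(1,true),(1,true)]⟩,⟨8,[(4,true),(1,false)]⟩,⟨15,[(3,false),(1,true),(2,true)]⟩] [105,0],
    .child 0 101,
    .rep 285 [21,197,193,153,77] [⟨1,[(0,true),(1,true),(2,true),(0,false)]⟩,⟨13,[(2,true),(4,true)]⟩,⟨15,[(2,true),(2,true),(0,false),(1,false),(1,false)]⟩] [105,0],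
    .child 0 285,
    .rep 78 [21,19,195,185,77] [⟨4,[(2,true),(1,true),(2,false),(0,true)]⟩,⟨13,[(3,true),(0,true)]⟩,⟨15,[(1,false),(1,false),(0,false)]⟩] [105,0],
    .rep 59 [21,19,149,77] [⟨3,[(1,false),(0,true)]⟩,⟨6,[(1,false),(2,true),(1,false)]⟩,⟨15,[(2,false),(2,false),(1,true)]⟩] [105,0],
    .child 0 59,
    .rep 392 [21,201,149,77] [⟨5,[(2,false),(1,true)]⟩,⟨3,[(1,true),(1,true),(2,false),(1,false)]⟩,⟨15,[(1,false),(1,false),(2,true),(1,true),(0,false)]⟩] [64,3],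
    .child 0 392,
    .rep 65 [201,11,149,77] [⟨4,[(0,false),(2,true),(0,true),(0,true)]⟩,⟨6,[(4,true),(0,false)]⟩,⟨15,[(2,false),(1,true),(2,true),(0,false)]⟩] [64,3],
    .child 0 65,
    .rep 38 [21,199,11,149,77] [⟨1,[(2,true)]⟩,⟨13,[(4,false),(2,true),(1,false)]⟩,⟨15,[(1,true),(3,false),(2,false),(2,false),(0,false)]⟩] [105,0],
    .child 0 38,
    .rep 204 [17,15,183,65] [⟨3,[(2,true),(0,false)]⟩,⟨7,[(0,false),(1,true),(0,false),(1,false),(0,false)]⟩,⟨15,[(1,true),(2,true),(2,true),(0,false)]⟩] [64,3],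
    .child 0 204,
    .rep 60 [21,197,11,149,77] [⟨6,[(1,false),(0,true)]⟩,⟨3,[(0,false),(1,false),(1,false)]⟩,⟨15,[(0,false),(1,false),(3,false)]⟩] [64,3],
    .child 0 60,
    .rep 193 [21,201,193,173,55] [⟨4,[(1,false),(0,true),(2,true),(1,false)]⟩,⟨13,[(4,true),(1,false),(0,true)]⟩,⟨15,[(2,false),(2,false),(0,false)]⟩] [105,0],
    .child 0 193,
    .rep 30 [201,195,173,31] [⟨0,[(0,true),(0,true),(1,true)]⟩,⟨8,[(1,false),(0,false),(0,false)]⟩,⟨15,[(1,false),(2,false),(1,false)]⟩] [105,0],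
    .child 0 30,
    .rep 27 [21,197,193,129,31] [⟨4,[(2,true),(0,false),(1,false),(0,false),(0,false)]⟩,⟨5,[(2,false),(1,false),(0,false)]⟩,⟨15,[(1,false),(3,false),(2,false),(1,false)]⟩] [105,0],
    .rep 25 [201,15,129,31] [⟨1,[(1,false),(2,false)]⟩,⟨9,[(2,false),(1,false),(0,false)]⟩,⟨15,[(2,false),(2,false),(1,true)]⟩] [105,0],
    .rep 16 [199,193,133,61] [⟨4,[(2,true),(1,true),(0,false)]⟩,⟨6,[(2,false),(1,true),(0,false)]⟩,⟨15,[(2,false),(2,false),(0,false),(1,true)]⟩] [64,3],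
    .rep 593 [21,19,195,173,75] [⟨5,[(0,false),(0,false)]⟩,⟨3,[(1,true),(1,true),(0,false),(0,false)]⟩,⟨15,[(0,false)]⟩] [105,0],
    .rep 6 [19,11,149,53] [⟨3,[(0,true),(2,false)]⟩,⟨7,[(1,true),(2,false),(2,false),(1,true),(0,false)]⟩,⟨15,[(2,true),(0,false),(1,false),(1,false)]⟩] [105,0],
    .child 0 6,
    .rep 408 [21,19,195,149,77] [⟨4,[(2,true),(1,false),(1,false),(0,true)]⟩,⟨4,[(0,false)]⟩,⟨15,[(2,false),(1,false)]⟩] [105,0]]]

/-- part 4 of `cov2_7` -/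
def cov2_7P4 : List (List Cov) := [
  [.rep 4 [] [⟨4,[(0,false),(1,true),(1,true),(1,true)]⟩,⟨24,[(4,false),(3,false),(1,false)]⟩,⟨28,[(2,true),(1,false)]⟩] [64,3],
    .child 0 4,
    .rep 410 [21,19,11,149,77] [⟨4,[(0,true),(2,false),(2,false)]⟩,⟨23,[(3,false),(1,true)]⟩,⟨28,[(1,false),(3,false),(1,false)]⟩] [64,3],
    .child 0 410,
    .rep 212 [21,19,15,129,31] [⟨5,[(2,true),(1,true),(1,true)]⟩,⟨2,[(1,true),(2,true),(2,true),(0,false)]⟩,⟨28,[(4,true),(1,false)]⟩] [64,3],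
    .child 0 212,
    .rep 195 [197,193,153,77] [⟨3,[(2,true),(0,true),(0,true),(0,true)]⟩,⟨14,[(2,true),(1,true),(1,true),(0,false)]⟩,⟨28,[(1,true),(3,true),(0,false)]⟩] [105,0],
    .child 0 195,
    .rep 26 [201,149,77] [⟨3,[(2,true),(1,false),(1,false),(0,true)]⟩,⟨10,[(1,true)]⟩,⟨28,[(1,true),(1,true),(0,false)]⟩] [105,0],
    .rep 194 [199,11,149,77] [⟨2,[(1,true),(1,true),(1,true)]⟩,⟨24,[(0,false),(3,false)]⟩,⟨28,[(1,true),(1,true)]⟩] [105,0],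
    .child 0 194,
    .rep 137 [19,11,149,77] [⟨4,[(2,false),(0,false),(1,true)]⟩,⟨20,[(1,true),(4,false)]⟩,⟨28,[(3,false),(1,false)]⟩] [64,3],
    .child 0 137,
    .rep 15 [197,193,173,55] [⟨3,[(2,false),(0,false),(2,true),(1,false)]⟩,⟨13,[(2,true),(1,false),(2,true)]⟩,⟨28,[(0,false),(0,false),(1,true)]⟩] [105,0],
    .rep 67 [21,19,129,31] [⟨0,[(0,false),(1,false),(2,true),(0,true)]⟩,⟨11,[(3,false),(5,false),(1,false),(0,false)]⟩,⟨28,[(0,true),(0,true)]⟩] [105,0],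
    .child 0 67,
    .rep 191 [199,15,129,31] [⟨3,[(2,true),(1,true),(0,false)]⟩,⟨11,[(1,true),(1,true)]⟩,⟨28,[(2,true),(1,false),(0,false)]⟩] [105,0],
    .rep 284 [19,15,129,31] [⟨4,[(2,true),(2,true),(1,false),(0,false)]⟩,⟨21,[(1,true),(3,true)]⟩,⟨28,[(4,true),(1,false)]⟩] [64,3],
    .child 0 284,
    .rep 411 [19,133,61] [⟨6,[(0,false),(0,false),(1,true),(0,false)]⟩,⟨4,[(0,true),(2,true)]⟩,⟨28,[(4,false),(0,true)]⟩] [105,0],
    .child 0 411,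
    .rep 39 [21,201,11,153,77] [⟨4,[(0,true),(0,true),(2,true),(0,false)]⟩,⟨24,[(0,true),(1,false),(0,true)]⟩,⟨28,[(3,false),(1,false),(1,false)]⟩] [64,3],
    .child 0 39,
    .rep 285 [21,197,193,153,77] [⟨0,[(0,false),(1,false),(0,false)]⟩,⟨10,[(5,false)]⟩,⟨28,[(4,false),(2,false)]⟩] [64,3],
    .rep 78 [21,19,195,185,77] [⟨3,[(0,false),(0,false),(2,false),(0,true)]⟩,⟨12,[(2,false),(0,false),(1,false),(1,false)]⟩,⟨28,[(2,true),(0,false)]⟩] [64,3],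
    .child 0 78,
    .rep 190 [201,195,149,77] [⟨5,[(1,true),(0,false),(1,false),(0,false)]⟩,⟨1,[(2,true),(0,true),(0,true),(0,true)]⟩,⟨28,[(2,true),(2,true)]⟩] [105,0],
    .rep 59 [21,19,149,77] [⟨3,[(0,false),(2,false),(0,false),(0,false)]⟩,⟨14,[(0,false),(1,false),(2,true),(1,false)]⟩,⟨28,[(3,true),(1,false),(0,false)]⟩] [64,3],
    .child 0 59,
    .rep 392 [21,201,149,77] [⟨6,[(0,false),(2,true),(0,true),(0,true)]⟩,⟨4,[(0,false),(1,false),(0,true),(0,true)]⟩,⟨28,[(0,false),(3,true)]⟩] [64,3],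
    .child 0 392,
    .rep 40 [201,193,13,77] [⟨3,[(2,true),(1,false),(1,false),(0,false)]⟩,⟨12,[(1,false),(3,false),(2,false),(0,false)]⟩,⟨28,[(4,true),(3,false),(0,true)]⟩] [105,0],
    .child 0 40,
    .rep 65 [201,11,149,77] [⟨3,[(2,true),(1,true),(2,false),(0,true)]⟩,⟨14,[(0,false),(1,true),(1,true)]⟩,⟨28,[(0,false),(3,false)]⟩] [105,0],
    .rep 38 [21,199,11,149,77] [⟨1,[(2,true),(2,true),(1,true)]⟩,⟨18,[(4,true),(2,false)]⟩,⟨28,[(2,false),(1,true),(0,false)]⟩] [64,3],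
    .child 0 38,
    .rep 204 [17,15,183,65] [⟨5,[(1,false)]⟩,⟨2,[(2,true),(1,false),(0,false),(1,false)]⟩,⟨28,[(1,false),(0,true),(0,true)]⟩] [64,3],
    .child 0 204,
    .rep 60 [21,197,11,149,77] [⟨2,[(0,true),(0,true),(1,true)]⟩,⟨23,[(0,true),(3,false)]⟩,⟨28,[(4,false),(3,false)]⟩] [64,3],
    .child 0 60,
    .rep 409 [197,173,57] [⟨2,[(0,true),(0,true),(2,true)]⟩,⟨18,[(1,false),(1,false),(1,false)]⟩,⟨28,[(1,false),(0,true)]⟩] [105,0],
    .rep 30 [201,195,173,31] [⟨0,[(1,true),(2,false),(2,false)]⟩,⟨11,[(4,false),(2,false),(0,false)]⟩,⟨28,[(3,false),(2,true),(1,false)]⟩] [64,3],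
    .child 0 30,
    .rep 58 [197,195,189,95] [⟨4,[(1,false),(0,true),(2,true)]⟩,⟨23,[(3,true)]⟩,⟨28,[(1,false),(1,false)]⟩] [64,3],
    .child 0 58,
    .rep 32 [19,129,31] [⟨1,[(1,false),(1,false),(2,true),(1,false)]⟩,⟨18,[]⟩,⟨28,[(4,true),(1,true),(0,false)]⟩] [105,0],
    .child 0 32,
    .rep 25 [201,15,129,31] [⟨3,[(2,true),(0,false),(1,false),(0,false),(0,false)]⟩,⟨12,[(1,false),(0,false),(2,true),(2,true)]⟩,⟨28,[(0,true),(2,false),(1,true)]⟩] [64,3],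
    .rep 192 [21,197,133,61] [⟨1,[(2,false),(1,false)]⟩,⟨14,[]⟩,⟨28,[(1,false),(1,false),(0,true)]⟩] [64,3],
    .rep 408 [21,19,195,149,77] [⟨4,[(1,false),(1,false),(1,false),(2,false),(0,false)]⟩,⟨25,[(1,false),(0,false)]⟩,⟨28,[(3,true),(1,true),(0,false)]⟩] [105,0]]]

/-- part 5 of `cov2_7` -/
def cov2_7P5 : List (List Cov) := [
  [.rep 4 [] [⟨0,[(2,true),(2,true),(1,false),(0,true)]⟩,⟨11,[(4,true),(1,true),(0,true)]⟩,⟨27,[(3,false),(2,false),(0,false)]⟩] [1,1],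
    .rep 410 [21,19,11,149,77] [⟨4,[(0,false),(1,false),(2,false),(0,false)]⟩,⟨18,[(1,false),(3,false),(0,false)]⟩,⟨27,[(2,false),(1,false)]⟩] [18,1],
    .child 0 410,
    .rep 212 [21,19,15,129,31] [⟨0,[(0,true),(2,false),(0,true),(0,true)]⟩,⟨12,[(5,true),(2,true)]⟩,⟨27,[(0,true),(3,false)]⟩] [18,1],
    .child 0 212,
    .rep 195 [197,193,153,77] [⟨3,[(0,true),(0,true)]⟩,⟨11,[(3,false),(2,false),(2,false)]⟩,⟨27,[(2,true),(1,true)]⟩] [112,2],
    .child 0 195,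
    .rep 26 [201,149,77] [⟨5,[(2,false),(0,true),(1,true)]⟩,⟨4,[(1,false),(0,false),(0,false)]⟩,⟨27,[(4,false),(1,true)]⟩] [112,2],
    .child 0 26,
    .child 1 26,
    .child 1 59,
    .rep 194 [199,11,149,77] [⟨1,[(1,false),(0,true),(1,true)]⟩,⟨23,[(2,false),(4,true),(0,false)]⟩,⟨27,[(0,false)]⟩] [18,1],
    .child 0 194,
    .rep 137 [19,11,149,77] [⟨4,[(0,false),(2,true),(0,false)]⟩,⟨24,[(3,true),(4,true)]⟩,⟨27,[(3,true),(0,false)]⟩] [112,2],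
    .child 0 137,
    .child 1 137,
    .child 1 190,
    .rep 206 [199,195,173,31] [⟨4,[(0,true),(2,false),(1,false),(0,false)]⟩,⟨23,[(1,false),(1,false)]⟩,⟨27,[(4,true),(0,false)]⟩] [123,3],
    .child 0 206,
    .child 1 206,
    .child 1 191,
    .rep 67 [21,19,129,31] [⟨1,[(0,false),(2,false)]⟩,⟨20,[(2,false),(1,false),(0,false)]⟩,⟨27,[(1,true),(0,false)]⟩] [18,1],
    .child 1 67,
    .rep 284 [19,15,129,31] [⟨1,[(1,true),(0,false),(0,false),(0,false)]⟩,⟨24,[(1,false),(3,false),(0,false)]⟩,⟨27,[(2,true),(0,true)]⟩] [112,2],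
    .child 1 284,
    .rep 411 [19,133,61] [⟨5,[(2,false),(2,false),(0,false)]⟩,⟨1,[(2,true),(0,true),(2,false),(1,true)]⟩,⟨27,[(4,false),(0,true)]⟩] [18,1],
    .rep 39 [21,201,11,153,77] [⟨2,[(1,false),(0,false),(2,true)]⟩,⟨8,[(4,false),(0,true)]⟩,⟨27,[(3,false),(0,false)]⟩] [123,3],
    .child 1 39,
    .rep 101 [21,201,193,153,77] [⟨2,[(0,true),(1,true)]⟩,⟨8,[(3,false),(2,false),(0,false)]⟩,⟨27,[(0,false),(1,true)]⟩] [18,1],
    .child 0 101,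
    .rep 78 [21,19,195,185,77] [⟨3,[(0,false),(0,false),(0,false),(0,false)]⟩,⟨12,[(2,true),(2,true),(1,false),(0,false)]⟩,⟨27,[(3,false)]⟩] [123,3],
    .child 0 78,
    .child 1 78,
    .child 1 399,
    .rep 392 [21,201,149,77] [⟨1,[(1,true),(2,false),(1,true),(0,false)]⟩,⟨21,[(1,true),(1,true),(0,false)]⟩,⟨27,[(4,true),(0,false)]⟩] [112,2],
    .child 0 392,
    .rep 204 [17,15,183,65] [⟨6,[(2,true),(0,false),(2,false),(0,false)]⟩,⟨1,[(1,false),(0,false),(1,false),(0,false)]⟩,⟨27,[(0,true),(0,true),(0,true)]⟩] [18,1],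
    .child 0 204,
    .child 1 204,
    .child 1 592,
    .rep 24 [19,193,175,77] [⟨3,[(1,false),(0,false),(2,true),(0,true)]⟩,⟨12,[(1,false),(3,false),(0,false)]⟩,⟨27,[(2,true),(2,true)]⟩] [18,1],
    .child 0 24,
    .child 1 24,
    .child 1 60,
    .rep 37 [199,15,149,77] [⟨5,[(1,false),(0,false),(2,true)]⟩,⟨4,[(1,false),(1,false),(1,false)]⟩,⟨27,[(4,false),(0,true),(0,true)]⟩] [1,1],
    .child 0 37,
    .child 1 37,
    .child 1 30,
    .rep 16 [199,193,133,61] [⟨0,[(0,false),(1,false),(1,false)]⟩,⟨14,[(1,true),(2,false)]⟩,⟨27,[(4,false),(2,true)]⟩] [123,3],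
    .rep 454 [197,11,177,115] [⟨1,[(1,true),(2,false),(0,false)]⟩,⟨17,[]⟩,⟨27,[(4,true),(3,false)]⟩] [123,3]]]

/-- part 6 of `cov2_7` -/
def cov2_7P6 : List (List Cov) := [
  [.rep 4 [] [⟨1,[(2,false)]⟩,⟨27,[(0,false),(1,true)]⟩,⟨6,[(0,false),(2,true),(0,false)]⟩] [98,3],
    .child 0 4,
    .child 0 101,
    .child 0 16,
    .child 0 454,
    .rep 410 [21,19,11,149,77] [⟨3,[(2,false),(0,true),(2,false),(2,false)]⟩,⟨15,[(0,false),(2,true),(2,true),(1,true)]⟩,⟨6,[(2,true),(1,false),(0,false)]⟩] [98,3],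
    .child 0 410,
    .child 0 195,
    .child 0 60,
    .child 0 204,
    .rep 212 [21,19,15,129,31] [⟨5,[(1,true),(2,true),(2,true)]⟩,⟨6,[(0,true),(0,true)]⟩,⟨6,[(0,false)]⟩] [98,3],
    .child 0 212,
    .child 0 409,
    .child 0 190,
    .child 0 206,
    .rep 194 [199,11,149,77] [⟨3,[(2,true),(0,false),(1,true)]⟩,⟨15,[(0,false),(1,false),(3,false)]⟩,⟨6,[(0,true)]⟩] [108,4],
    .child 0 194,
    .child 0 464,
    .child 0 6,
    .child 0 15,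
    .rep 137 [19,11,149,77] [⟨4,[(1,false),(2,true),(2,true),(0,false)]⟩,⟨28,[(4,false),(0,true)]⟩,⟨6,[(1,false),(2,true),(0,true),(1,false)]⟩] [116,0],
    .child 0 137,
    .child 0 592,
    .child 0 32,
    .child 0 25,
    .rep 67 [21,19,129,31] [⟨6,[(1,true),(2,false),(1,true),(0,false)]⟩,⟨6,[(1,true),(2,true),(0,false)]⟩,⟨6,[(1,true),(0,false)]⟩] [106,2],
    .child 0 67,
    .child 0 39,
    .child 0 31,
    .child 0 192,
    .rep 284 [19,15,129,31] [⟨2,[(2,false),(0,false),(0,false)]⟩,⟨26,[(0,true),(4,false)]⟩,⟨6,[(0,false),(1,true),(0,false)]⟩] [98,3],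
    .child 0 284,
    .child 0 59,
    .child 0 24,
    .child 0 193,
    .rep 78 [21,19,195,185,77] [⟨0,[(2,false),(0,true),(1,false),(0,true)]⟩,⟨15,[(5,true),(0,true),(2,false)]⟩,⟨6,[(1,true),(0,false),(2,false),(0,false)]⟩] [31,3],
    .child 0 78,
    .child 0 40,
    .child 0 593,
    .child 0 65,
    .rep 391 [201,193,149,77] [⟨4,[(1,false),(1,false),(2,true),(0,false)]⟩,⟨28,[(0,false),(3,true)]⟩,⟨6,[(2,false),(1,false),(2,false),(0,true)]⟩] [98,3],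
    .child 0 391,
    .child 0 14,
    .child 0 66,
    .child 0 205,
    .rep 38 [21,199,11,149,77] [⟨6,[(0,false),(1,true),(0,false),(0,false)]⟩,⟨5,[(1,true),(1,true),(2,true)]⟩,⟨6,[(0,true),(2,false),(0,true)]⟩] [108,4],
    .child 0 38,
    .child 0 122,
    .child 0 58,
    .child 0 30]]

/-- certificate data -/
def cov2_7 : List (List Cov) :=
  [cov2_7P0, cov2_7P1, cov2_7P2, cov2_7P3, cov2_7P4, cov2_7P5, cov2_7P6].flatten

/-- part 0 of `cov2_8` -/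
def cov2_8P0 : List (List Cov) := [
  [.rep 4 [] [⟨0,[(2,true),(0,true),(1,false),(0,false),(0,false)]⟩,⟨22,[(1,false)]⟩,⟨29,[(2,true)]⟩] [78,6,0,0,0,1],
    .child 0 4,
    .rep 410 [21,19,11,149,77] [⟨0,[(2,true),(0,false),(3,false),(0,false),(0,false)]⟩,⟨20,[(0,false),(0,false),(1,true)]⟩,⟨29,[(1,false)]⟩] [72,9,1,0,1,1],
    .child 0 410,
    .child 1 410,
    .child 2 410,
    .child 0 65,
    .child 1 65,
    .child 0 190,
    .child 2 190,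
    .child 0 137,
    .child 0 67,
    .child 2 67,
    .child 0 38,
    .rep 212 [21,19,15,129,31] [⟨0,[(2,false),(0,true),(4,false),(1,true)]⟩,⟨21,[(3,false),(1,true)]⟩,⟨29,[(0,false),(0,false)]⟩] [69,4,1,1,0,1],
    .child 0 212,
    .child 1 212,
    .child 2 212,
    .child 0 25,
    .child 1 25,
    .child 0 122,
    .child 2 122,
    .child 0 284,
    .child 0 59,
    .child 2 59,
    .child 0 40,
    .rep 195 [197,193,153,77] [⟨1,[(1,false),(3,false),(0,true),(0,true)]⟩,⟨0,[(0,true),(5,false),(0,false)]⟩,⟨29,[(3,false),(0,true)]⟩] [71,8,2,1,1,1],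
    .child 0 195,
    .child 0 285,
    .child 0 39,
    .rep 15 [197,193,173,55] [⟨0,[(5,false),(0,true),(1,true)]⟩,⟨8,[(4,false)]⟩,⟨29,[(1,false)]⟩] [69,4,2,0,1,0],
    .child 0 15,
    .child 0 206,
    .child 1 206,
    .child 2 206,
    .child 0 30,
    .rep 411 [19,133,61] [⟨0,[(3,false),(1,true),(0,false),(2,false)]⟩,⟨18,[(1,true),(0,true)]⟩,⟨29,[(0,false)]⟩] [71,8,1,0,0,0],
    .child 0 411,
    .child 1 411,
    .child 0 409,
    .child 1 409,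
    .child 2 409,
    .child 0 399,
    .child 1 204,
    .child 0 592,
    .child 2 592,
    .child 1 205,
    .child 2 205,
    .rep 6 [19,11,149,53] [⟨0,[(0,true),(1,false),(0,false),(0,false)]⟩,⟨19,[(0,false)]⟩,⟨29,[(0,true)]⟩] [71,8,0,1,1,0],
    .rep 454 [197,11,177,115] [⟨0,[(1,false),(0,true),(5,false),(3,false),(0,false),(0,false)]⟩,⟨25,[(1,false),(0,false)]⟩,⟨29,[(2,false),(0,false)]⟩] [71,8,2,1,1,1]]]

/-- part 1 of `cov2_8` -/
def cov2_8P1 : List (List Cov) := [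
  [.rep 4 [] [⟨0,[(0,false),(5,false),(0,true),(1,true)]⟩,⟨29,[(3,false),(0,true)]⟩,⟨1,[]⟩] [64,2,1,1,0,0],
    .child 0 4,
    .child 1 4,
    .child 2 4,
    .child 0 454,
    .child 1 454,
    .child 2 454,
    .child 0 193,
    .child 2 193,
    .child 0 408,
    .child 1 408,
    .child 2 408,
    .child 2 32,
    .child 0 15,
    .child 1 15,
    .child 2 15,
    .child 0 399,
    .child 2 399,
    .child 0 60,
    .child 1 40,
    .child 2 40,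
    .child 0 67,
    .child 0 122,
    .child 0 409,
    .child 1 464,
    .child 0 78,
    .child 0 31,
    .child 2 194,
    .child 0 192,
    .child 0 392,
    .child 2 392,
    .child 0 206,
    .child 1 206,
    .child 0 411,
    .child 2 59,
    .child 0 137,
    .child 1 284,
    .child 1 14,
    .child 2 14,
    .child 0 6,
    .rep 410 [21,19,11,149,77] [⟨1,[(0,true),(3,false),(0,false),(0,false)]⟩,⟨1,[(2,false),(3,false),(0,true)]⟩,⟨1,[(2,false),(3,false),(0,true)]⟩] [48,1,1,0,1,0],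
    .child 0 410,
    .child 0 204,
    .child 2 204,
    .child 2 101,
    .child 0 191,
    .child 0 26,
    .child 1 26,
    .child 2 27,
    .child 0 593]]

/-- certificate data -/
def cov2_8 : List (List Cov) :=
  [cov2_8P0, cov2_8P1].flatten

/-- relation 2 -/
def rel2 : RelCert := ⟨[4,5,4,5,4,5], 4, 0x3000000000000000000000000000000010040000000000f00818000000000000000000000000030000000000000000010700fc000000000000200040000200000400e1c0001e3cf01c050, [cov2_0,cov2_1,cov2_2,cov2_3,cov2_4,cov2_5,cov2_6,cov2_7,cov2_8]⟩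

end CfsgLib.HN
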