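import Cfsg.Agent.Lib.HN.LowerData
import Cfsg.Agent.Lib.HN.Space
import Cfsg.Agent.Lib.HN.RelData2

/-!
Kernel check of a relation.
-/

set_option autoImplicit false
set_option linter.style.longLine false

namespace CfsgLib.HN
open CfsgLib.CosetEnum CfsgLib.DCoset CfsgLib.DCoset.Space
theorem relOrb2 : lower.orbOK space rel2 = true := by decide +kernel

theorem relChk2_0_0 : lower.relOK space rel2 0 0 = true := by decide +kernel

theorem relChk2_0 : ∀ r < 1, lower.relOK space rel2 0 r = true := by
  intro r hr
  match r, hr with
  | 0, _ => exact relChk2_0_0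
  | n + 1, h => omega

theorem relChk2_1_0 : lower.relOK space rel2 1 0 = true := by decide +kernel

theorem relChk2_1_1 : lower.relOK space rel2 1 1 = true := by decide +kernel

theorem relChk2_1_2 : lower.relOK space rel2 1 2 = true := by decide +kernel

theorem relChk2_1_3 : lower.relOK space rel2 1 3 = true := by decide +kernel

theorem relChk2_1_4 : lower.relOK space rel2 1 4 = true := by decide +kernel

theorem relChk2_1_5 : lower.relOK space rel2 1 5 = true := by decide +kernel

theorem relChk2_1_6 : lower.relOK space rel2 1 6 = true := by decide +kernel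

theorem relChk2_1_7 : lower.relOK space rel2 1 7 = true := by decide +kernel

theorem relChk2_1_8 : lower.relOK space rel2 1 8 = true := by decide +kernel

theorem relChk2_1_9 : lower.relOK space rel2 1 9 = true := by decide +kernel

theorem relChk2_1_10 : lower.relOK space rel2 1 10 = true := by decide +kernel

theorem relChk2_1 : ∀ r < 11, lower.relOK space rel2 1 r = true := by
  intro r hr
  match r, hr with
  | 0, _ => exact relChk2_1_0
  | 1, _ => exact relChk2_1_1
  | 2, _ => exact relChk2_1_2
  | 3, _ => exact relChk2_1_3
  | 4, _ => exact relChk2_1_4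
  | 5, _ => exact relChk2_1_5
  | 6, _ => exact relChk2_1_6
  | 7, _ => exact relChk2_1_7
  | 8, _ => exact relChk2_1_8
  | 9, _ => exact relChk2_1_9
  | 10, _ => exact relChk2_1_10
  | n + 11, h => omega

theorem relChk2_2_0 : lower.relOK space rel2 2 0 = true := by decide +kernel

theorem relChk2_2_1 : lower.relOK space rel2 2 1 = true := by decide +kernel

theorem relChk2_2_2 : lower.relOK space rel2 2 2 = true := by decide +kernel

theorem relChk2_2_3 : lower.relOK space rel2 2 3 = true := by decide +kernel

theorem relChk2_2_4 : lower.relOK space rel2 2 4 = true := by decide +kernel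

theorem relChk2_2_5 : lower.relOK space rel2 2 5 = true := by decide +kernel

theorem relChk2_2_6 : lower.relOK space rel2 2 6 = true := by decide +kernel

theorem relChk2_2_7 : lower.relOK space rel2 2 7 = true := by decide +kernel

theorem relChk2_2_8 : lower.relOK space rel2 2 8 = true := by decide +kernel

theorem relChk2_2_9 : lower.relOK space rel2 2 9 = true := by decide +kernel

theorem relChk2_2_10 : lower.relOK space rel2 2 10 = true := by decide +kernel

theorem relChk2_2_11 : lower.relOK space rel2 2 11 = true := by decide +kernel

theorem relChk2_2_12 : lower.relOK space rel2 2 12 = true := by decide +kernel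

theorem relChk2_2_13 : lower.relOK space rel2 2 13 = true := by decide +kernel

theorem relChk2_2 : ∀ r < 14, lower.relOK space rel2 2 r = true := by
  intro r hr
  match r, hr with
  | 0, _ => exact relChk2_2_0
  | 1, _ => exact relChk2_2_1
  | 2, _ => exact relChk2_2_2
  | 3, _ => exact relChk2_2_3
  | 4, _ => exact relChk2_2_4
  | 5, _ => exact relChk2_2_5
  | 6, _ => exact relChk2_2_6
  | 7, _ => exact relChk2_2_7
  | 8, _ => exact relChk2_2_8
  | 9, _ => exact relChk2_2_9
  | 10, _ => exact relChk2_2_10
  | 11, _ => exact relChk2_2_11
  | 12, _ => exact relChk2_2_12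
  | 13, _ => exact relChk2_2_13
  | n + 14, h => omega

theorem relChk2_3_0 : lower.relOK space rel2 3 0 = true := by decide +kernel

theorem relChk2_3_1 : lower.relOK space rel2 3 1 = true := by decide +kernel

theorem relChk2_3_2 : lower.relOK space rel2 3 2 = true := by decide +kernel

theorem relChk2_3_3 : lower.relOK space rel2 3 3 = true := by decide +kernel

theorem relChk2_3 : ∀ r < 4, lower.relOK space rel2 3 r = true := by
  intro r hr
  match r, hr with
  | 0, _ => exact relChk2_3_0
  | 1, _ => exact relChk2_3_1
  | 2, _ => exact relChk2_3_2
  | 3, _ => exact relChk2_3_3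
  | n + 4, h => omega

theorem relChk2_4_0 : lower.relOK space rel2 4 0 = true := by decide +kernel

theorem relChk2_4_1 : lower.relOK space rel2 4 1 = true := by decide +kernel

theorem relChk2_4_2 : lower.relOK space rel2 4 2 = true := by decide +kernel

theorem relChk2_4_3 : lower.relOK space rel2 4 3 = true := by decide +kernel

theorem relChk2_4_4 : lower.relOK space rel2 4 4 = true := by decide +kernel

theorem relChk2_4_5 : lower.relOK space rel2 4 5 = true := by decide +kernel

theorem relChk2_4_6 : lower.relOK space rel2 4 6 = true := by decide +kernel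

theorem relChk2_4_7 : lower.relOK space rel2 4 7 = true := by decide +kernel

theorem relChk2_4_8 : lower.relOK space rel2 4 8 = true := by decide +kernel

theorem relChk2_4_9 : lower.relOK space rel2 4 9 = true := by decide +kernel

theorem relChk2_4_10 : lower.relOK space rel2 4 10 = true := by decide +kernel

theorem relChk2_4_11 : lower.relOK space rel2 4 11 = true := by decide +kernel

theorem relChk2_4_12 : lower.relOK space rel2 4 12 = true := by decide +kernel

theorem relChk2_4_13 : lower.relOK space rel2 4 13 = true := by decide +kernel

theorem relChk2_4_14 : lower.relOK space rel2 4 14 = true := by decide +kernel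

theorem relChk2_4_15 : lower.relOK space rel2 4 15 = true := by decide +kernel

theorem relChk2_4 : ∀ r < 16, lower.relOK space rel2 4 r = true := by
  intro r hr
  match r, hr with
  | 0, _ => exact relChk2_4_0
  | 1, _ => exact relChk2_4_1
  | 2, _ => exact relChk2_4_2
  | 3, _ => exact relChk2_4_3
  | 4, _ => exact relChk2_4_4
  | 5, _ => exact relChk2_4_5
  | 6, _ => exact relChk2_4_6
  | 7, _ => exact relChk2_4_7
  | 8, _ => exact relChk2_4_8
  | 9, _ => exact relChk2_4_9
  | 10, _ => exact relChk2_4_10
  | 11, _ => exact relChk2_4_11
  | 12, _ => exact relChk2_4_12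
  | 13, _ => exact relChk2_4_13
  | 14, _ => exact relChk2_4_14
  | 15, _ => exact relChk2_4_15
  | n + 16, h => omega

theorem relChk2_5_0 : lower.relOK space rel2 5 0 = true := by decide +kernel

theorem relChk2_5_1 : lower.relOK space rel2 5 1 = true := by decide +kernel

theorem relChk2_5_2 : lower.relOK space rel2 5 2 = true := by decide +kernel

theorem relChk2_5_3 : lower.relOK space rel2 5 3 = true := by decide +kernel

theorem relChk2_5_4 : lower.relOK space rel2 5 4 = true := by decide +kernel

theorem relChk2_5_5 : lower.relOK space rel2 5 5 = true := by decide +kernel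

theorem relChk2_5_6 : lower.relOK space rel2 5 6 = true := by decide +kernel

theorem relChk2_5_7 : lower.relOK space rel2 5 7 = true := by decide +kernel

theorem relChk2_5_8 : lower.relOK space rel2 5 8 = true := by decide +kernel

theorem relChk2_5_9 : lower.relOK space rel2 5 9 = true := by decide +kernel

theorem relChk2_5_10 : lower.relOK space rel2 5 10 = true := by decide +kernel

theorem relChk2_5_11 : lower.relOK space rel2 5 11 = true := by decide +kernel

theorem relChk2_5_12 : lower.relOK space rel2 5 12 = true := by decide +kernel

theorem relChk2_5_13 : lower.relOK space rel2 5 13 = true := by decide +kernel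

theorem relChk2_5_14 : lower.relOK space rel2 5 14 = true := by decide +kernel

theorem relChk2_5_15 : lower.relOK space rel2 5 15 = true := by decide +kernel

theorem relChk2_5 : ∀ r < 16, lower.relOK space rel2 5 r = true := by
  intro r hr
  match r, hr with
  | 0, _ => exact relChk2_5_0
  | 1, _ => exact relChk2_5_1
  | 2, _ => exact relChk2_5_2
  | 3, _ => exact relChk2_5_3
  | 4, _ => exact relChk2_5_4
  | 5, _ => exact relChk2_5_5
  | 6, _ => exact relChk2_5_6
  | 7, _ => exact relChk2_5_7
  | 8, _ => exact relChk2_5_8
  | 9, _ => exact relChk2_5_9
  | 10, _ => exact relChk2_5_10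
  | 11, _ => exact relChk2_5_11
  | 12, _ => exact relChk2_5_12
  | 13, _ => exact relChk2_5_13
  | 14, _ => exact relChk2_5_14
  | 15, _ => exact relChk2_5_15
  | n + 16, h => omega

theorem relChk2_6_0 : lower.relOK space rel2 6 0 = true := by decide +kernel

theorem relChk2_6_1 : lower.relOK space rel2 6 1 = true := by decide +kernel

theorem relChk2_6_2 : lower.relOK space rel2 6 2 = true := by decide +kernel

theorem relChk2_6_3 : lower.relOK space rel2 6 3 = true := by decide +kernel

theorem relChk2_6_4 : lower.relOK space rel2 6 4 = true := by decide +kernel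

theorem relChk2_6_5 : lower.relOK space rel2 6 5 = true := by decide +kernel

theorem relChk2_6_6 : lower.relOK space rel2 6 6 = true := by decide +kernel

theorem relChk2_6_7 : lower.relOK space rel2 6 7 = true := by decide +kernel

theorem relChk2_6_8 : lower.relOK space rel2 6 8 = true := by decide +kernel

theorem relChk2_6_9 : lower.relOK space rel2 6 9 = true := by decide +kernel

theorem relChk2_6_10 : lower.relOK space rel2 6 10 = true := by decide +kernel

theorem relChk2_6_11 : lower.relOK space rel2 6 11 = true := by decide +kernel

theorem relChk2_6_12 : lower.relOK space rel2 6 12 = true := by decide +kernel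

theorem relChk2_6_13 : lower.relOK space rel2 6 13 = true := by decide +kernel

theorem relChk2_6_14 : lower.relOK space rel2 6 14 = true := by decide +kernel

theorem relChk2_6_15 : lower.relOK space rel2 6 15 = true := by decide +kernel

theorem relChk2_6_16 : lower.relOK space rel2 6 16 = true := by decide +kernel

theorem relChk2_6_17 : lower.relOK space rel2 6 17 = true := by decide +kernel

theorem relChk2_6_18 : lower.relOK space rel2 6 18 = true := by decide +kernel

theorem relChk2_6_19 : lower.relOK space rel2 6 19 = true := by decide +kernel

theorem relChk2_6_20 : lower.relOK space rel2 6 20 = true := by decide +kernel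

theorem relChk2_6_21 : lower.relOK space rel2 6 21 = true := by decide +kernel

theorem relChk2_6_22 : lower.relOK space rel2 6 22 = true := by decide +kernel

theorem relChk2_6_23 : lower.relOK space rel2 6 23 = true := by decide +kernel

theorem relChk2_6_24 : lower.relOK space rel2 6 24 = true := by decide +kernel

theorem relChk2_6_25 : lower.relOK space rel2 6 25 = true := by decide +kernel

theorem relChk2_6_26 : lower.relOK space rel2 6 26 = true := by decide +kernel

theorem relChk2_6_27 : lower.relOK space rel2 6 27 = true := by decide +kernel

theorem relChk2_6_28 : lower.relOK space rel2 6 28 = true := by decide +kernel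

theorem relChk2_6_29 : lower.relOK space rel2 6 29 = true := by decide +kernel

theorem relChk2_6 : ∀ r < 30, lower.relOK space rel2 6 r = true := by
  intro r hr
  match r, hr with
  | 0, _ => exact relChk2_6_0
  | 1, _ => exact relChk2_6_1
  | 2, _ => exact relChk2_6_2
  | 3, _ => exact relChk2_6_3
  | 4, _ => exact relChk2_6_4
  | 5, _ => exact relChk2_6_5
  | 6, _ => exact relChk2_6_6
  | 7, _ => exact relChk2_6_7
  | 8, _ => exact relChk2_6_8
  | 9, _ => exact relChk2_6_9
  | 10, _ => exact relChk2_6_10
  | 11, _ => exact relChk2_6_11
  | 12, _ => exact relChk2_6_12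
  | 13, _ => exact relChk2_6_13
  | 14, _ => exact relChk2_6_14
  | 15, _ => exact relChk2_6_15
  | 16, _ => exact relChk2_6_16
  | 17, _ => exact relChk2_6_17
  | 18, _ => exact relChk2_6_18
  | 19, _ => exact relChk2_6_19
  | 20, _ => exact relChk2_6_20
  | 21, _ => exact relChk2_6_21
  | 22, _ => exact relChk2_6_22
  | 23, _ => exact relChk2_6_23
  | 24, _ => exact relChk2_6_24
  | 25, _ => exact relChk2_6_25
  | 26, _ => exact relChk2_6_26
  | 27, _ => exact relChk2_6_27
  | 28, _ => exact relChk2_6_28
  | 29, _ => exact relChk2_6_29
  | n + 30, h => omega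

theorem relChk2_7_0 : lower.relOK space rel2 7 0 = true := by decide +kernel

theorem relChk2_7_1 : lower.relOK space rel2 7 1 = true := by decide +kernel

theorem relChk2_7_2 : lower.relOK space rel2 7 2 = true := by decide +kernel

theorem relChk2_7_3 : lower.relOK space rel2 7 3 = true := by decide +kernel

theorem relChk2_7_4 : lower.relOK space rel2 7 4 = true := by decide +kernel

theorem relChk2_7_5 : lower.relOK space rel2 7 5 = true := by decide +kernel

theorem relChk2_7_6 : lower.relOK space rel2 7 6 = true := by decide +kernel

theorem relChk2_7 : ∀ r < 7, lower.relOK space rel2 7 r = true := by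
  intro r hr
  match r, hr with
  | 0, _ => exact relChk2_7_0
  | 1, _ => exact relChk2_7_1
  | 2, _ => exact relChk2_7_2
  | 3, _ => exact relChk2_7_3
  | 4, _ => exact relChk2_7_4
  | 5, _ => exact relChk2_7_5
  | 6, _ => exact relChk2_7_6
  | n + 7, h => omega

theorem relChk2_8_0 : lower.relOK space rel2 8 0 = true := by decide +kernel

theorem relChk2_8_1 : lower.relOK space rel2 8 1 = true := by decide +kernel

theorem relChk2_8 : ∀ r < 2, lower.relOK space rel2 8 r = true := by
  intro r hr
  match r, hr with
  | 0, _ => exact relChk2_8_0
  | 1, _ => exact relChk2_8_1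
  | n + 2, h => omega

theorem relChk2 : ∀ i < lower.ns, ∀ r < (lower.st i).roots.length, lower.relOK space rel2 i r = true := by
  intro i hi
  match i, hi with
  | 0, _ => exact relChk2_0
  | 1, _ => exact relChk2_1
  | 2, _ => exact relChk2_2
  | 3, _ => exact relChk2_3
  | 4, _ => exact relChk2_4
  | 5, _ => exact relChk2_5
  | 6, _ => exact relChk2_6
  | 7, _ => exact relChk2_7
  | 8, _ => exact relChk2_8
  | n + 9, h => exact absurd (show n + 9 < 9 from h) (by omega)

end CfsgLib.HN
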