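import Cfsg.Agent.Lib.HN.Basic
import Cfsg.Agent.Lib.HN.Group
import Cfsg.Agent.Lib.HN.Link
import Cfsg.Agent.Lib.HN.RelChk0
import Cfsg.Agent.Lib.HN.RelChk1
import Cfsg.Agent.Lib.HN.RelChk2

/-!
HN acts on the cosets of the certified stabilisers.
-/

set_option autoImplicit false
set_option linter.style.longLine false

namespace CfsgLib.HN

open CfsgLib.CosetEnum CfsgLib.DCoset CfsgLib.DCoset.Space

/-- the set of cosets -/
abbrev Om : Type := lower.Omega valid

/-- the step -/
noncomputable def tauH : Om → Om := LData.tau lowValid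

/-- a letter in the permutation group -/
noncomputable def pgP (c : ℕ) : ↥valid.P := ⟨valid.pgen c, valid.pgen_mem c⟩

theorem comm_tau {w : ↥valid.P} (hw : w.1.unop valid.zero = valid.zero) (ω : Om) :
    tauH (lower.rmul valid ω w) = lower.rmul valid (tauH ω) w := LData.tau_rmul lowValid ω w hw

theorem opL_t (ω : Om) : LData.opL lowValid ω 5 = tauH ω := by
  rw [LData.opL, if_neg (by decide)]
  rfl

theorem opL_letter {c : ℕ} (hc : c < 5) (ω : Om) :
    LData.opL lowValid ω c = lower.rmul valid ω (pgP c) := by
  rw [LData.opL, if_pos (show c < space.C.K from hc)]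
  rfl

theorem comm0 : LData.Comm lowValid rel0 := by
  intro w hw _ ω
  simp only [LData.opQ, rel0, List.foldl_cons, List.foldl_nil, opL_t, comm_tau hw]

theorem fix_point {c d : ℕ} (hc : c < 5) (hd : d < 5) (hinv : space.C.inv c = d)
    (h : ((gensOf uChain).all fun g =>
      Nat.beq (space.app g.1 (space.C.run 0 [c])) (space.C.run 0 [c])) = true)
    {w : ↥valid.P} (hw : w.1.unop valid.zero = valid.zero) :
    (pgP c * w * pgP d).1.unop valid.zero = valid.zero := by
  obtain ⟨u, hu, hue⟩ := lowValid.exists_word w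
  have h0 : space.C.run 0 u = 0 := by
    have e := valid.pgen_apply hu valid.zero
    rw [hue, hw] at e
    exact e.symm
  have hmem := valid.mem_of_fix invOK subs_mem hu h0
  rw [hue] at hmem
  have key : ∀ x ∈ valid.grp (gensOf uChain),
      x.unop ((valid.pgen c).unop valid.zero) = (valid.pgen c).unop valid.zero := by
    intro x hx
    induction hx using Subgroup.closure_induction with
    | mem y hy =>
      obtain ⟨g, hg, rfl⟩ := hy
      have hp : ((valid.pgen c).unop valid.zero : ℕ) = space.C.run 0 [c] := by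
        have e := valid.pgen_apply (w := [c]) (by simpa using (show c < space.C.K from hc)) valid.zero
        rw [prodW_cons, prodW_nil, mul_one] at e
        exact e
      refine Fin.ext ?_
      rw [valid.pev_apply (uGens g hg).1, hp]
      exact Nat.eq_of_beq_eq_true (List.all_eq_true.mp h g hg)
    | one => rfl
    | mul x y _ _ hx hy => rw [valid.unop_mul_apply, hx, hy]
    | inv x _ hx => rw [MulOpposite.unop_inv, Equiv.Perm.inv_eq_iff_eq, hx]
  have hd' : valid.pgen d = (valid.pgen c)⁻¹ := by
    rw [← hinv]; exact eq_inv_of_mul_eq_one_right (valid.inv_mul invOK c)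
  change (valid.pgen c * w.1 * valid.pgen d).unop valid.zero = valid.zero
  rw [valid.unop_mul_apply, valid.unop_mul_apply, key _ hmem, hd', MulOpposite.unop_inv,
    Equiv.Perm.inv_def, Equiv.symm_apply_apply]

theorem pgP_inv {c d : ℕ} (hinv : space.C.inv c = d) : pgP c * pgP d = 1 :=
  Subtype.ext (hinv ▸ valid.inv_mul invOK c)

theorem xFixChk : ((gensOf uChain).all fun g =>
    Nat.beq (space.app g.1 (space.C.run 0 [0])) (space.C.run 0 [0])) = true := by decide +kernel

theorem comm1 : LData.Comm lowValid rel1 := by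
  intro w hw _ ω
  have h10 : pgP 1 * pgP 0 = 1 := pgP_inv (by decide +kernel)
  have hw' := fix_point (c := 0) (d := 1) (by decide) (by decide) (by decide +kernel) xFixChk hw
  have e1 : w * pgP 1 = pgP 1 * (pgP 0 * w * pgP 1) := by
    rw [← mul_assoc, ← mul_assoc, h10, one_mul]
  have e2 : pgP 0 * w * pgP 1 * pgP 0 = pgP 0 * w := by rw [mul_assoc, h10, mul_one]
  simp only [LData.opQ, rel1, List.foldl_cons, List.foldl_nil, opL_t, opL_letter (show 1 < 5 by decide),
    opL_letter (show 0 < 5 by decide), LData.rmul_mul, e1]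
  rw [← LData.rmul_mul, comm_tau hw', LData.rmul_mul, e2, ← LData.rmul_mul, comm_tau hw, comm_tau hw]

theorem zCommChk : ((gensOf uChain.tail).all fun g =>
    eqOn space base (4 :: g.1) (g.1 ++ [4])) = true := by decide +kernel

theorem z_comm {w : ↥valid.P} (hw : w.1.unop valid.zero = valid.zero)
    (hq : ∀ hq : rel2.q0 < space.C.N, w.1.unop ⟨rel2.q0, hq⟩ = ⟨rel2.q0, hq⟩) :
    pgP 4 * w = w * pgP 4 := by
  obtain ⟨u, hu, hue⟩ := lowValid.exists_word w
  have h0 : space.C.run 0 u = 0 := by
    have e := valid.pgen_apply hu valid.zero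
    rw [hue, hw] at e
    exact e.symm
  have hmem := valid.mem_of_fix invOK subs_mem hu h0
  rw [hue] at hmem
  have s := valid.step_of_ok valid.sound_all uLev0_ok fun g hg => (uGens g hg).1
  obtain ⟨r, hr, j, hj⟩ := s.decomp _ hmem
  obtain ⟨hlen, h01, h02⟩ := s.zero
  have hj0 : (j : ℕ) = 0 := by
    have h1 : (w.1.unop ⟨uLev0.base, s.base_lt⟩ : ℕ) = uLev0.orbit[j].1 := by
      rw [hj, valid.unop_mul_apply]
      have : r.unop ⟨uLev0.base, s.base_lt⟩ = ⟨uLev0.base, s.base_lt⟩ := Fin.ext (s.fixed r hr)
      rw [this]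
      exact s.pt j j.2
    rw [show (⟨uLev0.base, s.base_lt⟩ : Fin space.C.N) = ⟨rel2.q0, s.base_lt⟩ from rfl, hq s.base_lt]
      at h1
    have e : (uLev0.orbit.map Prod.fst)[(j : ℕ)]'(by simp) =
        (uLev0.orbit.map Prod.fst)[0]'(by simpa using hlen) := by
      rw [List.getElem_map, List.getElem_map, h01]
      exact h1.symm
    exact (s.nodup.getElem_inj_iff).mp e
  have hwr : w.1 = r := by
    rw [hj]
    have : uLev0.orbit[j].2 = [] := by simp [hj0, h02]
    rw [this, show tr (gensOf [uLev0, uLev1, uLev2, uLev3, uLev4]) [] = [] from rfl, valid.pev_nil,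
      mul_one]
  have key : ∀ x ∈ valid.grp (gensOf uChain.tail), valid.pgen 4 * x = x * valid.pgen 4 := by
    intro x hx
    induction hx using Subgroup.closure_induction with
    | mem y hy =>
      obtain ⟨g, hg, rfl⟩ := hy
      have e := valid.lw_eq_of invOK based (List.all_eq_true.mp zCommChk g hg)
      rw [show 4 :: g.1 = [4] ++ g.1 from rfl, valid.pev_append, valid.pev_append,
        Rig.pev_letter valid (show 4 < space.C.K by decide +kernel) (show 4 < space.cnt by decide +kernel)]
        at e
      exact e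
    | one => simp
    | mul x y _ _ hx hy => rw [← mul_assoc, hx, mul_assoc, hy, ← mul_assoc]
    | inv x _ hx => exact (Commute.inv_right (show Commute (valid.pgen 4) x from hx)).eq
  exact Subtype.ext (by
    show valid.pgen 4 * w.1 = w.1 * valid.pgen 4
    rw [hwr]; exact key r hr)

theorem comm2 : LData.Comm lowValid rel2 := by
  intro w hw hq ω
  have h4 := z_comm hw hq
  simp only [LData.opQ, rel2, List.foldl_cons, List.foldl_nil, opL_t,
    opL_letter (show 4 < 5 by decide), LData.rmul_mul, ← h4]
  rw [← LData.rmul_mul, comm_tau hw, LData.rmul_mul, ← h4, ← LData.rmul_mul, comm_tau hw,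
    LData.rmul_mul, ← h4, ← LData.rmul_mul, comm_tau hw]

theorem tau_five (ω : Om) : tauH (tauH (tauH (tauH (tauH ω)))) = ω := by
  have h := lowValid.opQ_eq comm0 relOrb0 relChk0 ω
  simpa only [LData.opQ, rel0, List.foldl_cons, List.foldl_nil, opL_t] using h

theorem tau_x (ω : Om) :
    tauH (tauH (lower.rmul valid (tauH (lower.rmul valid ω (pgP 1))) (pgP 0))) = ω := by
  have h := lowValid.opQ_eq comm1 relOrb1 relChk1 ω
  simpa only [LData.opQ, rel1, List.foldl_cons, List.foldl_nil, opL_t,
    opL_letter (show 1 < 5 by decide), opL_letter (show 0 < 5 by decide)] using h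

theorem tau_z (ω : Om) :
    tauH (lower.rmul valid (tauH (lower.rmul valid (tauH (lower.rmul valid ω (pgP 4))) (pgP 4))) (pgP 4)) = ω := by
  have h := lowValid.opQ_eq comm2 relOrb2 relChk2 ω
  simpa only [LData.opQ, rel2, List.foldl_cons, List.foldl_nil, opL_t,
    opL_letter (show 4 < 5 by decide)] using h

/-- the step as a permutation -/
noncomputable def tauPerm : Equiv.Perm Om where
  toFun := tauH
  invFun ω := tauH (tauH (tauH (tauH ω)))
  left_inv := tau_five
  right_inv := tau_five

/-- the opposite of the permutations of the cosets -/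
abbrev OmPerm : Type := (Equiv.Perm Om)ᵐᵒᵖ

/-- a letter acting -/
noncomputable def genM (c : ℕ) : OmPerm := LData.rmulHom lower valid (pgP c)

theorem pRel {r : List ℕ} (hr : r ∈ certU.rels) : prodW genM r = 1 := by
  have h : prodW pgP r = 1 := Subtype.ext (by
    rw [show ((prodW pgP r : ↥valid.P) : (Equiv.Perm (Fin space.C.N))ᵐᵒᵖ) = prodW valid.pgen r from
      map_prodW valid.P.subtype pgP r]
    exact (valid.model invOK ⊤ fun _ _ => trivial).rel r hr)
  have e := map_prodW (LData.rmulHom lower valid) pgP r
  rw [h, map_one] at e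
  exact e.symm

/-- images of the generators -/
noncomputable def img : Cfsg.Spor.HN.Gen → OmPerm
  | .x => genM 0
  | .y => genM 2
  | .z => genM 4
  | .t => MulOpposite.op tauPerm

theorem genM_inv (c : ℕ) : genM (certU.inv c) = (genM c)⁻¹ := by
  refine eq_inv_of_mul_eq_one_right ?_
  rw [genM, genM, ← map_mul, pgP_inv (c := c) (d := certU.inv c) rfl, map_one]

theorem omPerm_ext {a b : OmPerm} (h : ∀ ω, a.unop ω = b.unop ω) : a = b :=
  MulOpposite.unop_injective (Equiv.ext h)

set_option maxRecDepth 20000 in
theorem img_rels : ∀ r ∈ Rels, FreeGroup.lift img r = 1 := by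
  rintro r (h | h)
  · obtain ⟨a, ha, -⟩ := h
    simp [Cfsg.Spor.coxNodes, Cfsg.Spor.HN.edges] at ha
  · have hx1 : genM 1 = (genM 0)⁻¹ := genM_inv 0
    have hy1 : genM 3 = (genM 2)⁻¹ := genM_inv 2
    have hz : (genM 4)⁻¹ = genM 4 := (genM_inv 4).symm
    have h0 := fun r hr => pRel (r := r) hr
    simp only [certU, List.forall_mem_cons, List.not_mem_nil, false_implies, implies_true, and_true,
      prodW_cons, prodW_nil, mul_one, hx1, hy1] at h0
    obtain ⟨h1, h2, h3, h4, h5, h6, h7, h8, h9, h10⟩ := h0
    have hty : MulOpposite.op tauPerm * genM 2 = genM 2 * MulOpposite.op tauPerm := by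
      refine omPerm_ext fun ω => ?_
      show lower.rmul valid (tauH ω) (pgP 2) = tauH (lower.rmul valid ω (pgP 2))
      refine (comm_tau (Fin.ext ?_) ω).symm
      have e := valid.pgen_apply (w := [2]) (by decide) valid.zero
      rw [prodW_cons, prodW_nil, mul_one] at e
      exact e.trans (by decide +kernel)
    change r ∈ Cfsg.Spor.HN.extra at h
    simp only [Cfsg.Spor.HN.extra, List.mem_cons, List.not_mem_nil, or_false] at h
    rcases h with rfl | rfl | rfl | rfl | rfl | rfl | rfl | rfl | rfl | rfl | rfl | rfl | rfl | rfl <;>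
      simp only [map_pow, map_mul, map_inv, FreeGroup.lift_apply_of, img]
    · simpa [pow_succ, mul_assoc] using h1
    · simpa [pow_succ, mul_assoc] using h2
    · simpa [pow_succ, mul_assoc] using h3
    · simpa [pow_succ, mul_assoc] using h4
    · simpa [pow_succ, mul_assoc] using h5
    · simpa [pow_succ, mul_assoc] using h6
    · simpa [pow_succ, mul_assoc] using h7
    · simpa [pow_succ, mul_assoc] using h8
    · simp only [pow_succ, pow_zero, one_mul, mul_inv_rev, inv_inv, hz, mul_assoc]
      exact h9
    · simp only [pow_succ, pow_zero, one_mul, mul_inv_rev, inv_inv, hz, mul_assoc]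
      exact h10
    · refine omPerm_ext fun ω => ?_
      simp only [pow_succ, pow_zero, one_mul, MulOpposite.unop_mul, MulOpposite.unop_op,
        Equiv.Perm.mul_apply, MulOpposite.unop_one, Equiv.Perm.one_apply]
      exact tau_five ω
    · refine omPerm_ext fun ω => ?_
      simp only [← hx1, pow_two, MulOpposite.unop_mul, MulOpposite.unop_op, Equiv.Perm.mul_apply,
        MulOpposite.unop_one, Equiv.Perm.one_apply]
      exact tau_x ω
    · rw [mul_assoc, hty, mul_assoc, inv_mul_cancel_left, inv_mul_cancel]
    · refine omPerm_ext fun ω => ?_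
      simp only [pow_succ, pow_zero, one_mul, MulOpposite.unop_mul, MulOpposite.unop_op,
        Equiv.Perm.mul_apply, MulOpposite.unop_one, Equiv.Perm.one_apply]
      exact tau_z ω

/-- HN acting on the cosets -/
noncomputable def act : G →* OmPerm := PresentedGroup.toGroup img_rels

theorem act_gen {c : ℕ} (hc : c < 5) : act (gen c) = genM c := by
  match c, hc with
  | 0, _ => exact PresentedGroup.toGroup.of _
  | 1, _ =>
    show act gx⁻¹ = _
    rw [map_inv]
    exact (congrArg _ (PresentedGroup.toGroup.of _)).trans (genM_inv 0).symm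
  | 2, _ => exact PresentedGroup.toGroup.of _
  | 3, _ =>
    show act gy⁻¹ = _
    rw [map_inv]
    exact (congrArg _ (PresentedGroup.toGroup.of _)).trans (genM_inv 2).symm
  | 4, _ => exact PresentedGroup.toGroup.of _
  | n + 5, h => omega

theorem act_t (ω : Om) : (act gt).unop ω = tauH ω := by
  rw [act, gt, PresentedGroup.toGroup.of]
  rfl

end CfsgLib.HN
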