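import Cfsg.Agent.Lib.HN.Space

/-!
Kernel check of named permutations.
-/

set_option autoImplicit false
set_option linter.style.longLine false

namespace CfsgLib.HN
open CfsgLib.CosetEnum CfsgLib.DCoset CfsgLib.DCoset.Space

theorem atomChk7_0 : allUp space.atomOK' 5 896 = true := by decide +kernel

theorem atomChk7_1 : allUp space.atomOK' 5 928 = true := by decide +kernel

theorem atomChk7_2 : allUp space.atomOK' 5 960 = true := by decide +kernel

theorem atomChk7_3 : allUp space.atomOK' 5 992 = true := by decide +kernel

end CfsgLib.HN
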