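import Cfsg.Agent.Lib.HN.LowerData
import Cfsg.Agent.Lib.HN.Space

/-!
Kernel check of state 1.
-/

set_option autoImplicit false
set_option linter.style.longLine false

namespace CfsgLib.HN
open CfsgLib.CosetEnum CfsgLib.DCoset CfsgLib.DCoset.Space
theorem colChk1 : lower.colOK space 1 = true := by decide +kernel

theorem sizeChk1 : lower.sizeOK space 1 = true := by decide +kernel

theorem rootChk1_0 : lower.rootOK space 1 0 = true := by decide +kernel

theorem rootChk1_1 : lower.rootOK space 1 1 = true := by decide +kernel

theorem rootChk1_2 : lower.rootOK space 1 2 = true := by decide +kernel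

theorem rootChk1_3 : lower.rootOK space 1 3 = true := by decide +kernel

theorem rootChk1_4 : lower.rootOK space 1 4 = true := by decide +kernel

theorem rootChk1_5 : lower.rootOK space 1 5 = true := by decide +kernel

theorem rootChk1_6 : lower.rootOK space 1 6 = true := by decide +kernel

theorem rootChk1_7 : lower.rootOK space 1 7 = true := by decide +kernel

theorem rootChk1_8 : lower.rootOK space 1 8 = true := by decide +kernel

theorem rootChk1_9 : lower.rootOK space 1 9 = true := by decide +kernel

theorem rootChk1_10 : lower.rootOK space 1 10 = true := by decide +kernel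

theorem rootsChk1 : ∀ r < 11, lower.rootOK space 1 r = true := by
  intro r hr
  match r, hr with
  | 0, _ => exact rootChk1_0
  | 1, _ => exact rootChk1_1
  | 2, _ => exact rootChk1_2
  | 3, _ => exact rootChk1_3
  | 4, _ => exact rootChk1_4
  | 5, _ => exact rootChk1_5
  | 6, _ => exact rootChk1_6
  | 7, _ => exact rootChk1_7
  | 8, _ => exact rootChk1_8
  | 9, _ => exact rootChk1_9
  | 10, _ => exact rootChk1_10
  | n + 11, h => omega

end CfsgLib.HN
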