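import Cfsg.Agent.Lib.HN.LowerData
import Cfsg.Agent.Lib.HN.Space

/-!
Kernel check of state 2.
-/

set_option autoImplicit false
set_option linter.style.longLine false

namespace CfsgLib.HN
open CfsgLib.CosetEnum CfsgLib.DCoset CfsgLib.DCoset.Space
theorem colChk2 : lower.colOK space 2 = true := by decide +kernel

theorem sizeChk2 : lower.sizeOK space 2 = true := by decide +kernel

theorem rootChk2_0 : lower.rootOK space 2 0 = true := by decide +kernel

theorem rootChk2_1 : lower.rootOK space 2 1 = true := by decide +kernel

theorem rootChk2_2 : lower.rootOK space 2 2 = true := by decide +kernel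

theorem rootChk2_3 : lower.rootOK space 2 3 = true := by decide +kernel

theorem rootChk2_4 : lower.rootOK space 2 4 = true := by decide +kernel

theorem rootChk2_5 : lower.rootOK space 2 5 = true := by decide +kernel

theorem rootChk2_6 : lower.rootOK space 2 6 = true := by decide +kernel

theorem rootChk2_7 : lower.rootOK space 2 7 = true := by decide +kernel

theorem rootChk2_8 : lower.rootOK space 2 8 = true := by decide +kernel

theorem rootChk2_9 : lower.rootOK space 2 9 = true := by decide +kernel

theorem rootChk2_10 : lower.rootOK space 2 10 = true := by decide +kernel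

theorem rootChk2_11 : lower.rootOK space 2 11 = true := by decide +kernel

theorem rootChk2_12 : lower.rootOK space 2 12 = true := by decide +kernel

theorem rootChk2_13 : lower.rootOK space 2 13 = true := by decide +kernel

theorem rootsChk2 : ∀ r < 14, lower.rootOK space 2 r = true := by
  intro r hr
  match r, hr with
  | 0, _ => exact rootChk2_0
  | 1, _ => exact rootChk2_1
  | 2, _ => exact rootChk2_2
  | 3, _ => exact rootChk2_3
  | 4, _ => exact rootChk2_4
  | 5, _ => exact rootChk2_5
  | 6, _ => exact rootChk2_6
  | 7, _ => exact rootChk2_7
  | 8, _ => exact rootChk2_8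
  | 9, _ => exact rootChk2_9
  | 10, _ => exact rootChk2_10
  | 11, _ => exact rootChk2_11
  | 12, _ => exact rootChk2_12
  | 13, _ => exact rootChk2_13
  | n + 14, h => omega

end CfsgLib.HN
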