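import Cfsg.Agent.Lib.HN.LowerData
import Cfsg.Agent.Lib.HN.Space

/-!
Kernel check of state 3.
-/

set_option autoImplicit false
set_option linter.style.longLine false

namespace CfsgLib.HN
open CfsgLib.CosetEnum CfsgLib.DCoset CfsgLib.DCoset.Space
theorem colChk3 : lower.colOK space 3 = true := by decide +kernel

theorem sizeChk3 : lower.sizeOK space 3 = true := by decide +kernel

theorem rootChk3_0 : lower.rootOK space 3 0 = true := by decide +kernel

theorem rootChk3_1 : lower.rootOK space 3 1 = true := by decide +kernel

theorem rootChk3_2 : lower.rootOK space 3 2 = true := by decide +kernel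

theorem rootChk3_3 : lower.rootOK space 3 3 = true := by decide +kernel

theorem rootsChk3 : ∀ r < 4, lower.rootOK space 3 r = true := by
  intro r hr
  match r, hr with
  | 0, _ => exact rootChk3_0
  | 1, _ => exact rootChk3_1
  | 2, _ => exact rootChk3_2
  | 3, _ => exact rootChk3_3
  | n + 4, h => omega

end CfsgLib.HN
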