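import Cfsg.Agent.Lib.HN.LowerData
import Cfsg.Agent.Lib.HN.Space

/-!
Kernel check of state 4.
-/

set_option autoImplicit false
set_option linter.style.longLine false

namespace CfsgLib.HN
open CfsgLib.CosetEnum CfsgLib.DCoset CfsgLib.DCoset.Space
theorem colChk4 : lower.colOK space 4 = true := by decide +kernel

theorem sizeChk4 : lower.sizeOK space 4 = true := by decide +kernel

theorem rootChk4_0 : lower.rootOK space 4 0 = true := by decide +kernel

theorem rootChk4_1 : lower.rootOK space 4 1 = true := by decide +kernel

theorem rootChk4_2 : lower.rootOK space 4 2 = true := by decide +kernel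

theorem rootChk4_3 : lower.rootOK space 4 3 = true := by decide +kernel

theorem rootChk4_4 : lower.rootOK space 4 4 = true := by decide +kernel

theorem rootChk4_5 : lower.rootOK space 4 5 = true := by decide +kernel

theorem rootChk4_6 : lower.rootOK space 4 6 = true := by decide +kernel

theorem rootChk4_7 : lower.rootOK space 4 7 = true := by decide +kernel

theorem rootChk4_8 : lower.rootOK space 4 8 = true := by decide +kernel

theorem rootChk4_9 : lower.rootOK space 4 9 = true := by decide +kernel

theorem rootChk4_10 : lower.rootOK space 4 10 = true := by decide +kernel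

theorem rootChk4_11 : lower.rootOK space 4 11 = true := by decide +kernel

theorem rootChk4_12 : lower.rootOK space 4 12 = true := by decide +kernel

theorem rootChk4_13 : lower.rootOK space 4 13 = true := by decide +kernel

theorem rootChk4_14 : lower.rootOK space 4 14 = true := by decide +kernel

theorem rootChk4_15 : lower.rootOK space 4 15 = true := by decide +kernel

theorem rootsChk4 : ∀ r < 16, lower.rootOK space 4 r = true := by
  intro r hr
  match r, hr with
  | 0, _ => exact rootChk4_0
  | 1, _ => exact rootChk4_1
  | 2, _ => exact rootChk4_2
  | 3, _ => exact rootChk4_3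
  | 4, _ => exact rootChk4_4
  | 5, _ => exact rootChk4_5
  | 6, _ => exact rootChk4_6
  | 7, _ => exact rootChk4_7
  | 8, _ => exact rootChk4_8
  | 9, _ => exact rootChk4_9
  | 10, _ => exact rootChk4_10
  | 11, _ => exact rootChk4_11
  | 12, _ => exact rootChk4_12
  | 13, _ => exact rootChk4_13
  | 14, _ => exact rootChk4_14
  | 15, _ => exact rootChk4_15
  | n + 16, h => omega

end CfsgLib.HN
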