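import Cfsg.Agent.Lib.HN.LowerData
import Cfsg.Agent.Lib.HN.Space

/-!
Kernel check of state 5.
-/

set_option autoImplicit false
set_option linter.style.longLine false

namespace CfsgLib.HN
open CfsgLib.CosetEnum CfsgLib.DCoset CfsgLib.DCoset.Space
theorem colChk5 : lower.colOK space 5 = true := by decide +kernel

theorem sizeChk5 : lower.sizeOK space 5 = true := by decide +kernel

theorem rootChk5_0 : lower.rootOK space 5 0 = true := by decide +kernel

theorem rootChk5_1 : lower.rootOK space 5 1 = true := by decide +kernel

theorem rootChk5_2 : lower.rootOK space 5 2 = true := by decide +kernel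

theorem rootChk5_3 : lower.rootOK space 5 3 = true := by decide +kernel

theorem rootChk5_4 : lower.rootOK space 5 4 = true := by decide +kernel

theorem rootChk5_5 : lower.rootOK space 5 5 = true := by decide +kernel

theorem rootChk5_6 : lower.rootOK space 5 6 = true := by decide +kernel

theorem rootChk5_7 : lower.rootOK space 5 7 = true := by decide +kernel

theorem rootChk5_8 : lower.rootOK space 5 8 = true := by decide +kernel

theorem rootChk5_9 : lower.rootOK space 5 9 = true := by decide +kernel

theorem rootChk5_10 : lower.rootOK space 5 10 = true := by decide +kernel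

theorem rootChk5_11 : lower.rootOK space 5 11 = true := by decide +kernel

theorem rootChk5_12 : lower.rootOK space 5 12 = true := by decide +kernel

theorem rootChk5_13 : lower.rootOK space 5 13 = true := by decide +kernel

theorem rootChk5_14 : lower.rootOK space 5 14 = true := by decide +kernel

theorem rootChk5_15 : lower.rootOK space 5 15 = true := by decide +kernel

theorem rootsChk5 : ∀ r < 16, lower.rootOK space 5 r = true := by
  intro r hr
  match r, hr with
  | 0, _ => exact rootChk5_0
  | 1, _ => exact rootChk5_1
  | 2, _ => exact rootChk5_2
  | 3, _ => exact rootChk5_3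
  | 4, _ => exact rootChk5_4
  | 5, _ => exact rootChk5_5
  | 6, _ => exact rootChk5_6
  | 7, _ => exact rootChk5_7
  | 8, _ => exact rootChk5_8
  | 9, _ => exact rootChk5_9
  | 10, _ => exact rootChk5_10
  | 11, _ => exact rootChk5_11
  | 12, _ => exact rootChk5_12
  | 13, _ => exact rootChk5_13
  | 14, _ => exact rootChk5_14
  | 15, _ => exact rootChk5_15
  | n + 16, h => omega

end CfsgLib.HN
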