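import Cfsg.Agent.Lib.HN.LowerData
import Cfsg.Agent.Lib.HN.Space

/-!
Kernel check of state 6.
-/

set_option autoImplicit false
set_option linter.style.longLine false

namespace CfsgLib.HN
open CfsgLib.CosetEnum CfsgLib.DCoset CfsgLib.DCoset.Space
theorem colChk6 : lower.colOK space 6 = true := by decide +kernel

theorem sizeChk6 : lower.sizeOK space 6 = true := by decide +kernel

theorem rootChk6_0 : lower.rootOK space 6 0 = true := by decide +kernel

theorem rootChk6_1 : lower.rootOK space 6 1 = true := by decide +kernel

theorem rootChk6_2 : lower.rootOK space 6 2 = true := by decide +kernel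

theorem rootChk6_3 : lower.rootOK space 6 3 = true := by decide +kernel

theorem rootChk6_4 : lower.rootOK space 6 4 = true := by decide +kernel

theorem rootChk6_5 : lower.rootOK space 6 5 = true := by decide +kernel

theorem rootChk6_6 : lower.rootOK space 6 6 = true := by decide +kernel

theorem rootChk6_7 : lower.rootOK space 6 7 = true := by decide +kernel

theorem rootChk6_8 : lower.rootOK space 6 8 = true := by decide +kernel

theorem rootChk6_9 : lower.rootOK space 6 9 = true := by decide +kernel

theorem rootChk6_10 : lower.rootOK space 6 10 = true := by decide +kernel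

theorem rootChk6_11 : lower.rootOK space 6 11 = true := by decide +kernel

theorem rootChk6_12 : lower.rootOK space 6 12 = true := by decide +kernel

theorem rootChk6_13 : lower.rootOK space 6 13 = true := by decide +kernel

theorem rootChk6_14 : lower.rootOK space 6 14 = true := by decide +kernel

theorem rootChk6_15 : lower.rootOK space 6 15 = true := by decide +kernel

theorem rootChk6_16 : lower.rootOK space 6 16 = true := by decide +kernel

theorem rootChk6_17 : lower.rootOK space 6 17 = true := by decide +kernel

theorem rootChk6_18 : lower.rootOK space 6 18 = true := by decide +kernel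

theorem rootChk6_19 : lower.rootOK space 6 19 = true := by decide +kernel

theorem rootChk6_20 : lower.rootOK space 6 20 = true := by decide +kernel

theorem rootChk6_21 : lower.rootOK space 6 21 = true := by decide +kernel

theorem rootChk6_22 : lower.rootOK space 6 22 = true := by decide +kernel

theorem rootChk6_23 : lower.rootOK space 6 23 = true := by decide +kernel

theorem rootChk6_24 : lower.rootOK space 6 24 = true := by decide +kernel

theorem rootChk6_25 : lower.rootOK space 6 25 = true := by decide +kernel

theorem rootChk6_26 : lower.rootOK space 6 26 = true := by decide +kernel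

theorem rootChk6_27 : lower.rootOK space 6 27 = true := by decide +kernel

theorem rootChk6_28 : lower.rootOK space 6 28 = true := by decide +kernel

theorem rootChk6_29 : lower.rootOK space 6 29 = true := by decide +kernel

theorem rootsChk6 : ∀ r < 30, lower.rootOK space 6 r = true := by
  intro r hr
  match r, hr with
  | 0, _ => exact rootChk6_0
  | 1, _ => exact rootChk6_1
  | 2, _ => exact rootChk6_2
  | 3, _ => exact rootChk6_3
  | 4, _ => exact rootChk6_4
  | 5, _ => exact rootChk6_5
  | 6, _ => exact rootChk6_6
  | 7, _ => exact rootChk6_7
  | 8, _ => exact rootChk6_8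
  | 9, _ => exact rootChk6_9
  | 10, _ => exact rootChk6_10
  | 11, _ => exact rootChk6_11
  | 12, _ => exact rootChk6_12
  | 13, _ => exact rootChk6_13
  | 14, _ => exact rootChk6_14
  | 15, _ => exact rootChk6_15
  | 16, _ => exact rootChk6_16
  | 17, _ => exact rootChk6_17
  | 18, _ => exact rootChk6_18
  | 19, _ => exact rootChk6_19
  | 20, _ => exact rootChk6_20
  | 21, _ => exact rootChk6_21
  | 22, _ => exact rootChk6_22
  | 23, _ => exact rootChk6_23
  | 24, _ => exact rootChk6_24
  | 25, _ => exact rootChk6_25
  | 26, _ => exact rootChk6_26
  | 27, _ => exact rootChk6_27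
  | 28, _ => exact rootChk6_28
  | 29, _ => exact rootChk6_29
  | n + 30, h => omega

end CfsgLib.HN
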