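import Cfsg.Agent.Lib.HN.LowerData
import Cfsg.Agent.Lib.HN.Space

/-!
Kernel check of state 7.
-/

set_option autoImplicit false
set_option linter.style.longLine false

namespace CfsgLib.HN
open CfsgLib.CosetEnum CfsgLib.DCoset CfsgLib.DCoset.Space
theorem colChk7 : lower.colOK space 7 = true := by decide +kernel

theorem sizeChk7 : lower.sizeOK space 7 = true := by decide +kernel

theorem rootChk7_0 : lower.rootOK space 7 0 = true := by decide +kernel

theorem rootChk7_1 : lower.rootOK space 7 1 = true := by decide +kernel

theorem rootChk7_2 : lower.rootOK space 7 2 = true := by decide +kernel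

theorem rootChk7_3 : lower.rootOK space 7 3 = true := by decide +kernel

theorem rootChk7_4 : lower.rootOK space 7 4 = true := by decide +kernel

theorem rootChk7_5 : lower.rootOK space 7 5 = true := by decide +kernel

theorem rootChk7_6 : lower.rootOK space 7 6 = true := by decide +kernel

theorem rootsChk7 : ∀ r < 7, lower.rootOK space 7 r = true := by
  intro r hr
  match r, hr with
  | 0, _ => exact rootChk7_0
  | 1, _ => exact rootChk7_1
  | 2, _ => exact rootChk7_2
  | 3, _ => exact rootChk7_3
  | 4, _ => exact rootChk7_4
  | 5, _ => exact rootChk7_5
  | 6, _ => exact rootChk7_6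
  | n + 7, h => omega

end CfsgLib.HN
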