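import Cfsg.Agent.Lib.HN.LowerData
import Cfsg.Agent.Lib.HN.Space

/-!
Kernel check of state 8.
-/

set_option autoImplicit false
set_option linter.style.longLine false

namespace CfsgLib.HN
open CfsgLib.CosetEnum CfsgLib.DCoset CfsgLib.DCoset.Space
theorem colChk8 : lower.colOK space 8 = true := by decide +kernel

theorem sizeChk8 : lower.sizeOK space 8 = true := by decide +kernel

theorem rootChk8_0 : lower.rootOK space 8 0 = true := by decide +kernel

theorem rootChk8_1 : lower.rootOK space 8 1 = true := by decide +kernel

theorem rootsChk8 : ∀ r < 2, lower.rootOK space 8 r = true := by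
  intro r hr
  match r, hr with
  | 0, _ => exact rootChk8_0
  | 1, _ => exact rootChk8_1
  | n + 2, h => omega

end CfsgLib.HN
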