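import Cfsg.Agent.Lib.DCoset.Chain
import Cfsg.Agent.Lib.HN.Space

/-!
Chain of the stabiliser of a point.
-/

set_option autoImplicit false
set_option linter.style.longLine false

namespace CfsgLib.HN
open CfsgLib.CosetEnum CfsgLib.DCoset CfsgLib.DCoset.Space
/-- part 0 of `uLev0Orb` -/
def uLev0OrbP0 : List (ℕ × List ℕ) := [
  (4,[]),
  (410,[0]),
  (26,[0,2]),
  (137,[0,4]),
  (194,[0,3]),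
  (195,[0,1]),
  (212,[0,0]),
  (15,[0,0,0]),
  (24,[0,4,1]),
  (37,[0,4,2]),
  (38,[0,3,4]),
  (39,[0,1,2]),
  (40,[0,3,1]),
  (59,[0,2,3]),
  (60,[0,4,3]),
  (65,[0,3,3]),
  (67,[0,0,2]),
  (78,[0,2,1]),
  (101,[0,1,3]),
  (190,[0,2,2]),
  (191,[0,0,3]),
  (204,[0,4,0]),
  (206,[0,0,1]),
  (284,[0,0,4]),
  (285,[0,1,4]),
  (391,[0,3,2]),
  (392,[0,2,4]),
  (411,[0,1,0]),
  (6,[0,2,2,0]),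
  (14,[0,1,3,2]),
  (16,[0,1,0,2]),
  (25,[0,0,3,3]),
  (27,[0,0,3,2]),
  (30,[0,0,1,3]),
  (31,[0,3,4,3]),
  (32,[0,0,2,4]),
  (33,[0,0,4,0]),
  (58,[0,0,2,0]),
  (66,[0,0,0,1]),
  (122,[0,3,1,2]),
  (192,[0,1,0,3]),
  (193,[0,0,0,3]),
  (205,[0,1,0,1]),
  (399,[0,0,1,0]),
  (408,[0,2,2,3]),
  (409,[0,0,0,0]),
  (464,[0,0,0,2]),
  (592,[0,3,4,0]),
  (593,[0,1,4,0]),
  (454,[0,0,0,2,0])]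

/-- certificate data -/
def uLev0Orb : List (ℕ × List ℕ) :=
  [uLev0OrbP0].flatten

/-- part 0 of `uLev0Wit` -/
def uLev0WitP0 : List (ℕ × List ℕ) := [
  (1,[0,0,0,0]),
  (0,[1,0,0,0]),
  (0,[0,1,0,0]),
  (0,[0,0,1,0]),
  (0,[0,0,0,1]),
  (6,[0,0,0,0]),
  (5,[0,0,0,0]),
  (2,[0,0,0,0]),
  (4,[0,0,0,0]),
  (3,[0,0,0,0]),
  (22,[28,0,0,1]),
  (17,[0,0,0,0]),
  (19,[0,0,0,0]),
  (13,[0,0,0,0]),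
  (26,[0,0,0,0]),
  (21,[0,0,0,0]),
  (8,[0,0,0,0]),
  (9,[0,0,0,0]),
  (14,[0,0,0,0]),
  (1,[0,0,0,0]),
  (11,[17,1,1,0]),
  (12,[0,0,0,0]),
  (25,[0,0,0,0]),
  (15,[0,0,0,0]),
  (10,[0,0,0,0]),
  (27,[0,0,0,0]),
  (6,[16,3,3,0]),
  (11,[0,0,0,0]),
  (18,[0,0,0,0]),
  (24,[0,0,0,0]),
  (7,[0,0,0,0]),
  (22,[0,0,0,0]),
  (16,[0,0,0,0]),
  (20,[0,0,0,0]),
  (23,[0,0,0,0]),
  (45,[0,0,0,0]),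
  (38,[0,0,0,0]),
  (46,[0,0,0,0]),
  (41,[0,0,0,0]),
  (7,[16,4,3,1]),
  (18,[19,0,4,0]),
  (2,[15,2,0,1]),
  (14,[20,3,5,0]),
  (43,[15,0,0,0]),
  (25,[14,4,5,1]),
  (35,[31,4,2,1]),
  (1,[35,1,1,0]),
  (45,[29,1,3,0]),
  (39,[37,1,3,0]),
  (13,[8,3,3,1]),
  (47,[0,0,0,0]),
  (39,[34,2,1,1]),
  (31,[39,0,0,0]),
  (34,[0,0,0,0]),
  (4,[0,0,0,0]),
  (3,[41,2,1,1]),
  (4,[5,2,4,0]),
  (24,[23,4,4,0]),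
  (11,[6,2,5,1]),
  (18,[35,1,1,0])]

/-- part 1 of `uLev0Wit` -/
def uLev0WitP1 : List (ℕ × List ℕ) := [
  (24,[14,4,2,0]),
  (13,[22,4,3,1]),
  (39,[0,0,0,0]),
  (2,[16,3,5,1]),
  (20,[37,4,4,1]),
  (13,[2,4,3,0]),
  (46,[27,1,3,0]),
  (15,[0,0,0,0]),
  (12,[37,1,3,0]),
  (9,[8,3,3,1]),
  (23,[19,2,4,0]),
  (25,[14,0,0,0]),
  (34,[8,3,3,1]),
  (36,[21,4,2,0]),
  (19,[8,3,3,1]),
  (31,[6,1,3,1]),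
  (41,[0,2,5,0]),
  (4,[8,3,3,1]),
  (1,[0,0,0,0]),
  (44,[8,3,3,1]),
  (37,[0,0,0,0]),
  (18,[17,2,0,1]),
  (3,[40,4,4,0]),
  (10,[31,0,4,1]),
  (35,[0,0,0,0]),
  (10,[28,3,0,1]),
  (35,[8,0,0,1]),
  (13,[32,3,5,0]),
  (9,[32,3,5,0]),
  (31,[18,0,1,1]),
  (12,[40,2,0,1]),
  (32,[24,4,5,1]),
  (29,[0,0,0,0]),
  (24,[24,0,2,0]),
  (11,[35,1,1,0]),
  (28,[0,0,0,0]),
  (16,[22,2,3,1]),
  (20,[39,0,0,0]),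
  (44,[0,0,0,0]),
  (14,[8,3,3,1]),
  (46,[26,3,0,1]),
  (20,[39,2,3,0]),
  (32,[0,0,0,0]),
  (31,[0,0,0,0]),
  (12,[25,3,2,1]),
  (41,[40,4,1,1]),
  (30,[19,3,1,1]),
  (40,[6,1,2,1]),
  (42,[11,1,2,1]),
  (21,[5,3,1,0]),
  (43,[0,0,0,0]),
  (9,[32,0,5,1]),
  (22,[39,3,0,1]),
  (33,[0,0,0,0]),
  (41,[23,2,4,0]),
  (36,[0,0,0,0]),
  (36,[1,1,3,0]),
  (26,[31,0,4,1]),
  (37,[31,3,2,1]),
  (6,[0,0,0,0])]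

/-- part 2 of `uLev0Wit` -/
def uLev0WitP2 : List (ℕ × List ℕ) := [
  (48,[0,0,0,0]),
  (23,[14,1,5,1]),
  (18,[6,2,5,1]),
  (5,[6,0,1,1]),
  (5,[0,0,0,0]),
  (44,[33,3,0,1]),
  (28,[37,0,3,0]),
  (17,[14,4,5,1]),
  (32,[39,0,0,0]),
  (8,[2,4,3,1]),
  (14,[28,3,2,0]),
  (29,[27,4,1,0]),
  (8,[22,3,0,1]),
  (23,[25,0,1,0]),
  (2,[0,0,0,0]),
  (2,[35,0,4,0]),
  (42,[0,0,0,0]),
  (30,[0,0,0,0]),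
  (40,[0,0,0,0]),
  (27,[15,2,5,1]),
  (29,[30,3,1,1]),
  (10,[38,3,1,0]),
  (28,[30,0,0,0]),
  (28,[4,3,0,0]),
  (28,[9,4,2,0]),
  (20,[41,0,3,0]),
  (7,[8,2,3,0]),
  (5,[23,1,2,1]),
  (29,[24,4,3,0]),
  (29,[0,4,5,1]),
  (5,[0,3,5,0]),
  (49,[12,4,1,1]),
  (47,[31,2,5,0]),
  (27,[3,3,5,0]),
  (47,[22,3,0,0]),
  (17,[19,0,5,1]),
  (24,[6,3,2,0]),
  (35,[6,1,2,1]),
  (6,[0,0,0,0]),
  (17,[5,0,1,0]),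
  (19,[2,0,0,0]),
  (44,[25,3,2,1]),
  (1,[31,0,4,1]),
  (45,[28,4,2,1]),
  (32,[6,1,2,1]),
  (8,[3,2,4,0]),
  (33,[38,0,5,1]),
  (48,[25,1,0,0]),
  (48,[22,2,1,0]),
  (46,[26,4,3,1]),
  (26,[17,2,1,1]),
  (45,[9,0,1,0]),
  (23,[25,0,1,0]),
  (16,[39,0,0,0]),
  (36,[21,4,2,0]),
  (15,[17,0,3,0]),
  (3,[6,4,1,0]),
  (43,[12,3,3,1]),
  (19,[40,4,4,0]),
  (16,[0,0,0,0])]

/-- part 3 of `uLev0Wit` -/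
def uLev0WitP3 : List (ℕ × List ℕ) := [
  (42,[8,3,5,1]),
  (48,[17,0,1,0]),
  (38,[14,4,5,0]),
  (3,[8,4,0,1]),
  (34,[8,4,0,1]),
  (0,[0,2,1,0]),
  (34,[32,2,1,0]),
  (10,[23,4,2,1]),
  (26,[23,4,2,1]),
  (39,[15,3,2,1]),
  (33,[32,0,1,1]),
  (43,[41,2,0,0]),
  (44,[5,3,4,1]),
  (8,[24,3,4,0]),
  (45,[36,4,1,1]),
  (34,[41,1,2,0]),
  (14,[19,0,5,0]),
  (36,[14,3,4,0]),
  (17,[19,3,2,0]),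
  (37,[10,1,2,1]),
  (30,[15,4,5,1]),
  (40,[17,2,4,1]),
  (27,[16,4,2,0]),
  (30,[3,3,5,0]),
  (42,[28,0,5,0]),
  (25,[2,2,2,0]),
  (37,[36,0,5,1]),
  (7,[0,0,5,0]),
  (46,[25,1,5,0]),
  (22,[27,0,1,1]),
  (39,[27,3,5,1]),
  (21,[26,0,3,1]),
  (42,[5,0,1,0]),
  (47,[9,0,1,0]),
  (40,[19,2,4,1]),
  (40,[23,3,3,0]),
  (26,[8,2,2,1]),
  (37,[10,0,5,1]),
  (38,[21,1,3,1]),
  (43,[35,3,3,0]),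
  (4,[15,3,2,0]),
  (19,[23,1,2,1]),
  (12,[37,1,3,0]),
  (35,[25,0,1,0]),
  (15,[8,3,3,1]),
  (16,[0,1,0,0]),
  (15,[33,1,4,1]),
  (6,[28,4,2,1]),
  (25,[41,1,3,0]),
  (38,[31,0,1,0]),
  (49,[0,0,0,0]),
  (11,[23,2,0,1]),
  (33,[36,4,3,0]),
  (7,[25,1,5,0]),
  (33,[22,0,1,0]),
  (9,[14,1,1,1]),
  (47,[0,1,0,1]),
  (21,[41,0,0,1]),
  (21,[17,4,3,0]),
  (30,[32,3,4,1])]

/-- part 4 of `uLev0Wit` -/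
def uLev0WitP4 : List (ℕ × List ℕ) := [
  (38,[41,2,4,0]),
  (31,[9,0,5,1]),
  (41,[22,0,3,0]),
  (22,[3,4,4,1]),
  (48,[15,4,3,0]),
  (32,[39,0,0,0]),
  (27,[41,2,0,0]),
  (49,[3,2,3,0]),
  (49,[30,0,4,0]),
  (49,[25,1,2,0])]

/-- certificate data -/
def uLev0Wit : List (ℕ × List ℕ) :=
  [uLev0WitP0, uLev0WitP1, uLev0WitP2, uLev0WitP3, uLev0WitP4].flatten

/-- a level -/
def uLev0 : Lev :=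
  { base := 4, new := [([875],[876])], orbit := uLev0Orb, wit := uLev0Wit }

/-- part 0 of `uLev1Orb` -/
def uLev1OrbP0 : List (ℕ × List ℕ) := [
  (6,[]),
  (38,[0]),
  (25,[0,1]),
  (31,[0,2]),
  (122,[0,0]),
  (194,[0,3]),
  (32,[0,1,1]),
  (33,[0,0,1]),
  (40,[0,3,0]),
  (58,[0,0,3]),
  (60,[0,0,0]),
  (65,[0,3,2]),
  (67,[0,2,2]),
  (78,[0,0,2]),
  (212,[0,1,2]),
  (284,[0,2,1]),
  (285,[0,1,0]),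
  (391,[0,3,1]),
  (409,[0,2,0]),
  (24,[0,3,1,3]),
  (26,[0,3,0,2]),
  (27,[0,3,1,2]),
  (37,[0,0,2,2]),
  (59,[0,0,2,1]),
  (66,[0,0,1,1]),
  (101,[0,1,0,1]),
  (137,[0,0,1,2]),
  (190,[0,0,0,3]),
  (191,[0,1,2,2]),
  (193,[0,3,2,0]),
  (195,[0,1,0,2]),
  (206,[0,1,2,0]),
  (392,[0,0,3,2]),
  (399,[0,1,1,1]),
  (408,[0,3,2,3]),
  (410,[0,3,2,2]),
  (593,[0,0,1,0]),
  (14,[0,0,3,2,0]),
  (15,[0,3,2,0,1]),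
  (30,[0,1,2,0,2]),
  (39,[0,1,0,1,3]),
  (464,[0,0,2,1,0])]

/-- certificate data -/
def uLev1Orb : List (ℕ × List ℕ) :=
  [uLev1OrbP0].flatten

/-- part 0 of `uLev1Wit` -/
def uLev1WitP0 : List (ℕ × List ℕ) := [
  (1,[0,0,0]),
  (0,[1,0,0]),
  (0,[0,1,0]),
  (0,[0,0,1]),
  (4,[0,0,0]),
  (2,[0,0,0]),
  (3,[0,0,0]),
  (5,[0,0,0]),
  (16,[0,0,0]),
  (6,[0,0,0]),
  (14,[0,0,0]),
  (13,[1,0,1]),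
  (18,[0,0,0]),
  (15,[0,0,0]),
  (12,[0,0,0]),
  (7,[1,0,1]),
  (10,[0,0,0]),
  (7,[0,0,0]),
  (13,[0,0,0]),
  (9,[0,0,0]),
  (8,[0,0,0]),
  (17,[0,0,0]),
  (11,[0,0,0]),
  (1,[0,0,0]),
  (26,[1,2,0]),
  (33,[0,0,0]),
  (27,[4,1,1]),
  (12,[0,5,1]),
  (36,[0,0,0]),
  (24,[0,0,0]),
  (26,[0,0,0]),
  (3,[3,2,1]),
  (23,[2,2,0]),
  (4,[2,5,0]),
  (20,[0,0,0]),
  (28,[3,3,1]),
  (3,[3,4,0]),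
  (1,[1,5,0]),
  (32,[0,0,0]),
  (4,[0,0,0]),
  (17,[1,0,1]),
  (3,[4,1,1]),
  (7,[4,2,1]),
  (27,[0,0,0]),
  (29,[0,0,0]),
  (5,[0,5,1]),
  (35,[0,0,0]),
  (34,[0,0,0]),
  (25,[2,5,0]),
  (26,[1,5,0]),
  (1,[0,0,0]),
  (6,[0,5,1]),
  (6,[2,3,1]),
  (23,[0,0,0]),
  (22,[0,0,0]),
  (2,[3,2,1]),
  (31,[0,0,0]),
  (12,[0,0,0]),
  (28,[0,0,0]),
  (15,[0,5,1])]

/-- part 1 of `uLev1Wit` -/
def uLev1WitP1 : List (ℕ × List ℕ) := [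
  (7,[4,3,1]),
  (32,[1,0,1]),
  (9,[1,5,0]),
  (14,[0,5,1]),
  (15,[3,3,1]),
  (25,[0,0,0]),
  (30,[0,0,0]),
  (30,[2,3,1]),
  (0,[3,2,1]),
  (13,[1,5,0]),
  (21,[0,0,0]),
  (19,[0,0,0]),
  (11,[3,4,0]),
  (14,[1,4,0]),
  (17,[1,4,0]),
  (24,[2,1,0]),
  (20,[4,2,1]),
  (10,[4,1,1]),
  (33,[0,5,1]),
  (17,[0,0,0]),
  (13,[3,3,0]),
  (27,[2,0,0]),
  (23,[2,5,0]),
  (32,[0,1,0]),
  (34,[2,4,0]),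
  (35,[0,0,0]),
  (18,[3,0,1]),
  (21,[0,5,1]),
  (35,[1,2,0]),
  (18,[0,2,0]),
  (4,[0,0,0]),
  (23,[2,4,1]),
  (41,[0,0,0]),
  (11,[3,2,1]),
  (8,[1,4,1]),
  (22,[2,4,1]),
  (33,[3,5,0]),
  (34,[1,5,0]),
  (19,[1,5,0]),
  (18,[1,0,0]),
  (21,[1,1,0]),
  (37,[4,4,0]),
  (16,[2,2,1]),
  (40,[0,0,0]),
  (19,[2,5,0]),
  (22,[0,0,0]),
  (10,[2,3,0]),
  (35,[3,2,1]),
  (12,[4,5,0]),
  (28,[4,1,1]),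
  (34,[2,3,0]),
  (10,[0,0,0]),
  (28,[4,2,1]),
  (21,[0,0,0]),
  (2,[0,0,0]),
  (8,[4,2,0]),
  (9,[4,3,1]),
  (38,[0,0,0]),
  (41,[2,4,0]),
  (31,[1,2,0])]

/-- part 2 of `uLev1Wit` -/
def uLev1WitP2 : List (ℕ × List ℕ) := [
  (14,[2,3,0]),
  (40,[4,1,1]),
  (25,[2,2,1]),
  (16,[1,2,1]),
  (22,[0,0,1]),
  (31,[3,0,0]),
  (39,[0,0,0]),
  (29,[3,3,0]),
  (37,[0,0,0]),
  (19,[3,2,1]),
  (15,[1,5,0]),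
  (20,[0,3,0]),
  (32,[3,2,0]),
  (9,[1,5,0]),
  (24,[1,0,1]),
  (33,[0,5,1]),
  (27,[3,5,1]),
  (8,[4,2,0]),
  (6,[0,5,1]),
  (11,[0,0,0]),
  (30,[0,0,1]),
  (20,[4,1,0]),
  (5,[0,0,0]),
  (26,[1,0,1]),
  (2,[1,2,1]),
  (29,[4,3,0]),
  (31,[3,3,1]),
  (36,[3,4,1]),
  (38,[0,3,1]),
  (30,[3,1,0]),
  (37,[0,4,0]),
  (37,[0,0,1]),
  (24,[2,0,0]),
  (41,[1,2,1]),
  (29,[1,1,0]),
  (38,[2,0,0]),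
  (39,[2,1,1]),
  (36,[3,5,1]),
  (36,[4,2,0]),
  (41,[0,0,0]),
  (5,[4,5,0]),
  (16,[0,1,0]),
  (40,[2,5,1]),
  (25,[0,0,0]),
  (40,[3,0,0]),
  (39,[1,0,0]),
  (38,[4,0,1]),
  (39,[0,0,0])]

/-- certificate data -/
def uLev1Wit : List (ℕ × List ℕ) :=
  [uLev1WitP0, uLev1WitP1, uLev1WitP2].flatten

/-- a level -/
def uLev1 : Lev :=
  { base := 6, new := [([877],[878])], orbit := uLev1Orb, wit := uLev1Wit }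

/-- part 0 of `uLev2Orb` -/
def uLev2OrbP0 : List (ℕ × List ℕ) := [
  (7,[]),
  (100,[0]),
  (136,[0,1]),
  (234,[0,0]),
  (283,[0,2])]

/-- certificate data -/
def uLev2Orb : List (ℕ × List ℕ) :=
  [uLev2OrbP0].flatten

/-- part 0 of `uLev2Wit` -/
def uLev2WitP0 : List (ℕ × List ℕ) := [
  (1,[0,0]),
  (0,[1,0]),
  (0,[0,1]),
  (3,[0,0]),
  (2,[0,0]),
  (4,[0,0]),
  (0,[3,0]),
  (4,[2,1]),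
  (3,[5,1]),
  (4,[4,0]),
  (3,[3,1]),
  (2,[5,1]),
  (2,[3,1]),
  (1,[4,1]),
  (1,[0,0])]

/-- certificate data -/
def uLev2Wit : List (ℕ × List ℕ) :=
  [uLev2WitP0].flatten

/-- a level -/
def uLev2 : Lev :=
  { base := 7, new := [([879],[880])], orbit := uLev2Orb, wit := uLev2Wit }

/-- part 0 of `uLev3Orb` -/
def uLev3OrbP0 : List (ℕ × List ℕ) := [
  (8,[]),
  (73,[0]),
  (120,[0,1]),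
  (369,[0,0]),
  (75,[0,0,1]),
  (483,[0,0,1,0])]

/-- certificate data -/
def uLev3Orb : List (ℕ × List ℕ) :=
  [uLev3OrbP0].flatten

/-- part 0 of `uLev3Wit` -/
def uLev3WitP0 : List (ℕ × List ℕ) := [
  (1,[0]),
  (0,[1]),
  (3,[0]),
  (2,[0]),
  (4,[1]),
  (1,[0]),
  (0,[0]),
  (4,[0]),
  (5,[0]),
  (3,[0]),
  (2,[1]),
  (5,[1])]

/-- certificate data -/
def uLev3Wit : List (ℕ × List ℕ) :=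
  [uLev3WitP0].flatten

/-- a level -/
def uLev3 : Lev :=
  { base := 8, new := [([881],[882])], orbit := uLev3Orb, wit := uLev3Wit }

/-- part 0 of `uLev4Orb` -/
def uLev4OrbP0 : List (ℕ × List ℕ) := [
  (9,[]),
  (482,[0])]

/-- certificate data -/
def uLev4Orb : List (ℕ × List ℕ) :=
  [uLev4OrbP0].flatten

/-- part 0 of `uLev4Wit` -/
def uLev4WitP0 : List (ℕ × List ℕ) := [
  (1,[]),
  (0,[])]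

/-- certificate data -/
def uLev4Wit : List (ℕ × List ℕ) :=
  [uLev4WitP0].flatten

/-- a level -/
def uLev4 : Lev :=
  { base := 9, new := [([21],[22])], orbit := uLev4Orb, wit := uLev4Wit }

/-- chain of the stabiliser of `0` -/
def uChain : List Lev := [uLev0,uLev1,uLev2,uLev3,uLev4]

/-- points separating the permutations -/
def base : List ℕ := [0,4,6,7,8,9]

end CfsgLib.HN
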