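import Cfsg.Agent.Lib.DCoset.Top
import Cfsg.Agent.Lib.HN.UData

/-!
Kernel check of the chain of a point stabiliser.
-/

set_option autoImplicit false
set_option linter.style.longLine false

namespace CfsgLib.HN
open CfsgLib.CosetEnum CfsgLib.DCoset CfsgLib.DCoset.Space

theorem uLev0_ok : space.levOK (eqOn space space.allPts) uLev0 [uLev1,uLev2,uLev3,uLev4] = true := by
  decide +kernel

theorem uLev1_ok : space.levOK (eqOn space space.allPts) uLev1 [uLev2,uLev3,uLev4] = true := by
  decide +kernel

theorem uLev2_ok : space.levOK (eqOn space space.allPts) uLev2 [uLev3,uLev4] = true := by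
  decide +kernel

theorem uLev3_ok : space.levOK (eqOn space space.allPts) uLev3 [uLev4] = true := by
  decide +kernel

theorem uLev4_ok : space.levOK (eqOn space space.allPts) uLev4 [] = true := by
  decide +kernel

end CfsgLib.HN
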