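import Cfsg.Agent.Lib.HN.Valid
import Cfsg.Agent.Lib.HN.UChk
import Cfsg.Agent.Lib.HN.LowerData
import Cfsg.Agent.Lib.HN.StChk0
import Cfsg.Agent.Lib.HN.StChk1
import Cfsg.Agent.Lib.HN.StChk2
import Cfsg.Agent.Lib.HN.StChk3
import Cfsg.Agent.Lib.HN.StChk4
import Cfsg.Agent.Lib.HN.StChk5
import Cfsg.Agent.Lib.HN.StChk6
import Cfsg.Agent.Lib.HN.StChk7
import Cfsg.Agent.Lib.HN.StChk8

/-!
The permutation group on 1408 points and the certified states.
-/

set_option autoImplicit false

namespace CfsgLib.HN

open CfsgLib.CosetEnum CfsgLib.DCoset CfsgLib.DCoset.Space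


/-- membership witness of a subgroup word -/
def subsJs0 : List ℕ := [28,14,1,4,1]

/-- membership witness of a subgroup word -/
def subsJs1 : List ℕ := [29,26,0,1,0]

theorem uGensChk : ((gensOf uChain).all fun g =>
    allLt space.cnt g.1 && Nat.beq (space.app g.1 0) 0) = true := by decide +kernel

theorem uGens : ∀ g ∈ gensOf uChain, space.Lt g.1 ∧ space.app g.1 0 = 0 := by
  intro g hg
  have h := List.all_eq_true.mp uGensChk g hg
  simp only [Bool.and_eq_true, allLt_iff] at h
  exact ⟨h.1, Nat.eq_of_beq_eq_true h.2⟩

theorem uChain_ok : space.chainOK (eqOn space space.allPts) uChain = true := by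
  simp only [uChain, Space.chainOK, uLev0_ok, uLev1_ok, uLev2_ok, uLev3_ok, uLev4_ok, Bool.and_self]

/-- the stabiliser of the point `0` -/
noncomputable def pU : Subgroup (Equiv.Perm (Fin space.C.N))ᵐᵒᵖ := valid.grp (gensOf uChain)

theorem card_pU : Nat.card (valid.grp (gensOf uChain)) = 126000 := by
  rw [(valid.chain valid.sound_all uChain_ok fun g hg => (uGens g hg).1).1]
  rfl

theorem subsChk : eqOn space space.allPts [2] (sift uChain subsJs0) = true ∧
    eqOn space space.allPts [1, 2, 0] (sift uChain subsJs1) = true := by decide +kernel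

theorem pgen_word {w : List ℕ} (hw : ∀ g ∈ w, g < space.C.K) :
    valid.pev w = prodW valid.pgen w := by
  induction w with
  | nil => rfl
  | cons g w ih =>
    rw [List.forall_mem_cons] at hw
    have h5 : g < 5 := hw.1
    rw [show g :: w = [g] ++ w from rfl, valid.pev_append, ih hw.2,
      Rig.pev_letter valid hw.1 (show g < space.cnt from h5.trans_le (by decide +kernel)),
      List.singleton_append, prodW_cons]

theorem subs_mem : ∀ w ∈ space.C.subs, prodW valid.pgen w ∈ valid.grp (gensOf uChain) := by
  intro w hw
  simp only [space, certU, List.mem_cons, List.not_mem_nil, or_false] at hw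
  rcases hw with rfl | rfl
  · rw [← pgen_word (w := [2]) (by decide), valid.sound_all _ _ subsChk.1]
    exact valid.sift_mem _ _
  · rw [← pgen_word (w := [1, 2, 0]) (by decide), valid.sound_all _ _ subsChk.2]
    exact valid.sift_mem _ _

theorem uBases : ((uChain.all fun l => Nat.blt l.base space.C.N) &&
    (0 :: uChain.map Lev.base) == base) = true := by decide +kernel

theorem based : valid.Based base := by
  have h := uBases
  simp only [Bool.and_eq_true, List.all_eq_true, Nat.blt_eq, beq_iff_eq] at h
  rw [← h.2]
  exact valid.based_of_chain invOK valid.sound_all uChain_ok (fun g hg => (uGens g hg).1)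
    h.1 subs_mem

theorem grpsChk : ((List.range lower.ns).all fun i => lower.grpOK space i) = true := by
  decide +kernel

theorem size0 : (lower.st 0).size = space.C.N * 126000 := by decide +kernel

theorem lower_U : lower.U = uChain := rfl

theorem sub_lower : ∀ w ∈ space.C.subs, prodW valid.pgen w ∈ valid.grp (gensOf lower.U) := by
  rw [lower_U]; exact subs_mem

theorem ufix_lower : ∀ g ∈ gensOf lower.U, space.Lt g.1 ∧ space.app g.1 0 = 0 := by
  rw [lower_U]; exact uGens

theorem lowValid : lower.Valid space valid where
  inv := invOK
  based := based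
  sub := sub_lower
  ufix := ufix_lower
  grp i hi := List.all_eq_true.mp grpsChk i (List.mem_range.mpr hi)
  card i hi := by
    have hi' : i < 9 := hi
    match i, hi' with
    | 0, _ =>
      refine LData.card_of_letters (L := lower) invOK sub_lower ufix_lower lettersChk0 ?_
      rw [lower_U, card_pU, size0]
    | 1, _ => exact LData.card_of_chain (L := lower) invOK based sizeChk1
    | 2, _ => exact LData.card_of_chain (L := lower) invOK based sizeChk2
    | 3, _ => exact LData.card_of_chain (L := lower) invOK based sizeChk3
    | 4, _ => exact LData.card_of_chain (L := lower) invOK based sizeChk4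
    | 5, _ => exact LData.card_of_chain (L := lower) invOK based sizeChk5
    | 6, _ => exact LData.card_of_chain (L := lower) invOK based sizeChk6
    | 7, _ => exact LData.card_of_chain (L := lower) invOK based sizeChk7
    | 8, _ => exact LData.card_of_chain (L := lower) invOK based sizeChk8
    | n + 9, h => omega
  col i hi := by
    have hi' : i < 9 := hi
    match i, hi' with
    | 0, _ => exact colChk0
    | 1, _ => exact colChk1
    | 2, _ => exact colChk2
    | 3, _ => exact colChk3
    | 4, _ => exact colChk4
    | 5, _ => exact colChk5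
    | 6, _ => exact colChk6
    | 7, _ => exact colChk7
    | 8, _ => exact colChk8
    | n + 9, h => omega
  root i hi := by
    have hi' : i < 9 := hi
    match i, hi' with
    | 0, _ => exact rootsChk0
    | 1, _ => exact rootsChk1
    | 2, _ => exact rootsChk2
    | 3, _ => exact rootsChk3
    | 4, _ => exact rootsChk4
    | 5, _ => exact rootsChk5
    | 6, _ => exact rootsChk6
    | 7, _ => exact rootsChk7
    | 8, _ => exact rootsChk8
    | n + 9, h => omega

end CfsgLib.HN
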