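import Cfsg.Agent.Lib.HN.Index

/-!
The exact index of the subgroup of `x, y, z` in HN.
-/

set_option autoImplicit false

namespace CfsgLib.HN

open CfsgLib.CosetEnum CfsgLib.DCoset CfsgLib.DCoset.Space

theorem sizesChk : ((List.range lower.ns).all fun i => Nat.blt 0 (lower.st i).size) = true := by
  decide +kernel

theorem sumChk : ((List.range lower.ns).map fun i =>
    space.C.N * 126000 / (lower.st i).size).sum = 1539000 := by decide +kernel

theorem both : Both rig upper lower 225 1539000 where
  hyp := hyp
  low := lowValid
  ns := rfl
  nsPos := Nat.zero_lt_succ _
  facts := upper_facts
  targets := upper_targets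
  reach := upper_reach
  link := links
  par := parents
  full := by rw [lower_U, card_pU]; exact size0
  pos i hi := by
    have := List.all_eq_true.mp sizesChk i (List.mem_range.mpr hi)
    rwa [Nat.blt_eq] at this
  size := by rw [lower_U, card_pU]; exact sumChk

theorem extends_act : Extends both act where
  letter c hc := act_gen hc
  extra := act_t

theorem index_subH : subH.index = 1539000 := (both.index_eq extends_act).1

theorem mem_subH {g : G} (h : (act g).unop both.base = both.base) : g ∈ subH :=
  (both.index_eq extends_act).2 g h

end CfsgLib.HN
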