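import Cfsg.Agent.Lib.CosetEnum.Chunks
import Cfsg.Agent.Lib.HN.CertData

/-!
Kernel check of one block of facts.
-/

set_option autoImplicit false

namespace CfsgLib.HN
open CfsgLib.CosetEnum

theorem certU_step7 : allUp certU.stepOK' 13 (7 * 2 ^ 13) = true := by decide +kernel

end CfsgLib.HN
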