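import Cfsg.Agent.Lib.HN.CheckUStep0
import Cfsg.Agent.Lib.HN.CheckUStep1
import Cfsg.Agent.Lib.HN.CheckUStep2
import Cfsg.Agent.Lib.HN.CheckUStep3
import Cfsg.Agent.Lib.HN.CheckUStep4
import Cfsg.Agent.Lib.HN.CheckUStep5
import Cfsg.Agent.Lib.HN.CheckUStep6
import Cfsg.Agent.Lib.HN.CheckUStep7
import Cfsg.Agent.Lib.HN.CheckUStep8
import Cfsg.Agent.Lib.HN.CheckUStep9
import Cfsg.Agent.Lib.HN.CheckUStep10
import Cfsg.Agent.Lib.HN.CheckUStep11
import Cfsg.Agent.Lib.HN.CheckUStep12
import Cfsg.Agent.Lib.HN.CheckUStep13
import Cfsg.Agent.Lib.HN.CheckUStep14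
import Cfsg.Agent.Lib.HN.CheckUStep15
import Cfsg.Agent.Lib.HN.CheckUStep16
import Cfsg.Agent.Lib.HN.CheckUStep17
import Cfsg.Agent.Lib.HN.CheckUStep18
import Cfsg.Agent.Lib.HN.CheckUStep19
import Cfsg.Agent.Lib.HN.CheckUStep20
import Cfsg.Agent.Lib.HN.CheckUStep21
import Cfsg.Agent.Lib.CosetEnum.Use
import Cfsg.Agent.Lib.HN.CertData

/-!
Kernel checks of coset enumeration data.
-/

set_option autoImplicit false

namespace CfsgLib.HN
open CfsgLib.CosetEnum

theorem certU_complete : certU.Complete :=
  Cert.complete_of_blocks _ (k := 13) (n := 22) (k₂ := 11) (by decide +kernel)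
    (fun j hj => by
      match j, hj with
      | 0, _ => exact certU_step0
      | 1, _ => exact certU_step1
      | 2, _ => exact certU_step2
      | 3, _ => exact certU_step3
      | 4, _ => exact certU_step4
      | 5, _ => exact certU_step5
      | 6, _ => exact certU_step6
      | 7, _ => exact certU_step7
      | 8, _ => exact certU_step8
      | 9, _ => exact certU_step9
      | 10, _ => exact certU_step10
      | 11, _ => exact certU_step11
      | 12, _ => exact certU_step12
      | 13, _ => exact certU_step13
      | 14, _ => exact certU_step14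
      | 15, _ => exact certU_step15
      | 16, _ => exact certU_step16
      | 17, _ => exact certU_step17
      | 18, _ => exact certU_step18
      | 19, _ => exact certU_step19
      | 20, _ => exact certU_step20
      | 21, _ => exact certU_step21
      | n + 22, h => omega)
    (by decide +kernel) (by decide +kernel) (by decide +kernel)

theorem certU_action : certU.IsAction :=
  Cert.isAction_of _ 17 11 (by decide +kernel) (by decide +kernel) (by decide +kernel)
    (by decide +kernel) (by decide +kernel) (by decide +kernel) (by decide +kernel)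

end CfsgLib.HN
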