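import Cfsg.Agent.S2072
import Cfsg.Agent.Lib.HS.Mult
import Cfsg.Agent.Lib.Leech.Sub.Pairs

/-!
Facts about the copy of HS used with the 352 halves.
-/

set_option autoImplicit false
set_option maxRecDepth 100000

namespace CfsgLib.HN

open Cfsg CfsgLib.Golay CfsgLib.Leech CfsgLib.Leech.Mult CfsgLib.Leech.OutPair

attribute [local irreducible] dL bL key keyL coord packB linL bits hsCert

/-- the copy of HS in the Leech lattice -/
abbrev HSGrp : Type := ↥(CfsgLib.HS.G)

theorem finite_hs : Finite HSGrp := CfsgLib.HS.finite_G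

theorem simple_hs : IsSimpleGroup HSGrp := by
  set v : ↥leechLattice := ⟨vec hsCert.V, vec_mem CfsgLib.HS.inL_V⟩
  set w : ↥leechLattice := ⟨vec hsCert.W, vec_mem CfsgLib.HS.inL_W⟩
  have hv : sqNorm (v : GolayPt → ℤ) = 48 :=
    (sqNorm_vec (inL_length CfsgLib.HS.inL_V)).trans Cfsg.Agent.S2072.facts.2.2.1
  have hw : sqNorm (w : GolayPt → ℤ) = 48 :=
    (sqNorm_vec (inL_length CfsgLib.HS.inL_W)).trans Cfsg.Agent.S2072.facts.2.2.2.1
  have hvw : dotInt (v : GolayPt → ℤ) w = -32 :=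
    (dotInt_vec (inL_length CfsgLib.HS.inL_V) (inL_length CfsgLib.HS.inL_W)).trans
      Cfsg.Agent.S2072.facts.2.2.2.2
  set A : Subgroup ↥Co0 := MulAction.stabilizer ↥Co0 v ⊓ MulAction.stabilizer ↥Co0 w
  haveI : IsSimpleGroup ↥A := (isHS_pair hv hw hvw).1
  let e : HSGrp ≃* ↥(A.map Co0.subtype) :=
    pairEquiv CfsgLib.HS.inL_V CfsgLib.HS.inL_W (A.map Co0.subtype) 1 (fun g => by
      simp only [one_smul]
      constructor
      · rintro ⟨a, ha, e⟩
        obtain rfl : a = g := Subtype.ext e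
        exact ⟨MulAction.mem_stabilizer_iff.1 ha.1, MulAction.mem_stabilizer_iff.1 ha.2⟩
      · exact fun h => ⟨g, ⟨MulAction.mem_stabilizer_iff.2 h.1, MulAction.mem_stabilizer_iff.2 h.2⟩, rfl⟩)
      (by rintro x ⟨a, -, rfl⟩; exact a.2)
  exact (e.trans (A.equivMapOfInjective _ Co0.subtype_injective).symm).isSimpleGroup

theorem nonempty_equiv_spor : Nonempty (HSGrp ≃* ↥Cfsg.Spor.HS) := Cfsg.Agent.S2072.exists_equiv

/-- A finite perfect central extension of HS has kernel of order at most two. -/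
theorem ker_le_two {Γ : Type} [Group Γ] [Finite Γ] (σ : Γ →* HSGrp) (hs : Function.Surjective σ)
    (hc : σ.ker ≤ Subgroup.center Γ) (hp : commutator Γ = ⊤) : Nat.card σ.ker ≤ 2 := by
  obtain ⟨f, hf⟩ := CfsgLib.HS.multiplier_pairG.2 Γ σ ⟨hs, hc, hp ▸ le_top⟩
  exact (Nat.card_le_card_of_surjective f hf).trans (by simp [Nat.card_eq_fintype_card])

end CfsgLib.HN
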