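import Cfsg.Agent.Lib.HN.Group
import Cfsg.Agent.Lib.HN.UpperData

/-!
The words equal to `t` or `1` used by the closure.
-/

set_option autoImplicit false
set_option linter.style.longLine false
set_option linter.unusedSimpArgs false

namespace CfsgLib.HN

open CfsgLib.CosetEnum CfsgLib.DCoset

theorem zt4 : gz * (gt * (gt * (gt * (gt * (gz * (gt * (gt * (gt * (gt * gz))))))))) = gt := by
  have h : (gt⁻¹ * gz) ^ 3 = 1 := by
    rw [show gt⁻¹ * gz = (gz * gt)⁻¹ by rw [mul_inv_rev, gz_inv], inv_pow, r_zt, inv_one]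
  calc gz * (gt * (gt * (gt * (gt * (gz * (gt * (gt * (gt * (gt * gz)))))))))
      = gz * gt⁻¹ * gz * gt⁻¹ * gz := by simp only [t_inv, mul_assoc]
    _ = gt * (gt⁻¹ * gz) ^ 3 := by simp only [pow_succ, pow_zero, one_mul]; group
    _ = gt := by rw [h, mul_one]

theorem zt4' : gz * (gt * (gt * (gt * (gt * (gz * (gt * (gt * (gt * (gt * (gz * (gt * (gt * (gt * gt))))))))))))) = 1 := by
  calc gz * (gt * (gt * (gt * (gt * (gz * (gt * (gt * (gt * (gt * (gz * (gt * (gt * (gt * gt)))))))))))))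
      = (gz * (gt * (gt * (gt * (gt * (gz * (gt * (gt * (gt * (gt * gz)))))))))) * (gt * (gt * (gt * gt))) := by
        simp only [mul_assoc]
    _ = 1 := by rw [zt4]; exact t_five

theorem t4z : gt * (gt * (gt * (gt * (gz * (gt * (gt * (gt * (gt * (gz * (gt * (gt * (gt * (gt * gz))))))))))))) = 1 := by
  rw [zt4]; exact t_five

theorem genT_eq : genT 0 = gx ∧ genT 1 = gx⁻¹ ∧ genT 4 = gz ∧ genT 5 = gt := genT_vals

theorem menuE_ok : ∀ Q ∈ upper.menuE,
    prodW (fun c => if c < certU.K then gen c else gt) Q = gt := by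
  intro Q hQ
  obtain ⟨a, b, c, d⟩ := genT_eq
  change prodW genT Q = gt
  simp only [upper, List.mem_cons, List.not_mem_nil, or_false] at hQ
  rcases hQ with rfl | rfl | rfl | rfl | rfl | rfl | rfl | rfl | rfl | rfl | rfl | rfl | rfl | rfl <;>
    simp only [prodW_cons, prodW_nil, a, b, c, d, xi_t', x_t', t_mul_five, t_five, inv_mul_cancel_left,
      mul_inv_cancel_left, inv_mul_cancel, mul_inv_cancel, mul_one, zt4, zt4', t4z]

theorem menuS_ok : ∀ Q ∈ upper.menuS,
    prodW (fun c => if c < certU.K then gen c else gt) Q = 1 := by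
  intro Q hQ
  obtain ⟨a, b, c, d⟩ := genT_eq
  change prodW genT Q = 1
  simp only [upper, List.mem_cons, List.not_mem_nil, or_false] at hQ
  rcases hQ with rfl | rfl | rfl | rfl | rfl | rfl | rfl | rfl | rfl | rfl | rfl | rfl | rfl | rfl |
    rfl | rfl | rfl | rfl | rfl | rfl | rfl | rfl | rfl | rfl | rfl | rfl | rfl <;>
    simp only [prodW_cons, prodW_nil, a, b, c, d, xi_t', x_t', t_mul_five, t_five, inv_mul_cancel_left,
      mul_inv_cancel_left, inv_mul_cancel, mul_inv_cancel, mul_one, zt4, zt4', t4z]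

end CfsgLib.HN
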