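import Cfsg.Agent.Lib.DCoset.Closed
import Cfsg.Agent.Lib.HN.UpperData
import Cfsg.Agent.Lib.HN.Space

/-!
Kernel check of the double cosets.
-/

set_option autoImplicit false
set_option linter.style.longLine false

namespace CfsgLib.HN
open CfsgLib.CosetEnum CfsgLib.DCoset CfsgLib.DCoset.Space
theorem upperFact0 : ((List.range 25).all fun k => upper.factOK space (0 + k)) = true := by
  decide +kernel

theorem upperFact25 : ((List.range 25).all fun k => upper.factOK space (25 + k)) = true := by
  decide +kernel

theorem upperFact50 : ((List.range 25).all fun k => upper.factOK space (50 + k)) = true := by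
  decide +kernel

theorem upperFact75 : ((List.range 25).all fun k => upper.factOK space (75 + k)) = true := by
  decide +kernel

theorem upperFact100 : ((List.range 25).all fun k => upper.factOK space (100 + k)) = true := by
  decide +kernel

theorem upperFact125 : ((List.range 25).all fun k => upper.factOK space (125 + k)) = true := by
  decide +kernel

theorem upperFact150 : ((List.range 25).all fun k => upper.factOK space (150 + k)) = true := by
  decide +kernel

theorem upperFact175 : ((List.range 25).all fun k => upper.factOK space (175 + k)) = true := by
  decide +kernel

theorem upperFact200 : ((List.range 25).all fun k => upper.factOK space (200 + k)) = true := by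
  decide +kernel

theorem upper_facts : ∀ n < 225, upper.factOK space n = true := by
  intro n hn
  by_cases h0 : n < 25
  · have := List.all_eq_true.mp upperFact0 (n - 0) (List.mem_range.mpr (by omega))
    rwa [show 0 + (n - 0) = n by omega] at this
  by_cases h25 : n < 50
  · have := List.all_eq_true.mp upperFact25 (n - 25) (List.mem_range.mpr (by omega))
    rwa [show 25 + (n - 25) = n by omega] at this
  by_cases h50 : n < 75
  · have := List.all_eq_true.mp upperFact50 (n - 50) (List.mem_range.mpr (by omega))
    rwa [show 50 + (n - 50) = n by omega] at this
  by_cases h75 : n < 100
  · have := List.all_eq_true.mp upperFact75 (n - 75) (List.mem_range.mpr (by omega))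
    rwa [show 75 + (n - 75) = n by omega] at this
  by_cases h100 : n < 125
  · have := List.all_eq_true.mp upperFact100 (n - 100) (List.mem_range.mpr (by omega))
    rwa [show 100 + (n - 100) = n by omega] at this
  by_cases h125 : n < 150
  · have := List.all_eq_true.mp upperFact125 (n - 125) (List.mem_range.mpr (by omega))
    rwa [show 125 + (n - 125) = n by omega] at this
  by_cases h150 : n < 175
  · have := List.all_eq_true.mp upperFact150 (n - 150) (List.mem_range.mpr (by omega))
    rwa [show 150 + (n - 150) = n by omega] at this
  by_cases h175 : n < 200
  · have := List.all_eq_true.mp upperFact175 (n - 175) (List.mem_range.mpr (by omega))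
    rwa [show 175 + (n - 175) = n by omega] at this
  by_cases h200 : n < 225
  · have := List.all_eq_true.mp upperFact200 (n - 200) (List.mem_range.mpr (by omega))
    rwa [show 200 + (n - 200) = n by omega] at this
  omega

theorem upperReach0 : upper.reachOK space 225 0 reach0 = true := by decide +kernel

theorem upperReach1 : upper.reachOK space 225 1 reach1 = true := by decide +kernel

theorem upperReach2 : upper.reachOK space 225 2 reach2 = true := by decide +kernel

theorem upperReach3 : upper.reachOK space 225 3 reach3 = true := by decide +kernel

theorem upperReach4 : upper.reachOK space 225 4 reach4 = true := by decide +kernel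

theorem upperReach5 : upper.reachOK space 225 5 reach5 = true := by decide +kernel

theorem upperReach6 : upper.reachOK space 225 6 reach6 = true := by decide +kernel

theorem upperReach7 : upper.reachOK space 225 7 reach7 = true := by decide +kernel

theorem upperReach8 : upper.reachOK space 225 8 reach8 = true := by decide +kernel

theorem upper_reach : ∀ i < upper.ns, ∀ p < space.C.N, upper.Reach space 225 i p := by
  intro i hi
  match i, hi with
  | 0, _ => exact Data.reach_of_ok upperReach0
  | 1, _ => exact Data.reach_of_ok upperReach1
  | 2, _ => exact Data.reach_of_ok upperReach2
  | 3, _ => exact Data.reach_of_ok upperReach3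
  | 4, _ => exact Data.reach_of_ok upperReach4
  | 5, _ => exact Data.reach_of_ok upperReach5
  | 6, _ => exact Data.reach_of_ok upperReach6
  | 7, _ => exact Data.reach_of_ok upperReach7
  | 8, _ => exact Data.reach_of_ok upperReach8
  | n + 9, h => exact absurd (show n + 9 < 9 from h) (by omega)

theorem upper_targets : ∀ f < 225, ∀ i g gi j h, upper.fct f = .edge i g gi j h → j < upper.ns := by
  have key : ((List.range 225).all fun f => match upper.fct f with
      | .edge _ _ _ j _ => Nat.blt j upper.ns
      | .stab _ _ _ => true) = true := by decide +kernel
  intro f hf i g gi j h e
  have := List.all_eq_true.mp key f (List.mem_range.mpr hf)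
  rw [e] at this
  exact Nat.le_of_ble_eq_true this

end CfsgLib.HN
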