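import Cfsg.Agent.Lib.HN.Action
import Cfsg.Agent.Lib.HN.Menus
import Cfsg.Agent.Lib.HN.UpperChk

/-!
The subgroup of `x, y, z` has index 1539000.
-/

set_option autoImplicit false

namespace CfsgLib.HN

open CfsgLib.CosetEnum CfsgLib.DCoset CfsgLib.DCoset.Space

theorem rig : Rig valid gen subH subU gt where
  invK := invOK
  model := model
  H_eq := subH_eq
  gen_top := gen_top
  comm := comm
  normal_top := normal_top

theorem xbxaChk : eqOn space base ([0, 0] ++ [1, 1]) [] = true := by decide +kernel

/-- the inverse of `t` -/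
theorem t_inv_xx : gt⁻¹ = gx⁻¹ * gx⁻¹ * gt * (gx * gx) := by
  rw [t_inv]
  simp only [mul_assoc, xi_t', inv_mul_cancel_left, inv_mul_cancel, mul_one, t_mul_five]

theorem hyp : upper.Hyp rig where
  based := based
  par0 := rfl
  menuE := menuE_ok
  menuS := menuS_ok
  tinv := by
    intro a
    have h1 := rig.cong (u := [1, 1]) (w := valid.lw [1, 1]) (by decide) (valid.lw_lt _)
      (pgen_word (w := [1, 1]) (by decide)).symm a (gt * (gx * gx))
    have h2 := rig.cong (u := [0, 0]) (w := valid.lw [0, 0]) (by decide) (valid.lw_lt _)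
      (pgen_word (w := [0, 0]) (by decide)).symm (a * rig.ev [1, 1] * gt) 1
    simp only [prodW_cons, prodW_nil, gen, mul_one, ← mul_assoc] at h1 h2
    rw [t_inv_xx]
    show Same subH _ (a * (rig.ev [1, 1] * gt * rig.ev [0, 0]))
    simp only [Rig.ev, ← mul_assoc] at h1 h2 ⊢
    exact h1.trans h2
  xba := by
    rw [← valid.pev_append]
    exact (valid.lw_eq_of invOK based xbxaChk).trans valid.pev_nil

end CfsgLib.HN
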