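import Cfsg.Agent.Lib.HN.Basic
import Cfsg.Agent.Lib.HN.KData
import Cfsg.Agent.Lib.HN.HSFacts

/-!
The index two subgroup of the permutation group on 1408 points, and its map onto HS.
-/

set_option autoImplicit false
set_option maxRecDepth 100000

namespace CfsgLib.HN

open CfsgLib.CosetEnum CfsgLib.DCoset CfsgLib.DCoset.Space

/-- permutations of the 1408 points -/
abbrev PPerm : Type := (Equiv.Perm (Fin space.C.N))ᵐᵒᵖ

/-- the orbit of a point -/
def colP (p : ℕ) : Bool := Nat.testBit colBits p

/-- preserving the two orbits -/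
def Keeps (x : PPerm) : Prop := ∀ p : Fin space.C.N, colP (x.unop p) = colP p

/-- exchanging the two orbits -/
def Flips (x : PPerm) : Prop := ∀ p : Fin space.C.N, colP (x.unop p) = !colP p

theorem colChk : Cert.allBelow space.C.N (fun p =>
    colP (space.C.T p 0) == colP p && colP (space.C.T p 1) == colP p &&
      colP (space.C.T p 2) == colP p && colP (space.C.T p 3) == colP p &&
        colP (space.C.T p 4) == !colP p) = true := by decide +kernel

theorem pgen_keeps {c : ℕ} (hc : c < 4) : Keeps (valid.pgen c) := by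
  intro p
  have h := Cert.allBelow_spec colChk p p.2
  simp only [Bool.and_eq_true, beq_iff_eq] at h
  have e := valid.pgen_apply (w := [c]) (by simpa using (hc.trans (by decide +kernel) : c < space.C.K)) p
  rw [prodW_cons, prodW_nil, mul_one, Cert.run_cons, Cert.run_nil] at e
  rw [e]
  match c, hc with
  | 0, _ => exact h.1.1.1.1
  | 1, _ => exact h.1.1.1.2
  | 2, _ => exact h.1.1.2
  | 3, _ => exact h.1.2
  | n + 4, hn => omega

theorem pgen_flips : Flips (valid.pgen 4) := by
  intro p
  have h := Cert.allBelow_spec colChk p p.2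
  simp only [Bool.and_eq_true, beq_iff_eq] at h
  have e := valid.pgen_apply (w := [4]) (by decide +kernel) p
  rw [prodW_cons, prodW_nil, mul_one, Cert.run_cons, Cert.run_nil] at e
  rw [e]
  exact h.2

theorem keeps_mul {x y : PPerm} (hx : Keeps x) (hy : Keeps y) : Keeps (x * y) := fun p => by
  rw [valid.unop_mul_apply, hy, hx]

theorem keeps_inv {x : PPerm} (hx : Keeps x) : Keeps x⁻¹ := fun p => by
  have h := hx (x⁻¹.unop p)
  rw [MulOpposite.unop_inv] at h ⊢
  simpa using h.symm

theorem flips_inv {x : PPerm} (hx : Flips x) : Flips x⁻¹ := fun p => by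
  have h := hx (x⁻¹.unop p)
  rw [MulOpposite.unop_inv] at h ⊢
  simp only [Equiv.Perm.inv_def, Equiv.apply_symm_apply] at h ⊢
  rw [h, Bool.not_not]

theorem keeps_or_flips {x : PPerm} (hx : x ∈ valid.P) : Keeps x ∨ Flips x := by
  induction hx using Subgroup.closure_induction with
  | mem y hy =>
    obtain ⟨g, hg, rfl⟩ := hy
    have hg' : g < 5 := hg
    rcases Nat.lt_succ_iff_lt_or_eq.mp hg' with h | rfl
    · exact Or.inl (pgen_keeps h)
    · exact Or.inr pgen_flips
  | one => exact Or.inl fun p => rfl
  | mul x y _ _ hx hy =>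
    rcases hx with hx | hx <;> rcases hy with hy | hy
    · exact Or.inl (keeps_mul hx hy)
    · exact Or.inr fun p => by rw [valid.unop_mul_apply, hy, hx]
    · exact Or.inr fun p => by rw [valid.unop_mul_apply, hy, hx]
    · exact Or.inl fun p => by rw [valid.unop_mul_apply, hy, hx, Bool.not_not]
  | inv x _ hx => exact hx.imp keeps_inv flips_inv

/-- the index two subgroup -/
def kP : Subgroup ↥valid.P where
  carrier := {x | Keeps x.1}
  one_mem' := fun p => rfl
  mul_mem' := fun hx hy => keeps_mul hx hy
  inv_mem' := fun hx => keeps_inv hx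

theorem mem_kP {x : ↥valid.P} : x ∈ kP ↔ Keeps x.1 := Iff.rfl

theorem not_keeps_of_flips {x : PPerm} (h : Flips x) : ¬ Keeps x := fun hk => by
  have e := (hk valid.zero).symm.trans (h valid.zero)
  cases hb : colP (valid.zero : Fin space.C.N) <;> simp [hb] at e

theorem index_kP : kP.index = 2 := by
  rw [Subgroup.index_eq_two_iff]
  refine ⟨⟨valid.pgen 4, valid.pgen_mem 4⟩, fun b => ?_⟩
  rcases keeps_or_flips b.2 with hb | hb
  · refine Or.inr ⟨hb, fun h => ?_⟩
    exact not_keeps_of_flips (fun p => by
      rw [Subgroup.coe_mul, valid.unop_mul_apply, pgen_flips, hb]) h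
  · refine Or.inl ⟨fun p => ?_, not_keeps_of_flips hb⟩
    rw [Subgroup.coe_mul, valid.unop_mul_apply, pgen_flips, hb, Bool.not_not]

theorem card_P : Nat.card ↥valid.P = 177408000 := by
  rw [valid.card_P invOK subs_mem uGens, card_pU]
  rfl

theorem card_kP : Nat.card ↥kP = 88704000 := by
  have h := kP.card_mul_index
  rw [index_kP, card_P] at h
  omega

theorem space_K : space.C.K = 5 := rfl

/-- the square of `x` -/
noncomputable def x2 : PPerm := valid.pgen 0 * valid.pgen 0

theorem x2CommChk : ([0, 2, 4].all fun c => eqOn space base [0, 0, c] [c, 0, 0]) = true := by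
  decide +kernel

theorem x2_comm {x : PPerm} (hx : x ∈ valid.P) : x2 * x = x * x2 := by
  have key : ∀ c, c = 0 ∨ c = 2 ∨ c = 4 → Commute x2 (valid.pgen c) := by
    intro c hc
    have h := List.all_eq_true.mp x2CommChk c (by simpa using hc)
    have hc' : c < 5 := by omega
    have e := valid.lw_eq_of invOK based h
    rw [pgen_word (w := [0, 0, c]) (by simpa [space_K] using hc'), pgen_word (w := [c, 0, 0]) (by simpa [space_K] using hc')] at e
    simp only [prodW_cons, prodW_nil, mul_one] at e
    show x2 * valid.pgen c = valid.pgen c * x2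
    rw [x2, mul_assoc, e]
  have key' : ∀ g, g < 5 → Commute x2 (valid.pgen g) := by
    intro g hg
    have i0 : valid.pgen 1 = (valid.pgen 0)⁻¹ :=
      eq_inv_of_mul_eq_one_right (valid.inv_mul invOK 0)
    have i2 : valid.pgen 3 = (valid.pgen 2)⁻¹ :=
      eq_inv_of_mul_eq_one_right (valid.inv_mul invOK 2)
    match g, hg with
    | 0, _ => exact key 0 (Or.inl rfl)
    | 1, _ => rw [i0]; exact (key 0 (Or.inl rfl)).inv_right
    | 2, _ => exact key 2 (Or.inr (Or.inl rfl))
    | 3, _ => rw [i2]; exact (key 2 (Or.inr (Or.inl rfl))).inv_right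
    | 4, _ => exact key 4 (Or.inr (Or.inr rfl))
    | n + 5, h => omega
  show Commute x2 x
  induction hx using Subgroup.closure_induction with
  | mem y hy => obtain ⟨g, hg, rfl⟩ := hy; exact key' g hg
  | one => exact Commute.one_right _
  | mul x y _ _ hx hy => exact hx.mul_right hy
  | inv x _ hx => exact hx.inv_right

theorem blkChk : Cert.allBelow space.C.N (fun p => colP p ||
    (Nat.blt (pget blkTab p) 352 &&
      Nat.beq (pget blkTab (space.C.run p [0, 0])) (pget blkTab p) &&
      (Nat.beq (pget repTab (pget blkTab p)) p ||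
        Nat.beq (space.C.run (pget repTab (pget blkTab p)) [0, 0]) p))) = true := by decide +kernel

theorem repChk : Cert.allBelow 352 (fun b =>
    Nat.blt (pget repTab b) space.C.N && !colP (pget repTab b) &&
      Nat.beq (pget blkTab (pget repTab b)) b) = true := by decide +kernel

/-- a point of a block -/
noncomputable def repPt (b : Fin 352) : Fin space.C.N :=
  ⟨pget repTab b, by
    have h := Cert.allBelow_spec repChk b b.2
    simp only [Bool.and_eq_true, Nat.blt_eq] at h
    exact h.1.1⟩

theorem repPt_col (b : Fin 352) : colP (repPt b) = false := by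
  have h := Cert.allBelow_spec repChk b b.2
  simp only [Bool.and_eq_true, Bool.not_eq_true'] at h
  exact h.1.2

theorem repPt_blk (b : Fin 352) : pget blkTab (repPt b) = b := by
  have h := Cert.allBelow_spec repChk b b.2
  simp only [Bool.and_eq_true] at h
  exact Nat.eq_of_beq_eq_true h.2

theorem x2_apply (p : Fin space.C.N) : (x2.unop p : ℕ) = space.C.run p [0, 0] := by
  rw [← valid.pgen_apply (w := [0, 0]) (by decide +kernel) p, prodW_cons, prodW_cons, prodW_nil,
    mul_one]
  rfl

theorem blk_spec {p : Fin space.C.N} (h : colP p = false) :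
    pget blkTab p < 352 ∧ pget blkTab (x2.unop p) = pget blkTab p ∧
      ((p : ℕ) = pget repTab (pget blkTab p) ∨
        (p : ℕ) = space.C.run (pget repTab (pget blkTab p)) [0, 0]) := by
  have e := Cert.allBelow_spec blkChk p p.2
  simp only [h, Bool.false_or, Bool.and_eq_true, Bool.or_eq_true, Nat.blt_eq] at e
  refine ⟨e.1.1, ?_, e.2.imp (fun q => (Nat.eq_of_beq_eq_true q).symm)
    (fun q => (Nat.eq_of_beq_eq_true q).symm)⟩
  rw [x2_apply]
  exact Nat.eq_of_beq_eq_true e.1.2

theorem keeps_false (x : ↥kP) {p : Fin space.C.N} (h : colP p = false) :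
    colP (x.1.1.unop p) = false := by rw [x.2 p, h]

/-- the block of the image of a block -/
noncomputable def blkMap (x : ↥kP) (b : Fin 352) : Fin 352 :=
  ⟨pget blkTab (x.1.1.unop (repPt b)), (blk_spec (keeps_false x (repPt_col b))).1⟩

theorem blkMap_apply (x : ↥kP) {p : Fin space.C.N} (hp : colP p = false) :
    blkMap x ⟨pget blkTab p, (blk_spec hp).1⟩ = ⟨pget blkTab (x.1.1.unop p),
      (blk_spec (keeps_false x hp)).1⟩ := by
  refine Fin.ext ?_
  show pget blkTab (x.1.1.unop (repPt _)) = pget blkTab (x.1.1.unop p)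
  rcases (blk_spec hp).2.2 with h | h
  · congr 2
    exact congrArg _ (Fin.ext h.symm)
  · have hq : x2.unop (repPt ⟨pget blkTab p, (blk_spec hp).1⟩) = p :=
      Fin.ext ((x2_apply _).trans h.symm)
    conv_rhs => rw [← hq, ← valid.unop_mul_apply, x2_comm x.1.2, valid.unop_mul_apply]
    exact ((blk_spec (keeps_false x (repPt_col _))).2.1).symm

theorem blkMap_mul (x y : ↥kP) (b : Fin 352) : blkMap (x * y) b = blkMap y (blkMap x b) := by
  have e := blkMap_apply y (keeps_false x (repPt_col b))
  rw [show blkMap x b = ⟨pget blkTab (x.1.1.unop (repPt b)),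
    (blk_spec (keeps_false x (repPt_col b))).1⟩ from rfl, e]
  rfl

theorem blkMap_one (b : Fin 352) : blkMap 1 b = b := Fin.ext (repPt_blk b)

/-- the action on the blocks -/
noncomputable def chi : ↥kP →* Equiv.Perm (Fin 352) where
  toFun x :=
    { toFun := blkMap x⁻¹
      invFun := blkMap x
      left_inv := fun b => by rw [← blkMap_mul, inv_mul_cancel, blkMap_one]
      right_inv := fun b => by rw [← blkMap_mul, mul_inv_cancel, blkMap_one] }
  map_one' := Equiv.ext fun b => by simp [blkMap_one]
  map_mul' x y := Equiv.ext fun b => by simp [mul_inv_rev, blkMap_mul]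

theorem halfInjChk : ((List.range 352).map fun i => pget halfTab i).Nodup ∧
    ((List.range 352).all fun i => Nat.blt (pget halfTab i) 352) = true := by decide +kernel

/-- the relabelling as a permutation -/
noncomputable def halfEquiv : Equiv.Perm (Fin 352) :=
  Equiv.ofBijective (fun i => (⟨pget halfTab i, by
    have := List.all_eq_true.mp halfInjChk.2 i (List.mem_range.mpr i.2)
    rwa [Nat.blt_eq] at this⟩ : Fin 352)) (Finite.injective_iff_bijective.mp fun i j e => by
      have e' := congrArg Fin.val e
      exact Fin.ext (List.inj_on_of_nodup_map halfInjChk.1 (List.mem_range.mpr i.2)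
        (List.mem_range.mpr j.2) e'))

/-- the word matching a generator -/
def kWord : ℕ → List ℕ
  | 0 => kWord0
  | _ => kWord1

theorem matchChk : ([0, 1].all fun j => allLt space.cnt (kWord j) &&
    Cert.allBelow space.C.N (fun p => colP (space.app (kWord j) p) == colP p) &&
    Cert.allBelow 352 (fun i => Nat.beq (pget blkTab (space.app (kWord j) (pget repTab (pget halfTab i))))
      (pget halfTab (CfsgLib.HS.coverData.img j i)))) = true := by decide +kernel

theorem movesChk : Nat.beq (CfsgLib.HS.coverData.img 0 0) 0 = false := by decide +kernel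

theorem one_lt_x2 : x2 ≠ 1 := by
  intro h
  have e := x2_apply valid.zero
  rw [h] at e
  have : space.C.run 0 [0, 0] ≠ 0 := by decide +kernel
  exact this e.symm

theorem x2_mem : x2 ∈ valid.P := mul_mem (valid.pgen_mem 0) (valid.pgen_mem 0)

/-- `x ^ 2` in the index two subgroup -/
noncomputable def x2K : ↥kP :=
  ⟨⟨x2, x2_mem⟩, keeps_mul (pgen_keeps (by decide)) (pgen_keeps (by decide))⟩

theorem chi_x2 : chi x2K = 1 := by
  have h : ∀ b, blkMap x2K b = b := fun b => Fin.ext
    (((blk_spec (repPt_col b)).2.1).trans (repPt_blk b))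
  refine Equiv.ext fun b => ?_
  show blkMap x2K⁻¹ b = b
  conv_lhs => rw [← h b]
  rw [← blkMap_mul, mul_inv_cancel, blkMap_one]

/-- The map onto HS, with kernel of order two. -/
theorem exists_onto : ∃ σ : ↥kP →* HSGrp, Function.Surjective σ ∧ x2K ∈ σ.ker ∧
    Nat.card σ.ker = 2 := by
  classical
  haveI := finite_hs
  haveI := simple_hs
  obtain ⟨ρ, τ, -, -, -, hτ⟩ := CfsgLib.HS.exists_actions
  let R : HSGrp →* Equiv.Perm (Fin 352) := (MulAut.conj halfEquiv).toMonoidHom.comp τ
  have hRinj : Function.Injective R := by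
    refine (MonoidHom.ker_eq_bot_iff R).mp ((R.normal_ker.eq_bot_or_eq_top).resolve_right fun h => ?_)
    have h0 : CfsgLib.HS.X 0 ∈ R.ker := by rw [h]; trivial
    have h1 : τ (CfsgLib.HS.X 0) = 1 := (MulAut.conj halfEquiv).injective (h0.trans (map_one _).symm)
    have e := hτ 0 (by simp) ⟨0, by norm_num⟩
    rw [h1] at e
    have h2 : (0 : ℕ) = CfsgLib.HS.coverData.img 0 0 := e
    have hc := movesChk
    rw [← h2] at hc
    simp at hc
  have hgen : ∀ j ∈ [0, 1], R (CfsgLib.HS.X j) ∈ chi.range := by
    intro j hj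
    have h := List.all_eq_true.mp matchChk j hj
    simp only [Bool.and_eq_true, allLt_iff] at h
    obtain ⟨⟨hlt, hcol⟩, hmatch⟩ := h
    have hk : Keeps (valid.pev (kWord j)) := fun p => by
      have e := Cert.allBelow_spec hcol p p.2
      rw [valid.pev_apply hlt]
      simpa using e
    let wj : ↥kP := ⟨⟨valid.pev (kWord j), valid.pev_mem _⟩, hk⟩
    refine ⟨wj⁻¹, Equiv.ext fun b => ?_⟩
    obtain ⟨i, rfl⟩ := halfEquiv.surjective b
    show blkMap (wj⁻¹)⁻¹ (halfEquiv i) = halfEquiv (τ (CfsgLib.HS.X j) (halfEquiv.symm (halfEquiv i)))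
    rw [inv_inv, Equiv.symm_apply_apply]
    refine Fin.ext ?_
    show pget blkTab ((valid.pev (kWord j)).unop (repPt (halfEquiv i))) = pget halfTab _
    rw [valid.pev_apply hlt, hτ j hj i]
    exact Nat.eq_of_beq_eq_true (Cert.allBelow_spec hmatch i i.2)
  have hle : R.range ≤ chi.range := by
    rw [MonoidHom.range_eq_map, ← CfsgLib.HS.closure_X, MonoidHom.map_closure, Subgroup.closure_le]
    rintro _ ⟨s, (rfl | rfl), rfl⟩
    · exact hgen 0 (by simp)
    · exact hgen 1 (by simp)
  have hR : Nat.card R.range = 44352000 := by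
    rw [← Nat.card_congr (MonoidHom.ofInjective hRinj).toEquiv, CfsgLib.HS.natCard_G]
  haveI : Finite ↥valid.P := inferInstance
  haveI : Nontrivial chi.ker := ⟨⟨⟨x2K, chi_x2⟩, 1, fun h =>
    one_lt_x2 (congrArg (fun k : chi.ker => k.1.1.1) h)⟩⟩
  have h2 : 2 ≤ Nat.card chi.ker := Finite.one_lt_card
  have hmul := chi.ker.card_mul_index
  rw [Subgroup.index_ker, card_kP] at hmul
  have h1 : 44352000 ≤ Nat.card chi.range := hR ▸ Subgroup.card_le_of_le hle
  have hker : Nat.card chi.ker = 2 := by nlinarith
  have heq : chi.range = R.range := (Subgroup.eq_of_le_of_card_ge hle (by rw [hR]; nlinarith)).symm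
  let e : ↥chi.range ≃* HSGrp :=
    (MulEquiv.subgroupCongr heq).trans (MonoidHom.ofInjective hRinj).symm
  refine ⟨e.toMonoidHom.comp chi.rangeRestrict, e.surjective.comp chi.rangeRestrict_surjective, ?_, ?_⟩
  · show e (chi.rangeRestrict x2K) = 1
    rw [show chi.rangeRestrict x2K = 1 from Subtype.ext chi_x2, map_one]
  · have hk : (e.toMonoidHom.comp chi.rangeRestrict).ker = chi.ker := by
      ext k
      rw [← chi.ker_rangeRestrict, MonoidHom.mem_ker, MonoidHom.mem_ker]
      exact e.map_eq_one_iff
    rw [hk, hker]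

end CfsgLib.HN
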