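import Cfsg.Agent.Lib.HN.Group

/-!
The subgroup of `x, y, z y z` is perfect, and HN is perfect.
-/

set_option autoImplicit false

namespace CfsgLib.HN

open CfsgLib.CosetEnum CfsgLib.DCoset

/-- the conjugate of `y` by `z` -/
def gc : G := gz * gy * gz

/-- the subgroup of `x, y, z y z` -/
def subK : Subgroup G := Subgroup.closure {gx, gy, gc}

theorem zz : gz * gz = 1 := by rw [← pow_two, r_z2]

theorem zz' (a : G) : gz * (gz * a) = a := by rw [← mul_assoc, zz, one_mul]

theorem zxz : gz * gx * gz = gx⁻¹ := by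
  refine eq_inv_of_mul_eq_one_left ?_
  have h := r_zx
  rw [pow_two] at h
  rw [← h]; simp only [mul_assoc]

/-- conjugation by `z` -/
def zconj : G →* G := (MulAut.conj gz).toMonoidHom

theorem zconj_apply (a : G) : zconj a = gz * a * gz := by
  show gz * a * gz⁻¹ = _
  rw [gz_inv]

theorem zconj_x : zconj gx = gx⁻¹ := by rw [zconj_apply, zxz]

theorem zconj_y : zconj gy = gc := zconj_apply _

theorem mem_x : gx ∈ subK := Subgroup.subset_closure (by simp)
theorem mem_y : gy ∈ subK := Subgroup.subset_closure (by simp)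
theorem mem_c : gc ∈ subK := Subgroup.subset_closure (by simp)

/-- `x` in the subgroup -/
def kx : ↥subK := ⟨gx, mem_x⟩
/-- `y` in the subgroup -/
def ky : ↥subK := ⟨gy, mem_y⟩
/-- `z y z` in the subgroup -/
def kc : ↥subK := ⟨gc, mem_c⟩

theorem z_rels : gc ^ 6 = 1 ∧ (gx * gc ^ 2 * gx⁻¹ * gc ^ 3) ^ 3 = 1 ∧ (gx⁻¹ * gc) ^ 8 = 1 := by
  refine ⟨?_, ?_, ?_⟩
  · rw [← zconj_y, ← map_pow, r_y6, map_one]
  · have h := congrArg zconj r_xyy
    simpa only [map_pow, map_mul, map_inv, zconj_x, zconj_y, inv_inv, map_one] using h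
  · have h := congrArg zconj r_xy8
    simpa only [map_pow, map_mul, zconj_x, zconj_y, map_one] using h

theorem ten : ((kc ^ 3 * kx⁻¹ * kc * kx⁻¹ * kc)⁻¹ * (ky ^ 3 * kx * ky * kx * ky * kx * (ky ^ 3 * kx * ky * kx * ky)⁻¹)) *
    ((kc ^ 3 * kx⁻¹ * kc * kx⁻¹ * kc * kx⁻¹ * (kc ^ 3 * kx⁻¹ * kc * kx⁻¹ * kc)⁻¹) * (ky ^ 3 * kx * ky * kx * ky * kx)) = 1 := by
  refine Subtype.ext ?_
  simp only [Subgroup.coe_mul, Subgroup.coe_inv, Subgroup.coe_pow, Subgroup.coe_one, kx, ky, kc]
  have hv : gc ^ 3 * gx⁻¹ * gc * gx⁻¹ * gc = zconj (gy ^ 3 * gx * gy * gx * gy) := by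
    simp only [map_mul, map_pow, zconj_x, zconj_y]
  rw [hv, ← map_inv, ← zconj_x, ← map_mul, ← map_mul]
  rw [zconj_apply, zconj_apply]
  generalize hw : gy ^ 3 * gx * gy * gx * gy = v
  have h := r_zv
  rw [hw] at h
  rw [← h]
  simp only [pow_succ, pow_zero, one_mul, mul_inv_rev, mul_assoc]

/-- A homomorphism of the subgroup to a commutative group is trivial. -/
theorem hom_trivial {A : Type*} [CommGroup A] (φ : ↥subK →* A) : φ = 1 := by
  obtain ⟨hc6, hc15, hc8⟩ := z_rels
  have e2 : φ (kx ^ 2 * ky * kx ^ 2 * ky⁻¹) = φ 1 := congrArg φ (Subtype.ext r_xy)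
  have e1 : φ (ky ^ 6) = φ 1 := congrArg φ (Subtype.ext r_y6)
  have e4 : φ ((kx⁻¹ * ky ^ 2 * kx * ky ^ 3) ^ 3) = φ 1 := congrArg φ (Subtype.ext r_xyy)
  have e5 : φ ((kx * ky) ^ 8) = φ 1 := congrArg φ (Subtype.ext r_xy8)
  have f1 : φ (kc ^ 6) = φ 1 := congrArg φ (Subtype.ext hc6)
  have f4 : φ ((kx * kc ^ 2 * kx⁻¹ * kc ^ 3) ^ 3) = φ 1 := congrArg φ (Subtype.ext hc15)
  have f5 : φ ((kx⁻¹ * kc) ^ 8) = φ 1 := congrArg φ (Subtype.ext hc8)
  have e10 := congrArg φ ten
  simp only [map_mul, map_pow, map_inv, map_one] at e1 e2 e4 e5 f1 f4 f5 e10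
  rw [mul_assoc (φ kx ^ 2), mul_comm (φ ky), ← mul_assoc, mul_inv_cancel_right, ← pow_add] at e2
  have a8 : φ kx ^ 8 = 1 := by rw [show (8 : ℕ) = (2 + 2) * 2 from rfl, pow_mul, e2, one_pow]
  rw [mul_pow, a8, one_mul] at e5
  rw [mul_pow, inv_pow, a8, inv_one, one_mul] at f5
  rw [inv_mul_cancel_comm, ← pow_add, ← pow_mul] at e4
  rw [mul_right_comm (φ kx), mul_inv_cancel, one_mul, ← pow_add, ← pow_mul] at f4
  have one : ∀ {b : A}, b ^ 6 = 1 → b ^ ((2 + 3) * 3) = 1 → b ^ 8 = 1 → b = 1 := fun {b} h6 h15 h8 => by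
    have h := Nat.dvd_gcd (Nat.dvd_gcd (orderOf_dvd_of_pow_eq_one h6) (orderOf_dvd_of_pow_eq_one h15))
      (orderOf_dvd_of_pow_eq_one h8)
    exact orderOf_eq_one_iff.mp (Nat.dvd_one.mp h)
  have by1 := one e1 e4 e5
  have bc1 := one f1 f4 f5
  simp only [by1, bc1, one_pow, one_mul, mul_one, mul_inv_rev, inv_inv] at e10
  have a5 : φ kx ^ 5 = 1 := by
    rw [← e10]
    simp only [pow_succ, pow_zero, one_mul, mul_assoc, mul_inv_cancel_left, inv_mul_cancel_left]
  have bx : φ kx = 1 := by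
    calc φ kx = φ kx ^ 5 * (φ kx ^ (2 + 2))⁻¹ := by group
      _ = 1 := by rw [a5, e2, inv_one, mul_one]
  refine MonoidHom.ext fun k => ?_
  obtain ⟨k, hk⟩ := k
  induction hk using Subgroup.closure_induction with
  | mem y hy =>
    rcases hy with rfl | rfl | rfl
    · exact bx
    · exact by1
    · exact bc1
  | one => exact map_one φ
  | mul a b ha hb h1 h2 =>
    show φ (⟨a, ha⟩ * ⟨b, hb⟩) = 1
    rw [map_mul, h1, h2, MonoidHom.one_apply, MonoidHom.one_apply, one_mul]
  | inv a ha h1 =>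
    show φ (⟨a, ha⟩⁻¹) = 1
    rw [map_inv, h1, MonoidHom.one_apply, inv_one]

theorem commutator_subK : commutator ↥subK = ⊤ := by
  rw [eq_top_iff]
  intro k _
  have h := congrArg (fun φ : ↥subK →* Abelianization ↥subK => φ k) (hom_trivial Abelianization.of)
  rw [← Abelianization.ker_of]
  exact h

theorem mem_subK_or {h : G} (hh : h ∈ subH) : h ∈ subK ∨ h * gz ∈ subK := by
  obtain ⟨hc6, -, -⟩ := z_rels
  rw [subH_eq] at hh
  have nz : ∀ a ∈ subK, gz * a * gz ∈ subK := by
    intro a ha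
    rw [← zconj_apply]
    induction ha using Subgroup.closure_induction with
    | mem y hy =>
      rcases hy with rfl | rfl | rfl
      · rw [zconj_x]; exact inv_mem mem_x
      · rw [zconj_y]; exact mem_c
      · rw [zconj_apply, gc]
        simpa only [mul_assoc, zz', zz, mul_one] using mem_y
    | one => rw [map_one]; exact one_mem _
    | mul a b _ _ ha hb => rw [map_mul]; exact mul_mem ha hb
    | inv a _ ha => rw [map_inv]; exact inv_mem ha
  have step : ∀ a, (a ∈ subK ∨ a * gz ∈ subK) → ∀ g < certU.K,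
      a * gen g ∈ subK ∨ a * gen g * gz ∈ subK := by
    intro a ha g hg
    have hg' : g < 5 := hg
    by_cases h4 : g = 4
    · subst h4
      rcases ha with ha | ha
      · right; show a * gz * gz ∈ subK; rwa [mul_assoc, zz, mul_one]
      · left; exact ha
    · have hk : gen g ∈ subK := by
        match g, hg', h4 with
        | 0, _, _ => exact mem_x
        | 1, _, _ => exact inv_mem mem_x
        | 2, _, _ => exact mem_y
        | 3, _, _ => exact inv_mem mem_y
        | 4, _, h => exact absurd rfl h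
        | n + 5, h, _ => omega
      rcases ha with ha | ha
      · exact Or.inl (mul_mem ha hk)
      · right
        have := mul_mem ha (nz _ hk)
        simpa only [mul_assoc, zz'] using this
  induction hh using Subgroup.closure_induction_right with
  | one => exact Or.inl (one_mem _)
  | mul_right a _ b hb ih => obtain ⟨g, hg, rfl⟩ := hb; exact step a ih g hg
  | mul_inv_cancel a _ b hb ih =>
    obtain ⟨g, hg, rfl⟩ := hb
    rw [← model.gen_inv g]
    refine step a ih _ ?_
    have hg' : g < 5 := hg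
    match g, hg' with
    | 0, _ => decide
    | 1, _ => decide
    | 2, _ => decide
    | 3, _ => decide
    | 4, _ => decide
    | n + 5, h => omega

theorem commutator_G : commutator G = ⊤ := by
  refine normal_top _ inferInstance ?_
  rw [← Abelianization.ker_of]
  let φ : G →* Abelianization G := Abelianization.of
  have h1 : φ gt ^ 5 = 1 := by rw [← map_pow, r_t5, map_one]
  have h2 : φ gt ^ 3 = 1 := by
    have h := congrArg φ r_tx
    rw [map_mul, map_mul, map_mul, map_inv, map_pow, map_one, inv_mul_cancel_comm] at h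
    rw [show (3 : ℕ) = 1 + 2 from rfl, pow_add, pow_one, h]
  show φ gt = 1
  calc φ gt = (φ gt ^ 3) ^ 2 * (φ gt ^ 5)⁻¹ := by group
    _ = 1 := by rw [h1, h2, one_pow, inv_one, mul_one]

end CfsgLib.HN
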