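import Cfsg.Agent.Lib.HN.Perm
import Cfsg.Agent.Lib.HN.Perfect
import Cfsg.Agent.Lib.HN.KPerm
import Cfsg.Prelude.Def_Sporadic
import Cfsg.Prelude.Def_SporadicB

/-!
The orders of the subgroup of `x, y, z` and of HN, and the double cover of HS.
-/

set_option autoImplicit false
set_option maxRecDepth 10000

namespace CfsgLib.HN

attribute [local irreducible] toP

open CfsgLib.CosetEnum CfsgLib.DCoset CfsgLib.DCoset.Space
open scoped commutatorElement

/-- the index two subgroup of the subgroup of `x, y, z` -/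
noncomputable def kH : Subgroup ↥subH := kP.comap toP

theorem index_kH : kH.index = 2 := by
  rw [kH, Subgroup.index_comap_of_surjective _ toP_surjective, index_kP]

theorem subK_le : subK ≤ subH := by
  refine (Subgroup.closure_le _).mpr ?_
  have hz : gz ∈ subH := rig.gen_mem (g := 4) (by decide +kernel)
  have hy : gy ∈ subH := rig.gen_mem (g := 2) (by decide +kernel)
  rintro a (rfl | rfl | rfl)
  · exact gx_mem
  · exact hy
  · exact mul_mem (mul_mem hz hy) hz

theorem keeps_gen {w : List ℕ} (hw : ∀ g ∈ w, g < space.C.K) (h : ∀ x : PPerm,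
    x = prodW valid.pgen w → Keeps x) : (⟨prodW gen w, rig.prodW_mem hw⟩ : ↥subH) ∈ kH := by
  show Keeps (toP _).1
  exact h _ (toP_word hw)

theorem kH_eq : kH = subK.subgroupOf subH := by
  have hle : subK.subgroupOf subH ≤ kH := by
    rintro ⟨h, hh⟩ hk
    change h ∈ subK at hk
    suffices hs : ∀ a (ha : a ∈ subK), (⟨a, subK_le ha⟩ : ↥subH) ∈ kH from hs h hk
    intro a ha
    induction ha using Subgroup.closure_induction with
    | mem y hy =>
      rcases hy with rfl | rfl | rfl
      · have e : (⟨gx, subK_le mem_x⟩ : ↥subH) = ⟨prodW gen [0], rig.prodW_mem (by decide +kernel)⟩ :=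
          Subtype.ext (mul_one gx).symm
        rw [e]
        refine keeps_gen (by decide +kernel) fun x hx => ?_
        rw [hx, prodW_cons, prodW_nil, mul_one]
        exact pgen_keeps (by decide)
      · have e : (⟨gy, subK_le mem_y⟩ : ↥subH) = ⟨prodW gen [2], rig.prodW_mem (by decide +kernel)⟩ :=
          Subtype.ext (mul_one gy).symm
        rw [e]
        refine keeps_gen (by decide +kernel) fun x hx => ?_
        rw [hx, prodW_cons, prodW_nil, mul_one]
        exact pgen_keeps (by decide)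
      · have e : (⟨gc, subK_le mem_c⟩ : ↥subH) =
            ⟨prodW gen [4, 2, 4], rig.prodW_mem (by decide +kernel)⟩ :=
          Subtype.ext (by show gc = gz * (gy * (gz * 1)); rw [mul_one, gc, mul_assoc])
        rw [e]
        refine keeps_gen (by decide +kernel) fun x hx => ?_
        rw [hx, prodW_cons, prodW_cons, prodW_cons, prodW_nil, mul_one]
        intro p
        rw [valid.unop_mul_apply, valid.unop_mul_apply, pgen_flips,
          pgen_keeps (show 2 < 4 by decide), pgen_flips, Bool.not_not]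
    | one =>
      rw [show (⟨1, subK_le (one_mem subK)⟩ : ↥subH) = 1 from Subtype.ext rfl]
      exact one_mem kH
    | mul a b ha hb h1 h2 =>
      rw [show (⟨a * b, subK_le (mul_mem ha hb)⟩ : ↥subH) = ⟨a, subK_le ha⟩ * ⟨b, subK_le hb⟩ from
        Subtype.ext rfl]
      exact mul_mem h1 h2
    | inv a ha h1 =>
      rw [show (⟨a⁻¹, subK_le (inv_mem ha)⟩ : ↥subH) = ⟨a, subK_le ha⟩⁻¹ from Subtype.ext rfl]
      exact inv_mem h1
  refine le_antisymm (fun h hk => ?_) hle
  rcases mem_subK_or h.2 with hm | hm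
  · exact hm
  · exfalso
    have h5 : ∀ g ∈ [4], g < space.C.K := by decide +kernel
    have ez : prodW gen [4] = gz := mul_one gz
    obtain ⟨z', hz'⟩ : ∃ z' : ↥subH, z' = ⟨prodW gen [4], rig.prodW_mem h5⟩ := ⟨_, rfl⟩
    have hzv : z'.1 = gz := by rw [hz', ← ez]
    have h1 : h * z' ∈ kH := hle (by rw [Subgroup.mem_subgroupOf, Subgroup.coe_mul, hzv]; exact hm)
    have h2 : toP z' ∈ kP := Subgroup.mem_comap.mp ((Subgroup.mul_mem_cancel_left kH hk).mp h1)
    have h3 : Flips (toP z').1 := by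
      rw [hz', toP_word h5, prodW_cons, prodW_nil, mul_one]
      exact pgen_flips
    exact not_keeps_of_flips h3 (mem_kP.mp h2)

/-- the index two subgroup is the subgroup of `x, y, z y z` -/
noncomputable def kEquiv : ↥kH ≃* ↥subK :=
  (MulEquiv.subgroupCongr kH_eq).trans (Subgroup.subgroupOfEquivOfLe subK_le)

theorem commutator_of_equiv {A B : Type*} [Group A] [Group B] (e : A ≃* B)
    (h : commutator B = ⊤) : commutator A = ⊤ := by
  rw [commutator_def] at h ⊢
  refine Subgroup.map_injective (f := e.toMonoidHom) e.injective ?_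
  rw [Subgroup.map_commutator, Subgroup.map_top_of_surjective _ e.surjective, h]

theorem commutator_kH : commutator ↥kH = ⊤ := commutator_of_equiv kEquiv commutator_subK

/-- the map to the permutation group on the index two subgroup -/
noncomputable def toKP : ↥kH →* ↥kP := toP.subgroupComap kP

theorem toKP_apply (k : ↥kH) : (toKP k).1 = toP k.1 := rfl

theorem toKP_surjective : Function.Surjective toKP := by
  intro y
  obtain ⟨h, hh⟩ := toP_surjective y.1
  exact ⟨⟨h, by show toP h ∈ kP; rw [hh]; exact y.2⟩, Subtype.ext hh⟩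

/-- elements of the index two subgroup over a central element are central -/
theorem central_of_image {k : ↥kH} (hk : ∀ x : ↥kP, Commute (toKP k) x) :
    k ∈ Subgroup.center ↥kH := by
  have hmem : ∀ g : ↥kH, ⁅g, k⁆ ∈ toKP.ker := fun g => by
    rw [MonoidHom.mem_ker, map_commutatorElement, commutatorElement_eq_one_iff_commute]
    exact (hk _).symm
  have hcen : ∀ c ∈ toKP.ker, ∀ g : ↥kH, g * c = c * g := fun c hc g =>
    Subtype.ext (Subtype.ext (toP_ker_central (h := c.1) (congrArg Subtype.val hc) g.1.1))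
  let φ : ↥kH →* ↥toKP.ker :=
    { toFun := fun g => ⟨⁅g, k⁆, hmem g⟩
      map_one' := Subtype.ext (commutatorElement_one_left k)
      map_mul' := fun g h => Subtype.ext (by
        show ⁅g * h, k⁆ = ⁅g, k⁆ * ⁅h, k⁆
        calc ⁅g * h, k⁆ = g * ⁅h, k⁆ * g⁻¹ * ⁅g, k⁆ := by simp [commutatorElement_def, mul_assoc]
          _ = ⁅h, k⁆ * ⁅g, k⁆ := by rw [hcen _ (hmem h) g, mul_inv_cancel_right]
          _ = _ := hcen _ (hmem g) _) }
  have hle : commutator ↥kH ≤ φ.ker := by
    rw [commutator_def, Subgroup.commutator_le]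
    intro a _ b _
    rw [MonoidHom.mem_ker, map_commutatorElement, commutatorElement_eq_one_iff_commute]
    exact Subtype.ext (hcen _ (φ b).2 _)
  rw [commutator_kH] at hle
  rw [Subgroup.mem_center_iff]
  intro g
  exact (commutatorElement_eq_one_iff_commute.mp (congrArg Subtype.val (hle (Subgroup.mem_top g)))).eq

theorem x2K_central (x : ↥kP) : Commute x2K x :=
  Subtype.ext (Subtype.ext (x2_comm x.1.2))

theorem card_two_mem {H : Type*} [Group H] {N : Subgroup H} (hN : Nat.card N = 2) {a y : H}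
    (ha : a ∈ N) (ha1 : a ≠ 1) (hy : y ∈ N) : y = 1 ∨ y = a := by
  have : Finite N := Nat.finite_of_card_ne_zero (by omega)
  obtain ⟨u, v, -, huv⟩ := Nat.card_eq_two_iff.mp hN
  have key : ∀ z : N, z = u ∨ z = v := fun z => by
    have : z ∈ ({u, v} : Set N) := by rw [huv]; trivial
    simpa using this
  rcases key ⟨y, hy⟩ with h | h <;> rcases key ⟨a, ha⟩ with h' | h' <;> rcases key 1 with h'' | h''
  all_goals first
    | exact Or.inr (congrArg Subtype.val (h.trans h'.symm))
    | exact Or.inl (congrArg Subtype.val (h.trans h''.symm))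
    | exact absurd (congrArg Subtype.val (h'.trans h''.symm)) ha1

theorem exists_hsHom : ∃ σ : ↥kH →* HSGrp, Function.Surjective σ ∧
    σ.ker ≤ Subgroup.center ↥kH ∧ toKP.ker ≤ σ.ker ∧ Nat.card σ.ker = 2 ∧ toKP.ker = ⊥ := by
  obtain ⟨τ, hτ, hx2, hker⟩ := exists_onto
  let σ : ↥kH →* HSGrp := τ.comp toKP
  have hs : Function.Surjective σ := hτ.comp toKP_surjective
  have hx1 : x2K ≠ 1 := fun h => one_lt_x2 (congrArg (fun k : ↥kP => k.1.1) h)
  have hc : σ.ker ≤ Subgroup.center ↥kH := fun k hk => central_of_image fun x => by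
    rcases card_two_mem hker hx2 hx1 (show toKP k ∈ τ.ker from hk) with e | e <;> rw [e]
    · exact Commute.one_left x
    · exact x2K_central x
  have hle : toKP.ker ≤ σ.ker := fun k hk => by
    show τ (toKP k) = 1
    rw [hk, map_one]
  haveI := finite_hs
  haveI : Finite (↥kH ⧸ σ.ker) :=
    Finite.of_equiv _ (QuotientGroup.quotientKerEquivOfSurjective σ hs).symm.toEquiv
  haveI : Finite (commutatorSet ↥kH) := by
    refine Set.finite_coe_iff.mpr ((Set.finite_range fun q : (↥kH ⧸ σ.ker) × (↥kH ⧸ σ.ker) =>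
      ⁅q.1.out, q.2.out⁆).subset ?_)
    rintro _ ⟨a, b, rfl⟩
    refine ⟨(↑a, ↑b), ?_⟩
    have key : ∀ a : ↥kH, ∃ z ∈ Subgroup.center ↥kH, (a : ↥kH ⧸ σ.ker).out = a * z := fun a => by
      obtain ⟨z, hz⟩ := QuotientGroup.mk_out_eq_mul σ.ker a
      exact ⟨z, hc z.2, hz⟩
    obtain ⟨u, hu, eu⟩ := key a
    obtain ⟨v, hv, ev⟩ := key b
    show ⁅_, _⁆ = ⁅a, b⁆
    rw [eu, ev]
    rw [Subgroup.mem_center_iff] at hu hv
    simp only [commutatorElement_def, mul_inv_rev]
    calc a * u * (b * v) * (u⁻¹ * a⁻¹) * (v⁻¹ * b⁻¹)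
        = a * (u * b) * v * u⁻¹ * a⁻¹ * v⁻¹ * b⁻¹ := by simp only [mul_assoc]
      _ = a * b * (u * v) * u⁻¹ * a⁻¹ * v⁻¹ * b⁻¹ := by rw [← hu b]; simp only [mul_assoc]
      _ = a * b * v * a⁻¹ * v⁻¹ * b⁻¹ := by rw [← hu v]; simp only [mul_assoc, mul_inv_cancel_left]
      _ = a * b * (v * a⁻¹) * v⁻¹ * b⁻¹ := by simp only [mul_assoc]
      _ = a * b * a⁻¹ * b⁻¹ := by rw [← hv a⁻¹]; simp only [mul_assoc, mul_inv_cancel_left]
  haveI : Finite ↥kH := by
    haveI : Finite ↥(commutator ↥kH) := inferInstance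
    rw [commutator_kH] at this
    exact Finite.of_equiv _ Subgroup.topEquiv.toEquiv
  have h2 := ker_le_two σ hs hc commutator_kH
  have hmap : Function.Surjective (fun k : σ.ker => (⟨toKP k.1, k.2⟩ : τ.ker)) := fun y => by
    obtain ⟨k, hk⟩ := toKP_surjective y.1
    exact ⟨⟨k, by show τ (toKP k) = 1; rw [hk]; exact y.2⟩, Subtype.ext hk⟩
  have h3 := Nat.card_le_card_of_surjective _ hmap
  have hbij := (Nat.bijective_iff_surjective_and_card _).mpr ⟨hmap, by omega⟩
  refine ⟨σ, hs, hc, hle, by omega, (Subgroup.eq_bot_iff_forall _).mpr fun k hk => ?_⟩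
  exact congrArg Subtype.val (hbij.1 (a₁ := ⟨k, hle hk⟩) (a₂ := 1)
    (Subtype.ext (hk.trans (map_one toKP).symm)))

theorem toP_injective : Function.Injective toP := by
  obtain ⟨σ, -, -, -, -, hbot⟩ := exists_hsHom
  refine (injective_iff_map_eq_one _).mpr fun h hh => ?_
  have hk : h ∈ kH := by show toP h ∈ kP; rw [hh]; exact one_mem _
  have : (⟨h, hk⟩ : ↥kH) ∈ toKP.ker := Subtype.ext hh
  rw [hbot, Subgroup.mem_bot] at this
  exact congrArg Subtype.val this

theorem card_subH : Nat.card ↥subH = 177408000 :=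
  (Nat.card_eq_of_bijective _ ⟨toP_injective, toP_surjective⟩).trans card_P

theorem card_G : Nat.card G = 273030912000000 := by
  rw [← subH.card_mul_index, card_subH, index_subH]

theorem finite_G : Finite G := Nat.finite_of_card_ne_zero (by rw [card_G]; norm_num)

theorem isNonsplitDoubleCover_kH : Cfsg.IsNonsplitDoubleCover ↥kH ↥Cfsg.Spor.HS := by
  obtain ⟨σ, hs, hc, -, hcard, -⟩ := exists_hsHom
  haveI := simple_hs
  haveI := finite_hs
  have hcen : Subgroup.center ↥kH = σ.ker := by
    refine le_antisymm (fun k hk => ?_) hc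
    have hk' : σ k ∈ Subgroup.center HSGrp := by
      rw [Subgroup.mem_center_iff]
      intro y
      obtain ⟨g, rfl⟩ := hs y
      rw [← map_mul, ← map_mul, Subgroup.mem_center_iff.mp hk g]
    rcases (inferInstance : (Subgroup.center HSGrp).Normal).eq_bot_or_eq_top with h | h
    · rw [h] at hk'; exact Subgroup.mem_bot.mp hk'
    · exfalso
      have habel : ∀ a b : HSGrp, a * b = b * a := fun a b =>
        Subgroup.mem_center_iff.mp (h ▸ Subgroup.mem_top b : b ∈ Subgroup.center HSGrp) a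
      have hle : commutator ↥kH ≤ σ.ker := by
        rw [commutator_def, Subgroup.commutator_le]
        intro a _ b _
        rw [MonoidHom.mem_ker, map_commutatorElement, commutatorElement_eq_one_iff_commute]
        exact habel _ _
      rw [commutator_kH] at hle
      obtain ⟨y, hy⟩ := exists_ne (1 : HSGrp)
      obtain ⟨g, rfl⟩ := hs y
      exact hy (hle (Subgroup.mem_top g))
  refine ⟨hcen ▸ hcard, ?_, fun L hL => ?_⟩
  · obtain ⟨e⟩ := nonempty_equiv_spor
    exact ⟨((QuotientGroup.quotientMulEquivOfEq hcen).trans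
      (QuotientGroup.quotientKerEquivOfSurjective σ hs)).trans e⟩
  · have hprod : ∀ g : ↥kH, ∃ z ∈ Subgroup.center ↥kH, ∃ l ∈ L, z * l = g := fun g => by
      obtain ⟨⟨z, l⟩, e⟩ := hL.2 g
      exact ⟨z.1, z.2, l.1, l.2, e⟩
    have hle : commutator ↥kH ≤ L := by
      rw [commutator_def, Subgroup.commutator_le]
      intro a _ b _
      obtain ⟨z, hz, l, hl, rfl⟩ := hprod a
      obtain ⟨z', hz', l', hl', rfl⟩ := hprod b
      rw [Subgroup.mem_center_iff] at hz hz'
      have e : ⁅z * l, z' * l'⁆ = ⁅l, l'⁆ := by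
        simp only [commutatorElement_def, mul_inv_rev]
        calc z * l * (z' * l') * (l⁻¹ * z⁻¹) * (l'⁻¹ * z'⁻¹)
            = z * (l * z') * l' * l⁻¹ * z⁻¹ * l'⁻¹ * z'⁻¹ := by simp only [mul_assoc]
          _ = z * z' * (l * l' * l⁻¹) * z⁻¹ * l'⁻¹ * z'⁻¹ := by rw [hz' l]; simp only [mul_assoc]
          _ = z * z' * z⁻¹ * (l * l' * l⁻¹ * l'⁻¹) * z'⁻¹ := by
            rw [mul_assoc (z * z') _ z⁻¹, show l * l' * l⁻¹ * z⁻¹ = z⁻¹ * (l * l' * l⁻¹) from
              (eq_inv_mul_iff_mul_eq.mpr (by rw [← hz (l * l' * l⁻¹ * z⁻¹), inv_mul_cancel_right]))]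
            simp only [mul_assoc]
          _ = z' * (l * l' * l⁻¹ * l'⁻¹) * z'⁻¹ := by rw [← hz z', mul_inv_cancel_right]
          _ = _ := by rw [← hz' (l * l' * l⁻¹ * l'⁻¹), mul_inv_cancel_right]
      rw [e, commutatorElement_def]
      exact mul_mem (mul_mem (mul_mem hl hl') (inv_mem hl)) (inv_mem hl')
    rw [commutator_kH, top_le_iff] at hle
    have hdis := hL.disjoint
    rw [hle, disjoint_top] at hdis
    rw [hcen] at hdis
    rw [hdis, Subgroup.card_bot] at hcard
    omega

end CfsgLib.HN
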