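import Cfsg.Agent.Lib.HN.Both

/-!
The subgroup of `x, y, z` maps onto the permutation group on 1408 points.
-/

set_option autoImplicit false
set_option maxRecDepth 10000

namespace CfsgLib.HN

open CfsgLib.CosetEnum CfsgLib.DCoset CfsgLib.DCoset.Space

theorem transitive_pts (p : Fin space.C.N) : ∃ π : ↥valid.P, π.1.unop valid.zero = p := by
  have h0 : (0 : ℕ) < lower.ns := Nat.zero_lt_succ _
  obtain ⟨hr, k, hk, hkp⟩ := lowValid.exists_k h0 p
  obtain ⟨hr', k', hk', hkp'⟩ := lowValid.exists_k h0 valid.zero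
  have hlen : (lower.st 0).roots.length = 1 := by decide +kernel
  have e1 : lower.colOf 0 p = 0 := by omega
  have e2 : lower.colOf 0 valid.zero = 0 := by omega
  rw [e1] at hkp
  rw [e2] at hkp'
  refine ⟨⟨k' * k⁻¹, mul_mem (lowValid.grpK_le 0 hk') (inv_mem (lowValid.grpK_le 0 hk))⟩, ?_⟩
  rw [valid.unop_mul_apply, hkp', ← hkp, MulOpposite.unop_inv, Equiv.Perm.inv_def,
    Equiv.symm_apply_apply]

theorem grpOne_fix : ((lower.gK 1).all fun g => Nat.beq (space.app g.1 0) 0) = true := by
  decide +kernel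

theorem rmulHom_injective : Function.Injective (LData.rmulHom lower valid) := by
  refine (injective_iff_map_eq_one _).mpr fun x hx => ?_
  have h1 : (1 : ℕ) < lower.ns := Nat.succ_lt_succ (Nat.zero_lt_succ _)
  refine Subtype.ext (MulOpposite.unop_injective (Equiv.ext fun p => ?_))
  obtain ⟨π, hπ⟩ := transitive_pts p
  have e := LData.rmulHom_apply (L := lower) x (lower.mkO valid ⟨1, h1⟩ π)
  rw [hx, LData.rmul_mkO] at e
  have hm := LData.mkO_eq_iff.mp (e : lower.mkO valid ⟨1, h1⟩ π = lower.mkO valid ⟨1, h1⟩ (π * x))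
  have key : ∀ k ∈ lower.grpK valid 1, k.unop valid.zero = valid.zero := by
    intro k hk
    induction hk using Subgroup.closure_induction with
    | mem y hy =>
      obtain ⟨g, hg, rfl⟩ := hy
      refine Fin.ext ?_
      rw [valid.pev_apply (lowValid.gK_spec h1 g hg).1]
      exact Nat.eq_of_beq_eq_true (List.all_eq_true.mp grpOne_fix g hg)
    | one => rfl
    | mul x y _ _ hx hy => rw [valid.unop_mul_apply, hx, hy]
    | inv x _ hx => rw [MulOpposite.unop_inv, Equiv.Perm.inv_eq_iff_eq, hx]
  have e2 := key _ hm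
  rw [Subgroup.coe_mul, Subgroup.coe_inv, valid.unop_mul_apply, valid.unop_mul_apply,
    MulOpposite.unop_inv, hπ,
    Equiv.Perm.inv_eq_iff_eq, hπ] at e2
  exact e2

theorem act_mem (h : ↥subH) : act h.1 ∈ (LData.rmulHom lower valid).range := by
  obtain ⟨w, hw, hwe⟩ := rig.exists_word h.2
  refine ⟨⟨prodW valid.pgen w, valid.prodW_mem w⟩, omPerm_ext fun ω => ?_⟩
  rw [LData.rmulHom_apply, ← hwe]
  exact (both.psi_word extends_act hw ω).symm

/-- The action of `x, y, z` on the 1408 points. -/
noncomputable def toP : ↥subH →* ↥valid.P :=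
  (MonoidHom.ofInjective rmulHom_injective).symm.toMonoidHom.comp
    ((act.comp subH.subtype).codRestrict _ act_mem)

theorem rmulHom_toP (h : ↥subH) : LData.rmulHom lower valid (toP h) = act h.1 := by
  have e := (MonoidHom.ofInjective rmulHom_injective).apply_symm_apply
    ((act.comp subH.subtype).codRestrict _ act_mem h)
  exact congrArg Subtype.val e

theorem toP_word {w : List ℕ} (hw : ∀ g ∈ w, g < space.C.K) :
    (toP ⟨prodW gen w, rig.prodW_mem hw⟩).1 = prodW valid.pgen w := by
  have e : toP ⟨prodW gen w, rig.prodW_mem hw⟩ = ⟨prodW valid.pgen w, valid.prodW_mem w⟩ := by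
    refine rmulHom_injective ((rmulHom_toP _).trans (omPerm_ext fun ω => ?_))
    rw [both.psi_word extends_act hw, LData.rmulHom_apply]
  rw [e]

theorem toP_surjective : Function.Surjective toP := by
  intro x
  obtain ⟨w, hw, hwe⟩ := lowValid.exists_word x
  exact ⟨⟨prodW gen w, rig.prodW_mem hw⟩, Subtype.ext ((toP_word hw).trans hwe)⟩

theorem toP_ker_central {h : ↥subH} (hh : toP h = 1) (a : G) : a * h.1 = h.1 * a := by
  obtain ⟨w, hw, hwe⟩ := rig.exists_word h.2
  obtain rfl : h = ⟨prodW gen w, rig.prodW_mem hw⟩ := Subtype.ext hwe.symm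
  refine rig.central hw ?_ a
  rw [← toP_word hw, hh]
  rfl

theorem ker_act_le : act.ker ≤ subH := fun g hg => mem_subH (by rw [hg]; rfl)

end CfsgLib.HN
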