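import Cfsg.Agent.Lib.HN.A12

/-!
HN as a transitive permutation group of degree 1140000.
-/

set_option autoImplicit false

namespace CfsgLib.HN

/-- A simple group on the cosets of a proper subgroup. -/
theorem perm_realization {Γ : Type*} [Group Γ] [IsSimpleGroup Γ] (A : Subgroup Γ) (m : ℕ) [NeZero m]
    (hA : A.index = m) (hm : A ≠ ⊤) :
    ∃ H : Subgroup (Equiv.Perm (Fin m)), Nonempty (Γ ≃* H) ∧ MulAction.IsPretransitive H (Fin m) ∧
      Nonempty (MulAction.stabilizer H (0 : Fin m) ≃* A) := by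
  haveI : Finite (Γ ⧸ A) := Nat.finite_of_card_ne_zero (by
    rw [← Subgroup.index, hA]; exact NeZero.ne m)
  let e0 : Γ ⧸ A ≃ Fin m := Finite.equivFinOfCardEq hA
  let e : Γ ⧸ A ≃ Fin m := e0.trans (Equiv.swap (e0 ((1 : Γ) : Γ ⧸ A)) 0)
  have he : e ((1 : Γ) : Γ ⧸ A) = 0 := Equiv.swap_apply_left _ _
  let f : Γ →* Equiv.Perm (Fin m) :=
    e.permCongrHom.toMonoidHom.comp (MulAction.toPermHom Γ (Γ ⧸ A))
  have hf : ∀ (g : Γ) (y : Γ), f g (e (y : Γ ⧸ A)) = e ((g * y : Γ) : Γ ⧸ A) := fun g y => by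
    show e ((MulAction.toPermHom Γ (Γ ⧸ A) g) (e.symm (e (y : Γ ⧸ A)))) = _
    rw [e.symm_apply_apply]
    rfl
  have hstab : ∀ g : Γ, f g 0 = 0 ↔ g ∈ A := fun g => by
    rw [← he, hf, e.injective.eq_iff, mul_one, QuotientGroup.eq, mul_one, inv_mem_iff]
  have hinj : Function.Injective f := by
    rw [← MonoidHom.ker_eq_bot_iff]
    rcases f.normal_ker.eq_bot_or_eq_top with h | h
    · exact h
    · refine absurd (eq_top_iff.mpr fun g hg => (hstab g).mp ?_) hm
      have : g ∈ f.ker := by rw [h]; exact hg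
      rw [MonoidHom.mem_ker.mp this, Equiv.Perm.one_apply]
  let F := MonoidHom.ofInjective hinj
  refine ⟨f.range, ⟨F⟩, ⟨fun a b => ?_⟩, ⟨?_⟩⟩
  · obtain ⟨x, hx⟩ : ∃ x : Γ, e (x : Γ ⧸ A) = a := by
      obtain ⟨x, hx⟩ := QuotientGroup.mk_surjective (e.symm a)
      exact ⟨x, by rw [hx, e.apply_symm_apply]⟩
    obtain ⟨y, hy⟩ : ∃ y : Γ, e (y : Γ ⧸ A) = b := by
      obtain ⟨y, hy⟩ := QuotientGroup.mk_surjective (e.symm b)
      exact ⟨y, by rw [hy, e.apply_symm_apply]⟩
    refine ⟨F (y * x⁻¹), ?_⟩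
    show f (y * x⁻¹) a = b
    rw [← hx, hf, inv_mul_cancel_right, hy]
  · exact MulEquiv.symm
      { toFun := fun a => ⟨F a.1, (hstab a.1).mpr a.2⟩
        invFun := fun s => ⟨F.symm s.1, (hstab _).mp (by
          have : f (F.symm s.1) = (s.1 : Equiv.Perm (Fin m)) := congrArg Subtype.val (F.apply_symm_apply s.1)
          rw [this]
          exact s.2)⟩
        left_inv := fun a => Subtype.ext (F.symm_apply_apply a.1)
        right_inv := fun s => Subtype.ext (F.apply_symm_apply s.1)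
        map_mul' := fun a b => Subtype.ext (map_mul F a.1 b.1) }

theorem IsHN.of_equiv {A B : Type*} [Group A] [Group B] (e : A ≃* B) (h : Cfsg.IsHN A) :
    Cfsg.IsHN B := by
  haveI := h.1
  haveI : Nontrivial B := e.symm.toEquiv.nontrivial
  exact ⟨IsSimpleGroup.isSimpleGroup_of_surjective e.toMonoidHom e.surjective,
    (Nat.card_congr e.toEquiv).symm.trans h.2⟩

theorem exists_perm_rep : ∃ H : Subgroup (Equiv.Perm (Fin 1140000)), Cfsg.IsHN H ∧
    MulAction.IsPretransitive H (Fin 1140000) ∧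
    Nonempty (MulAction.stabilizer H (0 : Fin 1140000) ≃* alternatingGroup (Fin 12)) := by
  obtain ⟨φ, hφ⟩ := exists_a12Hom
  haveI := isSimple_G
  have hcard : Nat.card φ.range = 239500800 := by
    rw [← Nat.card_congr (MonoidHom.ofInjective hφ).toEquiv]
    have h := two_mul_nat_card_alternatingGroup (α := Fin 12)
    rw [Nat.card_perm, Nat.card_fin, show Nat.factorial 12 = 2 * 239500800 from by decide] at h
    omega
  have hidx : φ.range.index = 1140000 := by
    have h := φ.range.card_mul_index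
    rw [hcard, card_G] at h
    omega
  haveI : NeZero (1140000 : ℕ) := ⟨by norm_num⟩
  obtain ⟨H, ⟨e⟩, ht, ⟨s⟩⟩ := perm_realization φ.range 1140000 hidx
    (fun h => by rw [h, Subgroup.index_top] at hidx; omega)
  exact ⟨H, IsHN.of_equiv e isHN, ht, ⟨s.trans (MonoidHom.ofInjective hφ).symm⟩⟩

end CfsgLib.HN
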