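import Cfsg.Agent.Lib.DCoset.Orbits
import Cfsg.Agent.Lib.HN.ChainData

/-!
State 0.
-/

set_option autoImplicit false
set_option linter.style.longLine false

namespace CfsgLib.HN
open CfsgLib.CosetEnum CfsgLib.DCoset CfsgLib.DCoset.Space
/-- part 0 of `tree0` -/
def tree0P0 : List (Bool × ℕ × ℕ) := [
  (true,0,0),
  (false,0,0),
  (false,1,0),
  (false,4,0),
  (false,0,2),
  (false,4,2),
  (false,4,1),
  (false,2,4),
  (false,3,4),
  (false,5,4),
  (false,4,3),
  (false,2,18),
  (false,3,18),
  (false,5,18),
  (false,2,5),
  (false,3,5),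
  (false,5,5),
  (false,0,6),
  (false,1,6),
  (false,2,6),
  (false,4,6),
  (false,5,6),
  (false,6,6),
  (false,0,27),
  (false,1,27),
  (false,3,27),
  (false,4,27),
  (false,5,27),
  (false,6,27),
  (false,8,27),
  (false,0,410),
  (false,1,410),
  (false,2,410),
  (false,4,410),
  (false,5,410),
  (false,6,410),
  (false,8,410),
  (false,9,410),
  (false,2,13),
  (false,3,13),
  (false,5,13),
  (false,1,19),
  (false,2,19),
  (false,4,19),
  (false,6,19),
  (false,0,28),
  (false,1,28),
  (false,3,28),
  (false,4,28),
  (false,5,28),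
  (false,6,28),
  (false,8,28),
  (false,0,380),
  (false,1,380),
  (false,2,380),
  (false,4,380),
  (false,5,380),
  (false,6,380),
  (false,8,380),
  (false,9,380),
  (false,2,12),
  (false,4,12),
  (false,6,12),
  (false,3,53),
  (false,4,53),
  (false,5,53),
  (false,6,53),
  (false,8,53),
  (false,2,364),
  (false,4,364),
  (false,5,364),
  (false,6,364),
  (false,8,364),
  (false,9,364),
  (false,2,22),
  (false,4,22),
  (false,5,22),
  (false,2,7),
  (false,4,7),
  (false,5,7),
  (false,0,24),
  (false,1,24),
  (false,2,24),
  (false,4,24),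
  (false,5,24),
  (false,7,24),
  (false,8,24),
  (false,9,24),
  (false,2,84),
  (false,3,84),
  (false,5,84),
  (false,6,84),
  (false,2,14),
  (false,4,14),
  (false,5,14),
  (false,0,38),
  (false,1,38),
  (false,2,38),
  (false,3,38),
  (false,5,38)]

/-- part 1 of `tree0` -/
def tree0P1 : List (Bool × ℕ × ℕ) := [
  (false,6,38),
  (false,8,38),
  (false,4,23),
  (false,6,23),
  (false,7,23),
  (false,8,23),
  (false,4,8),
  (false,6,8),
  (false,7,8),
  (false,8,8),
  (false,4,26),
  (false,5,26),
  (false,6,26),
  (false,8,26),
  (false,2,270),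
  (false,3,270),
  (false,5,270),
  (false,6,270),
  (false,8,270),
  (false,0,190),
  (false,1,190),
  (false,3,190),
  (false,4,190),
  (false,6,190),
  (false,3,408),
  (false,7,408),
  (false,8,408),
  (false,9,408),
  (false,0,409),
  (false,1,409),
  (false,9,409),
  (false,2,478),
  (false,3,478),
  (false,4,478),
  (false,5,478),
  (false,2,544),
  (false,3,544),
  (false,4,544),
  (false,5,544),
  (false,2,411),
  (false,4,411),
  (false,6,411),
  (false,8,411),
  (false,2,663),
  (false,3,663),
  (false,5,663),
  (false,6,663),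
  (false,8,663),
  (false,9,663),
  (false,4,212),
  (false,9,212),
  (false,0,195),
  (false,1,195),
  (false,2,137),
  (false,3,137),
  (false,2,17),
  (false,4,17),
  (false,6,17),
  (false,3,96),
  (false,4,96),
  (false,5,96),
  (false,6,96),
  (false,8,96),
  (false,2,435),
  (false,4,435),
  (false,5,435),
  (false,6,435),
  (false,8,435),
  (false,9,435),
  (false,2,11),
  (false,4,11),
  (false,5,11),
  (false,0,29),
  (false,1,29),
  (false,2,29),
  (false,4,29),
  (false,2,197),
  (false,3,197),
  (false,5,197),
  (false,6,197),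
  (false,1,233),
  (false,2,233),
  (false,3,233),
  (false,5,233),
  (false,6,233),
  (false,8,233),
  (false,4,15),
  (false,8,15),
  (false,6,20),
  (false,7,20),
  (false,8,20),
  (false,4,113),
  (false,6,113),
  (false,2,208),
  (false,3,208),
  (false,5,208),
  (false,6,208),
  (false,8,208),
  (false,1,70),
  (false,3,70)]

/-- part 2 of `tree0` -/
def tree0P2 : List (Bool × ℕ × ℕ) := [
  (false,4,70),
  (false,6,70),
  (false,7,351),
  (false,8,351),
  (false,9,351),
  (false,1,352),
  (false,4,392),
  (false,2,381),
  (false,3,381),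
  (false,4,381),
  (false,5,381),
  (false,2,412),
  (false,6,412),
  (false,8,412),
  (false,3,696),
  (false,5,696),
  (false,6,696),
  (false,8,696),
  (false,9,696),
  (false,4,135),
  (false,1,100),
  (false,2,80),
  (false,3,80),
  (false,2,50),
  (false,4,50),
  (false,2,164),
  (false,5,164),
  (false,6,164),
  (false,2,62),
  (false,3,62),
  (false,5,62),
  (false,6,62),
  (false,8,62),
  (false,4,52),
  (false,6,52),
  (false,2,249),
  (false,3,249),
  (false,5,249),
  (false,6,249),
  (false,8,249),
  (false,3,235),
  (false,4,235),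
  (false,6,235),
  (false,7,340),
  (false,8,340),
  (false,9,340),
  (false,2,365),
  (false,4,365),
  (false,6,365),
  (false,8,365),
  (false,3,468),
  (false,5,468),
  (false,6,468),
  (false,8,468),
  (false,9,468),
  (false,4,161),
  (false,2,94),
  (false,3,94),
  (false,4,21),
  (false,2,223),
  (false,5,223),
  (false,4,236),
  (false,4,9),
  (false,2,85),
  (false,5,85),
  (false,4,71),
  (false,4,54),
  (false,7,54),
  (false,4,75),
  (false,7,75),
  (false,4,25),
  (false,2,272),
  (false,3,272),
  (false,5,272),
  (false,7,272),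
  (false,8,272),
  (false,9,272),
  (false,2,101),
  (false,4,101),
  (false,0,86),
  (false,1,86),
  (false,2,86),
  (false,4,86),
  (false,6,86),
  (false,7,86),
  (false,8,86),
  (false,9,86),
  (false,3,125),
  (false,5,125),
  (false,6,125),
  (false,8,125),
  (false,0,150),
  (false,1,150),
  (false,3,150),
  (false,4,150),
  (false,5,150),
  (false,6,150),
  (false,7,150),
  (false,8,150),
  (false,0,400)]

/-- part 3 of `tree0` -/
def tree0P3 : List (Bool × ℕ × ℕ) := [
  (false,1,400),
  (false,2,400),
  (false,3,400),
  (false,5,400),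
  (false,6,400),
  (false,8,400),
  (false,4,16),
  (false,2,172),
  (false,5,172),
  (false,4,191),
  (false,8,383),
  (false,8,282),
  (false,4,37),
  (false,2,592),
  (false,4,592),
  (false,5,269),
  (false,6,269),
  (false,8,269),
  (false,5,123),
  (false,6,123),
  (false,8,123),
  (false,2,293),
  (false,5,293),
  (false,6,293),
  (false,8,293),
  (false,4,206),
  (false,2,302),
  (false,5,302),
  (false,0,228),
  (false,1,228),
  (false,3,228),
  (false,4,228),
  (false,5,228),
  (false,6,228),
  (false,8,228),
  (false,9,228),
  (false,0,782),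
  (false,1,782),
  (false,3,782),
  (false,4,782),
  (false,5,782),
  (false,6,782),
  (false,8,782),
  (false,9,782),
  (false,2,779),
  (false,3,779),
  (false,5,779),
  (false,7,779),
  (false,8,779),
  (false,9,779),
  (false,0,415),
  (false,1,415),
  (false,2,415),
  (false,3,415),
  (false,5,415),
  (false,9,415),
  (false,4,45),
  (false,4,35),
  (false,4,285),
  (false,2,458),
  (false,3,458),
  (false,5,458),
  (false,4,464),
  (false,0,479),
  (false,4,479),
  (false,4,550),
  (false,2,662),
  (false,3,662),
  (false,5,662),
  (false,0,182),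
  (false,4,182),
  (false,4,569),
  (false,4,545),
  (false,2,297),
  (false,3,297),
  (false,5,297),
  (false,4,36),
  (false,3,209),
  (false,6,209),
  (false,8,209),
  (false,5,248),
  (false,6,248),
  (false,8,248),
  (false,0,721),
  (false,1,721),
  (false,3,721),
  (false,4,721),
  (false,5,721),
  (false,6,721),
  (false,8,721),
  (false,9,721),
  (false,0,1135),
  (false,1,1135),
  (false,2,1135),
  (false,3,1135),
  (false,4,1135),
  (false,7,1135),
  (false,8,1135),
  (false,9,1135),
  (false,0,784)]

/-- part 4 of `tree0` -/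
def tree0P4 : List (Bool × ℕ × ℕ) := [
  (false,1,784),
  (false,2,784),
  (false,5,785),
  (false,2,502),
  (false,3,502),
  (false,5,502),
  (false,3,531),
  (false,9,531),
  (false,4,204),
  (false,4,33),
  (false,2,74),
  (false,4,74),
  (false,2,102),
  (false,5,102),
  (false,6,102),
  (false,2,184),
  (false,5,184),
  (false,6,184),
  (false,8,184),
  (false,6,98),
  (false,2,124),
  (false,5,124),
  (false,6,124),
  (false,8,124),
  (false,3,46),
  (false,4,46),
  (false,6,46),
  (false,7,379),
  (false,8,379),
  (false,9,379),
  (false,2,366),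
  (false,6,366),
  (false,8,366),
  (false,5,584),
  (false,6,584),
  (false,8,584),
  (false,9,584),
  (false,4,82),
  (false,2,112),
  (false,3,112),
  (false,4,10),
  (false,5,130),
  (false,4,47),
  (false,4,30),
  (false,4,131),
  (false,4,132),
  (false,2,310),
  (false,3,310),
  (false,5,310),
  (false,1,238),
  (false,2,238),
  (false,4,238),
  (false,6,238),
  (false,7,238),
  (false,3,250),
  (false,6,250),
  (false,8,250),
  (false,0,254),
  (false,1,254),
  (false,3,254),
  (false,4,254),
  (false,5,254),
  (false,6,254),
  (false,7,254),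
  (false,0,329),
  (false,2,329),
  (false,3,329),
  (false,6,329),
  (false,8,329),
  (false,8,320),
  (false,4,121),
  (false,4,482),
  (false,5,207),
  (false,8,207),
  (false,2,572),
  (false,5,572),
  (false,6,572),
  (false,2,301),
  (false,1,177),
  (false,3,177),
  (false,4,177),
  (false,5,177),
  (false,6,177),
  (false,8,177),
  (false,0,654),
  (false,1,654),
  (false,3,654),
  (false,4,654),
  (false,6,654),
  (false,8,654),
  (false,9,654),
  (false,2,700),
  (false,3,700),
  (false,5,700),
  (false,7,700),
  (false,8,700),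
  (false,9,700),
  (false,0,421),
  (false,2,421),
  (false,3,421)]

/-- part 5 of `tree0` -/
def tree0P5 : List (Bool × ℕ × ℕ) := [
  (false,5,421),
  (false,4,69),
  (false,4,283),
  (false,2,539),
  (false,3,539),
  (false,5,539),
  (false,5,505),
  (false,4,434),
  (false,4,382),
  (false,2,799),
  (false,3,799),
  (false,5,799),
  (false,4,232),
  (false,1,735),
  (false,3,735),
  (false,4,735),
  (false,5,735),
  (false,6,735),
  (false,9,735),
  (false,1,952),
  (false,3,952),
  (false,4,952),
  (false,7,952),
  (false,8,952),
  (false,9,952),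
  (false,0,530),
  (false,2,530),
  (false,5,633),
  (false,2,294),
  (false,3,294),
  (false,5,294),
  (false,3,350),
  (false,4,114),
  (false,4,79),
  (false,4,51),
  (false,2,492),
  (false,3,492),
  (false,5,492),
  (false,2,173),
  (false,4,173),
  (false,7,173),
  (false,3,141),
  (false,4,141),
  (false,5,141),
  (false,7,141),
  (false,2,555),
  (false,3,555),
  (false,6,555),
  (false,8,555),
  (false,4,1032),
  (false,2,501),
  (false,5,501),
  (false,6,501),
  (false,2,303),
  (false,3,242),
  (false,4,242),
  (false,5,242),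
  (false,6,242),
  (false,8,242),
  (false,3,943),
  (false,4,943),
  (false,6,943),
  (false,8,943),
  (false,9,943),
  (false,2,470),
  (false,3,470),
  (false,7,470),
  (false,8,470),
  (false,9,470),
  (false,2,559),
  (false,3,559),
  (false,5,559),
  (false,4,384),
  (false,2,491),
  (false,3,491),
  (false,5,491),
  (false,6,271),
  (false,8,271),
  (false,4,647),
  (false,5,647),
  (false,6,647),
  (false,9,647),
  (false,4,1013),
  (false,7,1013),
  (false,8,1013),
  (false,9,1013),
  (false,2,618),
  (false,2,657),
  (false,3,657),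
  (false,3,1034),
  (false,4,95),
  (false,4,57),
  (false,4,376),
  (false,5,376),
  (false,9,376),
  (false,5,138),
  (false,4,462),
  (false,5,462),
  (false,9,462),
  (false,2,511)]

/-- part 6 of `tree0` -/
def tree0P6 : List (Bool × ℕ × ℕ) := [
  (false,5,511),
  (false,2,273),
  (false,5,273),
  (false,2,217),
  (false,3,217),
  (false,0,274),
  (false,1,274),
  (false,4,274),
  (false,5,274),
  (false,7,274),
  (false,8,274),
  (false,9,274),
  (false,0,659),
  (false,1,659),
  (false,4,659),
  (false,5,659),
  (false,6,659),
  (false,2,1016),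
  (false,4,1016),
  (false,5,1016),
  (false,8,1016),
  (false,9,1016),
  (false,2,523),
  (false,5,523),
  (false,7,175),
  (false,2,211),
  (false,3,211),
  (false,5,211),
  (false,2,510),
  (false,5,510),
  (false,2,225),
  (false,4,225),
  (false,5,225),
  (false,6,225),
  (false,7,225),
  (false,2,87),
  (false,4,87),
  (false,5,87),
  (false,6,87),
  (false,7,87),
  (false,4,568),
  (false,5,568),
  (false,6,568),
  (false,7,568),
  (false,8,568),
  (false,9,568),
  (false,2,664),
  (false,3,664),
  (false,5,664),
  (false,6,664),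
  (false,7,664),
  (false,8,664),
  (false,9,664),
  (false,2,648),
  (false,3,648),
  (false,5,648),
  (false,7,648),
  (false,8,648),
  (false,9,648),
  (false,2,452),
  (false,5,452),
  (false,7,452),
  (false,9,452),
  (false,6,504),
  (false,8,504),
  (false,2,174),
  (false,5,174),
  (false,6,174),
  (false,0,126),
  (false,1,126),
  (false,4,126),
  (false,5,126),
  (false,8,126),
  (false,9,126),
  (false,3,90),
  (false,4,90),
  (false,6,90),
  (false,8,90),
  (false,5,396),
  (false,2,149),
  (false,4,149),
  (false,6,149),
  (false,2,214),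
  (false,4,214),
  (false,6,214),
  (false,0,151),
  (false,1,151),
  (false,3,151),
  (false,4,151),
  (false,6,151),
  (false,7,151),
  (false,8,151),
  (false,9,151),
  (false,2,999),
  (false,3,999),
  (false,5,999),
  (false,6,999),
  (false,7,999),
  (false,8,999),
  (false,4,741)]

/-- part 7 of `tree0` -/
def tree0P7 : List (Bool × ℕ × ℕ) := [
  (false,5,741),
  (false,6,741),
  (false,9,741),
  (false,6,377),
  (false,8,377),
  (false,9,377),
  (false,0,936),
  (false,1,936),
  (false,3,936),
  (false,5,281),
  (false,8,281),
  (false,5,403),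
  (false,8,403),
  (false,2,401),
  (false,5,401),
  (false,3,1036),
  (false,4,1036),
  (false,5,1036),
  (false,2,440),
  (false,3,440),
  (false,5,440),
  (false,6,440),
  (false,3,517),
  (false,5,517),
  (false,3,330),
  (false,6,198),
  (false,4,581),
  (false,6,581),
  (false,3,781),
  (false,2,393),
  (false,4,593),
  (false,1,264),
  (false,4,264),
  (false,5,264),
  (false,6,264),
  (false,7,264),
  (false,8,264),
  (false,9,264),
  (false,3,231),
  (false,5,231),
  (false,2,587),
  (false,4,108),
  (false,5,108),
  (false,6,108),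
  (false,7,108),
  (false,8,108),
  (false,9,108),
  (false,3,93),
  (false,5,93),
  (false,2,570),
  (false,4,295),
  (false,5,295),
  (false,6,295),
  (false,0,824),
  (false,1,824),
  (false,2,824),
  (false,4,824),
  (false,5,824),
  (false,8,824),
  (false,5,525),
  (false,3,453),
  (false,5,453),
  (false,3,680),
  (false,5,680),
  (false,2,438),
  (false,6,438),
  (false,4,200),
  (false,5,200),
  (false,6,200),
  (false,3,227),
  (false,8,227),
  (false,3,89),
  (false,4,89),
  (false,8,89),
  (false,4,229),
  (false,5,229),
  (false,6,229),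
  (false,8,229),
  (false,2,1168),
  (false,3,1168),
  (false,5,1168),
  (false,6,1168),
  (false,8,1168),
  (false,9,1168),
  (false,0,629),
  (false,1,629),
  (false,2,629),
  (false,3,629),
  (false,4,629),
  (false,7,629),
  (false,9,629),
  (false,0,1062),
  (false,1,1062),
  (false,9,1062),
  (false,3,971),
  (false,7,971),
  (false,8,971),
  (false,3,176),
  (false,6,176),
  (false,7,176)]

/-- part 8 of `tree0` -/
def tree0P8 : List (Bool × ℕ × ℕ) := [
  (false,8,176),
  (false,3,783),
  (false,4,783),
  (false,7,783),
  (false,8,783),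
  (false,3,998),
  (false,4,998),
  (false,7,998),
  (false,8,998),
  (false,4,474),
  (false,5,474),
  (false,7,474),
  (false,2,1362),
  (false,3,1362),
  (false,5,1362),
  (false,6,1362),
  (false,8,1362),
  (false,9,1362),
  (false,4,461),
  (false,5,461),
  (false,0,289),
  (false,1,289),
  (false,2,289),
  (false,9,289),
  (false,2,702),
  (false,3,702),
  (false,9,702),
  (false,2,604),
  (false,3,604),
  (false,7,604),
  (false,8,604),
  (false,2,778),
  (false,4,778),
  (false,5,778),
  (false,0,278),
  (false,1,278),
  (false,4,278),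
  (false,5,278),
  (false,0,893),
  (false,1,893),
  (false,4,893),
  (false,5,893),
  (false,9,893),
  (false,3,418),
  (false,5,562),
  (false,5,416),
  (false,4,414),
  (false,6,414),
  (false,4,563),
  (false,9,563),
  (false,2,180),
  (false,3,457),
  (false,5,457),
  (false,3,370),
  (false,5,370),
  (false,2,928),
  (false,3,927),
  (false,4,927),
  (false,2,220),
  (false,4,220),
  (false,5,165),
  (false,7,722),
  (false,8,722),
  (false,4,661),
  (false,4,1140),
  (false,6,1140),
  (false,7,1140),
  (false,8,1140),
  (false,9,1140),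
  (false,5,128),
  (false,4,296),
  (false,7,296),
  (false,8,296),
  (false,4,298),
  (false,4,749),
  (false,6,749),
  (false,7,749),
  (false,8,749),
  (false,9,749),
  (false,4,107),
  (false,0,168),
  (false,1,168),
  (false,4,168),
  (false,6,436),
  (false,4,580),
  (false,6,580),
  (false,4,540),
  (false,6,540),
  (false,4,463),
  (false,2,926),
  (false,3,926),
  (false,5,926),
  (false,6,926),
  (false,8,926),
  (false,9,926),
  (false,4,803),
  (false,6,803),
  (false,6,554),
  (false,2,1014),
  (false,4,1014)]

/-- part 9 of `tree0` -/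
def tree0P9 : List (Bool × ℕ × ℕ) := [
  (false,5,1014),
  (false,8,1014),
  (false,9,1014),
  (false,2,1004),
  (false,4,1004),
  (false,5,1004),
  (false,8,1004),
  (false,9,1004),
  (false,4,953),
  (false,5,953),
  (false,9,953),
  (false,4,1089),
  (false,5,1089),
  (false,7,1089),
  (false,2,1137),
  (false,3,1137),
  (false,7,1137),
  (false,8,1137),
  (false,9,1137),
  (false,3,996),
  (false,7,996),
  (false,9,996),
  (false,4,804),
  (false,4,442),
  (false,6,442),
  (false,9,442),
  (false,0,344),
  (false,1,344),
  (false,4,344),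
  (false,2,386),
  (false,3,637),
  (false,4,637),
  (false,5,637),
  (false,7,637),
  (false,3,496),
  (false,3,599),
  (false,4,224),
  (false,7,224),
  (false,4,215),
  (false,4,481),
  (false,4,822),
  (false,8,822),
  (false,9,822),
  (false,8,586),
  (false,9,586),
  (false,5,810),
  (false,5,371),
  (false,4,966),
  (false,7,966),
  (false,9,966),
  (false,2,349),
  (false,3,624),
  (false,4,115),
  (false,4,111),
  (false,4,542),
  (false,2,311),
  (false,5,311),
  (false,0,312),
  (false,4,312),
  (false,5,312),
  (false,7,312),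
  (false,4,796),
  (false,6,796),
  (false,2,1088),
  (false,4,1088),
  (false,5,1088),
  (false,8,1088),
  (false,9,1088),
  (false,2,239),
  (false,4,239),
  (false,6,239),
  (false,4,433),
  (false,5,433),
  (false,7,433),
  (false,8,433),
  (false,2,1001),
  (false,6,1001),
  (false,7,1001),
  (false,3,574),
  (false,8,574),
  (false,2,372),
  (false,5,372),
  (false,4,251),
  (false,4,253),
  (false,4,140),
  (false,6,140),
  (false,4,255),
  (false,6,255),
  (false,2,1081),
  (false,6,1081),
  (false,7,1081),
  (false,4,695),
  (false,6,582),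
  (false,8,582),
  (false,5,319),
  (false,4,1228),
  (false,5,1228),
  (false,5,331),
  (false,2,546),
  (false,4,201)]

/-- part 10 of `tree0` -/
def tree0P10 : List (Bool × ℕ × ℕ) := [
  (false,8,201),
  (false,9,201),
  (false,4,571),
  (false,5,571),
  (false,4,639),
  (false,5,639),
  (false,4,241),
  (false,8,241),
  (false,4,178),
  (false,2,1080),
  (false,3,1080),
  (false,5,1080),
  (false,6,1080),
  (false,8,1080),
  (false,4,890),
  (false,3,906),
  (false,4,906),
  (false,7,906),
  (false,3,754),
  (false,4,754),
  (false,4,653),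
  (false,2,1369),
  (false,3,1369),
  (false,5,1369),
  (false,6,1369),
  (false,8,1369),
  (false,9,1369),
  (false,1,335),
  (false,7,932),
  (false,8,932),
  (false,4,790),
  (false,1,316),
  (false,1,1012),
  (false,4,1012),
  (false,9,1012),
  (false,4,404),
  (false,4,422),
  (false,3,363),
  (false,3,681),
  (false,4,681),
  (false,2,146),
  (false,4,146),
  (false,4,972),
  (false,6,972),
  (false,8,972),
  (false,4,797),
  (false,4,798),
  (false,4,892),
  (false,8,892),
  (false,4,543),
  (false,2,839),
  (false,3,839),
  (false,5,839),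
  (false,6,839),
  (false,9,839),
  (false,4,567),
  (false,4,967),
  (false,8,967),
  (false,4,750),
  (false,2,960),
  (false,3,960),
  (false,7,960),
  (false,8,960),
  (false,9,960),
  (false,4,529),
  (false,4,885),
  (false,6,885),
  (false,0,426),
  (false,1,426),
  (false,4,426),
  (false,2,477),
  (false,4,744),
  (false,4,493),
  (false,4,656),
  (false,4,891),
  (false,8,891),
  (false,4,354),
  (false,2,1065),
  (false,5,1065),
  (false,7,1065),
  (false,4,142),
  (false,2,909),
  (false,7,909),
  (false,4,651),
  (false,4,789),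
  (false,4,503),
  (false,4,706),
  (false,5,706),
  (false,4,243),
  (false,2,1200),
  (false,3,1200),
  (false,5,1200),
  (false,6,1200),
  (false,8,1200),
  (false,4,879),
  (false,4,590),
  (false,2,1275),
  (false,3,1275),
  (false,5,1275),
  (false,6,1275)]

/-- part 11 of `tree0` -/
def tree0P11 : List (Bool × ℕ × ℕ) := [
  (false,8,1275),
  (false,7,325),
  (false,4,777),
  (false,4,407),
  (false,4,558),
  (false,4,1037),
  (false,4,896),
  (false,4,259),
  (false,2,1132),
  (false,3,1132),
  (false,5,1132),
  (false,6,1132),
  (false,9,1132),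
  (false,4,655),
  (false,2,1221),
  (false,7,1221),
  (false,8,1221),
  (false,9,1221),
  (false,4,617),
  (false,4,526),
  (false,4,937),
  (false,5,734),
  (false,9,734),
  (false,4,515),
  (false,4,718),
  (false,5,1171),
  (false,9,1171),
  (false,4,423),
  (false,4,512),
  (false,4,451),
  (false,4,602),
  (false,4,361),
  (false,4,216),
  (false,4,594),
  (false,4,601),
  (false,4,275),
  (false,2,1240),
  (false,7,1240),
  (false,8,1240),
  (false,9,1240),
  (false,4,608),
  (false,6,608),
  (false,4,199),
  (false,3,728),
  (false,5,728),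
  (false,6,728),
  (false,4,258),
  (false,0,443),
  (false,1,443),
  (false,6,443),
  (false,4,692),
  (false,3,1340),
  (false,5,1340),
  (false,8,1340),
  (false,9,1340),
  (false,4,829),
  (false,4,522),
  (false,4,878),
  (false,4,509),
  (false,4,441),
  (false,4,636),
  (false,5,1156),
  (false,6,1156),
  (false,7,1156),
  (false,4,598),
  (false,4,622),
  (false,2,665),
  (false,5,665),
  (false,6,665),
  (false,7,665),
  (false,4,466),
  (false,2,1386),
  (false,3,1386),
  (false,6,1386),
  (false,7,1386),
  (false,8,1386),
  (false,9,1386),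
  (false,4,1061),
  (false,6,1084),
  (false,0,666),
  (false,1,666),
  (false,2,666),
  (false,5,666),
  (false,6,666),
  (false,7,666),
  (false,9,666),
  (false,1,946),
  (false,5,946),
  (false,7,946),
  (false,3,1298),
  (false,5,1298),
  (false,7,1298),
  (false,8,1298),
  (false,5,1401),
  (false,8,1401),
  (false,9,1401),
  (false,2,871),
  (false,5,871),
  (false,7,871),
  (false,9,871)]

/-- part 12 of `tree0` -/
def tree0P12 : List (Bool × ℕ × ℕ) := [
  (false,5,1002),
  (false,8,1002),
  (false,5,1066),
  (false,6,1066),
  (false,4,397),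
  (false,4,538),
  (false,4,109),
  (false,6,740),
  (false,4,964),
  (false,4,475),
  (false,4,745),
  (false,4,489),
  (false,2,883),
  (false,4,127),
  (false,9,818),
  (false,4,645),
  (false,4,91),
  (false,5,708),
  (false,6,708),
  (false,8,708),
  (false,4,485),
  (false,6,842),
  (false,4,787),
  (false,6,710),
  (false,4,286),
  (false,4,788),
  (false,3,947),
  (false,5,947),
  (false,6,947),
  (false,7,947),
  (false,2,1005),
  (false,5,1005),
  (false,6,1005),
  (false,3,726),
  (false,8,726),
  (false,8,1186),
  (false,9,1186),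
  (false,5,1337),
  (false,6,1337),
  (false,8,1337),
  (false,9,1337),
  (false,0,914),
  (false,1,914),
  (false,2,669),
  (false,3,669),
  (false,5,669),
  (false,2,1112),
  (false,3,1112),
  (false,6,1112),
  (false,9,1112),
  (false,4,299),
  (false,4,935),
  (false,4,791),
  (false,5,1374),
  (false,4,897),
  (false,4,600),
  (false,4,902),
  (false,4,701),
  (false,4,903),
  (false,6,1205),
  (false,4,1030),
  (false,4,394),
  (false,4,265),
  (false,5,867),
  (false,6,867),
  (false,7,867),
  (false,8,867),
  (false,4,230),
  (false,5,859),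
  (false,6,859),
  (false,7,859),
  (false,8,859),
  (false,4,92),
  (false,6,1044),
  (false,4,357),
  (false,4,901),
  (false,4,743),
  (false,3,1312),
  (false,5,1312),
  (false,4,724),
  (false,4,882),
  (false,4,941),
  (false,4,535),
  (false,4,437),
  (false,3,919),
  (false,6,919),
  (false,4,794),
  (false,4,508),
  (false,4,307),
  (false,3,707),
  (false,5,707),
  (false,8,707),
  (false,6,768),
  (false,8,768),
  (false,4,610),
  (false,2,1038),
  (false,0,1267),
  (false,3,1267),
  (false,8,1267),
  (false,9,1267)]

/-- part 13 of `tree0` -/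
def tree0P13 : List (Bool × ℕ × ℕ) := [
  (false,2,1233),
  (false,3,1233),
  (false,0,1348),
  (false,8,1348),
  (false,9,1348),
  (false,7,992),
  (false,8,1079),
  (false,7,1182),
  (false,4,877),
  (false,7,1363),
  (false,8,1363),
  (false,4,942),
  (false,5,1382),
  (false,7,1382),
  (false,8,1382),
  (false,7,1355),
  (false,6,1342),
  (false,1,1126),
  (false,7,1126),
  (false,8,1126),
  (false,1,1181),
  (false,7,1353),
  (false,8,1353),
  (false,5,1068),
  (false,4,313),
  (false,4,277),
  (false,4,557),
  (false,4,852),
  (false,9,1343),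
  (false,4,324),
  (false,4,931),
  (false,2,1021),
  (false,4,179),
  (false,4,446),
  (false,4,356),
  (false,4,1106),
  (false,5,1406),
  (false,4,551),
  (false,4,631),
  (false,5,962),
  (false,6,760),
  (false,7,760),
  (false,8,760),
  (false,9,760),
  (false,4,677),
  (false,5,920),
  (false,7,920),
  (false,5,1136),
  (false,8,1175),
  (false,9,1175),
  (false,4,169),
  (false,6,670),
  (false,0,925),
  (false,1,925),
  (false,9,925),
  (false,0,673),
  (false,1,673),
  (false,5,1009),
  (false,2,732),
  (false,6,1314),
  (false,5,1022),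
  (false,9,1022),
  (false,2,1008),
  (false,5,1008),
  (false,8,1008),
  (false,4,705),
  (false,4,676),
  (false,5,1319),
  (false,7,1319),
  (false,4,969),
  (false,6,1145),
  (false,7,1399),
  (false,9,1399),
  (false,5,1243),
  (false,4,591),
  (false,4,638),
  (false,7,1263),
  (false,4,940),
  (false,2,1361),
  (false,7,1007),
  (false,4,348),
  (false,4,697),
  (false,4,494),
  (false,4,500),
  (false,6,1204),
  (false,4,1198),
  (false,4,800),
  (false,0,1185),
  (false,2,1059),
  (false,4,1010),
  (false,4,847),
  (false,6,1003),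
  (false,6,1378),
  (false,4,640),
  (false,4,577),
  (false,4,876),
  (false,7,1274),
  (false,4,753),
  (false,4,751),
  (false,9,1396)]

/-- part 14 of `tree0` -/
def tree0P14 : List (Bool × ℕ × ℕ) := [
  (false,4,395),
  (false,6,1209),
  (false,9,838),
  (false,5,980),
  (false,4,476),
  (false,8,1397),
  (false,2,1125),
  (false,5,727)]

/-- certificate data -/
def tree0 : List (Bool × ℕ × ℕ) :=
  [tree0P0, tree0P1, tree0P2, tree0P3, tree0P4, tree0P5, tree0P6, tree0P7, tree0P8, tree0P9, tree0P10, tree0P11, tree0P12, tree0P13, tree0P14].flatten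

/-- chain of a point stabiliser -/
def stb0_0 : List Lev := [
  { base := 4, new := [([21,195,135,31],[32,136,196,22])],
    orbit := [(4,[]),
      (67,[0]),
      (32,[0,4]),
      (122,[0,2]),
      (408,[0,3]),
      (464,[0,1]),
      (592,[0,0]),
      (6,[0,2,0]),
      (15,[0,2,1]),
      (16,[0,0,4]),
      (24,[0,3,2]),
      (30,[0,1,4]),
      (31,[0,4,3]),
      (38,[0,3,1]),
      (39,[0,0,0]),
      (58,[0,2,4]),
      (59,[0,4,2]),
      (65,[0,1,0]),
      (78,[0,2,2]),
      (192,[0,0,3]),
      (194,[0,3,3]),
      (204,[0,0,1]),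
      (205,[0,3,0]),
      (206,[0,1,2]),
      (284,[0,2,3]),
      (410,[0,1,1]),
      (593,[0,4,1]),
      (14,[0,3,1,0]),
      (25,[0,2,2,4]),
      (26,[0,2,2,0]),
      (33,[0,1,1,3]),
      (37,[0,2,4,3]),
      (40,[0,0,0,1]),
      (60,[0,4,3,3]),
      (66,[0,1,1,2]),
      (101,[0,0,0,4]),
      (137,[0,1,1,4]),
      (190,[0,1,0,3]),
      (191,[0,0,1,0]),
      (193,[0,1,2,4]),
      (195,[0,0,0,3]),
      (212,[0,2,3,4]),
      (285,[0,0,0,2]),
      (391,[0,2,4,0]),
      (392,[0,1,1,1]),
      (399,[0,1,4,1]),
      (409,[0,2,4,2]),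
      (411,[0,0,1,2]),
      (454,[0,0,1,1]),
      (27,[0,0,0,1,1])],
    wit := [] },
  { base := 6, new := [([21,195,155],[156,196,22])],
    orbit := [(6,[]),
      (122,[0]),
      (15,[0,0]),
      (58,[0,3]),
      (78,[0,1]),
      (284,[0,2]),
      (24,[0,2,0]),
      (25,[0,1,3]),
      (30,[0,0,0]),
      (37,[0,3,2]),
      (190,[0,1,0]),
      (191,[0,1,2]),
      (193,[0,3,0]),
      (212,[0,2,3]),
      (399,[0,1,1]),
      (409,[0,3,1]),
      (410,[0,2,1]),
      (464,[0,0,1]),
      (26,[0,3,2,2]),
      (31,[0,1,2,1]),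
      (33,[0,2,1,2]),
      (38,[0,3,2,1]),
      (40,[0,1,2,3]),
      (59,[0,1,2,2]),
      (60,[0,1,0,3]),
      (66,[0,2,1,1]),
      (101,[0,3,2,0]),
      (137,[0,1,0,2]),
      (194,[0,1,1,1]),
      (195,[0,1,0,0]),
      (206,[0,0,1,1]),
      (391,[0,2,0,3]),
      (392,[0,2,1,0]),
      (408,[0,1,3,1]),
      (593,[0,0,0,1]),
      (14,[0,1,0,0,1]),
      (27,[0,1,0,3,1]),
      (32,[0,1,0,3,2]),
      (39,[0,1,2,2,0]),
      (65,[0,1,0,2,2]),
      (67,[0,1,1,1,1]),
      (285,[0,0,0,1,0])],
    wit := [] },
  { base := 7, new := [([201,15],[16,202])],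
    orbit := [(7,[]),
      (136,[0]),
      (234,[0,0]),
      (100,[0,0,1]),
      (283,[0,0,0])],
    wit := [] },
  { base := 8, new := [([21,19],[20,22])],
    orbit := [(8,[]),
      (369,[0]),
      (75,[0,1]),
      (120,[0,0]),
      (73,[0,0,1]),
      (483,[0,0,1,0])],
    wit := [] },
  { base := 9, new := [([21],[22])],
    orbit := [(9,[]),
      (482,[0])],
    wit := [] }]

/-- an orbit -/
def root0_0 : Root :=
  ⟨[], [], 1, [], [], stb0_0,
    [[(7,false),(8,false),(6,false),(9,false),(8,false),(9,false),(5,false),(5,false),(7,false)],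
      [(9,false),(8,false),(8,false),(7,false),(6,false),(6,false)],
      [(8,false),(8,false),(9,false),(8,false),(7,false),(8,false)],
      [(9,false),(8,false),(8,false)],
      [(9,false)]],
    [[21,5,3,1,2,2],[0,0,0,2,2,1],[0,4,0,2,2,2],[0,4,4,3,0,2],[0,1,3,0,0,0]]⟩

/-- state 0 -/
def st0 : St :=
  ⟨k0, 177408000, 0x0, tree0, [root0_0]⟩

end CfsgLib.HN
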