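import Cfsg.Agent.Lib.DCoset.Top
import Cfsg.Agent.Lib.HN.AtomChk0
import Cfsg.Agent.Lib.HN.AtomChk1
import Cfsg.Agent.Lib.HN.AtomChk2
import Cfsg.Agent.Lib.HN.AtomChk3
import Cfsg.Agent.Lib.HN.AtomChk4
import Cfsg.Agent.Lib.HN.AtomChk5
import Cfsg.Agent.Lib.HN.AtomChk6
import Cfsg.Agent.Lib.HN.AtomChk7
import Cfsg.Agent.Lib.HN.CheckU

/-!
The table and the named permutations are valid.
-/

set_option autoImplicit false
set_option linter.style.longLine false

namespace CfsgLib.HN
open CfsgLib.CosetEnum CfsgLib.DCoset CfsgLib.DCoset.Space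

theorem valid : space.Valid where
  complete := certU_complete
  action := certU_action
  atom := atom_of_blocks (k := 5) (n := 32) (fun j hj => by
    match j, hj with
    | 0, _ => exact atomChk0_0
    | 1, _ => exact atomChk0_1
    | 2, _ => exact atomChk0_2
    | 3, _ => exact atomChk0_3
    | 4, _ => exact atomChk1_0
    | 5, _ => exact atomChk1_1
    | 6, _ => exact atomChk1_2
    | 7, _ => exact atomChk1_3
    | 8, _ => exact atomChk2_0
    | 9, _ => exact atomChk2_1
    | 10, _ => exact atomChk2_2
    | 11, _ => exact atomChk2_3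
    | 12, _ => exact atomChk3_0
    | 13, _ => exact atomChk3_1
    | 14, _ => exact atomChk3_2
    | 15, _ => exact atomChk3_3
    | 16, _ => exact atomChk4_0
    | 17, _ => exact atomChk4_1
    | 18, _ => exact atomChk4_2
    | 19, _ => exact atomChk4_3
    | 20, _ => exact atomChk5_0
    | 21, _ => exact atomChk5_1
    | 22, _ => exact atomChk5_2
    | 23, _ => exact atomChk5_3
    | 24, _ => exact atomChk6_0
    | 25, _ => exact atomChk6_1
    | 26, _ => exact atomChk6_2
    | 27, _ => exact atomChk6_3
    | 28, _ => exact atomChk7_0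
    | 29, _ => exact atomChk7_1
    | 30, _ => exact atomChk7_2
    | 31, _ => exact atomChk7_3
    | n + 32, h => omega) (by decide +kernel)

theorem invOK : space.InvOK := by
  intro g hg
  have h5 : 5 ≤ g := hg
  have : space.C.inv g = g := List.getD_eq_default _ _ (by simpa [space, certU] using h5)
  rw [this]
  exact hg

end CfsgLib.HN
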